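import Groth.Agent.Lib.Chev28.Cut
import Groth.Agent.Lib.GrpdQuot.InvariantOpen

/-!
From lifting of generizations to components of full generic fibre dimension (EGA IV 14.3.2, 14.4.1).
-/

universe u

open CategoryTheory CategoryTheory.Limits AlgebraicGeometry TopologicalSpace Topology
open TensorProduct MvPolynomial

noncomputable section

namespace GrothLib.Chev28

/-- Relations of cutting functions on a component have coefficients over it, given enough transcendence degree. -/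
theorem coeff_mem_of_trdeg {A B : Type u} [CommRing A] [CommRing B] [Algebra A B]
    (Q P₀ : Ideal B) [Q.IsPrime] [P₀.IsPrime] (hle : P₀ ≤ Q) (p₀ : Ideal A) [p₀.IsPrime] [P₀.LiesOver p₀]
    {d : ℕ} (b : Fin d → B)
    (hqf : letI : Algebra (MvPolynomial (Fin d) A) B := (aeval b).toRingHom.toAlgebra
      Algebra.QuasiFiniteAt (MvPolynomial (Fin d) A) Q)
    (htr : (d : Cardinal.{u}) ≤ Algebra.trdeg (A ⧸ p₀) (B ⧸ P₀))
    (P : MvPolynomial (Fin d) A) (hP : aeval b P ∈ P₀) (m : Fin d →₀ ℕ) : P.coeff m ∈ p₀ := by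
  let A' := A ⧸ p₀
  let B' := B ⧸ P₀
  haveI : FaithfulSMul A' B' := (faithfulSMul_iff_algebraMap_injective _ _).mpr <| by
    refine (injective_iff_map_eq_zero _).mpr fun a ha => ?_
    obtain ⟨r, rfl⟩ := Ideal.Quotient.mk_surjective a
    rw [Ideal.Quotient.eq_zero_iff_mem, Ideal.mem_of_liesOver P₀ p₀ r]
    exact Ideal.Quotient.eq_zero_iff_mem.mp ha
  let mk₀ := Ideal.Quotient.mk P₀
  let b₀ : Fin d → B' := fun i => mk₀ (b i)
  have hst : ∀ P : MvPolynomial (Fin d) A,
      mk₀ (aeval b P) = aeval b₀ (MvPolynomial.map (algebraMap A A') P) := fun P => by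
    rw [MvPolynomial.aeval_map_algebraMap]
    exact comp_aeval_apply b (Ideal.Quotient.mkₐ A P₀) P
  let y₀ : Ideal B' := Q.map mk₀
  haveI : y₀.IsPrime := Ideal.map_isPrime_of_surjective Ideal.Quotient.mk_surjective (by rwa [Ideal.mk_ker])
  have hqf₀ : letI : Algebra (MvPolynomial (Fin d) A') B' := (aeval b₀).toRingHom.toAlgebra
      Algebra.QuasiFiniteAt (MvPolynomial (Fin d) A') y₀ := by
    letI : Algebra (MvPolynomial (Fin d) A) B := (aeval b).toRingHom.toAlgebra
    letI iA : Algebra (MvPolynomial (Fin d) A') B' := (aeval b₀).toRingHom.toAlgebra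
    letI iR : Algebra (MvPolynomial (Fin d) A) B' := (mk₀.comp (aeval b).toRingHom).toAlgebra
    letI iRA : Algebra (MvPolynomial (Fin d) A) (MvPolynomial (Fin d) A') :=
      (MvPolynomial.map (algebraMap A A')).toAlgebra
    haveI := hqf
    let φ : B →ₐ[MvPolynomial (Fin d) A] B' := { mk₀ with commutes' := fun _ => rfl }
    haveI : Algebra.QuasiFiniteAt (MvPolynomial (Fin d) A) y₀ :=
      Algebra.QuasiFiniteAt.of_surjectiveOnStalks Q φ
        (RingHom.surjectiveOnStalks_of_surjective Ideal.Quotient.mk_surjective) y₀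
        (Ideal.ext fun w => (Ideal.mem_quotient_iff_mem hle).symm)
    let L := Localization.AtPrime y₀
    haveI htower : @IsScalarTower (MvPolynomial (Fin d) A) (MvPolynomial (Fin d) A') L iRA.toSMul _ _ := by
      refine @IsScalarTower.of_algebraMap_eq _ _ _ _ _ _ iRA _ _ fun P => ?_
      rw [IsScalarTower.algebraMap_apply (MvPolynomial (Fin d) A) B' L,
        IsScalarTower.algebraMap_apply (MvPolynomial (Fin d) A') B' L]
      exact congrArg (algebraMap B' L) (hst P)
    exact @Algebra.QuasiFinite.of_restrictScalars (MvPolynomial (Fin d) A) (MvPolynomial (Fin d) A') L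
      _ _ _ iRA _ _ htower _
  have hind := GrothLib.QSec28.algebraicIndependent_of_quasiFiniteAt b₀ y₀ hqf₀ htr
  have h1 : MvPolynomial.map (algebraMap A A') P = 0 := by
    refine (injective_iff_map_eq_zero _).mp hind _ ?_
    rw [← hst]
    exact Ideal.Quotient.eq_zero_iff_mem.mpr hP
  rw [← Ideal.Quotient.eq_zero_iff_mem]
  exact (MvPolynomial.coeff_map (algebraMap A A') P m).symm.trans ((congrArg (coeff m) h1).trans (coeff_zero m))

variable {X Y : Scheme.{u}}

/-- **A component of full generic fibre dimension** through a maximal point of a fibre, when every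
generization of the base point is approached at that point (EGA IV 14.3.2). -/
theorem exists_component_of_forall_mem_closure [IsLocallyNoetherian Y] (f : X ⟶ Y) [LocallyOfFiniteType f]
    (z : X) (hz : ∀ z', f z' = f z → z' ⤳ z → z' = z) (n : ℕ) (hn : Dual3.resTrdeg f z = n)
    (η : Y) (hηy : η ⤳ f z) (hη : ∀ y', y' ⤳ η → y' = η)
    (hlift : ∀ y', y' ⤳ f z → z ∈ closure (f ⁻¹' {y'})) :
    ∃ ξ : X, (∀ z', z' ⤳ ξ → z' = ξ) ∧ ξ ⤳ z ∧ f ξ = η ∧ ∃ m : ℕ, Dual3.resTrdeg f ξ = m ∧ n ≤ m := by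
  classical
  have hn' : FlatMor.fibreDimAt f z = n := by
    obtain ⟨k, hk, hk'⟩ := GrothLib.Equidim6.fibreDimAt_eq_resTrdeg f z hz
    rw [hk', show k = n from Nat.cast_injective (hk.symm.trans hn)]
  let O : X.Opens := ⟨_, GrothLib.FibreDimAt6.isOpen_fibreDimAt_le f n⟩
  obtain ⟨V, hV, hzV, -⟩ := exists_isAffineOpen_mem_and_subset (x := f z) (U := ⊤) trivial
  obtain ⟨U, hU, hzU, hUO⟩ := exists_isAffineOpen_mem_and_subset (x := z) (U := O ⊓ f ⁻¹ᵁ V) ⟨hn'.le, hzV⟩
  have hUV : U ≤ f ⁻¹ᵁ V := hUO.trans inf_le_right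
  let A : Type u := Γ(Y, V)
  let B : Type u := Γ(X, U)
  letI : Algebra A B := (f.appLE V U hUV).hom.toAlgebra
  haveI : Algebra.FiniteType A B := f.finiteType_appLE hV hU hUV
  haveI : IsNoetherianRing A := IsLocallyNoetherian.component_noetherian ⟨V, hV⟩
  haveI : IsNoetherianRing B := Algebra.FiniteType.isNoetherianRing A B
  have hmem : ∀ q : PrimeSpectrum B, hU.fromSpec q ∈ U := fun q => hU.range_fromSpec.le ⟨q, rfl⟩
  have hprime : ∀ q : PrimeSpectrum B, hU.primeIdealOf ⟨hU.fromSpec q, hmem q⟩ = q := fun q =>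
    hU.fromSpec.isOpenEmbedding.injective (hU.fromSpec_primeIdealOf _)
  have hsq : ∀ q : PrimeSpectrum B, f (hU.fromSpec q) = hV.fromSpec (PrimeSpectrum.comap (algebraMap A B) q) :=
    fun q => by
      rw [← Scheme.Hom.comp_apply, ← hV.SpecMap_appLE_fromSpec f hU hUV]
      rfl
  obtain ⟨qz, hqz⟩ : ∃ q : PrimeSpectrum B, hU.fromSpec q = z := hU.range_fromSpec.ge hzU
  have hQ : hU.primeIdealOf ⟨z, hzU⟩ = qz :=
    hU.fromSpec.isOpenEmbedding.injective ((hU.fromSpec_primeIdealOf _).trans hqz.symm)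
  obtain ⟨b, hqf⟩ := exists_cut_le f hV hU hUV z hzU n (fun w hw => (hUO hw).1) rfl
  simp only [hQ] at hqf
  let pp : PrimeSpectrum A := PrimeSpectrum.comap (algebraMap A B) qz
  have hfz : f z = hV.fromSpec pp := by rw [← hqz]; exact hsq qz
  have hηV : η ∈ V := hηy.mem_open V.2 hzV
  obtain ⟨p₀, hp₀⟩ : ∃ q : PrimeSpectrum A, hV.fromSpec q = η := hV.range_fromSpec.ge hηV
  have hleiff : ∀ q q' : PrimeSpectrum A, hV.fromSpec q ⤳ hV.fromSpec q' ↔ q.asIdeal ≤ q'.asIdeal := fun q q' =>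
    hV.fromSpec.isEmbedding.isInducing.specializes_iff.trans (PrimeSpectrum.le_iff_specializes q q').symm
  have hp₀le : p₀.asIdeal ≤ pp.asIdeal := (hleiff p₀ pp).mp (by rw [hp₀, ← hfz]; exact hηy)
  have hp₀min : ∀ q : PrimeSpectrum A, q.asIdeal ≤ p₀.asIdeal → q = p₀ := fun q hq =>
    hV.fromSpec.isOpenEmbedding.injective ((hη _ (hp₀ ▸ (hleiff q p₀).mpr hq)).trans hp₀.symm)
  -- the base point is generic
  by_cases hpp : pp = p₀
  · have hfη : f z = η := by rw [hfz, hpp, hp₀]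
    refine ⟨z, fun z' hz' => hz z' ?_ hz', specializes_rfl, hfη, n, hn, le_rfl⟩
    rw [hfη]
    exact hη _ (hfη ▸ hz'.map f.continuous)
  by_contra hcon
  -- a relation with a coefficient off `p₀` on every component through `z`
  have hrel : ∀ P ∈ minimalPrimes B, P ≤ qz.asIdeal → ∃ R : MvPolynomial (Fin n) A,
      aeval b R ∈ P ∧ MvPolynomial.map (Ideal.Quotient.mk p₀.asIdeal) R ≠ 0 := by
    intro P hP hPz
    haveI := hP.1.1
    by_cases hPA : P.comap (algebraMap A B) = p₀.asIdeal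
    · by_contra hno
      push Not at hno
      haveI : P.LiesOver p₀.asIdeal := ⟨hPA.symm⟩
      haveI : FaithfulSMul (A ⧸ p₀.asIdeal) (B ⧸ P) := (faithfulSMul_iff_algebraMap_injective _ _).mpr <| by
        refine (injective_iff_map_eq_zero _).mpr fun a ha => ?_
        obtain ⟨r, rfl⟩ := Ideal.Quotient.mk_surjective a
        rw [Ideal.Quotient.eq_zero_iff_mem, Ideal.mem_of_liesOver P p₀.asIdeal r]
        exact Ideal.Quotient.eq_zero_iff_mem.mp ha
      have hind : AlgebraicIndependent (A ⧸ p₀.asIdeal) (fun i => Ideal.Quotient.mk P (b i)) := by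
        refine (injective_iff_map_eq_zero _).mpr fun R hR => ?_
        obtain ⟨R', rfl⟩ := MvPolynomial.map_surjective (Ideal.Quotient.mk p₀.asIdeal) Ideal.Quotient.mk_surjective R
        refine hno R' ?_
        rw [← Ideal.Quotient.eq_zero_iff_mem, ← hR,
          show (Ideal.Quotient.mk p₀.asIdeal : A →+* A ⧸ p₀.asIdeal) = algebraMap A (A ⧸ p₀.asIdeal) from rfl,
          MvPolynomial.aeval_map_algebraMap]
        exact comp_aeval_apply b (Ideal.Quotient.mkₐ A P) R'
      let ξ : X := hU.fromSpec (⟨P, hP.1.1⟩ : PrimeSpectrum B)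
      have hξ : ∀ z', z' ⤳ ξ → z' = ξ := by
        intro z' hz'
        obtain ⟨q', rfl⟩ : z' ∈ Set.range hU.fromSpec := hU.range_fromSpec.ge (hz'.mem_open U.2 (hmem _))
        have h2 : q'.asIdeal ≤ P := (PrimeSpectrum.le_iff_specializes q' ⟨P, hP.1.1⟩).mpr
          (hU.fromSpec.isEmbedding.isInducing.specializes_iff.mp hz')
        exact congrArg hU.fromSpec (PrimeSpectrum.ext (le_antisymm h2 (hP.2 ⟨q'.isPrime, bot_le⟩ h2)))
      have hξη : f ξ = η := by
        rw [← hp₀]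
        exact (hsq _).trans (congrArg hV.fromSpec (PrimeSpectrum.ext hPA))
      have h0 : P = (hU.primeIdealOf ⟨ξ, hmem _⟩).asIdeal :=
        congrArg PrimeSpectrum.asIdeal (hprime ⟨P, hP.1.1⟩).symm
      have h1 : p₀.asIdeal = (hV.primeIdealOf ⟨f ξ, hUV (hmem _)⟩).asIdeal := by
        rw [← IsAffineOpen.comap_primeIdealOf_appLE V hV U hU hUV (hmem _)]
        exact hPA.symm.trans (congrArg (Ideal.comap (algebraMap A B)) h0)
      have hnm : (n : Cardinal.{u}) ≤ Dual3.resTrdeg f ξ := by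
        rw [← GrothLib.QSec28.trdeg_quotient_eq_resTrdeg f hV hU hUV ξ (hmem _) rfl p₀.asIdeal P h1 h0]
        simpa using hind.lift_cardinalMk_le_trdeg
      obtain ⟨k, hk, -⟩ := GrothLib.Altitude.exists_trdeg_eq_dim_closure f ξ
      refine hcon ⟨ξ, hξ, hqz ▸ ((PrimeSpectrum.le_iff_specializes (⟨P, hP.1.1⟩ : PrimeSpectrum B) qz).mp hPz).map
        hU.fromSpec.continuous, hξη, k, hk, ?_⟩
      have := hnm.trans hk.le
      exact_mod_cast this
    · obtain ⟨c, hcP, hc⟩ : ∃ c ∈ P.comap (algebraMap A B), c ∉ p₀.asIdeal := by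
        by_contra h
        push Not at h
        exact hPA (congrArg PrimeSpectrum.asIdeal (hp₀min ⟨_, Ideal.comap_isPrime _ _⟩ h))
      refine ⟨C c, by rw [aeval_C]; exact hcP, ?_⟩
      rw [map_C, Ne, C_eq_zero, Ideal.Quotient.eq_zero_iff_mem]
      exact hc
  have hprod : ∀ s : Finset (Ideal B), (∀ P ∈ s, P ∈ minimalPrimes B ∧ P ≤ qz.asIdeal) →
      ∃ R : MvPolynomial (Fin n) A, (∀ P ∈ s, aeval b R ∈ P) ∧
        MvPolynomial.map (Ideal.Quotient.mk p₀.asIdeal) R ≠ 0 := by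
    intro s
    induction s using Finset.induction_on with
    | empty => exact fun _ => ⟨1, by simp, by simp⟩
    | @insert P s hPs ih =>
      intro hs
      obtain ⟨R, hR, hR0⟩ := ih fun Q hQ => hs Q (Finset.mem_insert_of_mem hQ)
      obtain ⟨R', hR', hR'0⟩ := hrel P (hs P (Finset.mem_insert_self _ _)).1 (hs P (Finset.mem_insert_self _ _)).2
      refine ⟨R' * R, fun Q hQ => ?_, by rw [map_mul]; exact mul_ne_zero hR'0 hR0⟩
      rw [map_mul]
      rcases Finset.mem_insert.mp hQ with rfl | hQ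
      · exact Ideal.mul_mem_right _ _ hR'
      · exact Ideal.mul_mem_left _ _ (hR Q hQ)
  have hfin : {P ∈ minimalPrimes B | P ≤ qz.asIdeal}.Finite :=
    (minimalPrimes.finite_of_isNoetherianRing B).subset fun P hP => hP.1
  obtain ⟨R, hR, hR0⟩ := hprod hfin.toFinset fun P hP => hfin.mem_toFinset.mp hP
  obtain ⟨m, hm⟩ : ∃ m, R.coeff m ∉ p₀.asIdeal := by
    by_contra h
    push Not at h
    refine hR0 (MvPolynomial.ext _ _ fun m => ?_)
    rw [MvPolynomial.coeff_map, coeff_zero, Ideal.Quotient.eq_zero_iff_mem]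
    exact h m
  -- a generization of dimension one avoiding the coefficient
  haveI : IsDomain (A ⧸ p₀.asIdeal) := Ideal.Quotient.isDomain _
  let Pb := pp.asIdeal.map (Ideal.Quotient.mk p₀.asIdeal)
  haveI : Pb.IsPrime := Ideal.map_isPrime_of_surjective Ideal.Quotient.mk_surjective (by rwa [Ideal.mk_ker])
  have hPb : Pb ≠ ⊥ := fun h => hpp <| PrimeSpectrum.ext <| le_antisymm (fun a ha => by
    rw [← Ideal.Quotient.eq_zero_iff_mem]
    exact Ideal.mem_bot.mp (h ▸ Ideal.mem_map_of_mem _ ha)) hp₀le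
  obtain ⟨qb, hqb, hqbP, hqbne, hqba, hht⟩ := exists_prime_avoid_height_le_one Pb hPb
    (Ideal.Quotient.mk p₀.asIdeal (R.coeff m)) (fun h => hm (Ideal.Quotient.eq_zero_iff_mem.mp h))
  let p' : PrimeSpectrum A := ⟨qb.comap (Ideal.Quotient.mk p₀.asIdeal), Ideal.comap_isPrime _ _⟩
  have hp'pp : p'.asIdeal ≤ pp.asIdeal := fun a ha => (Ideal.mem_quotient_iff_mem hp₀le).mp (hqbP ha)
  have hp'ne : p' ≠ pp := fun h => hqbne (by
    rw [← Ideal.map_comap_of_surjective _ Ideal.Quotient.mk_surjective qb,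
      show qb.comap (Ideal.Quotient.mk p₀.asIdeal) = pp.asIdeal from congrArg PrimeSpectrum.asIdeal h])
  have hp₀p' : p₀.asIdeal ≤ p'.asIdeal := fun a ha => by
    change Ideal.Quotient.mk p₀.asIdeal a ∈ qb
    rw [Ideal.Quotient.eq_zero_iff_mem.mpr ha]
    exact qb.zero_mem
  -- lift it
  obtain ⟨q', hq'A, hq'z⟩ : ∃ q' : PrimeSpectrum B, PrimeSpectrum.comap (algebraMap A B) q' = p' ∧ q' ⤳ qz := by
    let ε := PrimeSpectrum.preimageHomeomorphFiber A B p'
    have hcl : qz ∈ closure (hU.fromSpec ⁻¹' (f ⁻¹' {hV.fromSpec p'})) := by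
      rw [← hU.fromSpec.isOpenEmbedding.isOpenMap.preimage_closure_eq_closure_preimage hU.fromSpec.continuous]
      show hU.fromSpec qz ∈ closure (f ⁻¹' {hV.fromSpec p'})
      rw [hqz]
      exact hlift _ (hfz ▸ (hleiff p' pp).mpr hp'pp)
    have hsub : hU.fromSpec ⁻¹' (f ⁻¹' {hV.fromSpec p'}) ⊆
        PrimeSpectrum.comap (Algebra.TensorProduct.includeRight : B →ₐ[A] p'.asIdeal.Fiber B).toRingHom '' Set.univ := by
      intro q hq
      have hq' : PrimeSpectrum.comap (algebraMap A B) q = p' :=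
        hV.fromSpec.isOpenEmbedding.injective ((hsq q).symm.trans hq)
      refine ⟨ε ⟨q, hq'⟩, trivial, ?_⟩
      exact congrArg Subtype.val (ε.symm_apply_apply ⟨q, hq'⟩)
    obtain ⟨c, -, hc⟩ := GrothLib.GrpdQuot.exists_specializes_of_mem_closure_comap _ _ isClosed_univ qz
      (closure_mono hsub hcl)
    exact ⟨_, (ε.symm c).2, hc⟩
  have hq'le : q'.asIdeal ≤ qz.asIdeal := (PrimeSpectrum.le_iff_specializes _ _).mpr hq'z
  let z₂ : X := hU.fromSpec q'
  have hz₂ : z₂ ⤳ z := hqz ▸ hq'z.map hU.fromSpec.continuous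
  obtain ⟨t, s, a', b', ht, hs, ha', hb', hle', -⟩ := GrothLib.Altitude.dim_locQuot_add_trdeg f hz₂
  have hb1 : b' ≤ 1 := by
    have hy1 : f z₂ ⤳ f z := hz₂.map f.continuous
    have h := GrothLib.Altitude.ringKrullDim_locQuot_eq_height hV hy1 hzV
    rw [hb'] at h
    have e1 : hV.primeIdealOf ⟨f z₂, hy1.mem_open V.2 hzV⟩ = p' :=
      hV.fromSpec.isOpenEmbedding.injective ((hV.fromSpec_primeIdealOf _).trans ((hsq q').trans (congrArg _ hq'A)))
    have e2 : hV.primeIdealOf ⟨f z, hzV⟩ = pp :=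
      hV.fromSpec.isOpenEmbedding.injective ((hV.fromSpec_primeIdealOf _).trans hfz)
    rw [e1, e2] at h
    have hh : ((pp.asIdeal.map (Ideal.Quotient.mk p'.asIdeal)).height) ≤ 1 := by
      let ψ := DoubleQuot.quotQuotEquivQuotOfLE hp₀p'
      have hmapeq : p'.asIdeal.map (Ideal.Quotient.mk p₀.asIdeal) = qb :=
        Ideal.map_comap_of_surjective _ Ideal.Quotient.mk_surjective qb
      let ψ' : (A ⧸ p₀.asIdeal) ⧸ qb ≃+* A ⧸ p'.asIdeal := (Ideal.quotEquivOfEq hmapeq.symm).trans ψ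
      rw [show pp.asIdeal.map (Ideal.Quotient.mk p'.asIdeal) =
        (Pb.map (Ideal.Quotient.mk qb)).map ψ'.toRingHom by
          rw [Ideal.map_map, Ideal.map_map]
          congr 1]
      exact (RingEquiv.height_map ψ' _).le.trans hht
    have : (b' : WithBot ℕ∞) ≤ 1 := h.le.trans (by exact_mod_cast hh)
    exact_mod_cast this
  have ha1 : 1 ≤ a' := by
    have h := GrothLib.Altitude.ringKrullDim_locQuot_eq_height hU hz₂ hzU
    rw [ha'] at h
    have e1 : hU.primeIdealOf ⟨z₂, hz₂.mem_open U.2 hzU⟩ = q' :=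
      hU.fromSpec.isOpenEmbedding.injective (hU.fromSpec_primeIdealOf _)
    rw [e1, hQ] at h
    haveI : (qz.asIdeal.map (Ideal.Quotient.mk q'.asIdeal)).IsPrime :=
      Ideal.map_isPrime_of_surjective Ideal.Quotient.mk_surjective (by rwa [Ideal.mk_ker])
    by_contra h0
    have h0' : a' = 0 := by omega
    subst h0'
    have hh : (qz.asIdeal.map (Ideal.Quotient.mk q'.asIdeal)).height = 0 := by exact_mod_cast h.symm
    rw [Ideal.height_eq_zero_iff_eq_bot] at hh
    have hEq : q' = qz := PrimeSpectrum.ext (le_antisymm hq'le fun w hw => by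
      rw [← Ideal.Quotient.eq_zero_iff_mem]
      exact Ideal.mem_bot.mp (hh ▸ Ideal.mem_map_of_mem _ hw))
    exact hp'ne (hq'A.symm.trans (congrArg _ hEq))
  have hs' : s = n := Nat.cast_injective ((hs.symm.trans hn : _))
  have htn : n ≤ t := by omega
  haveI : q'.asIdeal.LiesOver p'.asIdeal := ⟨(congrArg PrimeSpectrum.asIdeal hq'A).symm⟩
  have htr : (n : Cardinal.{u}) ≤ Algebra.trdeg (A ⧸ p'.asIdeal) (B ⧸ q'.asIdeal) := by
    rw [GrothLib.QSec28.trdeg_quotient_eq_resTrdeg f hV hU hUV z₂ (hmem _) rfl p'.asIdeal q'.asIdeal ?_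
      (congrArg PrimeSpectrum.asIdeal (hprime q').symm)]
    · refine le_trans ?_ ht.ge
      exact_mod_cast htn
    · refine congrArg PrimeSpectrum.asIdeal ?_
      exact (hV.fromSpec.isOpenEmbedding.injective
        ((hV.fromSpec_primeIdealOf _).trans ((hsq q').trans (congrArg _ hq'A)))).symm
  refine hqba (coeff_mem_of_trdeg qz.asIdeal q'.asIdeal hq'le p'.asIdeal b hqf htr R ?_ m)
  obtain ⟨P, hP, hPq⟩ := Ideal.exists_minimalPrimes_le (bot_le : (⊥ : Ideal B) ≤ q'.asIdeal)
  exact hPq (hR P (hfin.mem_toFinset.mpr ⟨hP, hPq.trans hq'le⟩))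

end GrothLib.Chev28
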