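import Groth.Agent.Lib.Chev28.Chevalley
import Groth.Agent.Lib.Chev28.Components
import Groth.Agent.Lib.QSec28.Main
import Groth.Agent.Lib.FibreDimAt6.ZeroDim

/-!
Universal openness at the points of a fibre over a geometrically unibranch point (EGA IV 14.4.1 and after).
-/

universe u

open CategoryTheory CategoryTheory.Limits AlgebraicGeometry TopologicalSpace Topology

noncomputable section

namespace GrothLib.Chev28

variable {X Y : Scheme.{u}}

theorem localDim_homeomorph {A B : Type u} [TopologicalSpace A] [TopologicalSpace B] (e : A ≃ₜ B) (a : A) :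
    FlatMor.localDim B (e a) = FlatMor.localDim A a := by
  have key : ∀ U : Set A, topologicalKrullDim ↥(e '' U) = topologicalKrullDim ↥U := fun U =>
    ((e.image U).isHomeomorph.topologicalKrullDim_eq _).symm
  refine le_antisymm (le_iInf fun U => ?_) (le_iInf fun V => ?_)
  · exact (iInf_le _ ⟨⟨e '' (U.1 : Set A), e.isOpenMap _ U.1.2⟩, a, U.2, rfl⟩).trans (key _).le
  · refine (iInf_le _ ⟨⟨e ⁻¹' (V.1 : Set B), V.1.2.preimage e.continuous⟩, V.2⟩).trans ?_
    refine ((key (e ⁻¹' (V.1 : Set B))).ge).trans ?_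
    rw [Set.image_preimage_eq _ e.surjective]

/-- The local dimension of a closed subset of a fibre is the fibre dimension of the closed subscheme. -/
theorem localDim_inter_fibre {Zs : Scheme.{u}} (ι : Zs ⟶ X) [IsClosedImmersion ι] (f : X ⟶ Y) {Z : Set X}
    (hr : Set.range ι = Z) (w : Zs) (x : X) (hw : ι w = x) (hx : x ∈ Z ∩ f ⁻¹' {f x}) :
    FlatMor.localDim ↥(Z ∩ f ⁻¹' {f x}) ⟨x, hx⟩ = FlatMor.fibreDimAt (ι ≫ f) w := by
  subst hw
  let φ : (ι ≫ f).fiber (f (ι w)) → X := fun p => ι ((ι ≫ f).fiberι (f (ι w)) p)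
  have hφ : IsEmbedding φ := ι.isEmbedding.comp ((ι ≫ f).fiberι (f (ι w))).isEmbedding
  have hrange : Set.range φ = Z ∩ f ⁻¹' {f (ι w)} := by
    ext a
    constructor
    · rintro ⟨p, rfl⟩
      exact ⟨hr.le ⟨_, rfl⟩, ((ι ≫ f).range_fiberι (f (ι w))).le ⟨p, rfl⟩⟩
    · rintro ⟨ha, ha'⟩
      obtain ⟨v, rfl⟩ := hr.ge ha
      obtain ⟨p, hp⟩ := ((ι ≫ f).range_fiberι (f (ι w))).ge
        (show v ∈ (ι ≫ f) ⁻¹' {f (ι w)} from ha')
      exact ⟨p, congrArg ι hp⟩
  let e := hφ.toHomeomorph.trans (Homeomorph.setCongr hrange)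
  have he : e ((ι ≫ f).asFiber w) = ⟨ι w, hx⟩ := Subtype.ext (congrArg ι ((ι ≫ f).fiberι_asFiber w))
  rw [← he, localDim_homeomorph e]
  rfl

/-- The dimension of the closure of a point inside its fibre. -/
theorem exists_dim_closure_inter_fibre (f : X ⟶ Y) [LocallyOfFiniteType f] (ξ : X) :
    ∃ m : ℕ, Dual3.resTrdeg f ξ = m ∧
      topologicalKrullDim ↥(closure {ξ} ∩ f ⁻¹' {f ξ}) = (m : WithBot ℕ∞) := by
  obtain ⟨m, hm, hd⟩ := GrothLib.Altitude.exists_trdeg_eq_dim_closure f ξ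
  refine ⟨m, hm, ?_⟩
  rw [← hd]
  symm
  refine GrothLib.Dim.IsEmbedding.topologicalKrullDim_eq
    (f := fun z : (closure {f.asFiber ξ} : Set (f.fiber (f ξ))) => f.fiberι (f ξ) z.1)
    ((f.fiberι (f ξ)).isEmbedding.comp Topology.IsEmbedding.subtypeVal) ?_
  ext a
  constructor
  · rintro ⟨⟨z, hz⟩, rfl⟩
    refine ⟨?_, (f.range_fiberι (f ξ)).le ⟨z, rfl⟩⟩
    rw [(f.fiberι (f ξ)).isEmbedding.closure_eq_preimage_closure_image, Set.image_singleton,
      f.fiberι_asFiber] at hz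
    exact hz
  · rintro ⟨ha, ha'⟩
    obtain ⟨z, rfl⟩ := (f.range_fiberι (f ξ)).ge ha'
    refine ⟨⟨z, ?_⟩, rfl⟩
    rw [(f.fiberι (f ξ)).isEmbedding.closure_eq_preimage_closure_image, Set.image_singleton,
      f.fiberι_asFiber]
    exact ha

/-- The closure of a point as an integral closed subscheme. -/
theorem exists_integral_closure (ξ : X) :
    ∃ (Zs : Scheme.{u}) (ι : Zs ⟶ X) (_ : IsClosedImmersion ι) (_ : IsIntegral Zs),
      Set.range ι = closure {ξ} ∧ ι (genericPoint Zs) = ξ := by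
  let C : Closeds X := ⟨closure {ξ}, isClosed_closure⟩
  let ι := (Scheme.IdealSheafData.vanishingIdeal C).subschemeι
  have hrange : Set.range ι = closure {ξ} := GrothLib.RedSub.range_subschemeι_vanishingIdeal C
  haveI : IrreducibleSpace (Scheme.IdealSheafData.vanishingIdeal C).subscheme :=
    (GrothLib.GeomComp6.isIrreducible_range_iff ι ι.isEmbedding).mp
      (hrange.symm ▸ isIrreducible_singleton.closure)
  haveI : IsReduced (Scheme.IdealSheafData.vanishingIdeal C).subscheme :=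
    GrothLib.RedSub.isReduced_subscheme_vanishingIdeal C
  haveI : IsIntegral (Scheme.IdealSheafData.vanishingIdeal C).subscheme :=
    isIntegral_of_irreducibleSpace_of_isReduced _
  refine ⟨_, ι, inferInstance, inferInstance, hrange, ?_⟩
  have h1 := (genericPoint_spec (Scheme.IdealSheafData.vanishingIdeal C).subscheme).image ι.continuous
  rw [Set.image_univ, hrange, closure_closure] at h1
  exact h1.eq isGenericPoint_closure

/-- The dimensions attached to an irreducible closed subset through a point. -/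
theorem component_dims (f : X ⟶ Y) [LocallyOfFiniteType f] {ξ x : X} (hξ : ξ ⤳ x) {m : ℕ}
    (hm : Dual3.resTrdeg f ξ = m) (hx : x ∈ closure {ξ} ∩ f ⁻¹' {f x}) :
    (m : WithBot ℕ∞) ≤ FlatMor.localDim ↥(closure {ξ} ∩ f ⁻¹' {f x}) ⟨x, hx⟩ ∧
      FlatMor.localDim ↥(closure {ξ} ∩ f ⁻¹' {f x}) ⟨x, hx⟩ ≤ FlatMor.fibreDimAt f x ∧
      ((∀ z, f z = f x → z ⤳ x → z = x) →
        FlatMor.localDim ↥(closure {ξ} ∩ f ⁻¹' {f x}) ⟨x, hx⟩ = FlatMor.fibreDimAt f x) := by
  obtain ⟨Zs, ι, _, _, hrange, hgen⟩ := exists_integral_closure ξ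
  obtain ⟨w, hw⟩ := hrange.ge (hξ.mem_closure)
  rw [localDim_inter_fibre ι f hrange w x hw hx]
  refine ⟨?_, ?_, fun h => ?_⟩
  · refine le_trans ?_ (GrothLib.Equidim6.generic_le_fibreDimAt (ι ≫ f) w)
    obtain ⟨n, hn, hn'⟩ := GrothLib.Equidim6.resTrdeg_eq_fibreDimAt_of_maximal (ι ≫ f) (genericPoint Zs)
      fun z hz => (hz.antisymm (genericPoint_specializes z)).eq
    rw [GrothLib.FunFlat6.resTrdeg_closedImmersion ι f, hgen, hm] at hn
    rw [hn', Nat.cast_injective hn]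
  · exact hw ▸ GrothLib.AbsApprox.fibreDimAt_le_of_isClosedImmersion ι f (ι ≫ f) rfl w
  · rw [← hw] at h ⊢
    exact GrothLib.Equidim6.fibreDimAt_closedImmersion_eq ι f w h

/-- A closed irreducible subset dominating a component, whose fibre has at `x` at most the generic
dimension, makes `f` universally open at `x`, and the subscheme open at `x`. -/
theorem isUnivOpenAt_of_component [IsLocallyNoetherian Y] (f : X ⟶ Y) [LocallyOfFiniteType f] {ξ x : X}
    (hξ : ξ ⤳ x) (hη : ∀ y', y' ⤳ f ξ → y' = f ξ) (hy : CAlg2.IsGeomUnibranch (Y.presheaf.stalk (f x)))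
    {m : ℕ} (hm : Dual3.resTrdeg f ξ = m) (hx : x ∈ closure {ξ} ∩ f ⁻¹' {f x})
    (hdim : FlatMor.localDim ↥(closure {ξ} ∩ f ⁻¹' {f x}) ⟨x, hx⟩ ≤ (m : WithBot ℕ∞)) :
    EGA43.IsUnivOpenAt f x ∧ EGA43.IsOpenAt (fun z : ↥(closure ({ξ} : Set X)) => f z.1) ⟨x, hx.1⟩ := by
  obtain ⟨Zs, ι, _, _, hrange, hgen⟩ := exists_integral_closure ξ
  obtain ⟨w, hw⟩ := hrange.ge (hξ.mem_closure)
  rw [localDim_inter_fibre ι f hrange w x hw hx] at hdim
  have hgw : (ι ≫ f) w = f x := by rw [Scheme.Hom.comp_apply, hw]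
  have hg : (ι ≫ f) (genericPoint Zs) = f ξ := by rw [Scheme.Hom.comp_apply, hgen]
  have hu := isUnivOpenAt_of_integral (ι ≫ f) w (hg ▸ hη) (hgw ▸ hy) m
    (by rw [GrothLib.FunFlat6.resTrdeg_closedImmersion ι f, hgen, hm]) hdim
  refine ⟨hw ▸ isUnivOpenAt_of_comp ι f w hu, fun U hU => ?_⟩
  have ho := GrothLib.OpenAt.isOpenAt_of_isPullback hu (IsPullback.of_horiz_isIso (fst := 𝟙 Zs)
    (snd := ι ≫ f) (f := ι ≫ f) (g := 𝟙 Y) ⟨by simp⟩) w rfl
  let e : Zs → ↥(closure ({ξ} : Set X)) := fun v => ⟨ι v, hrange.le ⟨v, rfl⟩⟩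
  have he : Continuous e := ι.continuous.subtype_mk _
  have hew : e w = ⟨x, hx.1⟩ := Subtype.ext hw
  have h2 := ho (e ⁻¹' U) (he.continuousAt.preimage_mem_nhds (hew.symm ▸ hU))
  rw [hgw] at h2
  refine Filter.mem_of_superset h2 ?_
  rintro _ ⟨v, hv, rfl⟩
  exact ⟨e v, hv, rfl⟩

theorem isOpenAt_of_isUnivOpenAt {f : X ⟶ Y} {x : X} (h : EGA43.IsUnivOpenAt f x) :
    EGA43.IsOpenAt f.base x :=
  GrothLib.OpenAt.isOpenAt_of_isPullback h
    (IsPullback.of_horiz_isIso (fst := 𝟙 X) (snd := f) (f := f) (g := 𝟙 Y) ⟨by simp⟩) x rfl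

/-- An open map at `x` lifts the generizations of `f x` near `x`. -/
theorem mem_closure_of_isOpenAt {f : X → Y} {x : X} (h : EGA43.IsOpenAt f x) {y' : Y} (hy' : y' ⤳ f x) :
    x ∈ closure (f ⁻¹' {y'}) := by
  rw [mem_closure_iff_nhds]
  intro U hU
  obtain ⟨W, hW, hWo, hxW⟩ := mem_nhds_iff.mp (h U hU)
  obtain ⟨a, ha, rfl⟩ := hW (hy'.mem_open hWo hxW)
  exact ⟨a, ha, rfl⟩

theorem nonempty_of_nonneg_dim {A : Type u} [TopologicalSpace A] (h : (0 : WithBot ℕ∞) ≤ topologicalKrullDim A) :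
    Nonempty A := by
  obtain ⟨c⟩ := Order.krullDim_nonneg_iff.mp h
  exact ⟨c.isIrreducible.nonempty.some⟩

/-- A fibre piece of dimension at least `n` has a maximal point of dimension at least `n`. -/
theorem exists_maximal_of_le_dim (f : X ⟶ Y) [LocallyOfFiniteType f] (y : Y) (U : X.Opens) (n : ℕ)
    (h : (n : WithBot ℕ∞) ≤ topologicalKrullDim ↥((U : Set X) ∩ f ⁻¹' {y})) :
    ∃ z ∈ U, f z = y ∧ (∀ z', f z' = f z → z' ⤳ z → z' = z) ∧ (n : WithBot ℕ∞) ≤ FlatMor.fibreDimAt f z := by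
  rw [← GrothLib.FibreDimAt6.dim_inter_fiber_eq f y U] at h
  let q := f.fiberToSpecResidueField y
  haveI : LocallyOfFiniteType q := MorphismProperty.pullback_snd f _ inferInstance
  let F := f.fiber y
  let W : F.Opens := f.fiberι y ⁻¹ᵁ U
  obtain ⟨v, hv⟩ : ∃ v : (W : Scheme.{u}), (n : WithBot ℕ∞) ≤ GrothLib.AffDom.ptDim v := by
    have h' : (n : WithBot ℕ∞) ≤ topologicalKrullDim (W : Scheme.{u}) := h
    rw [GrothLib.AffDom.topologicalKrullDim_eq_iSup_ptDim] at h'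
    cases n with
    | zero =>
      have hne : Nonempty (W : Scheme.{u}) := by
        refine nonempty_of_nonneg_dim (A := (W : Scheme.{u})) ?_
        rw [GrothLib.AffDom.topologicalKrullDim_eq_iSup_ptDim]
        exact h'
      obtain ⟨v⟩ := hne
      obtain ⟨a, ha⟩ := GrothLib.AffDom.exists_nat_ptDim (K := Y.residueField y) (W.ι ≫ q) v
      exact ⟨v, by rw [ha]; exact_mod_cast Nat.zero_le a⟩
    | succ k =>
      obtain ⟨v, hv⟩ := lt_iSup_iff.mp
        (lt_of_lt_of_le (show (k : WithBot ℕ∞) < ((k + 1 : ℕ) : WithBot ℕ∞) by exact_mod_cast Nat.lt_succ_self k) h')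
      obtain ⟨a, ha⟩ := GrothLib.AffDom.exists_nat_ptDim (K := Y.residueField y) (W.ι ≫ q) v
      rw [ha] at hv
      refine ⟨v, ?_⟩
      rw [ha]
      have : k < a := by exact_mod_cast hv
      exact_mod_cast this
  obtain ⟨v₀, hv₀, hmax⟩ := GrothLib.AffDom.exists_maximal_point v
  have hFmax : ∀ c : F, c ⤳ W.ι v₀ → c = W.ι v₀ := fun c hc => by
    obtain ⟨c', rfl⟩ : c ∈ Set.range W.ι := W.range_ι.ge (hc.mem_open W.2 v₀.2)
    exact congrArg W.ι (hmax c' (W.ι.isEmbedding.isInducing.specializes_iff.mp hc))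
  have hf : f (f.fiberι y (W.ι v₀)) = y := (f.range_fiberι y).le ⟨_, rfl⟩
  refine ⟨f.fiberι y (W.ι v₀), v₀.2, hf, fun z' hz' hs => ?_, ?_⟩
  · obtain ⟨c, rfl⟩ := (f.range_fiberι y).ge (show z' ∈ f ⁻¹' {y} from hz'.trans hf)
    rw [hFmax c ((f.fiberι y).isEmbedding.isInducing.specializes_iff.mp hs)]
  · rw [← GrothLib.Equidim6.localDim_asFiber f y (W.ι v₀),
      GrothLib.Equidim6.localDim_of_maximal (K := Y.residueField y) q (W.ι v₀) hFmax]
    refine hv.trans ((GrothLib.AffDom.ptDim_mono hv₀).trans ?_)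
    have hsub : Set.MapsTo W.ι (closure {v₀}) (closure {W.ι v₀}) := fun a ha =>
      specializes_iff_mem_closure.mp ((specializes_iff_mem_closure.mpr ha).map W.ι.continuous)
    exact ((W.ι.isEmbedding.comp IsEmbedding.subtypeVal).codRestrict (closure {W.ι v₀})
      fun a => hsub a.2).isInducing.topologicalKrullDim_le

/-- A component of full generic fibre dimension, from the dimensions of the generic fibre near `z`. -/
theorem exists_component_of_dim_le [IsLocallyNoetherian Y] (f : X ⟶ Y) [LocallyOfFiniteType f] (z : X) (n : ℕ)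
    (η : Y) (hη : ∀ y', y' ⤳ η → y' = η)
    (h : ∀ U : X.Opens, z ∈ U → (n : WithBot ℕ∞) ≤ topologicalKrullDim ↥((U : Set X) ∩ f ⁻¹' {η})) :
    ∃ ξ : X, (∀ z', z' ⤳ ξ → z' = ξ) ∧ ξ ⤳ z ∧ f ξ = η ∧ ∃ m : ℕ, Dual3.resTrdeg f ξ = m ∧ n ≤ m := by
  haveI := LocallyOfFiniteType.isLocallyNoetherian f
  obtain ⟨U, hU, hzU, -⟩ := exists_isAffineOpen_mem_and_subset (x := z) (U := ⊤) trivial
  haveI : IsNoetherianRing Γ(X, U) := IsLocallyNoetherian.component_noetherian ⟨U, hU⟩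
  let S : Set X := {ξ | ξ ∈ U ∧ (∀ z', z' ⤳ ξ → z' = ξ) ∧ ¬ ξ ⤳ z}
  have hS : S.Finite := by
    refine (((minimalPrimes.finite_of_isNoetherianRing Γ(X, U)).preimage
      (f := PrimeSpectrum.asIdeal) (fun a _ b _ hab => PrimeSpectrum.ext hab)).image hU.fromSpec).subset ?_
    rintro ξ ⟨hξU, hξ, -⟩
    refine ⟨hU.primeIdealOf ⟨ξ, hξU⟩, ⟨⟨(hU.primeIdealOf _).isPrime, bot_le⟩, fun q hq hle => ?_⟩,
      hU.fromSpec_primeIdealOf _⟩
    have h1 : hU.fromSpec ⟨q, hq.1⟩ = ξ := hξ _ <|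
      (((PrimeSpectrum.le_iff_specializes (⟨q, hq.1⟩ : PrimeSpectrum Γ(X, U)) _).mp hle).map
        hU.fromSpec.continuous).trans (specializes_of_eq (hU.fromSpec_primeIdealOf ⟨ξ, hξU⟩))
    have h2 := hU.fromSpec.isOpenEmbedding.injective
      (h1.trans (hU.fromSpec_primeIdealOf ⟨ξ, hξU⟩).symm)
    exact (congrArg PrimeSpectrum.asIdeal h2).symm.le
  let O : X.Opens := ⟨(U : Set X) ∩ (⋃ ξ ∈ S, closure {ξ})ᶜ,
    U.2.inter (hS.isClosed_biUnion fun _ _ => isClosed_closure).isOpen_compl⟩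
  have hzO : z ∈ O := by
    refine ⟨hzU, fun hz => ?_⟩
    simp only [Set.mem_iUnion] at hz
    obtain ⟨ξ, hξ, hzξ⟩ := hz
    exact hξ.2.2 (specializes_iff_mem_closure.mpr hzξ)
  obtain ⟨ξ, hξO, hξη, hξmax, hdim⟩ := exists_maximal_of_le_dim f η O n (h O hzO)
  have hmax : ∀ z', z' ⤳ ξ → z' = ξ := fun z' hz' =>
    hξmax z' ((hη _ (hξη ▸ hz'.map f.continuous)).trans hξη.symm) hz'
  have hsp : ξ ⤳ z := by
    by_contra hsp
    exact hξO.2 (Set.mem_biUnion (show ξ ∈ S from ⟨hξO.1, hmax, hsp⟩) (subset_closure rfl))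
  obtain ⟨m, hm, hm'⟩ := GrothLib.Equidim6.resTrdeg_eq_fibreDimAt_of_maximal f ξ hmax
  refine ⟨ξ, hmax, hsp, hξη, m, hm, ?_⟩
  rw [hm'] at hdim
  exact_mod_cast hdim

/-- The component form of the conditions of EGA IV 14.4 at `x`: each component `Y₀` through `f x` is
dominated by a component `Z` through `x` with the same fibre dimensions at `x` and at the generic point. -/
def HasGoodComponent (f : X ⟶ Y) (x : X) : Prop :=
  ∀ Y₀ ∈ irreducibleComponents (Y : Type u), f.base x ∈ Y₀ →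
    ∃ Z ∈ irreducibleComponents (X : Type u), ∃ hx : x ∈ Z, closure (f.base '' Z) = Y₀ ∧
      ∀ η : Y, closure ({η} : Set Y) = Y₀ →
        FlatMor.localDim ↥(Z ∩ f.base ⁻¹' {f.base x}) ⟨x, ⟨hx, rfl⟩⟩ = topologicalKrullDim ↥(Z ∩ f.base ⁻¹' {η})

/-- Data extracted from a good component. -/
theorem HasGoodComponent.extract {f : X ⟶ Y} [LocallyOfFiniteType f] {x : X} (h : HasGoodComponent f x)
    {η : Y} (hηx : η ⤳ f x) (hη : ∀ y', y' ⤳ η → y' = η) :
    ∃ ξ : X, ξ ⤳ x ∧ f ξ = η ∧ (∀ z, z ⤳ ξ → z = ξ) ∧ ∃ hx : x ∈ closure {ξ} ∩ f ⁻¹' {f x},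
      ∃ m : ℕ, Dual3.resTrdeg f ξ = m ∧
        FlatMor.localDim ↥(closure {ξ} ∩ f ⁻¹' {f x}) ⟨x, hx⟩ = (m : WithBot ℕ∞) := by
  obtain ⟨Z, hZ, hx, hZc, hd⟩ := h _ (GrothLib.Equidim6.closure_mem_components hη) hηx.mem_closure
  obtain ⟨ξ, rfl⟩ : ∃ ξ : X, closure {ξ} = Z :=
    ⟨_, (hZ.1.isGenericPoint_genericPoint (isClosed_of_mem_irreducibleComponents _ hZ)).def⟩
  have hfξ : f ξ = η := by
    rw [show f.base '' closure {ξ} = f '' closure {ξ} from rfl, closure_image_closure_singleton f.continuous] at hZc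
    exact (show IsGenericPoint (f ξ) (closure {η}) from hZc).eq isGenericPoint_closure
  obtain ⟨m, hm, hm'⟩ := exists_dim_closure_inter_fibre f ξ
  refine ⟨ξ, specializes_iff_mem_closure.mpr hx, hfξ, fun z hz => maximal_of_closure_mem hZ z hz, ⟨hx, rfl⟩,
    m, hm, (hd η rfl).trans ?_⟩
  rw [← hfξ]
  exact hm'

theorem hasGoodComponent_of_exists (f : X ⟶ Y) [LocallyOfFiniteType f] (x : X)
    (h : ∀ η : Y, η ⤳ f x → (∀ y', y' ⤳ η → y' = η) →
      ∃ ξ : X, (∀ z', z' ⤳ ξ → z' = ξ) ∧ ξ ⤳ x ∧ f ξ = η ∧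
        ∃ m : ℕ, Dual3.resTrdeg f ξ = m ∧ FlatMor.fibreDimAt f x ≤ (m : WithBot ℕ∞)) :
    HasGoodComponent f x := by
  intro Y₀ hY₀ hxY₀
  have hg := hY₀.1.isGenericPoint_genericPoint (isClosed_of_mem_irreducibleComponents _ hY₀)
  set η := hY₀.1.genericPoint
  obtain ⟨ξ, hξ, hξx, hξη, m, hm, hle⟩ := h η (hg.specializes hxY₀)
    (maximal_of_closure_mem (hg.def.symm ▸ hY₀))
  refine ⟨closure {ξ}, GrothLib.Equidim6.closure_mem_components hξ, hξx.mem_closure, ?_, fun η' hη' => ?_⟩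
  · rw [show f.base '' closure {ξ} = f '' closure {ξ} from rfl, closure_image_closure_singleton f.continuous,
      hξη, hg.def]
  · obtain ⟨h1, h2, -⟩ := component_dims f hξx hm ⟨hξx.mem_closure, rfl⟩
    obtain ⟨m', hm', hd⟩ := exists_dim_closure_inter_fibre f ξ
    have hη : η' = η := (show IsGenericPoint η' Y₀ from hη').eq hg
    rw [show topologicalKrullDim ↥(closure {ξ} ∩ f.base ⁻¹' {η'}) =
      topologicalKrullDim ↥(closure {ξ} ∩ f ⁻¹' {f ξ}) by rw [hη, hξη], hd,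
      show m' = m from Nat.cast_injective (hm'.symm.trans hm)]
    exact le_antisymm (h2.trans hle) h1

theorem HasGoodComponent.of_specializes {f : X ⟶ Y} [LocallyOfFiniteType f] {x₀ x : X}
    (h : HasGoodComponent f x₀) (hs : x₀ ⤳ x) (he : f x₀ = f x)
    (hmax : ∀ z, f z = f x₀ → z ⤳ x₀ → z = x₀)
    (hd : FlatMor.fibreDimAt f x = FlatMor.fibreDimAt f x₀) : HasGoodComponent f x := by
  refine hasGoodComponent_of_exists f x fun η hηx hη => ?_
  obtain ⟨ξ, hξ, hfξ, hξmax, hx, m, hm, hdim⟩ := h.extract (η := η) (he ▸ hηx) hη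
  refine ⟨ξ, hξmax, hξ.trans hs, hfξ, m, hm, ?_⟩
  rw [hd, ← (component_dims f hξ hm hx).2.2 hmax, hdim]

theorem exists_maximal_generization (y : Y) : ∃ η : Y, η ⤳ y ∧ ∀ y', y' ⤳ η → y' = η :=
  GrothLib.AffDom.exists_maximal_point y

theorem HasGoodComponent.isUnivOpenAt [IsLocallyNoetherian Y] {f : X ⟶ Y} [LocallyOfFiniteType f] {x : X}
    (h : HasGoodComponent f x) (hy : CAlg2.IsGeomUnibranch (Y.presheaf.stalk (f x))) :
    EGA43.IsUnivOpenAt f x := by
  obtain ⟨η, hηx, hη⟩ := exists_maximal_generization (f x)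
  obtain ⟨ξ, hξ, hfξ, -, hx, m, hm, hdim⟩ := h.extract hηx hη
  exact (isUnivOpenAt_of_component f hξ (hfξ.symm ▸ hη) hy hm hx hdim.le).1

theorem hasGoodComponent_of_mem_closure [IsLocallyNoetherian Y] (f : X ⟶ Y) [LocallyOfFiniteType f] (z : X)
    (hz : ∀ z', f z' = f z → z' ⤳ z → z' = z)
    (hlift : ∀ y', y' ⤳ f z → z ∈ closure (f ⁻¹' {y'})) : HasGoodComponent f z := by
  refine hasGoodComponent_of_exists f z fun η hηz hη => ?_
  obtain ⟨n, hn, hn'⟩ := GrothLib.Equidim6.fibreDimAt_eq_resTrdeg f z hz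
  obtain ⟨ξ, h1, h2, h3, m, hm, hle⟩ := exists_component_of_forall_mem_closure f z hz n hn η hηz hη hlift
  exact ⟨ξ, h1, h2, h3, m, hm, hn'.le.trans (by exact_mod_cast hle)⟩

theorem hasGoodComponent_of_forall_isOpenAt [IsLocallyNoetherian Y] (f : X ⟶ Y) [LocallyOfFiniteType f] (y : Y)
    (h : ∀ z : X, f z = y → (∀ z', f z' = f z → z' ⤳ z → z' = z) →
      ∀ y', y' ⤳ y → z ∈ closure (f ⁻¹' {y'})) (x : X) (hx : f x = y) : HasGoodComponent f x := by
  obtain ⟨x₀, he, hs, hmax, hd⟩ := GrothLib.Equidim6.exists_fibre_maximal f x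
  have hmax' : ∀ z', f z' = f x₀ → z' ⤳ x₀ → z' = x₀ := fun z' hz' => hmax z' (hz'.trans he)
  exact (hasGoodComponent_of_mem_closure f x₀ hmax'
    (he.symm ▸ hx.symm ▸ h x₀ (he.trans hx) hmax')).of_specializes hs he hmax' hd

/-- A good component gives the dimension condition on every nearby fibre. -/
theorem HasGoodComponent.dim_le [IsLocallyNoetherian Y] {f : X ⟶ Y} [LocallyOfFiniteType f] {x : X}
    (h : HasGoodComponent f x) (hy : CAlg2.IsGeomUnibranch (Y.presheaf.stalk (f x)))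
    (hmax : ∀ z, f z = f x → z ⤳ x → z = x) (U : X.Opens) (hxU : x ∈ U) (y' : Y) (hy' : y' ⤳ f x) :
    FlatMor.fibreDimAt f x ≤ topologicalKrullDim ↥((U : Set X) ∩ f ⁻¹' {y'}) := by
  obtain ⟨η, hηx, hη⟩ := exists_maximal_generization (f x)
  obtain ⟨ξ, hξ, hfξ, -, hx, m, hm, hdim⟩ := h.extract hηx hη
  have hd : FlatMor.fibreDimAt f x = (m : WithBot ℕ∞) :=
    ((component_dims f hξ hm hx).2.2 hmax).symm.trans hdim
  rw [hd]
  have ho := (isUnivOpenAt_of_component f hξ (hfξ.symm ▸ hη) hy hm hx hdim.le).2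
    (Subtype.val ⁻¹' (U : Set X)) (continuous_subtype_val.continuousAt.preimage_mem_nhds (U.2.mem_nhds hxU))
  obtain ⟨W, hW, hWo, hxW⟩ := mem_nhds_iff.mp ho
  obtain ⟨⟨a, haξ⟩, haU, rfl⟩ := hW (hy'.mem_open hWo hxW)
  obtain ⟨h1, h2, -⟩ := component_dims f (specializes_iff_mem_closure.mpr haξ) hm ⟨haξ, rfl⟩
  exact (h1.trans h2).trans (GrothLib.FibreDimAt6.fibreDimAt_le_of_open f a U haU)

end GrothLib.Chev28

namespace GrothLib.Chev28

variable {X Y : Scheme.{u}}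

theorem le_of_forall_nat_le {a b : WithBot ℕ∞} (h : ∀ n : ℕ, (n : WithBot ℕ∞) ≤ a → (n : WithBot ℕ∞) ≤ b) :
    a ≤ b := by
  cases a with
  | bot => exact bot_le
  | coe v =>
    cases b with
    | bot => exact absurd (h 0 (by exact_mod_cast (zero_le : (0 : ℕ∞) ≤ v))) (by simp)
    | coe w =>
      exact WithBot.coe_le_coe.mpr (ENat.forall_natCast_le_iff_le.mp fun n hn =>
        WithBot.coe_le_coe.mp (h n (WithBot.coe_le_coe.mpr hn)))

theorem hlift_of_dim_le (f : X ⟶ Y) (x : X) (y' : Y)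
    (h : ∀ U : X.Opens, x ∈ U → FlatMor.fibreDimAt f x ≤ topologicalKrullDim ↥((U : Set X) ∩ f ⁻¹' {y'})) :
    x ∈ closure (f ⁻¹' {y'}) := by
  rw [mem_closure_iff]
  intro U hU hxU
  obtain ⟨a⟩ := nonempty_of_nonneg_dim
    ((GrothLib.Equidim6.nonneg_fibreDimAt' f x).trans (h ⟨U, hU⟩ hxU))
  exact ⟨a.1, a.2⟩

/-- A quasi-section through `x` over an irreducible base makes `f` universally open at `x`. -/
theorem isUnivOpenAt_of_quasiSection [IrreducibleSpace Y] [IsLocallyNoetherian Y] (f : X ⟶ Y)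
    [LocallyOfFiniteType f] {T : Scheme.{u}} (i : T ⟶ X) [IrreducibleSpace ↥T] [IsReduced T]
    [LocallyOfFiniteType (i ≫ f)] [LocallyQuasiFinite (i ≫ f)] [IsDominant (i ≫ f)] (t : T)
    (hy : CAlg2.IsGeomUnibranch (Y.presheaf.stalk (f (i t)))) : EGA43.IsUnivOpenAt f (i t) := by
  haveI : IsIntegral T := isIntegral_of_irreducibleSpace_of_isReduced T
  refine isUnivOpenAt_of_comp i f t (isUnivOpenAt_of_integral (i ≫ f) t ?_ hy 0 ?_ ?_)
  · intro y' hy'
    have h1 : IsGenericPoint ((i ≫ f) (genericPoint T)) Set.univ := by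
      have h := (genericPoint_spec T).image (i ≫ f).continuous
      rwa [Set.image_univ, (i ≫ f).denseRange.closure_eq] at h
    exact (hy'.antisymm (h1.specializes trivial)).eq
  · rw [Nat.cast_zero]
    exact GrothLib.AlgSp.resTrdeg_eq_zero_of_lqf (i ≫ f) _
  · rw [Nat.cast_zero]
    exact (GrothLib.NoethTop.localDim_le_dim _).trans
      (GrothLib.FibreDimAt6.dim_fiber_le_zero_of_quasiFinite (i ≫ f) _)

/-- A good component through a point closed in its fibre contains a quasi-section. -/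
theorem HasGoodComponent.exists_quasiSection [IrreducibleSpace Y] [IsLocallyNoetherian Y] {f : X ⟶ Y}
    [LocallyOfFiniteType f] {x : X} (h : HasGoodComponent f x)
    (hcl : ∀ x' : X, f x' = f x → x ⤳ x' → x' = x) :
    ∃ (T : Scheme.{u}) (i : T ⟶ X), IsImmersion i ∧ IrreducibleSpace ↥T ∧ IsReduced T ∧ x ∈ Set.range i.base ∧
        LocallyOfFiniteType (i ≫ f) ∧ LocallyQuasiFinite (i ≫ f) ∧ QuasiCompact (i ≫ f) ∧ IsDominant (i ≫ f) := by
  obtain ⟨ξ, hξ, hfξ, -, hx, m, hm, hdim⟩ := h.extract (η := genericPoint Y) (genericPoint_specializes _)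
    fun y' hy' => (hy'.antisymm (genericPoint_specializes y')).eq
  obtain ⟨Zs, ι, _, _, hrange, hgen⟩ := exists_integral_closure ξ
  obtain ⟨w, hw⟩ := hrange.ge hξ.mem_closure
  rw [localDim_inter_fibre ι f hrange w x hw hx] at hdim
  have he : EGA43.IsEquidimAt (ι ≫ f) w := by
    refine GrothLib.Equidim6.isEquidimAt_of_irreducible (ι ≫ f) w ?_ ?_
    · rw [show closure (Set.range (ι ≫ f)) = Set.univ from ?_, irreducibleComponents_eq_singleton]
      · exact Set.mem_singleton _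
      · refine Set.eq_univ_of_univ_subset ?_
        rw [← (genericPoint_spec Y).def, ← hfξ, ← hgen]
        exact closure_mono (Set.singleton_subset_iff.mpr ⟨genericPoint Zs, rfl⟩)
    · obtain ⟨k, hk, hk'⟩ := GrothLib.Equidim6.resTrdeg_eq_fibreDimAt_of_maximal (ι ≫ f) (genericPoint Zs)
        fun z hz => (hz.antisymm (genericPoint_specializes z)).eq
      rw [GrothLib.FunFlat6.resTrdeg_closedImmersion ι f, hgen, hm] at hk
      rw [hdim, hk', Nat.cast_injective hk]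
  obtain ⟨T, i, hi, hirr, hred, ⟨t, ht⟩, h1, h2, h3, h4⟩ :=
    GrothLib.QSec28.exists_quasiSection_of_isEquidimAt (ι ≫ f) w he fun v hv hs => by
      apply ι.isEmbedding.injective
      rw [hw]
      refine hcl _ ?_ (hw ▸ hs.map ι.continuous)
      rw [← hw]
      exact hv
  haveI := hi
  refine ⟨T, i ≫ ι, inferInstance, hirr, hred, ⟨t, ?_⟩, ?_, ?_, ?_, ?_⟩
  · rw [Scheme.Hom.comp_apply, ht]
    exact hw
  all_goals rw [Category.assoc]; assumption

/-- Lifting generizations near every point of a fibre, from quasi-sections at its closed points. -/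
theorem mem_closure_of_closed_points (f : X ⟶ Y) [LocallyOfFiniteType f] (y : Y)
    (h : ∀ x : X, f x = y → (∀ x' : X, f x' = y → x ⤳ x' → x' = x) → EGA43.IsOpenAt f x)
    (z : X) (hz : f z = y) (y' : Y) (hy' : y' ⤳ y) : z ∈ closure (f ⁻¹' {y'}) := by
  rw [mem_closure_iff]
  intro U hU hzU
  haveI : LocallyOfFiniteType (f.fiberToSpecResidueField y) := MorphismProperty.pullback_snd f _ inferInstance
  haveI : JacobsonSpace (f.fiber y) := LocallyOfFiniteType.jacobsonSpace (f.fiberToSpecResidueField y)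
  have hne : (f.fiberι y ⁻¹' U).Nonempty := by
    obtain ⟨c, rfl⟩ := (f.range_fiberι y).ge hz
    exact ⟨c, hzU⟩
  obtain ⟨c, hcU, hc⟩ := nonempty_inter_closedPoints hne (hU.preimage (f.fiberι y).continuous).isLocallyClosed
  have hc' : IsClosed ({c} : Set (f.fiber y)) := hc
  have hcy : f (f.fiberι y c) = y := (f.range_fiberι y).le ⟨c, rfl⟩
  have ho := h (f.fiberι y c) hcy fun x' hx' hs => by
    obtain ⟨c', rfl⟩ := (f.range_fiberι y).ge hx'
    have h5 : c ⤳ c' := (f.fiberι y).isEmbedding.isInducing.specializes_iff.mp hs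
    have h6 : c' ∈ closure ({c} : Set (f.fiber y)) := h5.mem_closure
    rw [hc'.closure_eq, Set.mem_singleton_iff] at h6
    rw [h6]
  exact mem_closure_iff.mp (mem_closure_of_isOpenAt ho (hcy.symm ▸ hy')) U hU hcU

end GrothLib.Chev28
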