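import Groth.Agent.Lib.Chev28.FlatRed
import Groth.Agent.Lib.OpenAt.Basic
import Groth.Agent.Lib.RedSub.Basic
import Groth.Agent.Lib.UnivOpenAt6.Components
import Groth.Agent.Lib.GrpSchField.ReducedLocus

/-!
EGA IV 15.2.2-15.2.3: neighbourhoods where a morphism is flat or universally open with geometrically reduced
fibres.
-/

universe u

open CategoryTheory CategoryTheory.Limits AlgebraicGeometry TopologicalSpace Topology IsLocalRing

noncomputable section

namespace GrothLib.Chev28

variable {X Y : Scheme.{u}}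

theorem isHomeomorph_of_isClosedImmersion_surjective {P Q : Scheme.{u}} (p : P ⟶ Q) [IsClosedImmersion p]
    [Surjective p] : IsHomeomorph p.base :=
  isHomeomorph_iff_isEmbedding_surjective.mpr ⟨p.isClosedEmbedding.toIsEmbedding, p.surjective⟩

/-- Universal openness at a point descends along a surjective closed immersion of bases. -/
theorem isUnivOpenAt_of_surjective_closedImmersion {Yr : Scheme.{u}} (r : Yr ⟶ Y) [IsClosedImmersion r]
    [Surjective r] (f : X ⟶ Y) (x' : ↥(pullback f r)) (hx' : EGA43.IsUnivOpenAt (pullback.snd f r) x') :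
    EGA43.IsUnivOpenAt f (pullback.fst f r x') := by
  intro Y' h z hz
  let rh := pullback.fst h r
  haveI : IsClosedImmersion rh := MorphismProperty.pullback_fst h r inferInstance
  haveI : Surjective rh := MorphismProperty.pullback_fst h r ‹_›
  let q := pullback.fst (pullback.snd f h) rh
  haveI : IsClosedImmersion q := MorphismProperty.pullback_fst _ _ inferInstance
  haveI : Surjective q := MorphismProperty.pullback_fst _ _ inferInstance
  obtain ⟨z', hz'⟩ := q.surjective z
  let m : pullback (pullback.snd f h) rh ⟶ pullback f r :=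
    pullback.lift (q ≫ pullback.fst f h) (pullback.snd _ _ ≫ pullback.snd h r) (by
      simp only [Category.assoc, ← pullback.condition (f := h) (g := r)]
      rw [pullback.condition (f := f) (g := h)]
      rw [← Category.assoc, pullback.condition (f := pullback.snd f h) (g := rh), Category.assoc])
  have sq : IsPullback m (pullback.snd (pullback.snd f h) rh) (pullback.snd f r) (pullback.snd h r) := by
    refine IsPullback.of_right ?_ (pullback.lift_snd _ _ _) (IsPullback.of_hasPullback f r)
    rw [pullback.lift_fst, ← pullback.condition]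
    exact (IsPullback.of_hasPullback _ _).paste_horiz (IsPullback.of_hasPullback f h)
  have hm : m z' = x' := by
    haveI : IsClosedImmersion (pullback.fst f r) := MorphismProperty.pullback_fst f r inferInstance
    apply (pullback.fst f r).isClosedEmbedding.injective
    rw [← Scheme.Hom.comp_apply, pullback.lift_fst, Scheme.Hom.comp_apply, hz', ← hz]
  have hopen := GrothLib.OpenAt.univOpenAt_baseChange hx' sq z' hm
  have h1 : EGA43.IsOpenAt (pullback.snd (pullback.snd f h) rh).base z' :=
    GrothLib.OpenAt.isOpenAt_of_isPullback hopen (IsPullback.of_id_fst (f := pullback.snd (pullback.snd f h) rh)) z' rfl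
  intro U hU
  have h2 := h1 _ (q.continuous.continuousAt.preimage_mem_nhds (show U ∈ 𝓝 (q z') by rw [hz']; exact hU))
  have h3 := (isHomeomorph_of_isClosedImmersion_surjective rh).isOpenMap.image_mem_nhds h2
  have hcomm : ∀ a, rh (pullback.snd (pullback.snd f h) rh a) = pullback.snd f h (q a) := fun a =>
    (congrArg (fun n : pullback (pullback.snd f h) rh ⟶ Y' => n a) pullback.condition).symm
  rw [show rh.base (pullback.snd (pullback.snd f h) rh z') = (pullback.snd f h) z by rw [hcomm, hz']] at h3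
  refine Filter.mem_of_superset h3 ?_
  rintro _ ⟨_, ⟨a, ha, rfl⟩, rfl⟩
  exact ⟨q a, ha, (hcomm a).symm⟩

/-- EGA IV 15.2.3 (ii). -/
theorem exists_nhd_flat_isReduced [IsLocallyNoetherian Y] (f : X ⟶ Y) [LocallyOfFiniteType f] (x : X)
    (hy : _root_.IsReduced (Y.presheaf.stalk (f x)))
    (hred : FBase.IsGeomReducedAt (f.fiberToSpecResidueField (f x)) (f.asFiber x))
    (hopen : ∀ z, IsFibreGenericPt f x z → EGA43.IsUnivOpenAt f z) :
    ∃ U : X.Opens, x ∈ U ∧ Flat (U.ι ≫ f) ∧ IsReduced (U : Scheme.{u}) := by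
  haveI : LocallyOfFinitePresentation f := inferInstance
  obtain ⟨V, hyV, hV⟩ := GrothLib.GrpSchField.exists_isReduced_nhd (f x)
  let E : X.Opens := ⟨_, GrothLib.FibPd.isOpen_flat_geomReduced f⟩
  refine ⟨E ⊓ f ⁻¹ᵁ V, ⟨⟨flat_stalkMap_of_isUnivOpenAt_of_geomReducedAt f x hy hred hopen, hred⟩, hyV⟩,
    (Flat.iff_flat_stalkMap _).mpr fun a => (flat_stalkMap_comp_iff_left _ f a).mpr a.2.1.1, ?_⟩
  haveI : ∀ a : ↥(E ⊓ f ⁻¹ᵁ V), _root_.IsReduced (((E ⊓ f ⁻¹ᵁ V : X.Opens) : Scheme.{u}).presheaf.stalk a) := fun a => by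
    haveI := hV
    have hy' : _root_.IsReduced (Y.presheaf.stalk (f a.1)) := by
      haveI : _root_.IsReduced ((V : Scheme.{u}).presheaf.stalk ⟨f a.1, a.2.2⟩) := inferInstance
      exact isReduced_of_injective (V.ι.stalkMap ⟨f a.1, a.2.2⟩).hom (ConcreteCategory.bijective_of_isIso _).1
    exact @GrothLib.SecComp6.isReduced_stalk_of_openImmersion _ _ (E ⊓ f ⁻¹ᵁ V).ι _ a
      (isReduced_stalk_of_flat_of_geomReducedAt f a.1 hy' a.2.1.1 a.2.1.2)
  exact isReduced_of_isReduced_stalk _

/-- EGA IV 15.2.3 (i). -/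
theorem exists_nhd_universallyOpen [IsLocallyNoetherian Y] (f : X ⟶ Y) [LocallyOfFiniteType f] (x : X)
    (hred : FBase.IsGeomReducedAt (f.fiberToSpecResidueField (f x)) (f.asFiber x))
    (hopen : ∀ z, IsFibreGenericPt f x z → EGA43.IsUnivOpenAt f z) :
    ∃ U : X.Opens, x ∈ U ∧ UniversallyOpen (U.ι ≫ f) ∧
      ∀ x' : X, x' ∈ U → FBase.IsGeomReducedAt (f.fiberToSpecResidueField (f x')) (f.asFiber x') := by
  let I := Scheme.IdealSheafData.vanishingIdeal (X := Y) ⊤
  let r := I.subschemeι
  haveI : IsReduced I.subscheme := GrothLib.RedSub.isReduced_subscheme_vanishingIdeal ⊤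
  haveI : Surjective r := ⟨Set.range_eq_univ.mp (by
    rw [GrothLib.RedSub.range_subschemeι_vanishingIdeal]
    rfl)⟩
  haveI : LocallyOfFinitePresentation f := inferInstance
  let f' := pullback.snd f r
  let p := pullback.fst f r
  haveI : IsClosedImmersion p := MorphismProperty.pullback_fst f r inferInstance
  haveI : Surjective p := MorphismProperty.pullback_fst f r inferInstance
  haveI : LocallyOfFinitePresentation f' := MorphismProperty.pullback_snd f r inferInstance
  have hp := isHomeomorph_of_isClosedImmersion_surjective p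
  have hcond : ∀ a, r (f' a) = f (p a) := fun a =>
    (congrArg (fun n : pullback f r ⟶ Y => n a) pullback.condition).symm
  obtain ⟨x', rfl⟩ := p.surjective x
  let E : Set ↥(pullback f r) := {a | (f'.stalkMap a).hom.Flat ∧
    FBase.IsGeomReducedAt (f'.fiberToSpecResidueField (f' a)) (f'.asFiber a)}
  have hE : IsOpen E := GrothLib.FibPd.isOpen_flat_geomReduced f'
  have hx'E : x' ∈ E := by
    refine ⟨flat_stalkMap_of_isUnivOpenAt_of_geomReducedAt f' x' inferInstance
      (isGeomReducedAt_baseChange f r x' hred) fun z ⟨hzx, hfz, hzmax⟩ => ?_,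
      isGeomReducedAt_baseChange f r x' hred⟩
    refine GrothLib.OpenAt.univOpenAt_baseChange (hopen (p z) ⟨hzx.map p.continuous, ?_, fun w hw hfw => ?_⟩)
      (IsPullback.of_hasPullback f r) z rfl
    · rw [← hcond, ← hcond, hfz]
    · obtain ⟨w', rfl⟩ := p.surjective w
      rw [hzmax w' (p.isClosedEmbedding.isInducing.specializes_iff.mp hw)
        (r.isClosedEmbedding.injective (by rw [hcond, hfw, ← hcond]))]
  refine ⟨⟨p '' E, hp.isOpenMap E hE⟩, ⟨x', hx'E, rfl⟩,
    (GrothLib.UnivOpenAt6.universallyOpen_iff_forall_univOpenAt _).mpr fun u => ?_, ?_⟩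
  · refine isOpenAt_snd_of_openImmersion _ f u ?_
    obtain ⟨a, ha, hau⟩ := u.2
    show EGA43.IsUnivOpenAt f u.1
    rw [← hau]
    refine isUnivOpenAt_of_surjective_closedImmersion r f a ?_
    let O : (pullback f r).Opens := ⟨E, hE⟩
    haveI : Flat (O.ι ≫ f') :=
      (Flat.iff_flat_stalkMap _).mpr fun b => (flat_stalkMap_comp_iff_left O.ι f' b).mpr b.2.1
    haveI : UniversallyOpen (O.ι ≫ f') := inferInstance
    intro Y' g b hb
    let k : pullback (O.ι ≫ f') g ⟶ pullback f' g :=
      pullback.map (O.ι ≫ f') g f' g O.ι (𝟙 _) (𝟙 _) (by rw [Category.comp_id]) (by simp)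
    have hk₁ : k ≫ pullback.fst f' g = pullback.fst (O.ι ≫ f') g ≫ O.ι := pullback.lift_fst _ _ _
    have hk₂ : k ≫ pullback.snd f' g = pullback.snd (O.ι ≫ f') g :=
      (pullback.lift_snd _ _ _).trans (Category.comp_id _)
    obtain ⟨c', hc'⟩ : b ∈ Set.range k := by
      rw [Scheme.Pullback.range_map]
      exact ⟨by rw [Set.mem_preimage, hb, Scheme.Opens.range_ι]; exact ha, by simp⟩
    rw [← hc']
    intro U hU
    have h1 := (pullback.snd (O.ι ≫ f') g).isOpenMap.image_mem_nhds (k.continuous.continuousAt.preimage_mem_nhds hU)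
    rw [← hk₂] at h1
    refine Filter.mem_of_superset h1 ?_
    rintro _ ⟨d, hd, rfl⟩
    exact ⟨k d, hd, rfl⟩
  · rintro _ ⟨a, ha, rfl⟩
    exact isGeomReducedAt_of_baseChange f r a ha.2

end GrothLib.Chev28
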