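import Groth.Agent.Lib.BaseChange.Levels
import Groth.Agent.Lib.FBase7.SepClosedIn
import Groth.Agent.Lib.Weight.EtaleNbhd
import Mathlib.AlgebraicGeometry.Geometrically.Connected

/-!
Geometric connectedness of fibres through étale neighbourhoods.
-/

universe u

open CategoryTheory CategoryTheory.Limits AlgebraicGeometry

noncomputable section

namespace GrothLib.Chev28

variable {X S : Scheme.{u}}

/-- The factorization of a field valued point over a point. -/
theorem eq_residueFieldMap_comp {U : Scheme.{u}} (g : U ⟶ S) (u : U) (s : S) {Ω : CommRingCat.{u}}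
    (φ : S.residueField s ⟶ Ω) (ψ : U.residueField u ⟶ Ω) (hs : g u = s)
    (h : (Spec.map ψ ≫ U.fromSpecResidueField u) ≫ g = Spec.map φ ≫ S.fromSpecResidueField s) :
    φ = (S.residueFieldCongr hs).inv ≫ g.residueFieldMap u ≫ ψ := by
  subst hs
  rw [Category.assoc, ← Scheme.Hom.SpecMap_residueFieldMap_fromSpecResidueField, ← Category.assoc, cancel_mono,
    ← Spec.map_comp] at h
  rw [Scheme.residueFieldCongr_refl, Iso.refl_inv, Category.id_comp]
  exact (Spec.map_injective h).symm

/-- The fibre of a base change is connected if the fibre is geometrically connected. -/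
theorem connectedSpace_fiber_baseChange (f : X ⟶ S) (s : S) [GeometricallyConnected (f.fiberToSpecResidueField s)]
    {U : Scheme.{u}} (g : U ⟶ S) (u : U) (hs : g u = s) : ConnectedSpace ↑((pullback.snd f g).fiber u) := by
  subst hs
  let φ := g.residueFieldMap u
  have he : Spec.map φ ≫ S.fromSpecResidueField (g u) = U.fromSpecResidueField u ≫ g :=
    Scheme.Hom.SpecMap_residueFieldMap_fromSpecResidueField ..
  have : ConnectedSpace ↑(pullback (f.fiberToSpecResidueField (g u)) (Spec.map φ)) :=
    GeometricallyConnected.geometrically_connectedSpace (f := f.fiberToSpecResidueField (g u))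
      (K := U.residueField u) _ _ _ (IsPullback.of_hasPullback _ _)
  let e : pullback (f.fiberToSpecResidueField (g u)) (Spec.map φ) ≅ (pullback.snd f g).fiber u :=
    pullbackLeftPullbackSndIso f (S.fromSpecResidueField (g u)) (Spec.map φ) ≪≫
      pullback.congrHom rfl he ≪≫ (pullbackLeftPullbackSndIso f g (U.fromSpecResidueField u)).symm
  exact e.hom.homeomorph.surjective.connectedSpace e.hom.homeomorph.continuous

/-- A fibre is geometrically connected as soon as the fibres over points of étale neighbourhoods are connected. -/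
theorem geometricallyConnected_of_etale_nbhds (f : X ⟶ S) (s : S)
    (h : ∀ (U : Scheme.{u}) (g : U ⟶ S) (u : U), Etale g → g u = s → ConnectedSpace ↑((pullback.snd f g).fiber u)) :
    GeometricallyConnected (f.fiberToSpecResidueField s) := by
  let k : Type u := S.residueField s
  letI : (f.fiber s).Over (Spec (CommRingCat.of k)) := ⟨f.fiberToSpecResidueField s⟩
  refine GrothLib.FBase7.geometricallyConnected_of_sepClosure_connected k (f.fiber s) ?_
  refine GrothLib.BaseChange.connectedSpace_of_finite k (f.fiber s) _ fun E hE => ?_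
  haveI := hE
  let φ : S.residueField s ⟶ CommRingCat.of E := CommRingCat.ofHom (algebraMap k E)
  let b := Module.finBasis k E
  obtain ⟨U, g, hg, u, ψ, heq, hb⟩ := GrothLib.Weight.exists_etale_nbhd s φ (Set.range b) (Set.finite_range b) (by
    intro a _
    exact Algebra.IsSeparable.isSeparable k a)
  have hs : g u = s := by
    have h1 := congrArg (fun m : Spec (CommRingCat.of E) ⟶ S => m (IsLocalRing.closedPoint E)) heq
    simpa only [Scheme.Hom.comp_apply, Scheme.fromSpecResidueField_apply] using h1
  haveI := h U g u hg hs
  have hφ := eq_residueFieldMap_comp g u s φ ψ hs heq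
  have hk : ∀ c : k, algebraMap k E c ∈ Set.range ψ.hom := fun c =>
    ⟨_, (congrArg (fun m : S.residueField s ⟶ CommRingCat.of E => m.hom c) hφ).symm⟩
  haveI : IsIso ψ := by
    refine (ConcreteCategory.isIso_iff_bijective ψ).2 ⟨ψ.hom.injective, fun x => ?_⟩
    rw [← b.sum_repr x]
    suffices H : ∑ i, (b.repr x i) • b i ∈ ψ.hom.fieldRange from H
    refine sum_mem fun i _ => ?_
    rw [Algebra.smul_def]
    exact mul_mem (hk _) (hb ⟨i, rfl⟩)
  let e : (pullback.snd f g).fiber u ≅ pullback (f.fiberToSpecResidueField s) (Spec.map φ) :=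
    pullbackLeftPullbackSndIso f g (U.fromSpecResidueField u) ≪≫
      (asIso (pullback.map f (Spec.map ψ ≫ U.fromSpecResidueField u ≫ g) f (U.fromSpecResidueField u ≫ g)
        (𝟙 _) (Spec.map ψ) (𝟙 _) (by simp) (by simp))).symm ≪≫
      pullback.congrHom rfl ((Category.assoc _ _ _).symm.trans heq) ≪≫
      (pullbackLeftPullbackSndIso f (S.fromSpecResidueField s) (Spec.map φ)).symm
  exact e.hom.homeomorph.surjective.connectedSpace e.hom.homeomorph.continuous

end GrothLib.Chev28
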