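import Groth.Agent.Lib.Chev28.DimCat
import Groth.Agent.Lib.CurvePoints.Basic

/-!
Dimension of irreducible schemes over a base (EGA IV 5.5, 5.6).
-/

universe u

open CategoryTheory CategoryTheory.Limits AlgebraicGeometry TopologicalSpace Topology

noncomputable section

namespace GrothLib.Chev28

variable {X Y : Scheme.{u}}

theorem dim_eq_iSup_stalk (X : Scheme.{u}) :
    topologicalKrullDim (X : Type u) = ⨆ z : X, ringKrullDim (X.presheaf.stalk z) := by
  rw [← CurvePoints.krullDim_points_eq X]
  exact (Order.krullDim_eq_iSup_coheight (α := X)).trans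
    (iSup_congr fun z => (ringKrullDim_stalk_eq_coheight z).symm)

theorem dim_stalk_le_dim (x : X) : ringKrullDim (X.presheaf.stalk x) ≤ topologicalKrullDim (X : Type u) := by
  rw [dim_eq_iSup_stalk X]
  exact le_iSup (fun z : X => ringKrullDim (X.presheaf.stalk z)) x

theorem dim_le_add_of_fibre_le [IsLocallyNoetherian Y] (f : X ⟶ Y) [LocallyOfFiniteType f] (n : WithBot ℕ∞)
    (h : ∀ y : Y, topologicalKrullDim ↥(f.fiber y) ≤ n) :
    topologicalKrullDim (X : Type u) ≤ topologicalKrullDim (Y : Type u) + n := by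
  rw [dim_eq_iSup_stalk X]
  refine iSup_le fun x => (GrothLib.FibreDim5.dim_stalk_le_add f x).trans ?_
  exact add_le_add (dim_stalk_le_dim (f x)) ((dim_stalk_le_dim (f.asFiber x)).trans (h (f x)))

/-- The dimension formula on an irreducible scheme dominant over an irreducible base. -/
theorem dim_stalk_irreducible [IsLocallyNoetherian Y] (f : X ⟶ Y) [LocallyOfFiniteType f] [IrreducibleSpace X]
    [IrreducibleSpace Y] (hη : f (genericPoint X) = genericPoint Y) :
    ∃ t : ℕ, Dual3.resTrdeg f (genericPoint X) = t ∧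
      topologicalKrullDim ↥(f.fiber (genericPoint Y)) = (t : WithBot ℕ∞) ∧
      FlatMor.fibreDimAt f (genericPoint X) = (t : WithBot ℕ∞) ∧
      ∀ x : X, ∃ a c s : ℕ, ringKrullDim (X.presheaf.stalk x) = a ∧ ringKrullDim (Y.presheaf.stalk (f x)) = c ∧
        Dual3.resTrdeg f x = s ∧ a + s ≤ c + t ∧
        (CAlg.IsUniversallyCatenary (Y.presheaf.stalk (f x)) → a + s = c + t) := by
  haveI := LocallyOfFiniteType.isLocallyNoetherian f
  obtain ⟨t, ht, hfd⟩ := GrothLib.Equidim6.resTrdeg_eq_fibreDimAt_of_maximal f (genericPoint X)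
    fun z hz => (hz.antisymm (genericPoint_specializes z)).eq
  refine ⟨t, ht, ?_, hfd, fun x => ?_⟩
  · obtain ⟨n, hn, hd⟩ := GrothLib.Altitude.exists_trdeg_eq_dim_closure f (genericPoint X)
    obtain rfl : n = t := by exact_mod_cast (hn.symm.trans ht :)
    rw [← hη, ← hd]
    symm
    refine IsHomeomorph.topologicalKrullDim_eq Subtype.val ⟨continuous_subtype_val, ?_, ?_⟩
    · have huniv : closure ({f.asFiber (genericPoint X)} : Set (f.fiber (f (genericPoint X)))) = Set.univ :=
        Set.eq_univ_of_forall fun w => specializes_iff_mem_closure.mp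
          ((f.fiberι _).isEmbedding.isInducing.specializes_iff.mp
            (by rw [f.fiberι_asFiber]; exact genericPoint_specializes _))
      intro U hU
      obtain ⟨V, hV, rfl⟩ := isOpen_induced_iff.mp hU
      rw [show Subtype.val '' (Subtype.val ⁻¹' V) = V from Set.image_preimage_eq_of_subset
        (by rw [Subtype.range_coe, huniv]; exact Set.subset_univ V)]
      exact hV
    · refine ⟨Subtype.val_injective, fun w => ?_⟩
      exact ⟨⟨w, specializes_iff_mem_closure.mp ((f.fiberι _).isEmbedding.isInducing.specializes_iff.mp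
        (by rw [f.fiberι_asFiber]; exact genericPoint_specializes _))⟩, rfl⟩
  · obtain ⟨ξ, hξ, hmax, hd⟩ := exists_component_dim_stalk x
    obtain rfl : genericPoint X = ξ := hmax _ (genericPoint_specializes ξ)
    obtain ⟨t', s, a, b, ht', hs, ha, hb, hle, heq⟩ := GrothLib.Altitude.dim_locQuot_add_trdeg f hξ
    have htt : t' = t := by exact_mod_cast (ht'.symm.trans ht :)
    subst htt
    obtain ⟨η, hη', hηmax, hd'⟩ := exists_component_dim_stalk (f x)
    obtain rfl : f (genericPoint X) = η := hηmax _ (hη ▸ genericPoint_specializes η)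
    exact ⟨a, b, s, hd.symm.trans ha, hd'.symm.trans hb, hs, hle, heq⟩

/-- A nonempty fibre has a point which is closed in it. -/
theorem exists_closed_in_fibre (f : X ⟶ Y) [LocallyOfFiniteType f] {y : Y} (hy : y ∈ Set.range f) :
    ∃ x : X, f x = y ∧ Dual3.resTrdeg f x = (0 : ℕ) := by
  obtain ⟨x₀, rfl⟩ := hy
  haveI : LocallyOfFiniteType (f.fiberToSpecResidueField (f x₀)) := MorphismProperty.pullback_snd f _ inferInstance
  haveI : JacobsonSpace ↥(f.fiber (f x₀)) := LocallyOfFiniteType.jacobsonSpace (f.fiberToSpecResidueField (f x₀))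
  obtain ⟨w, -, hw⟩ := nonempty_inter_closedPoints (X := ↥(f.fiber (f x₀))) (Z := Set.univ) ⟨f.asFiber x₀, trivial⟩
    isOpen_univ.isLocallyClosed
  have h1 : IsClosed (Subtype.val ⁻¹' ({f.fiberι _ w} : Set X) : Set (f ⁻¹' {f x₀})) := by
    have h3 := (f.fiberHomeo (f x₀)).isClosedMap _ (hw : IsClosed ({w} : Set (f.fiber (f x₀))))
    rw [Set.image_singleton] at h3
    convert h3 using 1
    ext a
    constructor
    · intro ha
      exact (f.fiberHomeo (f x₀)).symm.injective ((f.fiberι (f x₀)).isEmbedding.injective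
        (((f.fiberι_fiberHomeo_symm (f x₀) a).trans (ha : a.1 = _)).trans
          (congrArg (f.fiberι (f x₀)) ((f.fiberHomeo (f x₀)).symm_apply_apply w)).symm))
    · rintro rfl
      show ((f.fiberHomeo (f x₀)) w).1 = f.fiberι (f x₀) w
      rw [← f.fiberι_fiberHomeo_symm, Homeomorph.symm_apply_apply]
  have key : ∀ (x : X) (y : Y), f x = y → IsClosed (Subtype.val ⁻¹' ({x} : Set X) : Set (f ⁻¹' {y})) →
      Dual3.resTrdeg f x = (0 : ℕ) := by
    intro x y hxy h1
    subst hxy
    obtain ⟨n, hn, hd⟩ := GrothLib.Altitude.exists_trdeg_eq_dim_closure f x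
    have hc : IsClosed ({f.asFiber x} : Set (f.fiber (f x))) := by
      have h4 := h1.preimage (f.fiberHomeo (f x)).continuous
      convert h4 using 1
      ext a
      constructor
      · intro ha
        rw [Set.mem_singleton_iff] at ha
        subst ha
        show ((f.fiberHomeo (f x)) (f.asFiber x)).1 = x
        rw [← f.fiberι_fiberHomeo_symm, Homeomorph.symm_apply_apply, f.fiberι_asFiber]
      · intro ha
        apply (f.fiberι _).isEmbedding.injective
        rw [f.fiberι_asFiber, ← Homeomorph.symm_apply_apply (f.fiberHomeo (f x)) a, f.fiberι_fiberHomeo_symm]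
        exact ha
    rw [hc.closure_eq] at hd
    have h0 : topologicalKrullDim ↥({f.asFiber x} : Set (f.fiber (f x))) ≤ 0 :=
      topologicalKrullDim_zero_of_discreteTopology _
    rw [hd] at h0
    rw [show (0 : ℕ) = n from (Nat.le_zero.mp (by exact_mod_cast h0)).symm]
    exact hn
  have heq : f (f.fiberι (f x₀) w) = f x₀ := (f.range_fiberι _).le ⟨w, rfl⟩
  exact ⟨f.fiberι _ w, heq, key _ _ heq h1⟩

theorem dim_le_add_generic [IsLocallyNoetherian Y] (f : X ⟶ Y) [LocallyOfFiniteType f] [IrreducibleSpace X]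
    [IrreducibleSpace Y] (hf : DenseRange f) :
    topologicalKrullDim (X : Type u) ≤ topologicalKrullDim (Y : Type u) + topologicalKrullDim ↥(f.fiber (genericPoint Y)) ∧
      ((∀ y : Y, CAlg.IsUniversallyCatenary (Y.presheaf.stalk y)) →
        topologicalKrullDim (X : Type u) =
          (⨆ y ∈ Set.range f, ringKrullDim (Y.presheaf.stalk y)) + topologicalKrullDim ↥(f.fiber (genericPoint Y))) := by
  have hη : f (genericPoint X) = genericPoint Y := by
    have h := ((genericPoint_spec (X : Type u)).image f.continuous)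
    rw [Set.image_univ, hf.closure_range] at h
    exact h.eq (genericPoint_spec Y)
  obtain ⟨t, -, htd, -, hx⟩ := dim_stalk_irreducible f hη
  rw [htd, dim_eq_iSup_stalk X]
  refine ⟨iSup_le fun x => ?_, fun hcat => le_antisymm (iSup_le fun x => ?_) ?_⟩
  · obtain ⟨a, c, s, ha, hc, -, hle, -⟩ := hx x
    refine le_trans ?_ (add_le_add (dim_stalk_le_dim (f x)) le_rfl)
    rw [ha, hc]
    exact_mod_cast (show a ≤ c + t by omega)
  · obtain ⟨a, c, s, ha, hc, -, hle, -⟩ := hx x
    refine le_trans ?_ (add_le_add (le_iSup₂_of_le (f x) ⟨x, rfl⟩ le_rfl) le_rfl)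
    rw [ha, hc]
    exact_mod_cast (show a ≤ c + t by omega)
  · rw [add_comm]
    refine GrothLib.AffDom.add_iSup_le t fun y => ?_
    rw [add_comm]
    by_cases hy : y ∈ Set.range f
    · simp only [hy, iSup_pos]
      obtain ⟨x, rfl, hs⟩ := exists_closed_in_fibre f hy
      obtain ⟨a, c, s, ha, hc, hs', -, heq⟩ := hx x
      have hs0 : s = 0 := by exact_mod_cast (hs'.symm.trans hs :)
      have hac := heq (hcat _)
      refine le_trans ?_ (le_iSup (fun z : X => ringKrullDim (X.presheaf.stalk z)) x)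
      rw [ha, hc]
      exact_mod_cast (show c + t ≤ a by omega)
    · simp [hy]

theorem add_le_dim_of_fibre_ge [IsLocallyNoetherian Y] (f : X ⟶ Y) [LocallyOfFiniteType f] [IrreducibleSpace X]
    (hcat : ∀ y : Y, CAlg.IsUniversallyCatenary (Y.presheaf.stalk y)) (n : ℕ)
    (h : ∀ y : Y, (n : WithBot ℕ∞) ≤ topologicalKrullDim ↥(f.fiber y)) :
    topologicalKrullDim (Y : Type u) + n ≤ topologicalKrullDim (X : Type u) := by
  have hsurj : Function.Surjective f := fun y => by
    obtain ⟨w⟩ := nonempty_of_nonneg_dim (A := ↥(f.fiber y)) ((by exact_mod_cast Nat.zero_le n :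
      (0 : WithBot ℕ∞) ≤ n).trans (h y))
    exact ⟨_, (f.range_fiberι y).le ⟨w, rfl⟩⟩
  haveI : IrreducibleSpace Y := Function.Surjective.irreducibleSpace f.continuous hsurj
  obtain ⟨-, heq⟩ := dim_le_add_generic f hsurj.denseRange
  rw [heq hcat, dim_eq_iSup_stalk Y]
  refine add_le_add (iSup_le fun y => ?_) (h _)
  exact le_iSup₂_of_le y (hsurj.range_eq ▸ Set.mem_univ y) le_rfl

theorem dim_component_fibre_of_dim_one [IsLocallyNoetherian Y] (f : X ⟶ Y) [LocallyOfFiniteType f]
    [IrreducibleSpace X] [IrreducibleSpace Y] (hY : topologicalKrullDim (Y : Type u) ≤ 1) (hf : DenseRange f)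
    (y : Y) (Z : Set ↥(f.fiber y)) (hZ : Z ∈ irreducibleComponents ↥(f.fiber y)) :
    topologicalKrullDim ↥Z = topologicalKrullDim ↥(f.fiber (genericPoint Y)) := by
  have hη : f (genericPoint X) = genericPoint Y := by
    have h := ((genericPoint_spec (X : Type u)).image f.continuous)
    rw [Set.image_univ, hf.closure_range] at h
    exact h.eq (genericPoint_spec Y)
  obtain ⟨t, htr, htd, hft, hx⟩ := dim_stalk_irreducible f hη
  rw [htd]
  obtain ⟨w, rfl⟩ : ∃ w : f.fiber y, closure {w} = Z :=
    ⟨_, (hZ.1.isGenericPoint_genericPoint (isClosed_of_mem_irreducibleComponents _ hZ)).def⟩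
  have hmax := maximal_of_closure_mem hZ
  obtain ⟨z, hz⟩ : ∃ z, f.fiberι y w = z := ⟨_, rfl⟩
  have hfz : f z = y := hz ▸ (f.range_fiberι y).le ⟨w, rfl⟩
  subst hfz
  obtain rfl : w = f.asFiber z := (f.fiberι _).isEmbedding.injective (hz.trans (f.fiberι_asFiber z).symm)
  have hmaxz : ∀ v, f v = f z → v ⤳ z → v = z := fun v hv hs => by
    obtain ⟨v', rfl⟩ := (f.range_fiberι (f z)).ge (show v ∈ f ⁻¹' {f z} from hv)
    rw [hmax v' ((f.fiberι _).isEmbedding.isInducing.specializes_iff.mp (by rwa [f.fiberι_asFiber]))]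
    exact f.fiberι_asFiber z
  obtain ⟨n, hn, hd⟩ := GrothLib.Altitude.exists_trdeg_eq_dim_closure f z
  obtain ⟨n', hn', hfd⟩ := GrothLib.Equidim6.fibreDimAt_eq_resTrdeg f z hmaxz
  have hnn : n' = n := by exact_mod_cast (hn'.symm.trans hn :)
  refine hd.trans ?_
  have htn : t ≤ n := by
    have h1 := GrothLib.Equidim6.generic_le_fibreDimAt f z
    rw [hft, hfd, hnn] at h1
    exact_mod_cast h1
  suffices hnt : n ≤ t by rw [le_antisymm hnt htn]
  rcases eq_or_ne z (genericPoint X) with rfl | hne
  · exact (show n = t by exact_mod_cast (hn.symm.trans htr :)).le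
  · obtain ⟨a, c, s, ha, hc, hs, hle, -⟩ := hx z
    have hsn : s = n := by exact_mod_cast (hs.symm.trans hn :)
    have hc1 : c ≤ 1 := by
      have := (dim_stalk_le_dim (f z)).trans hY
      rw [hc] at this
      exact_mod_cast this
    have ha1 : 1 ≤ a := by
      haveI := LocallyOfFiniteType.isLocallyNoetherian f
      obtain ⟨b, hb⟩ : ∃ b : ℕ, ringKrullDim (Cyc.LocQuot z (genericPoint X) (genericPoint_specializes z)) = b := by
        obtain ⟨-, -, b, -, -, -, hb, -⟩ := GrothLib.Altitude.dim_locQuot_add_trdeg f (genericPoint_specializes z)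
        exact ⟨b, hb⟩
      have h1 : (1 : ℕ∞) ≤ Order.coheight z := by
        refine Order.one_le_iff_pos.mpr (Order.coheight_pos.mpr fun hmx => hne ?_)
        have hg : genericPoint (X : Type u) ≤ z := hmx (Scheme.le_iff_specializes.mpr (genericPoint_specializes z))
        exact ((Scheme.le_iff_specializes.mp hg).antisymm (genericPoint_specializes z)).eq
      have h2 : ((1 : ℕ∞) : WithBot ℕ∞) ≤ ringKrullDim (X.presheaf.stalk z) := by
        rw [ringKrullDim_stalk_eq_coheight]
        exact WithBot.coe_le_coe.mpr h1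
      rw [ha] at h2
      exact_mod_cast h2
    omega

end GrothLib.Chev28
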