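import Groth.Agent.Lib.Chev28.Codim
import Groth.Agent.Lib.CMMor6.Chart
import Groth.Agent.Lib.QuasiSec.Main
import Groth.Agent.Lib.PicAff26.Chart

/-!
Equidimensional morphisms and quasi-finite morphisms to affine spaces (EGA IV 13.3.1).
-/

universe u

open CategoryTheory CategoryTheory.Limits AlgebraicGeometry TopologicalSpace Topology
open MvPolynomial

noncomputable section

namespace GrothLib.Chev28

variable {X Y : Scheme.{u}}

/-- A point of affine space over a maximal point of the base, of maximal transcendence degree, is maximal. -/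
theorem maximal_affineSpace (e : ℕ) (p : 𝔸(ULift.{u} (Fin e); Y))
    (hη : ∀ y', y' ⤳ (𝔸(ULift.{u} (Fin e); Y) ↘ Y) p → y' = (𝔸(ULift.{u} (Fin e); Y) ↘ Y) p)
    (hp : Dual3.resTrdeg (𝔸(ULift.{u} (Fin e); Y) ↘ Y) p = e) : ∀ q, q ⤳ p → q = p := by
  obtain ⟨k, t, ht, hkt, -, ζ, -, -, hζmax, hk0, -⟩ := exists_fibre_series (𝔸(ULift.{u} (Fin e); Y) ↘ Y) p
  rw [GrothLib.CMMor6.fibreDimAt_affineSpace] at hkt
  have h1 : e = k + t := by exact_mod_cast hkt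
  have h2 : t = e := Nat.cast_injective (ht.symm.trans hp)
  have h3 := hk0 (by omega)
  subst h3
  exact fun q hq => hζmax q (hη _ (hq.map (𝔸(ULift.{u} (Fin e); Y) ↘ Y).continuous)) hq

theorem exists_toAffineSpace (f : X ⟶ Y) [LocallyOfFiniteType f] (x : X) (hf : EGA43.IsEquidimAt f x) :
    ∃ (e : ℕ) (U : X.Opens) (g : (U : Scheme.{u}) ⟶ 𝔸(ULift.{u} (Fin e); Y)),
      x ∈ U ∧ g ≫ (𝔸(ULift.{u} (Fin e); Y) ↘ Y) = U.ι ≫ f ∧ LocallyQuasiFinite g ∧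
      ∀ Z ∈ irreducibleComponents (↥U : Type u),
        closure (g.base '' Z) ∈ irreducibleComponents (↥𝔸(ULift.{u} (Fin e); Y) : Type u) := by
  obtain ⟨e, U₀, hxU₀, hdom, hdim⟩ := hf
  have hfd : ∀ z ∈ U₀, FlatMor.fibreDimAt f z = (e : WithBot ℕ∞) := fun z hz => by
    haveI : LocallyOfFiniteType ((U₀.ι ≫ f).fiberToSpecResidueField ((U₀.ι ≫ f) ⟨z, hz⟩)) :=
      MorphismProperty.pullback_snd (U₀.ι ≫ f) _ inferInstance
    exact (GrothLib.CMMor6.fibreDimAt_comp_flat_lqf U₀.ι f ⟨z, hz⟩).symm.trans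
      ((GrothLib.Equidim6.equidim_iff (K := Y.residueField ((U₀.ι ≫ f) ⟨z, hz⟩))
        ((U₀.ι ≫ f).fiberToSpecResidueField _) e).1 (hdim ⟨z, hz⟩) ((U₀.ι ≫ f).asFiber ⟨z, hz⟩))
  have hcomp : ∀ ξ ∈ U₀, (∀ z, z ⤳ ξ → z = ξ) →
      (∀ y', y' ⤳ f ξ → y' = f ξ) ∧ Dual3.resTrdeg f ξ = e := by
    intro ξ hξU hmax
    obtain ⟨k, hk, hk'⟩ := GrothLib.Equidim6.resTrdeg_eq_fibreDimAt_of_maximal f ξ hmax
    refine ⟨?_, by rw [hk, show k = e by exact_mod_cast hk'.symm.trans (hfd ξ hξU)]⟩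
    obtain ⟨W, hW, -, hWc⟩ := hdom (closure {(⟨ξ, hξU⟩ : (U₀ : Scheme.{u}))})
      (GrothLib.Equidim6.closure_mem_components (X := (U₀ : Scheme.{u}))
        fun z hz => Subtype.ext (hmax z.1 (hz.map U₀.ι.continuous)))
    have hWc' : closure ({f ξ} : Set Y) = W :=
      ((closure_image_closure_singleton (U₀.ι ≫ f).continuous (⟨ξ, hξU⟩ : (U₀ : Scheme.{u}))).symm.trans hWc :)
    exact maximal_of_closure_mem (hWc' ▸ hW)
  obtain ⟨V, hV, hxV, -⟩ := exists_isAffineOpen_mem_and_subset (x := f x) (U := ⊤) trivial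
  obtain ⟨U₁, hU₁, hxU₁, hU₁₀⟩ := exists_isAffineOpen_mem_and_subset (x := x) (U := U₀ ⊓ f ⁻¹ᵁ V) ⟨hxU₀, hxV⟩
  have hUV : U₁ ≤ f ⁻¹ᵁ V := hU₁₀.trans inf_le_right
  let A : Type u := Γ(Y, V)
  let B : Type u := Γ(X, U₁)
  letI : Algebra A B := (f.appLE V U₁ hUV).hom.toAlgebra
  haveI : Algebra.FiniteType A B := f.finiteType_appLE hV hU₁ hUV
  obtain ⟨b, hb⟩ := exists_cut_le f hV hU₁ hUV x hxU₁ e (fun z hz => (hfd z (hU₁₀ hz).1).le) rfl
  let S := MvPolynomial (Fin e) A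
  letI : Algebra S B := (aeval b).toRingHom.toAlgebra
  haveI : IsScalarTower A S B := IsScalarTower.of_algebraMap_eq fun r => ((aeval b).commutes r).symm
  haveI : Algebra.FiniteType S B := Algebra.FiniteType.of_restrictScalars_finiteType A S B
  haveI := hb
  let π := 𝔸(ULift.{u} (Fin e); Y) ↘ Y
  let G : Spec (CommRingCat.of B) ⟶ 𝔸(ULift.{u} (Fin e); Y) :=
    Spec.map (CommRingCat.ofHom (algebraMap S B)) ≫ GrothLib.CMMor6.chart hV e
  haveI : LocallyOfFiniteType (Spec.map (CommRingCat.ofHom (algebraMap S B))) :=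
    (HasRingHomProperty.Spec_iff (P := @LocallyOfFiniteType)).mpr (RingHom.finiteType_algebraMap.mpr inferInstance)
  haveI : LocallyOfFiniteType G := inferInstanceAs (LocallyOfFiniteType (_ ≫ _))
  have hGqf : G.QuasiFiniteAt (hU₁.primeIdealOf ⟨x, hxU₁⟩) :=
    GrothLib.QuasiSec.quasiFiniteAt_of_algebra (GrothLib.CMMor6.chart hV e) (hU₁.primeIdealOf ⟨x, hxU₁⟩)
  have hGπ : G ≫ π = hU₁.fromSpec ≫ f := by
    rw [show G ≫ π = Spec.map (CommRingCat.ofHom (algebraMap S B)) ≫ GrothLib.CMMor6.chart hV e ≫ π from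
        Category.assoc _ _ _, GrothLib.CMMor6.chart_over, ← Spec.map_comp_assoc, ← CommRingCat.ofHom_comp,
      ← hV.SpecMap_appLE_fromSpec f hU₁ hUV]
    congr 2
    exact CommRingCat.hom_ext (RingHom.ext fun r => aeval_C b r)
  let G' : (U₁ : Scheme.{u}) ⟶ 𝔸(ULift.{u} (Fin e); Y) := hU₁.isoSpec.hom ≫ G
  haveI : LocallyOfFiniteType G' := inferInstanceAs (LocallyOfFiniteType (_ ≫ _))
  let W : (U₁ : Scheme.{u}).Opens := G'.quasiFiniteLocus
  have hlqf : LocallyQuasiFinite (W.ι ≫ G') := by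
    rw [← Scheme.Hom.quasiFiniteLocus_eq_top_iff, Scheme.Hom.quasiFiniteLocus_comp]
    ext w
    simp only [TopologicalSpace.Opens.coe_top, Set.mem_univ, iff_true]
    exact w.2
  have hxW : (⟨x, hxU₁⟩ : (U₁ : Scheme.{u})) ∈ W := by
    show (⟨x, hxU₁⟩ : (U₁ : Scheme.{u})) ∈ G'.quasiFiniteLocus
    rw [Scheme.Hom.quasiFiniteLocus_comp]
    exact hGqf
  let j := W.ι ≫ U₁.ι
  let U : X.Opens := j.opensRange
  let g : (U : Scheme.{u}) ⟶ 𝔸(ULift.{u} (Fin e); Y) := j.isoOpensRange.inv ≫ W.ι ≫ G'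
  haveI : LocallyQuasiFinite g := by
    haveI := hlqf
    exact inferInstanceAs (LocallyQuasiFinite (j.isoOpensRange.inv ≫ (W.ι ≫ G')))
  haveI : LocallyOfFiniteType g := inferInstanceAs (LocallyOfFiniteType (_ ≫ _))
  have hgπ : g ≫ π = U.ι ≫ f := by
    simp only [g, G', Category.assoc, hGπ, IsAffineOpen.isoSpec_hom_fromSpec_assoc]
    rw [← Category.assoc W.ι, ← Category.assoc j.isoOpensRange.inv, Scheme.Hom.isoOpensRange_inv_comp]
  refine ⟨e, U, g, ⟨⟨⟨x, hxU₁⟩, hxW⟩, rfl⟩, hgπ, inferInstance, fun Z hZ => ?_⟩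
  haveI : QuasiSober ↥U := U.2.isOpenEmbedding_subtypeVal.quasiSober
  obtain ⟨v, rfl⟩ : ∃ v : (U : Scheme.{u}), closure {v} = Z :=
    ⟨_, (hZ.1.isGenericPoint_genericPoint (isClosed_of_mem_irreducibleComponents _ hZ)).def⟩
  have hvmax : ∀ z, z ⤳ U.ι v → z = U.ι v := fun z hz => by
    obtain ⟨z', rfl⟩ : z ∈ Set.range U.ι := U.range_ι.ge (hz.mem_open U.2 v.2)
    exact congrArg U.ι (maximal_of_closure_mem hZ z' (U.ι.isEmbedding.isInducing.specializes_iff.mp hz))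
  have hv₀ : U.ι v ∈ U₀ := by
    obtain ⟨w, hw⟩ := v.2
    have : j w ∈ U₀ := (hU₁₀ (W.ι w).2).1
    rwa [hw] at this
  obtain ⟨hη, hn⟩ := hcomp _ hv₀ hvmax
  have hgv : π (g v) = f (U.ι v) := by rw [← Scheme.Hom.comp_apply, hgπ, Scheme.Hom.comp_apply]
  rw [closure_image_closure_singleton g.continuous]
  refine GrothLib.Equidim6.closure_mem_components (maximal_affineSpace e (g v) (hgv.symm ▸ hη) ?_)
  have h1 : Dual3.resTrdeg (g ≫ π) v = Dual3.resTrdeg (U.ι ≫ f) v := by rw [hgπ]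
  rw [GrothLib.AlgSp.resTrdeg_comp g π, GrothLib.AlgSp.resTrdeg_comp U.ι f, GrothLib.AlgSp.resTrdeg_eq_zero_of_lqf g,
    GrothLib.AlgSp.resTrdeg_eq_zero_of_lqf U.ι, add_zero, add_zero, hn] at h1
  exact h1

theorem isEquidimAt_of_toAffineSpace [IsLocallyNoetherian Y] (f : X ⟶ Y) [LocallyOfFiniteType f] (x : X)
    (e : ℕ) (U : X.Opens) (g : (U : Scheme.{u}) ⟶ 𝔸(ULift.{u} (Fin e); Y)) [LocallyQuasiFinite g]
    (hx : x ∈ U) (hgπ : g ≫ (𝔸(ULift.{u} (Fin e); Y) ↘ Y) = U.ι ≫ f)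
    (hdom : ∀ Z ∈ irreducibleComponents (↥U : Type u),
      closure (g.base '' Z) ∈ irreducibleComponents (↥𝔸(ULift.{u} (Fin e); Y) : Type u)) :
    EGA43.IsEquidimAt f x := by
  let π := 𝔸(ULift.{u} (Fin e); Y) ↘ Y
  haveI : Flat π := GrothLib.PicAff26.flat_affineSpace
  haveI : LocallyOfFiniteType (g ≫ π) := by rw [hgπ]; infer_instance
  haveI : LocallyOfFiniteType g := locallyOfFiniteType_of_comp g π
  have hdim : FlatMor.fibreDimAt f x ≤ (e : WithBot ℕ∞) := by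
    refine (GrothLib.CMMor6.fibreDimAt_comp_flat_lqf U.ι f ⟨x, hx⟩).symm.le.trans ?_
    rw [← hgπ]
    refine (GrothLib.Equidim6.fibreDimAt_comp_le g π ⟨x, hx⟩).1.trans ?_
    rw [GrothLib.CMMor6.fibreDimAt_affineSpace]
    refine le_trans (add_le_add ((GrothLib.AlgSp.lqf_iff_fibreDimAt g).1 inferInstance _) le_rfl) ?_
    rw [zero_add]
  refine isEquidimAt_of_components f x e hdim fun ξ hξ hmax => ?_
  have hξU : ξ ∈ U := hξ.mem_open U.2 hx
  let v : (U : Scheme.{u}) := ⟨ξ, hξU⟩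
  have hvmax : ∀ z, z ⤳ v → z = v := fun z hz => Subtype.ext (hmax z.1 (hz.map U.ι.continuous))
  have hp := hdom (closure {v}) (GrothLib.Equidim6.closure_mem_components (X := (U : Scheme.{u})) hvmax)
  have hp' : ∀ q, q ⤳ g v → q = g v :=
    maximal_of_closure_mem ((closure_image_closure_singleton g.continuous v) ▸ hp)
  have hgv : π (g v) = f ξ := by
    rw [← Scheme.Hom.comp_apply, hgπ, Scheme.Hom.comp_apply]
    rfl
  refine ⟨fun y' hy' => ?_, ?_⟩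
  · obtain ⟨q, hq, rfl⟩ := (Flat.generalizingMap π) (hgv.symm ▸ hy' : y' ⤳ π (g v))
    rw [hp' q hq, hgv]
  · obtain ⟨k, hk, hk'⟩ := GrothLib.Equidim6.resTrdeg_eq_fibreDimAt_of_maximal π (g v) hp'
    rw [GrothLib.CMMor6.fibreDimAt_affineSpace] at hk'
    have h1 : Dual3.resTrdeg (g ≫ π) v = Dual3.resTrdeg (U.ι ≫ f) v := by rw [hgπ]
    rw [GrothLib.AlgSp.resTrdeg_comp g π, GrothLib.AlgSp.resTrdeg_comp U.ι f, GrothLib.AlgSp.resTrdeg_eq_zero_of_lqf g,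
      GrothLib.AlgSp.resTrdeg_eq_zero_of_lqf U.ι, add_zero, add_zero] at h1
    rw [show ξ = U.ι v from rfl, ← h1, hk, show k = e by exact_mod_cast hk'.symm]

end GrothLib.Chev28
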