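import Groth.Agent.Lib.Chev28.Scheme
import Groth.Agent.Lib.Equidim6.CondT
import Groth.Agent.Lib.FunFlat6.FlatDimLimit

/-!
Equidimensional morphisms over geometrically unibranch bases are universally open.
-/

universe u

open CategoryTheory CategoryTheory.Limits AlgebraicGeometry TopologicalSpace Topology

noncomputable section

namespace GrothLib.Chev28

variable {X Y : Scheme.{u}}

theorem maximal_of_closure_mem {y : Y} (h : closure ({y} : Set Y) ∈ irreducibleComponents (Y : Type u))
    (y' : Y) (hy' : y' ⤳ y) : y' = y := by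
  have hsub : closure ({y} : Set Y) ⊆ closure {y'} := specializes_iff_closure_subset.mp hy'
  have : closure ({y'} : Set Y) = closure {y} :=
    Set.Subset.antisymm (h.2 isIrreducible_singleton.closure hsub) hsub
  exact (show IsGenericPoint y' (closure {y}) from this).eq isGenericPoint_closure

theorem closure_image_closure_singleton {f : X → Y} (hf : Continuous f) (ξ : X) :
    closure (f '' closure {ξ}) = closure {f ξ} := by
  rw [_root_.closure_image_closure hf, Set.image_singleton]

/-- An equidimensional morphism is universally open over geometrically unibranch points. -/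
theorem isUnivOpenAt_of_isEquidimAt [IsLocallyNoetherian Y] (f : X ⟶ Y) [LocallyOfFiniteType f] (x : X)
    (hy : CAlg2.IsGeomUnibranch (Y.presheaf.stalk (f x))) (hf : EGA43.IsEquidimAt f x) :
    EGA43.IsUnivOpenAt f x := by
  obtain ⟨e, U, hxU, hdom, hdim⟩ := hf
  let g := U.ι ≫ f
  have hfd : ∀ u, FlatMor.fibreDimAt g u = (e : WithBot ℕ∞) := fun u =>
    haveI : LocallyOfFiniteType (g.fiberToSpecResidueField (g u)) :=
      MorphismProperty.pullback_snd g _ inferInstance
    (GrothLib.Equidim6.equidim_iff (K := Y.residueField (g u)) (g.fiberToSpecResidueField (g u)) e).1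
      (hdim u) (g.asFiber u)
  obtain ⟨Z₀, hZ₀, hxZ⟩ := exists_mem_irreducibleComponents_subset_of_isIrreducible
    ({⟨x, hxU⟩} : Set (U : Scheme.{u})) isIrreducible_singleton
  let C : Closeds (U : Scheme.{u}) := ⟨Z₀, isClosed_of_mem_irreducibleComponents _ hZ₀⟩
  let ι := (Scheme.IdealSheafData.vanishingIdeal C).subschemeι
  have hrange : Set.range ι = Z₀ := GrothLib.RedSub.range_subschemeι_vanishingIdeal C
  haveI : IrreducibleSpace (Scheme.IdealSheafData.vanishingIdeal C).subscheme :=
    (GrothLib.GeomComp6.isIrreducible_range_iff ι ι.isEmbedding).mp (hrange.symm ▸ hZ₀.1)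
  haveI : IsReduced (Scheme.IdealSheafData.vanishingIdeal C).subscheme :=
    GrothLib.RedSub.isReduced_subscheme_vanishingIdeal C
  haveI : IsIntegral (Scheme.IdealSheafData.vanishingIdeal C).subscheme :=
    isIntegral_of_irreducibleSpace_of_isReduced _
  set η := genericPoint (Scheme.IdealSheafData.vanishingIdeal C).subscheme
  have hηZ : closure {ι η} = Z₀ := by
    have h1 := (genericPoint_spec (Scheme.IdealSheafData.vanishingIdeal C).subscheme).image ι.continuous
    rw [Set.image_univ, hrange, (isClosed_of_mem_irreducibleComponents _ hZ₀).closure_eq] at h1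
    exact h1
  have hmax : ∀ z, z ⤳ ι η → z = ι η := fun z hz =>
    maximal_of_closure_mem (hηZ ▸ hZ₀) z hz
  obtain ⟨w, hw⟩ := hrange.ge (hxZ rfl)
  have hηY : ∀ y', y' ⤳ (ι ≫ g) η → y' = (ι ≫ g) η := by
    obtain ⟨W, hW, -, hWc⟩ := hdom _ hZ₀
    refine fun y' hy' => maximal_of_closure_mem ?_ y' hy'
    rw [Scheme.Hom.comp_apply, ← closure_image_closure_singleton g.continuous, hηZ]
    exact hWc ▸ hW
  have hn : Dual3.resTrdeg (ι ≫ g) η = e := by
    rw [GrothLib.FunFlat6.resTrdeg_closedImmersion ι g η]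
    obtain ⟨n, hn, hn'⟩ := GrothLib.Equidim6.resTrdeg_eq_fibreDimAt_of_maximal g (ι η) hmax
    rw [hn, show n = e by exact_mod_cast hn'.symm.trans (hfd (ι η))]
  have hd : FlatMor.fibreDimAt (ι ≫ g) w ≤ (e : WithBot ℕ∞) :=
    (GrothLib.AbsApprox.fibreDimAt_le_of_isClosedImmersion ι g (ι ≫ g) rfl w).trans (hfd _).le
  have hgw : (ι ≫ g) w = f x := by
    rw [Scheme.Hom.comp_apply, hw]; rfl
  have h := isUnivOpenAt_of_integral (ι ≫ g) w hηY (hgw ▸ hy) e hn hd
  have h2 := isUnivOpenAt_of_comp (ι ≫ U.ι) f w (by rw [Category.assoc]; exact h)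
  rwa [show (ι ≫ U.ι) w = x by rw [Scheme.Hom.comp_apply, hw]; rfl] at h2

end GrothLib.Chev28
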