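import Groth.Agent.Lib.Chev28.DimFormula
import Groth.Agent.Lib.AffDom.LocalDim

/-!
Codimension and fibre dimension inside an equidimensional morphism (EGA IV 14.4.4, 14.4.5).
-/

universe u

open CategoryTheory CategoryTheory.Limits AlgebraicGeometry TopologicalSpace Topology

noncomputable section

namespace GrothLib.Chev28

variable {X Y : Scheme.{u}}

/-- The fibre dimension splits as the coheight in the fibre and the transcendence degree. -/
theorem exists_fibre_series (f : X ⟶ Y) [LocallyOfFiniteType f] (ξ : X) :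
    ∃ k t : ℕ, Dual3.resTrdeg f ξ = t ∧ FlatMor.fibreDimAt f ξ = ((k + t : ℕ) : WithBot ℕ∞) ∧
      (k : ℕ∞) ≤ Order.coheight ξ ∧
      ∃ ζ, ζ ⤳ ξ ∧ f ζ = f ξ ∧ (∀ z, f z = f ξ → z ⤳ ζ → z = ζ) ∧ (k = 0 → ζ = ξ) ∧
        ((∃ z, z ⤳ ζ ∧ z ≠ ζ) → ((k + 1 : ℕ) : ℕ∞) ≤ Order.coheight ξ) := by
  let F := f.fiber (f ξ)
  let q := f.fiberToSpecResidueField (f ξ)
  haveI : LocallyOfFiniteType q := MorphismProperty.pullback_snd f _ inferInstance
  haveI : IsLocallyNoetherian F := LocallyOfFiniteType.isLocallyNoetherian q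
  obtain ⟨t, ht, ht'⟩ := GrothLib.Altitude.exists_trdeg_eq_dim_closure f ξ
  obtain ⟨k, hk⟩ : ∃ k : ℕ, Order.coheight (f.asFiber ξ : F) = k := by
    have hfin : ringKrullDim (F.presheaf.stalk (f.asFiber ξ)) < ⊤ := ringKrullDim_lt_top
    rw [ringKrullDim_stalk_eq_coheight] at hfin
    exact ⟨_, (ENat.coe_toNat (WithBot.coe_lt_coe.1 hfin).ne).symm⟩
  have hd : FlatMor.fibreDimAt f ξ = ((k + t : ℕ) : WithBot ℕ∞) := by
    rw [FlatMor.fibreDimAt, GrothLib.AffDom.localDim_eq (K := Y.residueField (f ξ)) q (f.asFiber ξ),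
      GrothLib.AffDom.ptDim, ringKrullDim_stalk_eq_coheight, hk]
    erw [ht']
    push_cast
    rw [add_comm]
  obtain ⟨p, hp, hlen⟩ := Order.exists_series_of_le_coheight (f.asFiber ξ : F) hk.ge
  let φ : F → X := f.fiberι (f ξ)
  have hφ : StrictMono φ := fun a b hab => by
    have hsp : b ⤳ a := Scheme.le_iff_specializes.1 hab.le
    refine lt_of_le_not_ge (Scheme.le_iff_specializes.2 (hsp.map (f.fiberι (f ξ)).continuous)) fun h => hab.not_ge ?_
    exact Scheme.le_iff_specializes.2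
      ((f.fiberι (f ξ)).isEmbedding.isInducing.specializes_iff.mp (Scheme.le_iff_specializes.1 h))
  let p' := p.map φ hφ
  have hp' : p'.head = ξ := by rw [LTSeries.head_map, hp]; exact f.fiberι_asFiber ξ
  have hlast : f p'.last = f ξ := by
    rw [LTSeries.last_map]
    exact (f.range_fiberι (f ξ)).le ⟨p.last, rfl⟩
  have hsp : p'.last ⤳ ξ := Scheme.le_iff_specializes.1 (hp' ▸ p'.head_le_last)
  refine ⟨k, t, ht, hd, ?_, p'.last, hsp, hlast, fun z hz hs => ?_, fun hk0 => ?_, fun ⟨z, hz, hzne⟩ => ?_⟩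
  · rw [← hlen]
    exact Order.length_le_coheight (p := p') hp'.ge
  · by_contra hne
    obtain ⟨z', rfl⟩ := (f.range_fiberι (f ξ)).ge (show z ∈ f ⁻¹' {f ξ} from hz)
    rw [LTSeries.last_map] at hs hne
    have hs' : z' ⤳ p.last := (f.fiberι (f ξ)).isEmbedding.isInducing.specializes_iff.mp hs
    have hlt : p.last < z' := lt_of_le_not_ge (Scheme.le_iff_specializes.2 hs') fun h =>
      hne (congrArg φ (hs'.antisymm (Scheme.le_iff_specializes.1 h)).eq)
    have := Order.length_le_coheight (p := p.snoc z' hlt) (x := (f.asFiber ξ : F))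
      (by rw [RelSeries.head_snoc, hp])
    rw [hk] at this
    simp only [RelSeries.snoc, RelSeries.append_length, RelSeries.singleton_length] at this
    have h' : p.length + 0 + 1 ≤ k := by exact_mod_cast this
    omega
  · have : p'.head = p'.last := by
      change p' 0 = p' (Fin.last _)
      congr 1
      ext
      simp only [Fin.val_zero, Fin.val_last]
      exact ((hlen.trans hk0) : p.length = 0).symm
    exact this ▸ hp'
  · have hlt : p'.last < z := lt_of_le_not_ge (Scheme.le_iff_specializes.2 hz) fun h =>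
      hzne (hz.antisymm (Scheme.le_iff_specializes.1 h)).eq
    have := Order.length_le_coheight (p := p'.snoc z hlt) (x := ξ) (by rw [RelSeries.head_snoc, hp'])
    simp only [RelSeries.snoc, RelSeries.append_length, RelSeries.singleton_length] at this
    refine le_trans ?_ this
    rw [← hlen]
    exact le_rfl

/-- Codimension plus fibre dimension is at least the relative dimension, strictly off the generic fibre. -/
theorem exists_stalk_dim_ge [IsLocallyNoetherian Y] (f : X ⟶ Y) [LocallyOfFiniteType f] {x ξ : X}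
    (hf : EGA43.IsEquidimAt f x) (hξ : ξ ⤳ x) (e : ℕ) (he : FlatMor.fibreDimAt f x = (e : WithBot ℕ∞)) :
    ∃ c t : ℕ, ringKrullDim (X.presheaf.stalk ξ) = c ∧ Dual3.resTrdeg f ξ = t ∧ e ≤ c + t ∧
      ((∃ y', y' ⤳ f ξ ∧ y' ≠ f ξ) → e + 1 ≤ c + t) := by
  haveI := LocallyOfFiniteType.isLocallyNoetherian f
  obtain ⟨e', U, hxU, hdom, hdim⟩ := id hf
  have hξU : ξ ∈ U := hξ.mem_open U.2 hxU
  have hfd : ∀ z ∈ U, FlatMor.fibreDimAt f z = (e' : WithBot ℕ∞) := fun z hz => by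
    haveI : LocallyOfFiniteType ((U.ι ≫ f).fiberToSpecResidueField ((U.ι ≫ f) ⟨z, hz⟩)) :=
      MorphismProperty.pullback_snd (U.ι ≫ f) _ inferInstance
    exact (GrothLib.CMMor6.fibreDimAt_comp_flat_lqf U.ι f ⟨z, hz⟩).symm.trans
      ((GrothLib.Equidim6.equidim_iff (K := Y.residueField ((U.ι ≫ f) ⟨z, hz⟩))
        ((U.ι ≫ f).fiberToSpecResidueField _) e').1 (hdim ⟨z, hz⟩) ((U.ι ≫ f).asFiber ⟨z, hz⟩))
  have hee : e' = e := by exact_mod_cast (hfd x hxU).symm.trans he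
  obtain ⟨k, t, ht, hkt, hk, ζ, hζ, hfζ, hζmax, -, hk1⟩ := exists_fibre_series f ξ
  rw [hfd ξ hξU, hee] at hkt
  have hkt' : e = k + t := by exact_mod_cast hkt
  obtain ⟨c, hc, -⟩ := exists_nat_dim_stalk ξ
  have hcc : Order.coheight ξ = c := by
    rw [ringKrullDim_stalk_eq_coheight] at hc
    exact_mod_cast hc
  rw [hcc] at hk hk1
  refine ⟨c, t, hc, ht, ?_, fun ⟨y', hy', hne⟩ => ?_⟩
  · have : k ≤ c := by exact_mod_cast hk
    omega
  · have h1 : k + 1 ≤ c := by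
      obtain ⟨ζ₀, hζ₀, hmax⟩ := GrothLib.AffDom.exists_maximal_point ζ
      have h0 := hk1 ⟨ζ₀, hζ₀, fun h => hne (by
        obtain ⟨n, -, hcomp⟩ := components_of_isEquidimAt f x hf
        have h2 := (hcomp ζ₀ (hζ₀.trans (hζ.trans hξ)) hmax).1
        rw [h, hfζ] at h2
        exact h2 y' hy')⟩
      exact_mod_cast h0
    omega

/-- A closed subset of small codimension with small fibre dimension: equalities, and equidimensionality. -/
theorem codim_fibre_dim_of_isEquidimAt [IsLocallyNoetherian Y] (f : X ⟶ Y) [LocallyOfFiniteType f] (x : X)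
    (hf : EGA43.IsEquidimAt f x) (C : Closeds X) (hxC : x ∈ C) (n : ℕ)
    (hdim : FlatMor.localDim ↥((C : Set X) ∩ f ⁻¹' {f x}) ⟨x, hxC, rfl⟩ + n ≤ FlatMor.fibreDimAt f x)
    (hcod : ∀ ξ ∈ (C : Set X), ξ ⤳ x → (∀ z ∈ (C : Set X), z ⤳ ξ → z = ξ) →
      ringKrullDim (X.presheaf.stalk ξ) ≤ n) :
    (∀ ξ ∈ (C : Set X), ξ ⤳ x → (∀ z ∈ (C : Set X), z ⤳ ξ → z = ξ) → ringKrullDim (X.presheaf.stalk ξ) = n) ∧
      FlatMor.localDim ↥((C : Set X) ∩ f ⁻¹' {f x}) ⟨x, hxC, rfl⟩ + n = FlatMor.fibreDimAt f x ∧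
      ∀ w : ↥(Scheme.IdealSheafData.vanishingIdeal C).subscheme,
        (Scheme.IdealSheafData.vanishingIdeal C).subschemeι w = x →
        EGA43.IsEquidimAt ((Scheme.IdealSheafData.vanishingIdeal C).subschemeι ≫ f) w := by
  obtain ⟨e, he, -⟩ := components_of_isEquidimAt f x hf
  let ι := (Scheme.IdealSheafData.vanishingIdeal C).subschemeι
  have hrange : Set.range ι = C := GrothLib.RedSub.range_subschemeι_vanishingIdeal C
  obtain ⟨w, hw⟩ := hrange.ge hxC
  have hl : FlatMor.localDim ↥((C : Set X) ∩ f ⁻¹' {f x}) ⟨x, hxC, rfl⟩ = FlatMor.fibreDimAt (ι ≫ f) w :=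
    localDim_inter_fibre ι f hrange w x hw _
  obtain ⟨w₀, hfw, -, hw₀max, hw₀d⟩ := GrothLib.Equidim6.exists_fibre_maximal (ι ≫ f) w
  obtain ⟨d, -, hd⟩ := GrothLib.Equidim6.fibreDimAt_eq_resTrdeg (ι ≫ f) w₀ fun z hz => hw₀max z (hz.trans hfw)
  rw [hl, hw₀d, hd, he] at hdim ⊢
  have hdn : d + n ≤ e := by exact_mod_cast hdim
  have key : ∀ v, v ⤳ w → (∀ z, z ⤳ v → z = v) →
      (∀ y', y' ⤳ (ι ≫ f) v → y' = (ι ≫ f) v) ∧ Dual3.resTrdeg (ι ≫ f) v = d ∧
        ringKrullDim (X.presheaf.stalk (ι v)) = n ∧ d + n = e := by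
    intro v hv hvmax
    have hξ : ι v ⤳ x := hw ▸ hv.map ι.continuous
    obtain ⟨c, t, hc, ht, hle, hlt⟩ := exists_stalk_dim_ge f hf hξ e he
    have hcn : c ≤ n := by
      have := hcod (ι v) (hrange.le ⟨v, rfl⟩) hξ fun z hz hs => by
        obtain ⟨z', rfl⟩ := hrange.ge hz
        exact congrArg ι (hvmax z' (ι.isEmbedding.isInducing.specializes_iff.mp hs))
      rw [hc] at this
      exact_mod_cast this
    have htrdeg : Dual3.resTrdeg (ι ≫ f) v = t := (GrothLib.FunFlat6.resTrdeg_closedImmersion ι f v).trans ht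
    have htd : t ≤ d := by
      obtain ⟨h1, h2, -⟩ := component_dims (ι ≫ f) hv htrdeg ⟨hv.mem_closure, rfl⟩
      exact_mod_cast ((h1.trans h2).trans (hw₀d.trans hd).le :)
    refine ⟨fun y' hy' => ?_, by rw [htrdeg, show t = d by omega], by rw [hc, show c = n by omega], by omega⟩
    by_contra hne
    have := hlt ⟨y', hy', hne⟩
    omega
  obtain ⟨v, hv, hvmax⟩ := GrothLib.AffDom.exists_maximal_point w
  refine ⟨fun ξ hξC hξ hξmax => ?_, by exact_mod_cast (key v hv hvmax).2.2.2, fun w' hw' => ?_⟩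
  · obtain ⟨v', rfl⟩ := hrange.ge hξC
    exact (key v' (ι.isEmbedding.isInducing.specializes_iff.mp (hw.symm ▸ hξ))
      fun z hz => ι.isEmbedding.injective (hξmax _ (hrange.le ⟨z, rfl⟩) (hz.map ι.continuous))).2.2.1
  · obtain rfl : w' = w := ι.isEmbedding.injective (hw'.trans hw.symm)
    exact isEquidimAt_of_components (ι ≫ f) w' d (hw₀d.trans hd).le
      fun z hz hzmax => ⟨(key z hz hzmax).1, (key z hz hzmax).2.1⟩

theorem ringKrullDim_stalk_zeroLocus_le_one [IsLocallyNoetherian X] (g : Γ(X, ⊤)) (ξ : X)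
    (hξ : ξ ∈ X.zeroLocus ({g} : Set Γ(X, ⊤)))
    (hmax : ∀ z ∈ X.zeroLocus ({g} : Set Γ(X, ⊤)), z ⤳ ξ → z = ξ) :
    ringKrullDim (X.presheaf.stalk ξ) ≤ 1 := by
  obtain ⟨U, hU, hξU, -⟩ := exists_isAffineOpen_mem_and_subset (x := ξ) (U := ⊤) trivial
  haveI : IsNoetherianRing Γ(X, U) := IsLocallyNoetherian.component_noetherian ⟨U, hU⟩
  let r : Γ(X, U) := X.presheaf.map (homOfLE (le_top : U ≤ ⊤)).op g
  have hmem : ∀ q : PrimeSpectrum Γ(X, U), hU.fromSpec q ∈ U := fun q => hU.range_fromSpec.le ⟨q, rfl⟩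
  have hiff : ∀ q : PrimeSpectrum Γ(X, U), hU.fromSpec q ∈ X.zeroLocus ({g} : Set Γ(X, ⊤)) ↔ r ∈ q.asIdeal := by
    intro q
    have h1 : hU.fromSpec q ∈ X.basicOpen r ↔ q ∈ PrimeSpectrum.basicOpen r :=
      Iff.of_eq (congrArg (q ∈ ·) (hU.fromSpec_preimage_basicOpen r))
    have h2 : hU.fromSpec q ∈ X.basicOpen r ↔ hU.fromSpec q ∈ X.basicOpen g := by
      rw [Scheme.basicOpen_res]
      exact ⟨fun h => h.2, fun h => ⟨hmem q, h⟩⟩
    rw [Scheme.mem_zeroLocus_iff]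
    constructor
    · intro h
      by_contra hr
      exact h g rfl (h2.mp (h1.mpr hr))
    · rintro hr s rfl h
      exact h1.mp (h2.mpr h) hr
  obtain ⟨c, hc, hc'⟩ := exists_nat_dim_stalk ξ
  rw [hc]
  have hq : hU.fromSpec (hU.primeIdealOf ⟨ξ, hξU⟩) = ξ := hU.fromSpec_primeIdealOf ⟨ξ, hξU⟩
  have hmin : (hU.primeIdealOf ⟨ξ, hξU⟩).asIdeal ∈ (Ideal.span {r}).minimalPrimes := by
    refine ⟨⟨(hU.primeIdealOf _).isPrime, Ideal.span_le.mpr (Set.singleton_subset_iff.mpr ?_)⟩, fun I hI hle => ?_⟩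
    · exact (hiff _).mp (hq.symm ▸ hξ)
    · have h1 := hmax (hU.fromSpec ⟨I, hI.1⟩) ((hiff ⟨I, hI.1⟩).mpr (hI.2 (Ideal.subset_span rfl)))
        ((((PrimeSpectrum.le_iff_specializes (⟨I, hI.1⟩ : PrimeSpectrum Γ(X, U)) _).mp hle).map
          hU.fromSpec.continuous).trans (specializes_of_eq hq))
      exact (congrArg PrimeSpectrum.asIdeal (hU.fromSpec.isOpenEmbedding.injective (h1.trans hq.symm))).symm.le
  have := Ideal.height_le_one_of_isPrincipal_of_mem_minimalPrimes _ _ hmin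
  rw [hc' U hU hξU] at this
  exact_mod_cast this

/-- The fibre dimension drops on a closed subset avoiding the maximal points of the fibre. -/
theorem localDim_add_one_le [IsLocallyNoetherian Y] (f : X ⟶ Y) [LocallyOfFiniteType f] (x : X)
    (hf : EGA43.IsEquidimAt f x) (C : Closeds X) (hxC : x ∈ C)
    (hmax : ∀ z, f z = f x → (∀ z', f z' = f x → z' ⤳ z → z' = z) → z ∉ (C : Set X)) :
    FlatMor.localDim ↥((C : Set X) ∩ f ⁻¹' {f x}) ⟨x, hxC, rfl⟩ + (1 : ℕ) ≤ FlatMor.fibreDimAt f x := by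
  let ι := (Scheme.IdealSheafData.vanishingIdeal C).subschemeι
  have hrange : Set.range ι = C := GrothLib.RedSub.range_subschemeι_vanishingIdeal C
  obtain ⟨w, hw⟩ := hrange.ge hxC
  rw [localDim_inter_fibre ι f hrange w x hw]
  obtain ⟨e, U, hxU, hdom, hdim⟩ := id hf
  have hfd : ∀ z ∈ U, FlatMor.fibreDimAt f z = (e : WithBot ℕ∞) := fun z hz => by
    haveI : LocallyOfFiniteType ((U.ι ≫ f).fiberToSpecResidueField ((U.ι ≫ f) ⟨z, hz⟩)) :=
      MorphismProperty.pullback_snd (U.ι ≫ f) _ inferInstance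
    exact (GrothLib.CMMor6.fibreDimAt_comp_flat_lqf U.ι f ⟨z, hz⟩).symm.trans
      ((GrothLib.Equidim6.equidim_iff (K := Y.residueField ((U.ι ≫ f) ⟨z, hz⟩))
        ((U.ι ≫ f).fiberToSpecResidueField _) e).1 (hdim ⟨z, hz⟩) ((U.ι ≫ f).asFiber ⟨z, hz⟩))
  obtain ⟨w₀, hfw, hw₀, hw₀max, hw₀d⟩ := GrothLib.Equidim6.exists_fibre_maximal (ι ≫ f) w
  obtain ⟨d, hd, hd'⟩ := GrothLib.Equidim6.fibreDimAt_eq_resTrdeg (ι ≫ f) w₀ fun z hz => hw₀max z (hz.trans hfw)
  rw [hw₀d, hd', hfd x hxU]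
  have hsp : ι w₀ ⤳ x := hw ▸ hw₀.map ι.continuous
  have hfy : f (ι w₀) = f x := by rw [← hw]; exact hfw
  rw [GrothLib.FunFlat6.resTrdeg_closedImmersion ι f] at hd
  obtain ⟨k, t, ht, hkt, -, ζ, hζ, hfζ, hζmax, hk0, -⟩ := exists_fibre_series f (ι w₀)
  rw [hfd _ (hsp.mem_open U.2 hxU)] at hkt
  have hkt' : e = k + t := by exact_mod_cast hkt
  have htd : t = d := by exact_mod_cast (ht.symm.trans hd :)
  have hk : k ≠ 0 := fun h0 => by
    refine hmax ζ (hfζ.trans hfy) (fun z' hz' hs => hζmax z' (hz'.trans hfy.symm) hs) ?_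
    rw [hk0 h0]
    exact hrange.le ⟨w₀, rfl⟩
  exact_mod_cast (show d + 1 ≤ e by omega)

end GrothLib.Chev28

namespace GrothLib.Chev28

theorem maximal_of_closure_mem_top {α : Type u} [TopologicalSpace α] [T0Space α] {y : α}
    (h : closure ({y} : Set α) ∈ irreducibleComponents α) (y' : α) (hy' : y' ⤳ y) : y' = y := by
  have hsub : closure ({y} : Set α) ⊆ closure {y'} := specializes_iff_closure_subset.mp hy'
  have : closure ({y'} : Set α) = closure {y} :=
    Set.Subset.antisymm (h.2 isIrreducible_singleton.closure hsub) hsub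
  exact (show IsGenericPoint y' (closure {y}) from this).eq isGenericPoint_closure

end GrothLib.Chev28
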