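import Groth.Agent.Lib.QSec28.Main
import Groth.Agent.Lib.Hensel.LocalSplit
import Mathlib.AlgebraicGeometry.Morphisms.QuasiFinite

/-!
Finite sections over a complete local domain (EGA IV 14.5.4).
-/

universe u

open CategoryTheory CategoryTheory.Limits AlgebraicGeometry TopologicalSpace Topology

noncomputable section

namespace GrothLib.Chev28

theorem exists_finite_section {A : Type u} [CommRing A] [IsDomain A] [IsNoetherianRing A] [IsLocalRing A]
    [IsAdicComplete (IsLocalRing.maximalIdeal A) A] {X : Scheme.{u}}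
    (f : X ⟶ Spec (CommRingCat.of A)) [LocallyOfFiniteType f] (x : X) (hx : f x = IsLocalRing.closedPoint A)
    (hf : EGA43.IsEquidimAt f x) (hcl : ∀ x' : X, f x' = f x → x ⤳ x' → x' = x) :
    ∃ (A' : Type u) (_ : CommRing A') (_ : IsDomain A') (_ : IsLocalRing A') (_ : Algebra A A') (_ : Module.Finite A A'),
      Function.Injective (algebraMap A A') ∧
      ∃ h : Spec (CommRingCat.of A') ⟶ X, h ≫ f = Spec.map (CommRingCat.ofHom (algebraMap A A')) ∧
        IsImmersion h ∧ x ∈ Set.range h.base := by
  haveI : HenselianLocalRing A := GrothLib.Hensel.henselianLocalRing_of_henselianRing inferInstance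
  haveI : IrreducibleSpace ↥(Spec (CommRingCat.of A)) :=
    inferInstanceAs (IrreducibleSpace (PrimeSpectrum A))
  obtain ⟨T, i, hi, hirr, hred, ⟨t, ht⟩, h1, h2, h3, h4⟩ :=
    GrothLib.QSec28.exists_quasiSection_of_isEquidimAt f x hf hcl
  haveI := hi; haveI := hirr; haveI := hred; haveI := h1; haveI := h2; haveI := h4
  haveI : IsIntegral T := isIntegral_of_irreducibleSpace_of_isReduced T
  obtain ⟨W, hW, htW, -⟩ := exists_isAffineOpen_mem_and_subset (x := t) (U := ⊤) trivial
  haveI : Nonempty W := ⟨⟨t, htW⟩⟩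
  let D : Type u := Γ(T, W)
  haveI : IsDomain D := inferInstanceAs (IsDomain Γ(T, W))
  let φ := Spec.preimage (hW.fromSpec ≫ i ≫ f)
  have hφ : Spec.map φ = hW.fromSpec ≫ i ≫ f := Spec.map_preimage _
  letI : Algebra A D := φ.hom.toAlgebra
  have halg : Spec.map (CommRingCat.ofHom (algebraMap A D)) = hW.fromSpec ≫ i ≫ f := hφ
  haveI : Algebra.FiniteType A D := by
    refine RingHom.finiteType_algebraMap.mp ((HasRingHomProperty.Spec_iff (P := @LocallyOfFiniteType)).mp ?_)
    show LocallyOfFiniteType (Spec.map φ)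
    rw [hφ]; infer_instance
  haveI hqfin : Algebra.QuasiFinite A D := by
    have h5 : LocallyQuasiFinite (Spec.map (CommRingCat.ofHom (algebraMap A D))) := by
      rw [halg]; infer_instance
    exact (HasRingHomProperty.Spec_iff (P := @LocallyQuasiFinite)).mp h5
  let q : PrimeSpectrum D := hW.primeIdealOf ⟨t, htW⟩
  have hqt : hW.fromSpec q = t := hW.fromSpec_primeIdealOf _
  have hpt : ∀ v : PrimeSpectrum D, PrimeSpectrum.comap (algebraMap A D) v = (i ≫ f) (hW.fromSpec v) := fun v => by
    show Spec.map (CommRingCat.ofHom (algebraMap A D)) v = _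
    rw [halg]
    rfl
  haveI : q.asIdeal.LiesOver (IsLocalRing.maximalIdeal A) := by
    have h6 : PrimeSpectrum.comap (algebraMap A D) q = IsLocalRing.closedPoint A := by
      rw [hpt, hqt, Scheme.Hom.comp_apply, ht]
      exact hx
    exact ⟨(congrArg PrimeSpectrum.asIdeal h6).symm⟩
  have hinj : Function.Injective (algebraMap A D) := by
    refine (injective_iff_map_eq_zero _).mpr fun a ha => ?_
    have hgenW : genericPoint T ∈ W := (genericPoint_specializes t).mem_open W.2 htW
    have h7 : (i ≫ f) (genericPoint T) = (⟨⊥, Ideal.isPrime_bot⟩ : PrimeSpectrum A) := by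
      have hg : IsGenericPoint ((i ≫ f) (genericPoint T)) Set.univ := by
        have h := (genericPoint_spec T).image (i ≫ f).continuous
        rwa [Set.image_univ, (i ≫ f).denseRange.closure_eq] at h
      refine ((hg.specializes trivial).antisymm ?_).eq
      exact (PrimeSpectrum.le_iff_specializes (⟨⊥, Ideal.isPrime_bot⟩ : PrimeSpectrum A) _).mp (bot_le : (⊥ : Ideal A) ≤ _)
    have h8 := hpt (hW.primeIdealOf ⟨genericPoint T, hgenW⟩)
    rw [hW.fromSpec_primeIdealOf, h7] at h8
    have h9 : a ∈ (PrimeSpectrum.comap (algebraMap A D) (hW.primeIdealOf ⟨genericPoint T, hgenW⟩)).asIdeal := by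
      rw [PrimeSpectrum.comap_asIdeal, Ideal.mem_comap, ha]
      exact Submodule.zero_mem _
    rw [h8] at h9
    exact Ideal.mem_bot.mp h9
  haveI := GrothLib.Hensel.finite_localization_of_quasiFiniteAt (R := A) q.asIdeal
  let L := Localization.AtPrime q.asIdeal
  have hDL : Function.Injective (algebraMap D L) :=
    IsLocalization.injective L q.asIdeal.primeCompl_le_nonZeroDivisors
  haveI : Module.Finite A D :=
    Module.Finite.of_injective (IsScalarTower.toAlgHom A D L).toLinearMap hDL
  haveI : Algebra.IsIntegral D L := Algebra.IsIntegral.tower_top (R := A)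
  have huniq : ∀ M : Ideal D, M.IsMaximal → M = q.asIdeal := fun M hM => by
    obtain ⟨P, hP⟩ := (algebraMap_isIntegral_iff.mpr ‹Algebra.IsIntegral D L› : (algebraMap D L).IsIntegral).comap_surjective
      hDL ⟨M, hM.isPrime⟩
    have hPM : P.asIdeal.comap (algebraMap D L) = M := congrArg PrimeSpectrum.asIdeal hP
    haveI : P.asIdeal.IsMaximal := Ideal.isMaximal_of_isIntegral_of_isMaximal_comap P.asIdeal (hPM ▸ hM)
    rw [← hPM, IsLocalRing.eq_maximalIdeal (I := P.asIdeal) inferInstance]
    exact Localization.AtPrime.comap_maximalIdeal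
  obtain ⟨M, hM, hqM⟩ := q.asIdeal.exists_le_maximal q.isPrime.ne_top
  refine ⟨D, inferInstance, inferInstance, IsLocalRing.of_unique_max_ideal ⟨M, hM, fun N hN => ?_⟩,
    inferInstance, inferInstance, hinj, hW.fromSpec ≫ i, ?_, inferInstance, q, ?_⟩
  · rw [huniq N hN, huniq M hM]
  · rw [Category.assoc, halg]
  · show (hW.fromSpec ≫ i) q = x
    rw [Scheme.Hom.comp_apply, hqt]
    exact ht

end GrothLib.Chev28
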