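import Mathlib.Topology.NoetherianSpace
import Mathlib.Topology.Sober
import Mathlib.Topology.Connected.Clopen
import Mathlib.Topology.GDelta.Basic

/-!
Connectedness of the complement of a thin closed set (EGA IV 15.6).
-/

universe u

open TopologicalSpace Topology Set

namespace GrothLib.Chev28

variable {X : Type u} [TopologicalSpace X]

theorem exists_generization_mem_of_noetherian [NoetherianSpace X] [QuasiSober X] {U : Set X} (hU : IsOpen U) {x : X}
    (hx : x ∈ closure U) : ∃ y ∈ U, y ⤳ x := by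
  haveI : NoetherianSpace ↥(closure U) := IsInducing.subtypeVal.noetherianSpace
  haveI : QuasiSober ↥(closure U) := isClosed_closure.isClosedEmbedding_subtypeVal.quasiSober
  let C := irreducibleComponent (⟨x, hx⟩ : ↥(closure U))
  obtain ⟨o, ho, hne, hsub⟩ := NoetherianSpace.exists_isOpen_nonempty_subset_irreducibleComponent
    C (irreducibleComponent_mem_irreducibleComponents _)
  obtain ⟨o', ho', rfl⟩ := isOpen_induced_iff.mp ho
  obtain ⟨a, ha⟩ := hne
  obtain ⟨b, hbo, hbU⟩ := mem_closure_iff.mp a.2 o' ho' ha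
  obtain ⟨t, ht⟩ := QuasiSober.sober (isIrreducible_irreducibleComponent (x := (⟨x, hx⟩ : ↥(closure U))))
    isClosed_irreducibleComponent
  exact ⟨t.1, ((ht.specializes (hsub (show (⟨b, subset_closure hbU⟩ : ↥(closure U)) ∈ _ from hbo))).map
    continuous_subtype_val).mem_open hU hbU, (ht.specializes mem_irreducibleComponent).map continuous_subtype_val⟩

theorem exists_open_noetherian (hloc : ∀ x : X, ∃ U ∈ 𝓝 x, NoetherianSpace ↥U) (x : X) :
    ∃ W : Set X, IsOpen W ∧ x ∈ W ∧ NoetherianSpace ↥W := by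
  obtain ⟨U, hU, hN⟩ := hloc x
  obtain ⟨W, hWU, hW, hxW⟩ := mem_nhds_iff.mp hU
  haveI := hN
  exact ⟨W, hW, hxW, (IsEmbedding.inclusion hWU).isInducing.noetherianSpace⟩

theorem exists_generization_mem [QuasiSober X] (hloc : ∀ x : X, ∃ U ∈ 𝓝 x, NoetherianSpace ↥U)
    {U : Set X} (hU : IsOpen U) {x : X} (hx : x ∈ closure U) : ∃ y ∈ U, y ⤳ x := by
  obtain ⟨W, hW, hxW, hN⟩ := exists_open_noetherian hloc x
  haveI := hN
  haveI : QuasiSober ↥W := hW.isOpenEmbedding_subtypeVal.quasiSober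
  obtain ⟨y, hy, hyx⟩ := exists_generization_mem_of_noetherian (hU.preimage continuous_subtype_val)
    (x := (⟨x, hxW⟩ : ↥W))
    (by rw [← hW.isOpenMap_subtype_val.preimage_closure_eq_closure_preimage continuous_subtype_val]; exact hx)
  exact ⟨y.1, hy, hyx.map continuous_subtype_val⟩

theorem exists_maximal_mem [QuasiSober X] [T0Space X] {K : Set X} (hK : IsClosed K) {x : X} (hx : x ∈ K) :
    ∃ y ∈ K, ∀ z ∈ K, z ⤳ y → z = y := by
  haveI : QuasiSober ↥K := hK.isClosedEmbedding_subtypeVal.quasiSober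
  obtain ⟨t, ht⟩ := QuasiSober.sober (isIrreducible_irreducibleComponent (x := (⟨x, hx⟩ : ↥K)))
    isClosed_irreducibleComponent
  refine ⟨t.1, t.2, fun z hz hzt => ?_⟩
  have h1 : (⟨z, hz⟩ : ↥K) ⤳ t := IsInducing.subtypeVal.specializes_iff.mp hzt
  have h2 : irreducibleComponent (⟨x, hx⟩ : ↥K) = closure {(⟨z, hz⟩ : ↥K)} := by
    refine ((irreducibleComponent_property _).2.2 _ isIrreducible_singleton.closure.2 ?_).symm
    rw [← ht.def]
    exact specializes_iff_closure_subset.mp h1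
  have h3 : (⟨z, hz⟩ : ↥K) ∈ closure {t} := by
    rw [ht.def, h2]
    exact subset_closure rfl
  exact (h1.antisymm (specializes_iff_mem_closure.mpr h3)).eq ▸ rfl

theorem isConnected_compl [QuasiSober X] [T0Space X] (hloc : ∀ x : X, ∃ U ∈ 𝓝 x, NoetherianSpace ↥U)
    [ConnectedSpace X] (Z : Set X) (hZ : IsClosed Z) (hZn : IsNowhereDense Z)
    (hgen : ∀ x ∈ Z, IsPreconnected ({x' : X | x' ⤳ x} \ {x})) : IsConnected Zᶜ := by
  have hd : Dense Zᶜ := by
    rw [← interior_eq_empty_iff_dense_compl, ← hZ.closure_eq]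
    exact hZn
  refine ⟨hd.nonempty, fun u v hu hv hsub hu' hv' => ?_⟩
  by_contra hdis
  rw [Set.not_nonempty_iff_eq_empty] at hdis
  let U₁ := Zᶜ ∩ u
  let U₂ := Zᶜ ∩ v
  have h1 : IsOpen U₁ := hZ.isOpen_compl.inter hu
  have h2 : IsOpen U₂ := hZ.isOpen_compl.inter hv
  have hcov : closure U₁ ∪ closure U₂ = univ := by
    rw [← closure_union, ← Set.inter_union_distrib_left, Set.inter_eq_self_of_subset_left hsub]
    exact hd.closure_eq
  obtain ⟨x₀, -, hx₀⟩ := (isPreconnected_closed_iff.mp isPreconnected_univ) (closure U₁) (closure U₂)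
    isClosed_closure isClosed_closure hcov.ge
    (by rw [univ_inter]; exact hu'.closure) (by rw [univ_inter]; exact hv'.closure)
  obtain ⟨x, hxK, hmax⟩ := exists_maximal_mem (isClosed_closure.inter isClosed_closure) hx₀
  have hxZ : x ∈ Z := by
    by_contra hxZ
    rcases hsub hxZ with hxu | hxv
    · obtain ⟨b, hb, hbv⟩ := mem_closure_iff.mp hxK.2 U₁ h1 ⟨hxZ, hxu⟩
      exact Set.eq_empty_iff_forall_notMem.mp hdis b ⟨hb.1, hb.2, hbv.2⟩
    · obtain ⟨b, hb, hbu⟩ := mem_closure_iff.mp hxK.1 U₂ h2 ⟨hxZ, hxv⟩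
      exact Set.eq_empty_iff_forall_notMem.mp hdis b ⟨hb.1, hbu.2, hb.2⟩
  obtain ⟨a, haU, hax⟩ := exists_generization_mem hloc h1 hxK.1
  obtain ⟨b, hbU, hbx⟩ := exists_generization_mem hloc h2 hxK.2
  obtain ⟨c, ⟨hcx, hcne⟩, hc⟩ := (isPreconnected_closed_iff.mp (hgen x hxZ)) (closure U₁) (closure U₂)
    isClosed_closure isClosed_closure (fun c _ => hcov.ge trivial)
    ⟨a, ⟨hax, fun h => haU.1 (h ▸ hxZ)⟩, subset_closure haU⟩
    ⟨b, ⟨hbx, fun h => hbU.1 (h ▸ hxZ)⟩, subset_closure hbU⟩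
  exact hcne (hmax c hc hcx)

end GrothLib.Chev28
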