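import Groth.Agent.Lib.Chev28.ConnValuation

/-!
EGA IV 15.5: behaviour of the geometric number of connected components under generization.
-/

universe u

open CategoryTheory CategoryTheory.Limits AlgebraicGeometry TopologicalSpace Topology IsLocalRing

noncomputable section

namespace GrothLib.Chev28

variable {X Y : Scheme.{u}}

theorem isGeomReducedAt_of_geometricallyReduced (f : X ⟶ Y) {y : Y} (x : X) (hx : f x = y)
    (h : GeometricallyReduced (f.fiberToSpecResidueField y)) :
    FBase.IsGeomReducedAt (f.fiberToSpecResidueField (f x)) (f.asFiber x) := by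
  subst hx
  intro K _ _ x' _
  haveI : AlgebraicGeometry.IsReduced (FBase.bc (f.fiberToSpecResidueField (f x)) K) :=
    h.geometrically_isReduced _ _ _ (IsPullback.of_hasPullback _ _)
  infer_instance

theorem geometricallyReduced_fiber_of_forall (f : X ⟶ Y) (y : Y)
    (h : ∀ x, f x = y → FBase.IsGeomReducedAt (f.fiberToSpecResidueField (f x)) (f.asFiber x)) :
    GeometricallyReduced (f.fiberToSpecResidueField y) := by
  rw [GrothLib.GeomRed6.geometricallyReduced_fiber_iff]
  intro F _ _ t ht
  haveI : ∀ w, _root_.IsReduced ((pullback f t).presheaf.stalk w) := fun w => by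
    refine GrothLib.SecComp6.isReduced_stalk_of_geomReducedAt f t w rfl (h _ ?_)
    rw [← Scheme.Hom.comp_apply, pullback.condition, Scheme.Hom.comp_apply, ← ht]
    haveI : Subsingleton (Spec (CommRingCat.of F)) := inferInstanceAs (Subsingleton (PrimeSpectrum F))
    exact congrArg t (Subsingleton.elim _ _)
  exact isReduced_of_isReduced_stalk _

/-- The geometric count at the image of a field point as the number of components of a fibre of the base
change. -/
theorem nGeomConnComp_eq_fiber {S : Scheme.{u}} (f : X ⟶ Y) (g : S ⟶ Y) {F : Type u} [Field F] [IsSepClosed F]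
    (ι : Spec (CommRingCat.of F) ⟶ S) [IsPreimmersion ι] (z : S) (hz : GrothLib.GeomRed6.pt ι = z) :
    MoreMor.nGeomConnComp f (g z) = ENat.card (_root_.ConnectedComponents ↥((pullback.snd f g).fiber z)) := by
  have h1 := congrArg Prod.snd
    (GrothLib.GeomComp6.count_geomFiber_eq f (ι ≫ g) (y := g z) (congrArg g hz))
  refine h1.trans ?_
  show ENat.card (_root_.ConnectedComponents ↥(pullback f (ι ≫ g))) = _
  have hr : Set.range ι = {z} := by
    refine Set.eq_singleton_iff_unique_mem.2 ⟨⟨_, hz⟩, ?_⟩
    rintro _ ⟨a, rfl⟩
    rw [← hz]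
    exact congrArg ι (Subsingleton.elim (α := PrimeSpectrum _) a _)
  have h2 : Set.range (pullback.fst (pullback.snd f g) ι) = pullback.snd f g ⁻¹' {z} := by
    rw [Scheme.Pullback.range_fst, hr]
  haveI : IsPreimmersion (pullback.fst (pullback.snd f g) ι) := MorphismProperty.pullback_fst _ _ ‹_›
  let e : ↥(pullback f (ι ≫ g)) ≃ₜ ↥((pullback.snd f g).fiber z) :=
    (pullbackLeftPullbackSndIso f g ι).symm.hom.homeomorph.trans
      (((pullback.fst (pullback.snd f g) ι).isEmbedding.toHomeomorph.trans (Homeomorph.setCongr h2)).trans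
        ((pullback.snd f g).fiberHomeo z).symm)
  exact ENat.card_congr
    { toFun := e.continuous.connectedComponentsMap
      invFun := e.symm.continuous.connectedComponentsMap
      left_inv := fun C => by
        obtain ⟨a, rfl⟩ := ConnectedComponents.surjective_coe C
        show ConnectedComponents.mk (e.symm (e a)) = _
        rw [e.symm_apply_apply]
      right_inv := fun C => by
        obtain ⟨a, rfl⟩ := ConnectedComponents.surjective_coe C
        show ConnectedComponents.mk (e (e.symm a)) = _
        rw [e.apply_symm_apply] }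

/-- EGA IV 15.5.3, 15.5.4: at generizations of a point along whose fibre a proper morphism is universally open
the geometric number of connected components does not drop, and stays if that fibre is geometrically reduced. -/
theorem nGeomConnComp_of_specializes (f : X ⟶ Y) [IsProper f] [LocallyOfFinitePresentation f] {y y' : Y}
    (hy : y' ⤳ y) (hopen : ∀ x, f x = y → EGA43.IsUnivOpenAt f x) :
    MoreMor.nGeomConnComp f y ≤ MoreMor.nGeomConnComp f y' ∧
      (GeometricallyReduced (f.fiberToSpecResidueField y) →
        MoreMor.nGeomConnComp f y = MoreMor.nGeomConnComp f y' ∧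
          GeometricallyReduced (f.fiberToSpecResidueField y')) := by
  obtain ⟨Ω, _, _, V, g, hgc, hgη⟩ := GrothLib.DvrPts6.exists_valuationSubring_of_specializes hy
  haveI := GrothLib.DvrPts6.isAlgClosed_residueField_valuationSubring V
  haveI := henselianLocalRing_valuationSubring V
  let p := pullback.snd f g
  haveI : IsProper p := MorphismProperty.pullback_snd f g inferInstance
  haveI : LocallyOfFinitePresentation p := MorphismProperty.pullback_snd f g inferInstance
  let c : Spec (CommRingCat.of V) := IsLocalRing.closedPoint V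
  let η : Spec (CommRingCat.of V) := genericPoint (Spec (CommRingCat.of V))
  have hη : η.asIdeal = ⊥ := congrArg PrimeSpectrum.asIdeal (genericPoint_eq_bot_of_affine (CommRingCat.of V))
  let ι := Spec.map (CommRingCat.ofHom (algebraMap V Ω))
  haveI : IsPreimmersion ι := IsPreimmersion.of_isLocalization (nonZeroDivisors V)
  let ι' := Spec.map (CommRingCat.ofHom (residue V))
  haveI : IsClosedImmersion ι' := IsClosedImmersion.spec_of_surjective _ residue_surjective
  have h1 := nGeomConnComp_eq_fiber f g ι' c (IsLocalRing.comap_closedPoint (residue V))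
  have h2 := nGeomConnComp_eq_fiber f g ι η (GrothLib.DvrPts6.pt_fractionRing V Ω)
  rw [hgc] at h1
  rw [hgη] at h2
  have hcond : ∀ a, f (pullback.fst f g a) = g (p a) := fun a =>
    congrArg (fun m : pullback f g ⟶ Y => m a) pullback.condition
  have hunivp : ∀ a, p a = c → EGA43.IsUnivOpenAt p a := fun a ha =>
    GrothLib.OpenAt.univOpenAt_baseChange (hopen (pullback.fst f g a) (by rw [hcond, ha]; exact hgc))
      (IsPullback.of_hasPullback f g) a rfl
  obtain ⟨hle, heq⟩ := card_components_closed_generic p (c := c) rfl hη fun a ha =>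
    GrothLib.OpenAt.isOpenAt_of_isPullback (hunivp a ha) (IsPullback.of_id_fst (f := p)) a rfl
  refine ⟨h1.trans_le (hle.trans h2.ge), fun hred => ?_⟩
  have hredp : ∀ a, p a = c → FBase.IsGeomReducedAt (p.fiberToSpecResidueField (p a)) (p.asFiber a) := fun a ha =>
    isGeomReducedAt_baseChange f g a
      (isGeomReducedAt_of_geometricallyReduced f _ (by rw [hcond, ha]; exact hgc) hred)
  haveI : AlgebraicGeometry.IsReduced (Spec (CommRingCat.of V)) := inferInstance
  let O : (pullback f g).Opens := ⟨_, GrothLib.FibPd.isOpen_flat_geomReduced p⟩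
  have hO : ∀ a, a ∈ O := by
    by_contra hne
    push Not at hne
    obtain ⟨a, ha⟩ := hne
    have hcl := p.isClosedMap _ O.2.isClosed_compl
    obtain ⟨b, hb, hbc⟩ := (IsLocalRing.specializes_closedPoint (R := V) (p a) : p a ⤳ c).mem_closed hcl ⟨a, ha, rfl⟩
    refine hb ⟨flat_stalkMap_of_isUnivOpenAt_of_geomReducedAt p b inferInstance (hredp b hbc) (fun z hz => ?_),
      hredp b hbc⟩
    exact hunivp z (hz.2.1.trans hbc)
  haveI : Flat p := (Flat.iff_flat_stalkMap p).mpr fun a => (hO a).1
  have hsep : ∀ (K : Type u) [Field K] (k : Spec (CommRingCat.of K) ⟶ Spec (CommRingCat.of V)),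
      AlgebraicGeometry.IsReduced (pullback p k) := fun K _ k => by
    haveI : ∀ w, _root_.IsReduced ((pullback p k).presheaf.stalk w) := fun w =>
      GrothLib.SecComp6.isReduced_stalk_of_geomReducedAt p k w rfl (hO _).2
    exact isReduced_of_isReduced_stalk _
  refine ⟨h1.trans ((heq inferInstance hsep).trans h2.symm), geometricallyReduced_fiber_of_forall f y' fun x hx => ?_⟩
  obtain ⟨a, ha, -⟩ := Scheme.Pullback.exists_preimage_pullback (f := f) (g := g) x η (hx.trans hgη.symm)
  subst ha
  exact isGeomReducedAt_of_baseChange f g a (hO a).2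

end GrothLib.Chev28
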