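import Groth.Agent.Lib.Chev28.PtIntDomain
import Groth.Agent.Lib.DvrPts6.Val
import Groth.Agent.Lib.FBase7.Locus

/-!
Geometric pointwise integrality of fibres passes to generizations along flat morphisms.
-/

universe u

open CategoryTheory CategoryTheory.Limits AlgebraicGeometry TopologicalSpace Topology IsLocalRing

noncomputable section

namespace GrothLib.Chev28

variable {X Y : Scheme.{u}}

/-- A point with a domain as local ring on some base change to an algebraically closed field point is
geometrically pointwise integral in its fibre. -/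
theorem isGeomPtIntegralAt_of_isDomain_pullback (f : X ⟶ Y) {K : Type u} [Field K] [IsAlgClosed K]
    (t : Spec (CommRingCat.of K) ⟶ Y) (w : ↥(pullback f t))
    (h : IsDomain ((pullback f t).presheaf.stalk w)) {x : X} (hw : pullback.fst f t w = x) :
    FBase.IsGeomPtIntegralAt (f.fiberToSpecResidueField (f x)) (f.asFiber x) := by
  subst hw
  have hpt : GeomRed6.pt t = f (pullback.fst f t w) := by
    rw [← Scheme.Hom.comp_apply, pullback.condition, Scheme.Hom.comp_apply]
    haveI : Subsingleton (Spec (CommRingCat.of K)) := inferInstanceAs (Subsingleton (PrimeSpectrum K))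
    exact congrArg t (Subsingleton.elim _ _)
  obtain ⟨σ', π, hπ, hπι⟩ : ∃ (σ' : Spec (CommRingCat.of K) ⟶ Spec (Y.residueField (f (pullback.fst f t w))))
      (π : pullback f t ⟶ f.fiber (f (pullback.fst f t w))),
      IsPullback π (pullback.snd f t) (f.fiberToSpecResidueField _) σ' ∧ π ≫ f.fiberι _ = pullback.fst f t := by
    obtain ⟨σ', hσ'⟩ : ∃ σ', σ' ≫ Y.fromSpecResidueField (f (pullback.fst f t w)) = t := by
      rw [← hpt]; exact GeomRed6.exists_factor t
    let π : pullback f t ⟶ f.fiber (f (pullback.fst f t w)) :=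
      pullback.lift (pullback.fst f t) (pullback.snd f t ≫ σ')
        (by rw [Category.assoc, hσ', pullback.condition])
    refine ⟨σ', π, IsPullback.of_right ?_ (pullback.lift_snd _ _ _) (IsPullback.of_hasPullback _ _), pullback.lift_fst _ _ _⟩
    rw [show π ≫ pullback.fst f (Y.fromSpecResidueField _) = pullback.fst f t from pullback.lift_fst _ _ _, hσ']
    exact IsPullback.of_hasPullback f t
  obtain ⟨φ, rfl⟩ := Spec.map_surjective σ'
  letI : Algebra (IsLocalRing.ResidueField (Y.presheaf.stalk (f (pullback.fst f t w)))) K := φ.hom.toAlgebra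
  let k := (hπ.isoPullback).hom
  have hπw : π w = f.asFiber (pullback.fst f t w) := (f.fiberι _).isEmbedding.injective (by
    rw [← Scheme.Hom.comp_apply, hπι, Scheme.Hom.fiberι_asFiber])
  haveI := h
  have hkw : IsDomain ((pullback (f.fiberToSpecResidueField (f (pullback.fst f t w))) (Spec.map φ)).presheaf.stalk (k w)) :=
    MulEquiv.isDomain _ (asIso (k.stalkMap w)).commRingCatIsoToRingEquiv.toMulEquiv
  have hz := GrothLib.FBase7.isGeomPtIntegralAt_of_isDomain
    (k := IsLocalRing.ResidueField (Y.presheaf.stalk (f (pullback.fst f t w))))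
    (f.fiberToSpecResidueField (f (pullback.fst f t w))) (Ω := K) (k w) hkw
  have hfst : FBase.bcπ (f.fiberToSpecResidueField (f (pullback.fst f t w))) K (k w) = f.asFiber (pullback.fst f t w) :=
    (congrArg (fun q : pullback f t ⟶ _ => q w) hπ.isoPullback_hom_fst).trans hπw
  rwa [hfst] at hz

/-- EGA IV 12.2.1: along a flat morphism geometric pointwise integrality of the fibre passes to generizations. -/
theorem isGeomPtIntegralAt_generization (f : X ⟶ Y) [Flat f] [LocallyOfFinitePresentation f] {x x' : X}
    (hx : x' ⤳ x) (hint : FBase.IsGeomPtIntegralAt (f.fiberToSpecResidueField (f x)) (f.asFiber x)) :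
    FBase.IsGeomPtIntegralAt (f.fiberToSpecResidueField (f x')) (f.asFiber x') := by
  obtain ⟨Ω, _, _, V, u, huc, huη⟩ := GrothLib.DvrPts6.exists_valuationSubring_of_specializes hx
  let g := u ≫ f
  let p := pullback.snd f g
  haveI : Flat p := MorphismProperty.pullback_snd f g ‹_›
  haveI : LocallyOfFinitePresentation p := MorphismProperty.pullback_snd f g ‹_›
  let σ : Spec (CommRingCat.of V) ⟶ pullback f g := pullback.lift u (𝟙 _) (by rw [Category.id_comp])
  have hσ : σ ≫ p = 𝟙 _ := pullback.lift_snd _ _ _
  have hσu : σ ≫ pullback.fst f g = u := pullback.lift_fst _ _ _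
  let c : Spec (CommRingCat.of V) := IsLocalRing.closedPoint V
  let η : Spec (CommRingCat.of V) := genericPoint (Spec (CommRingCat.of V))
  have hae : pullback.fst f g (σ c) = x := (congrArg (fun m : Spec (CommRingCat.of V) ⟶ X => m c) hσu).trans huc
  have hze : pullback.fst f g (σ η) = x' := (congrArg (fun m : Spec (CommRingCat.of V) ⟶ X => m η) hσu).trans huη
  have hpη : p (σ η) = η := congrArg (fun m : Spec (CommRingCat.of V) ⟶ Spec (CommRingCat.of V) => m η) hσ
  have hfield : IsField ((Spec (CommRingCat.of V)).presheaf.stalk (p (σ η))) := by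
    rw [hpη]
    exact Field.toIsField (Spec (CommRingCat.of V)).functionField
  haveI hdom := isDomain_stalk_generization p (σ c) (fun K _ t w hw => by
    let e := (IsPullback.of_hasPullback p t).paste_horiz (IsPullback.of_hasPullback f g)
    haveI := isDomain_stalk_of_geomPtIntegralAt f (t ≫ g) (e.isoPullback.hom w) (x := x) (by
      rw [← Scheme.Hom.comp_apply, e.isoPullback_hom_fst, Scheme.Hom.comp_apply, hw, hae]) hint
    exact isDomain_stalk_of_openImmersion e.isoPullback.hom w)
    (z := σ η) ((genericPoint_specializes c).map σ.continuous) hfield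
  let ι := Spec.map (CommRingCat.ofHom (algebraMap V Ω))
  haveI : IsPreimmersion ι := IsPreimmersion.of_isLocalization (nonZeroDivisors V)
  haveI : Flat ι := (HasRingHomProperty.Spec_iff (P := @Flat)).mpr
    (RingHom.flat_algebraMap_iff.mpr (IsLocalization.flat Ω (nonZeroDivisors V)))
  obtain ⟨w₁, hw₁, -⟩ := Scheme.Pullback.exists_preimage_pullback (f := p) (g := ι) (σ η)
    (IsLocalRing.closedPoint Ω) (hpη.trans (GrothLib.DvrPts6.pt_fractionRing V Ω).symm)
  haveI : Flat (pullback.fst p ι) := MorphismProperty.pullback_fst p ι ‹_›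
  haveI : IsPreimmersion (pullback.fst p ι) := MorphismProperty.pullback_fst p ι ‹_›
  haveI : IsDomain ((pullback f g).presheaf.stalk (pullback.fst p ι w₁)) := by
    rw [hw₁]
    exact hdom
  haveI : IsDomain ((pullback p ι).presheaf.stalk w₁) :=
    MulEquiv.isDomain _ (RingEquiv.ofBijective ((pullback.fst p ι).stalkMap w₁).hom
      ⟨GrothLib.FBase7.stalkMap_injective_of_flat (pullback.fst p ι) w₁,
        (pullback.fst p ι).stalkMap_surjective w₁⟩).symm.toMulEquiv
  let e := (IsPullback.of_hasPullback p ι).paste_horiz (IsPullback.of_hasPullback f g)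
  refine isGeomPtIntegralAt_of_isDomain_pullback f (ι ≫ g) (e.isoPullback.hom w₁) ?_ ?_
  · exact MulEquiv.isDomain _ (asIso (e.isoPullback.hom.stalkMap w₁)).commRingCatIsoToRingEquiv.toMulEquiv
  · rw [← Scheme.Hom.comp_apply, e.isoPullback_hom_fst, Scheme.Hom.comp_apply, hw₁, hze]

end GrothLib.Chev28
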