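import Groth.Agent.Lib.Chev28.ConnCount
import Groth.Agent.Lib.Chev28.PtIntGen
import Groth.Agent.Lib.GeomComp6.Locus
import Groth.Agent.Lib.GeomRed6.Locus
import Groth.Agent.Lib.QuasiSec.Finite
import Groth.Agent.Lib.UnivOpenAt6.Components

/-!
EGA IV 12.2.4, 15.5: loci defined by geometric component counts of proper morphisms.
-/

universe u

open CategoryTheory CategoryTheory.Limits AlgebraicGeometry TopologicalSpace Topology IsLocalRing

noncomputable section

namespace GrothLib.Chev28

variable {X Y : Scheme.{u}}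

/-- A locally constructible set containing all generizations of a point is a neighbourhood of it. -/
theorem mem_nhds_of_isLocallyConstructible {E : Set Y} (hE : IsLocallyConstructible E) (y : Y)
    (h : ∀ z, z ⤳ y → z ∈ E) : E ∈ 𝓝 y := by
  obtain ⟨_, ⟨(U : Y.Opens), hU, rfl⟩, hyU, -⟩ :=
    Y.isBasis_affineOpens.exists_subset_of_mem_open (Set.mem_univ y) isOpen_univ
  obtain ⟨q, rfl⟩ := hU.range_fromSpec.ge hyU
  have hc : IsConstructible (hU.fromSpec ⁻¹' E) :=
    (hE.preimage_of_isOpenEmbedding hU.fromSpec.isOpenEmbedding).isConstructible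
  exact Filter.mem_of_superset (hU.fromSpec.isOpenEmbedding.isOpenMap.image_mem_nhds
      (GrothLib.QuasiSec.mem_nhds_of_isConstructible hc q fun p hp => h _ (hp.map hU.fromSpec.continuous)))
    (Set.image_preimage_subset _ _)

/-- The level sets of functions of the connected count are locally constructible. -/
theorem isLocallyConstructible_conn (f : X ⟶ Y) [LocallyOfFinitePresentation f] [QuasiCompact f] [QuasiSeparated f]
    (P : ℕ∞ → Prop) : IsLocallyConstructible {y | P (MoreMor.nGeomConnComp f y)} := by
  classical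
  convert GrothLib.GeomComp6.isLocallyConstructible_geomCount f (fun p => decide (P p.2)) true using 1
  ext y
  simp [GrothLib.GeomComp6.geomCount]

theorem isUnivOpenAt_of_flat (f : X ⟶ Y) [Flat f] [LocallyOfFinitePresentation f] (x : X) :
    EGA43.IsUnivOpenAt f x :=
  (GrothLib.UnivOpenAt6.universallyOpen_iff_forall_univOpenAt f).mp inferInstance x

/-- EGA IV 15.5.3 (ii). -/
theorem nGeomConnComp_le_nhd (f : X ⟶ Y) [IsProper f] [LocallyOfFinitePresentation f] (y : Y)
    (h : ∀ x, f x = y → EGA43.IsUnivOpenAt f x) :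
    ∀ᶠ z in 𝓝 y, MoreMor.nGeomConnComp f y ≤ MoreMor.nGeomConnComp f z :=
  mem_nhds_of_isLocallyConstructible (isLocallyConstructible_conn f fun n => MoreMor.nGeomConnComp f y ≤ n) y
    fun _ hz => (nGeomConnComp_of_specializes f hz h).1

/-- EGA IV 15.5.4. -/
theorem nGeomConnComp_eq_nhd (f : X ⟶ Y) [IsProper f] [LocallyOfFinitePresentation f] (y : Y)
    (h : ∀ x, f x = y → EGA43.IsUnivOpenAt f x) (hred : GeometricallyReduced (f.fiberToSpecResidueField y)) :
    ∀ᶠ z in 𝓝 y, MoreMor.nGeomConnComp f z = MoreMor.nGeomConnComp f y :=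
  mem_nhds_of_isLocallyConstructible (isLocallyConstructible_conn f fun n => n = MoreMor.nGeomConnComp f y) y
    fun _ hz => ((nGeomConnComp_of_specializes f hz h).2 hred).1.symm

theorem finite_irreducibleComponents_geomFiber (f : X ⟶ Y) [LocallyOfFiniteType f] [QuasiCompact f] (y : Y) :
    Finite (irreducibleComponents ↥(MoreMor.geomFiber f y)) ∧
      Finite (_root_.ConnectedComponents ↥(MoreMor.geomFiber f y)) := by
  let r := Spec.map (CommRingCat.ofHom (algebraMap (Y.residueField y) (SeparableClosure (Y.residueField y))))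
  let q : MoreMor.geomFiber f y ⟶ _ := pullback.snd (f.fiberToSpecResidueField y) r
  haveI : LocallyOfFiniteType (f.fiberToSpecResidueField y) := MorphismProperty.pullback_snd f _ inferInstance
  haveI : QuasiCompact (f.fiberToSpecResidueField y) := MorphismProperty.pullback_snd f _ inferInstance
  haveI : LocallyOfFiniteType q := MorphismProperty.pullback_snd _ _ inferInstance
  haveI : QuasiCompact q := MorphismProperty.pullback_snd _ _ inferInstance
  haveI : IsLocallyNoetherian (MoreMor.geomFiber f y) := LocallyOfFiniteType.isLocallyNoetherian q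
  haveI : CompactSpace ↥(MoreMor.geomFiber f y) := QuasiCompact.compactSpace_of_compactSpace q
  haveI : IsNoetherian (MoreMor.geomFiber f y) := {}
  exact ⟨NoetherianSpace.finite_irreducibleComponents.to_subtype, finite_connectedComponents _⟩

/-- A fibre is geometrically pointwise integral iff it is geometrically reduced with as many geometric
irreducible components as connected ones. -/
theorem forall_isGeomPtIntegralAt_fiber_iff (f : X ⟶ Y) [LocallyOfFiniteType f] [QuasiCompact f] (y : Y) :
    (∀ x : ↥(f.fiber y), FBase.IsGeomPtIntegralAt (f.fiberToSpecResidueField y) x) ↔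
      GeometricallyReduced (f.fiberToSpecResidueField y) ∧
        MoreMor.nGeomIrredComp f y = MoreMor.nGeomConnComp f y := by
  let κ := IsLocalRing.ResidueField (Y.presheaf.stalk y)
  let Ω := AlgebraicClosure κ
  let t : Spec (CommRingCat.of Ω) ⟶ Y :=
    Spec.map (CommRingCat.ofHom (algebraMap κ Ω)) ≫ Y.fromSpecResidueField y
  let e : FBase.bc (f.fiberToSpecResidueField y) Ω ≅ pullback f t :=
    pullbackLeftPullbackSndIso f (Y.fromSpecResidueField y) _
  have h1 := GrothLib.GeomComp6.count_geomFiber_eq f t (y := y) (Y.fromSpecResidueField_apply y _)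
  rw [← GrothLib.GeomComp6.count_congr e] at h1
  obtain ⟨hI, hC⟩ := Prod.ext_iff.mp h1
  obtain ⟨hfI, hfC⟩ := finite_irreducibleComponents_geomFiber f y
  haveI : Finite (irreducibleComponents ↥(FBase.bc (f.fiberToSpecResidueField y) Ω)) :=
    Set.finite_coe_iff.mpr (Set.encard_lt_top_iff.mp (lt_of_eq_of_lt hI.symm
      (Set.encard_lt_top_iff.mpr (Set.finite_coe_iff.mp hfI))))
  haveI : Finite (_root_.ConnectedComponents ↥(FBase.bc (f.fiberToSpecResidueField y) Ω)) :=
    (ENat.card_lt_top).mp (lt_of_eq_of_lt hC.symm ((ENat.card_lt_top).mpr hfC))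
  rw [@GrothLib.FBase7.forall_isGeomPtIntegralAt_iff κ _ _ (f.fiberToSpecResidueField y) Ω _ _ _
    (MorphismProperty.pullback_snd f _ inferInstance) (MorphismProperty.pullback_snd f _ inferInstance)]
  refine and_congr_right fun _ => ?_
  show _ ↔ MoreMor.nGeomIrredComp f y = MoreMor.nGeomConnComp f y
  rw [show MoreMor.nGeomIrredComp f y = _ from hI, show MoreMor.nGeomConnComp f y = _ from hC]
  show _ ↔ ENat.card ↥(irreducibleComponents ↥(FBase.bc (f.fiberToSpecResidueField y) Ω)) =
    ENat.card (_root_.ConnectedComponents ↥(FBase.bc (f.fiberToSpecResidueField y) Ω))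
  rw [ENat.card_eq_coe_natCard, ENat.card_eq_coe_natCard, Nat.cast_inj]

theorem isLocallyConstructible_forall_isGeomPtIntegralAt (f : X ⟶ Y) [LocallyOfFinitePresentation f]
    [QuasiCompact f] [QuasiSeparated f] :
    IsLocallyConstructible {y | ∀ x : ↥(f.fiber y), FBase.IsGeomPtIntegralAt (f.fiberToSpecResidueField y) x} := by
  classical
  convert (GrothLib.GeomRed6.isLocallyConstructible_geomRed f).inter
    (GrothLib.GeomComp6.isLocallyConstructible_geomCount f (fun p => decide (p.1 = p.2)) true) using 1
  ext y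
  simp [GrothLib.GeomComp6.geomCount, forall_isGeomPtIntegralAt_fiber_iff]

theorem forall_isGeomPtIntegralAt_of_specializes (f : X ⟶ Y) [IsProper f] [Flat f]
    [LocallyOfFinitePresentation f] {y y' : Y} (hy : y' ⤳ y)
    (h : ∀ x : ↥(f.fiber y), FBase.IsGeomPtIntegralAt (f.fiberToSpecResidueField y) x) :
    ∀ x : ↥(f.fiber y'), FBase.IsGeomPtIntegralAt (f.fiberToSpecResidueField y') x := by
  intro x'
  rw [← GrothLib.FibPd.asFiber_iff f (fun y x => FBase.IsGeomPtIntegralAt (f.fiberToSpecResidueField y) x) y' x']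
  obtain ⟨x, hx, hfx⟩ : ∃ x, f.fiberι y' x' ⤳ x ∧ f x = y := by
    have hcl := f.isClosedMap _ (isClosed_closure (s := {f.fiberι y' x'}))
    obtain ⟨x, hx, hfx⟩ := hy.mem_closed hcl ⟨_, subset_closure rfl, GrothLib.FibreFlat.fiberι_comp_apply f y' x'⟩
    exact ⟨x, specializes_iff_mem_closure.mpr hx, hfx⟩
  subst hfx
  exact isGeomPtIntegralAt_generization f hx (h _)

/-- EGA IV 12.2.4 (viii). -/
theorem isOpen_forall_isGeomPtIntegralAt (f : X ⟶ Y) [IsProper f] [Flat f] [LocallyOfFinitePresentation f] :
    IsOpen {y | ∀ x : ↥(f.fiber y), FBase.IsGeomPtIntegralAt (f.fiberToSpecResidueField y) x} :=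
  isOpen_of_stableUnderGen (isLocallyConstructible_forall_isGeomPtIntegralAt f)
    fun _ hy _ hy' => forall_isGeomPtIntegralAt_of_specializes f hy' hy

theorem geometricallyIntegral_fiber_iff (f : X ⟶ Y) (y : Y) :
    GeometricallyIntegral (f.fiberToSpecResidueField y) ↔
      GeometricallyReduced (f.fiberToSpecResidueField y) ∧ MoreMor.nGeomIrredComp f y = 1 := by
  rw [GeometricallyIntegral.eq_geometricallyReduced_inf_geometricallyIrreducible]
  refine and_congr_right fun _ => ?_
  rw [GrothLib.GeomComp6.geometricallyIrreducible_iff_count]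
  have key : ∀ q : Spec (Y.residueField y),
      MoreMor.nGeomIrredComp (f.fiberToSpecResidueField y) q = MoreMor.nGeomIrredComp f y := fun q => by
    refine (congrArg Prod.fst (GrothLib.GeomComp6.count_baseChange f (f.fiberToSpecResidueField y) (f.fiberι y)
      (Y.fromSpecResidueField y) (IsPullback.of_hasPullback _ _) q)).trans ?_
    rw [Y.fromSpecResidueField_apply]
  exact ⟨fun h => key (IsLocalRing.closedPoint (Y.residueField y)) ▸ h _, fun h q => (key q).trans h⟩

/-- EGA IV 12.2.4 (viii). -/
theorem isOpen_geometricallyIntegral_fiber (f : X ⟶ Y) [IsProper f] [Flat f] [LocallyOfFinitePresentation f] :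
    IsOpen {y | GeometricallyIntegral (f.fiberToSpecResidueField y)} := by
  classical
  refine isOpen_of_stableUnderGen ?_ fun y hy y' hy' => ?_
  · convert (GrothLib.GeomRed6.isLocallyConstructible_geomRed f).inter
      (GrothLib.GeomComp6.isLocallyConstructible_geomCount f (fun p => decide (p.1 = 1)) true) using 1
    ext y
    simp [GrothLib.GeomComp6.geomCount, geometricallyIntegral_fiber_iff]
  · rw [Set.mem_setOf_eq, geometricallyIntegral_fiber_iff] at hy ⊢
    have hc1 : MoreMor.nGeomConnComp f y = 1 := by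
      obtain ⟨-, -⟩ := finite_irreducibleComponents_geomFiber f y
      haveI : IrreducibleSpace ↥(MoreMor.geomFiber f y) :=
        GrothLib.GeomComp6.encard_irreducibleComponents_eq_one_iff.mp hy.2
      exact GrothLib.GeomComp6.card_connectedComponents_eq_one_iff.mpr inferInstance
    obtain ⟨hc, hr⟩ := (nGeomConnComp_of_specializes f hy' fun x _ => isUnivOpenAt_of_flat f x).2 hy.1
    have hp := forall_isGeomPtIntegralAt_of_specializes f hy'
      ((forall_isGeomPtIntegralAt_fiber_iff f y).mpr ⟨hy.1, hy.2.trans hc1.symm⟩)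
    exact ⟨hr, ((forall_isGeomPtIntegralAt_fiber_iff f y').mp hp).2.trans (hc ▸ hc1)⟩

end GrothLib.Chev28
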