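import Groth.Agent.Lib.Chev28.ConnOpen
import Groth.Agent.S4934
import Groth.Agent.S7838
import Groth.Agent.Lib.Stein.Main
import Groth.Agent.Lib.Stein.Finite

/-!
EGA IV 15.5.3 (i): lower semicontinuity at geometrically unibranch points.
-/

universe u

open CategoryTheory CategoryTheory.Limits AlgebraicGeometry TopologicalSpace Topology IsLocalRing

noncomputable section

namespace GrothLib.Chev28

variable {X Y : Scheme.{u}}

theorem topologicalKrullDim_eq_zero_of_discrete (T : Type u) [TopologicalSpace T] [DiscreteTopology T]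
    [Nonempty T] : topologicalKrullDim T = 0 := by
  haveI : Nonempty (TopologicalSpace.IrreducibleCloseds T) :=
    ⟨⟨closure {Classical.arbitrary T}, isIrreducible_singleton.closure, isClosed_closure⟩⟩
  exact le_antisymm (topologicalKrullDim_zero_of_discreteTopology T) Order.krullDim_nonneg

theorem discreteTopology_inter_fiber (h : X ⟶ Y) [LocallyQuasiFinite h] [QuasiCompact h] (Z : Set X) (y : Y) :
    DiscreteTopology ↥(Z ∩ h.base ⁻¹' {y}) := by
  haveI : DiscreteTopology ↥(h.fiber y) := inferInstance
  haveI : DiscreteTopology ↥(h.base ⁻¹' {y}) := (h.fiberHomeo y).discreteTopology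
  exact DiscreteTopology.of_subset ‹_› Set.inter_subset_right

/-- A finite morphism with all components dominating an irreducible base is universally open over
geometrically unibranch points. -/
theorem isUnivOpenAt_of_finite_dominant [IrreducibleSpace Y] [IsLocallyNoetherian Y] (h : X ⟶ Y) [IsFinite h]
    (hdom : ∀ ν : X, (∀ z, z ⤳ ν → z = ν) → closure ({h ν} : Set Y) = Set.univ) (x : X)
    (hy : CAlg2.IsGeomUnibranch (Y.presheaf.stalk (h x))) : EGA43.IsUnivOpenAt h x := by
  have hmax : ∀ x', h.base x' = h.base x → x ∈ closure {x'} → x' = x := fun x' hx' hcl => by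
    have hd := discreteTopology_inter_fiber h Set.univ (h x)
    let S : Set X := Set.univ ∩ h.base ⁻¹' {h x}
    have h1 : (⟨x', ⟨trivial, hx'⟩⟩ : S) ⤳ ⟨x, ⟨trivial, rfl⟩⟩ :=
      Topology.IsEmbedding.subtypeVal.isInducing.specializes_iff.mp (specializes_iff_mem_closure.mpr hcl)
    haveI := hd
    exact congrArg Subtype.val (specializes_iff_eq.mp h1)
  refine ((Groth.Agent.S4934.result h x hmax hy).out 0 1).mpr fun Y₀ hY₀ hy₀ => ?_
  obtain rfl : Y₀ = Set.univ :=
    Set.Subset.antisymm (Set.subset_univ _) (hY₀.2 (IrreducibleSpace.isIrreducible_univ Y) (Set.subset_univ _))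
  obtain ⟨ν, hνx, hν⟩ := exists_maximal_generization x
  refine ⟨closure {ν}, GrothLib.Equidim6.closure_mem_components hν, hνx.mem_closure, ?_, fun η hη => ?_⟩
  · refine Set.eq_univ_of_univ_subset ?_
    rw [← hdom ν hν]
    exact closure_mono (Set.singleton_subset_iff.mpr ⟨ν, subset_closure rfl, rfl⟩)
  haveI hne : Nonempty ↥(closure {ν} ∩ h.base ⁻¹' {η}) := by
    refine ⟨⟨ν, subset_closure rfl, ?_⟩⟩
    show h ν = η
    exact ((show IsGenericPoint (h ν) Set.univ from hdom ν hν).eq (show IsGenericPoint η Set.univ from hη))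
  haveI := discreteTopology_inter_fiber h (closure {ν}) η
  rw [topologicalKrullDim_eq_zero_of_discrete ↥(closure {ν} ∩ h.base ⁻¹' {η})]
  haveI : DiscreteTopology ↥(closure {ν} ∩ h.base ⁻¹' {h.base x}) := discreteTopology_inter_fiber h (closure {ν}) (h x)
  refine le_antisymm ((iInf_le _ ⟨⊤, TopologicalSpace.Opens.mem_top _⟩).trans ?_) (le_iInf fun U => ?_)
  · exact topologicalKrullDim_zero_of_discreteTopology _
  · obtain ⟨U, hU⟩ := U
    haveI : Nonempty ↥(U : Set ↥(closure {ν} ∩ h.base ⁻¹' {h.base x})) := ⟨⟨_, hU⟩⟩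
    exact (topologicalKrullDim_eq_zero_of_discrete _).ge

/-- EGA IV 15.5.3 (i). -/
theorem nGeomConnComp_le_nhd_of_geomUnibranch [IrreducibleSpace Y] [IsLocallyNoetherian Y] (f : X ⟶ Y) [IsProper f]
    (hdom : ∀ Z ∈ irreducibleComponents (X : Type u), closure (f.base '' Z) = Set.univ) (y : Y)
    (hy : CAlg2.IsGeomUnibranch (Y.presheaf.stalk y)) :
    ∀ᶠ z in 𝓝 y, MoreMor.nGeomConnComp f y ≤ MoreMor.nGeomConnComp f z := by
  let h := f.fromNormalization
  haveI : IsFinite h := GrothLib.Stein.isFinite_fromNormalization f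
  have hfac : ∀ a, h (f.toNormalization a) = f a := fun a => by
    rw [← Scheme.Hom.comp_apply, f.toNormalization_fromNormalization]
  have hdom' : ∀ ν : f.normalization, (∀ z, z ⤳ ν → z = ν) → closure ({h ν} : Set Y) = Set.univ := fun ν hν => by
    obtain ⟨a, rfl⟩ := GrothLib.Stein.surjective_toNormalization f ν
    obtain ⟨ξ, hξ, hξmax⟩ := exists_maximal_generization a
    rw [← hν _ (hξ.map f.toNormalization.continuous), hfac,
      ← hdom _ (GrothLib.Equidim6.closure_mem_components hξmax), closure_image_closure f.continuous, Set.image_singleton]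
  have key := nGeomConnComp_le_nhd h y fun x hx => isUnivOpenAt_of_finite_dominant h hdom' x (hx ▸ hy)
  filter_upwards [key] with z hz
  rw [(Groth.Agent.S7838.result f y).2, (Groth.Agent.S7838.result f z).2]
  exact hz

end GrothLib.Chev28
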