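import Groth.Agent.Lib.Chev28.UnivRed
import Groth.Agent.Lib.DvrPts6.Val
import Groth.Agent.Lib.GeomComp6.BaseChange
import Groth.Agent.Lib.LocAcyc.GeomRed
import Groth.Agent.S8533

/-!
EGA IV 15.5: connected components of the special and generic fibres over valuation rings with algebraically
closed fraction fields.
-/

universe u

open CategoryTheory CategoryTheory.Limits AlgebraicGeometry TopologicalSpace Topology IsLocalRing
open TensorProduct

noncomputable section

namespace GrothLib.Chev28

/-- A valuation ring with algebraically closed fraction field is henselian. -/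
theorem henselianLocalRing_valuationSubring {Ω : Type u} [Field Ω] [IsAlgClosed Ω] (V : ValuationSubring Ω) :
    HenselianLocalRing V := by
  refine ⟨fun p hp a₀ h₁ h₂ => ?_⟩
  let φ : V →+* Ω := algebraMap V Ω
  have hsplit : (p.map φ).Splits := IsAlgClosed.splits _
  have hroot : ∀ r ∈ (p.map φ).roots, ∃ b : V, φ b = r := fun r hr => by
    have h := (Polynomial.mem_roots (hp.map φ).ne_zero).mp hr
    rw [Polynomial.IsRoot.def, Polynomial.eval_map] at h
    exact IsIntegrallyClosed.algebraMap_eq_of_integral (R := V) (K := Ω) ⟨p, hp, h⟩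
  have hev : φ (p.eval a₀) = ((p.map φ).roots.map fun r => φ a₀ - r).prod := by
    rw [← Polynomial.eval₂_at_apply, ← Polynomial.eval_map]
    conv_lhs => rw [hsplit.eq_prod_roots_of_monic (hp.map φ)]
    rw [Polynomial.eval_multiset_prod, Multiset.map_map]
    simp
  by_contra hne
  push Not at hne
  have hunit : ∀ x ∈ (p.map φ).roots.map (fun r => φ a₀ - r), ∃ w : V, IsUnit w ∧ φ w = x := fun x hx => by
    obtain ⟨r, hr, rfl⟩ := Multiset.mem_map.mp hx
    obtain ⟨b, rfl⟩ := hroot r hr
    refine ⟨a₀ - b, ?_, map_sub φ a₀ b⟩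
    by_contra hb
    have hbr : p.IsRoot b := by
      refine IsFractionRing.injective V Ω ?_
      rw [map_zero]
      change φ (p.eval b) = 0
      rw [← Polynomial.eval₂_at_apply, ← Polynomial.eval_map]
      exact (Polynomial.mem_roots (hp.map φ).ne_zero).mp hr
    exact hne b hbr (by rw [← neg_sub]; exact neg_mem ((IsLocalRing.mem_maximalIdeal _).mpr hb))
  have key : ∀ s : Multiset Ω, (∀ x ∈ s, ∃ w : V, IsUnit w ∧ φ w = x) → ∃ w : V, IsUnit w ∧ φ w = s.prod := by
    intro s
    induction s using Multiset.induction with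
    | empty => exact fun _ => ⟨1, isUnit_one, by simp⟩
    | cons x s ih =>
      intro hs
      obtain ⟨w, hw, hwx⟩ := hs x (Multiset.mem_cons_self x s)
      obtain ⟨w', hw', hws⟩ := ih fun y hy => hs y (Multiset.mem_cons_of_mem hy)
      exact ⟨w * w', hw.mul hw', by rw [map_mul, hwx, hws, Multiset.prod_cons]⟩
  obtain ⟨w, hw, hwe⟩ := key _ hunit
  rw [← hev] at hwe
  exact (IsLocalRing.mem_maximalIdeal _).mp h₁ (IsFractionRing.injective V Ω hwe ▸ hw)

/-- A Noetherian space has finitely many connected components. -/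
theorem finite_connectedComponents (T : Type u) [TopologicalSpace T] [NoetherianSpace T] :
    Finite (_root_.ConnectedComponents T) := by
  haveI : Finite (irreducibleComponents T) := NoetherianSpace.finite_irreducibleComponents.to_subtype
  refine Finite.of_surjective (fun Z : irreducibleComponents T => ConnectedComponents.mk Z.2.1.nonempty.some)
    fun p => ?_
  obtain ⟨x, rfl⟩ := ConnectedComponents.surjective_coe p
  refine ⟨⟨irreducibleComponent x, irreducibleComponent_mem_irreducibleComponents x⟩, ?_⟩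
  exact ConnectedComponents.coe_eq_coe.2 (connectedComponent_eq
    ((isIrreducible_irreducibleComponent (x := x)).2.isPreconnected.subset_connectedComponent
      mem_irreducibleComponent (Set.Nonempty.some_mem _))).symm

/-- With finitely many connected components each of them is open. -/
theorem isClopen_connectedComponent_of_finite {T : Type u} [TopologicalSpace T]
    [Finite (_root_.ConnectedComponents T)] (x : T) : IsClopen (connectedComponent x) := by
  refine ⟨isClosed_connectedComponent, isClosed_compl_iff.mp ?_⟩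
  let S : Set (_root_.ConnectedComponents T) := {c | c ≠ ConnectedComponents.mk x}
  have h : (connectedComponent x)ᶜ = ⋃ c ∈ S, (ConnectedComponents.mk ⁻¹' {c} : Set T) := by
    ext y
    simp only [Set.mem_compl_iff, Set.mem_iUnion, Set.mem_preimage, Set.mem_singleton_iff, exists_prop,
      exists_eq_right', S, Set.mem_setOf_eq, ne_eq, ConnectedComponents.coe_eq_coe']
  rw [h]
  refine (Set.toFinite S).isClosed_biUnion fun c _ => ?_
  obtain ⟨y, rfl⟩ := ConnectedComponents.surjective_coe c
  rw [connectedComponents_preimage_singleton]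
  exact isClosed_connectedComponent

variable {V : Type u} [CommRing V] [IsDomain V]

/-- For a flat morphism of finite presentation with geometrically reduced fibres over a normal domain the
closures of a clopen part of the generic fibre and of its complement are disjoint. -/
theorem disjoint_closure_of_generic [IsIntegrallyClosed V] {Z : Scheme.{u}} (g : Z ⟶ Spec (CommRingCat.of V))
    [Flat g] [LocallyOfFinitePresentation g]
    (hsep : ∀ (K : Type u) [Field K] (k : Spec (CommRingCat.of K) ⟶ Spec (CommRingCat.of V)),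
      AlgebraicGeometry.IsReduced (pullback g k))
    (u v : Set Z) (hu : IsOpen u) (hv : IsOpen v) (hcov : {x | (g x).asIdeal = ⊥} ⊆ u ∪ v)
    (hdis : {x | (g x).asIdeal = ⊥} ∩ (u ∩ v) = ∅) :
    Disjoint (closure ({x | (g x).asIdeal = ⊥} ∩ u)) (closure ({x | (g x).asIdeal = ⊥} ∩ v)) := by
  rw [Set.disjoint_left]
  intro a hau hav
  obtain ⟨W, hW, haW, -⟩ := exists_isAffineOpen_mem_and_subset (show a ∈ (⊤ : Z.Opens) from trivial)
  let A := CommRingCat.of V
  obtain ⟨φ, hφ⟩ : ∃ φ : A ⟶ Γ(Z, W), Spec.map φ = hW.fromSpec ≫ g := Spec.map_surjective _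
  letI : Algebra V Γ(Z, W) := φ.hom.toAlgebra
  haveI : Algebra.FinitePresentation V Γ(Z, W) := by
    have h := (HasRingHomProperty.Spec_iff (P := @LocallyOfFinitePresentation) (φ := φ)).mp (by
      rw [hφ]; infer_instance)
    exact h
  haveI : Module.Flat V Γ(Z, W) := by
    have h := (HasRingHomProperty.Spec_iff (P := @Flat) (φ := φ)).mp (by rw [hφ]; infer_instance)
    exact h
  have hred : ∀ (K : Type u) [Field K] [Algebra V K], _root_.IsReduced (K ⊗[V] Γ(Z, W)) := by
    intro K _ _
    let k : Spec (CommRingCat.of K) ⟶ Spec A := Spec.map (CommRingCat.ofHom (algebraMap V K))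
    let P := pullback g k
    haveI := hsep K k
    let e := pullbackSpecIso V Γ(Z, W) K
    let j : pullback (Spec.map φ) k ⟶ P := pullback.map (Spec.map φ) k g k hW.fromSpec (𝟙 _) (𝟙 _)
      (by rw [Category.comp_id, hφ]) (by simp)
    haveI : AlgebraicGeometry.IsReduced (pullback (Spec.map φ) k) := isReduced_of_isOpenImmersion j
    haveI : AlgebraicGeometry.IsReduced (Spec (CommRingCat.of (Γ(Z, W) ⊗[V] K))) :=
      isReduced_of_isOpenImmersion e.inv
    haveI := (affine_isReduced_iff (CommRingCat.of (Γ(Z, W) ⊗[V] K))).1 inferInstance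
    exact isReduced_of_injective (Algebra.TensorProduct.comm V K Γ(Z, W))
      (Algebra.TensorProduct.comm V K Γ(Z, W)).injective
  have hgen : ∀ p : PrimeSpectrum Γ(Z, W),
      ((g (hW.fromSpec p)).asIdeal = ⊥ ↔ p.asIdeal.comap (algebraMap V Γ(Z, W)) = ⊥) := fun p => by
    rw [← Scheme.Hom.comp_apply, ← hφ]
    rfl
  let M := Algebra.algebraMapSubmonoid Γ(Z, W) (nonZeroDivisors V)
  let S := Localization M
  let c : PrimeSpectrum S → Z := fun p => hW.fromSpec (PrimeSpectrum.comap (algebraMap Γ(Z, W) S) p)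
  have hc : Continuous c := hW.fromSpec.continuous.comp (PrimeSpectrum.continuous_comap _)
  have hcG : ∀ p, c p ∈ {x | (g x).asIdeal = ⊥} := fun p => by
    show (g (c p)).asIdeal = ⊥
    rw [hgen, eq_bot_iff]
    intro s hs
    by_contra hs0
    exact Set.disjoint_left.mp ((IsLocalization.isPrime_iff_isPrime_disjoint M S p.asIdeal).mp inferInstance).2
      ⟨s, mem_nonZeroDivisors_of_ne_zero hs0, rfl⟩ hs
  have hcu : IsClopen (c ⁻¹' u) := by
    refine ⟨isOpen_compl_iff.mp ?_, hu.preimage hc⟩
    have : (c ⁻¹' u)ᶜ = c ⁻¹' v := by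
      ext p
      refine ⟨fun hp => (hcov (hcG p)).resolve_left hp, fun hpv hpu => ?_⟩
      exact (Set.eq_empty_iff_forall_notMem.mp hdis (c p)) ⟨hcG p, hpu, hpv⟩
    rw [this]
    exact hv.preimage hc
  obtain ⟨e, e', hee', hadd, heu⟩ := PrimeSpectrum.isClopen_iff_mul_add.mp hcu
  have he : e * e = e := by linear_combination e * hadd - hee'
  obtain ⟨t, s, rfl⟩ := IsLocalization.exists_mk'_eq M e
  obtain ⟨b, hb, hbs⟩ := s.2
  have hb0 : b ≠ 0 := nonZeroDivisors.ne_zero hb
  have htor : ∀ z : Γ(Z, W), algebraMap V Γ(Z, W) b * z = 0 → z = 0 := fun z hz =>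
    GrothLib.LocAcyc.smul_eq_zero_of_flat hb0 ((Algebra.smul_def b z).trans hz)
  have hM : M ≤ nonZeroDivisors Γ(Z, W) := by
    rintro _ ⟨x, hx, rfl⟩
    rw [mem_nonZeroDivisors_iff_right]
    intro z hz
    exact GrothLib.LocAcyc.smul_eq_zero_of_flat (nonZeroDivisors.ne_zero hx)
      (by rw [Algebra.smul_def, mul_comm]; exact hz)
  have ht : t * t = algebraMap V Γ(Z, W) b * t := IsLocalization.injective S hM (by
    rw [map_mul, map_mul, show algebraMap V Γ(Z, W) b = (s : Γ(Z, W)) from hbs,
      ← IsLocalization.mk'_spec' S t s, mul_mul_mul_comm, he]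
    ring)
  obtain ⟨ε, hε⟩ := Ideal.mem_span_singleton'.mp (GrothLib.LocAcyc.mem_span_of_flat_fp hred b t ht)
  have hεε : ε * ε = ε := by
    refine sub_eq_zero.mp (htor _ (htor _ ?_))
    have h2 := ht
    rw [← hε] at h2
    linear_combination h2
  have hes : IsLocalization.mk' S t s = algebraMap Γ(Z, W) S ε := by
    rw [IsLocalization.mk'_eq_iff_eq_mul, ← map_mul, show (s : Γ(Z, W)) = algebraMap V Γ(Z, W) b from hbs.symm, hε]
  obtain ⟨q, rfl⟩ : a ∈ Set.range hW.fromSpec := hW.range_fromSpec.ge haW
  have hlift : ∀ p : PrimeSpectrum Γ(Z, W), (g (hW.fromSpec p)).asIdeal = ⊥ → ∃ p' : PrimeSpectrum S,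
      PrimeSpectrum.comap (algebraMap Γ(Z, W) S) p' = p := fun p hp => by
    rw [hgen] at hp
    have hd : Disjoint (M : Set Γ(Z, W)) p.asIdeal := Set.disjoint_left.mpr fun _ ⟨x, hx, hxy⟩ hy =>
      nonZeroDivisors.ne_zero hx (by
        have : x ∈ p.asIdeal.comap (algebraMap V Γ(Z, W)) := by
          rw [Ideal.mem_comap, hxy]
          exact hy
        rwa [hp, Ideal.mem_bot] at this)
    exact ⟨⟨_, IsLocalization.isPrime_of_isPrime_disjoint M S _ p.isPrime hd⟩,
      PrimeSpectrum.ext (IsLocalization.comap_map_of_isPrime_disjoint M S p.isPrime hd)⟩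
  have hsplit : ∀ p : PrimeSpectrum Γ(Z, W), (g (hW.fromSpec p)).asIdeal = ⊥ →
      (hW.fromSpec p ∈ u ↔ ε ∉ p.asIdeal) := fun p hp => by
    obtain ⟨p', rfl⟩ := hlift p hp
    show p' ∈ c ⁻¹' u ↔ _
    rw [heu, hes]
    rfl
  have hopen : ∀ x : Γ(Z, W), IsOpen (hW.fromSpec '' (PrimeSpectrum.basicOpen x : Set (PrimeSpectrum Γ(Z, W)))) :=
    fun x => hW.fromSpec.isOpenEmbedding.isOpenMap _ (PrimeSpectrum.basicOpen x).2
  rcases q.isPrime.mem_or_mem (show ε * (1 - ε) ∈ q.asIdeal by rw [mul_sub, mul_one, hεε, sub_self]; exact zero_mem _)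
    with hq | hq
  · obtain ⟨_, ⟨p, hp, rfl⟩, hpG, hpu⟩ := mem_closure_iff.mp hau _ (hopen (1 - ε))
      ⟨q, fun h => q.isPrime.ne_top ((Ideal.eq_top_iff_one _).mpr (by simpa using add_mem h hq)), rfl⟩
    have h1 := (hsplit p hpG).mp hpu
    exact hp ((p.isPrime.mem_or_mem (show ε * (1 - ε) ∈ p.asIdeal by
      rw [mul_sub, mul_one, hεε, sub_self]; exact zero_mem _)).resolve_left h1)
  · obtain ⟨_, ⟨p, hp, rfl⟩, hpG, hpv⟩ := mem_closure_iff.mp hav _ (hopen ε)
      ⟨q, fun h => q.isPrime.ne_top ((Ideal.eq_top_iff_one _).mpr (by simpa using add_mem h hq)), rfl⟩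
    exact Set.eq_empty_iff_forall_notMem.mp hdis _ ⟨hpG, (hsplit p hpG).mpr hp, hpv⟩

variable [ValuationRing V] [HenselianLocalRing V] {Z : Scheme.{u}} (g : Z ⟶ Spec (CommRingCat.of V))

/-- Over a henselian valuation ring a proper scheme open along the closed fibre has at least as many connected
components in its generic fibre as in its closed fibre, with equality when it is flat with geometrically reduced
fibres. -/
theorem card_components_closed_generic [IsProper g] [LocallyOfFinitePresentation g]
    {c η : Spec (CommRingCat.of V)} (hc : c = IsLocalRing.closedPoint V) (hη : η.asIdeal = ⊥)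
    (hopen : ∀ a, g a = c → EGA43.IsOpenAt g.base a) :
    ENat.card (_root_.ConnectedComponents ↥(g.fiber c)) ≤ ENat.card (_root_.ConnectedComponents ↥(g.fiber η)) ∧
      (Flat g → (∀ (K : Type u) [Field K] (k : Spec (CommRingCat.of K) ⟶ Spec (CommRingCat.of V)),
        AlgebraicGeometry.IsReduced (pullback g k)) →
        ENat.card (_root_.ConnectedComponents ↥(g.fiber c)) = ENat.card (_root_.ConnectedComponents ↥(g.fiber η))) := by
  subst hc
  haveI : ∀ y, NoetherianSpace ↥(g.fiber y) := fun y => by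
    haveI : IsLocallyNoetherian (g.fiber y) :=
      LocallyOfFiniteType.isLocallyNoetherian (g.fiberToSpecResidueField y)
    haveI : CompactSpace ↥(g.fiber y) := inferInstance
    haveI : IsNoetherian (g.fiber y) := {}
    infer_instance
  haveI := finite_connectedComponents ↥(g.fiber (IsLocalRing.closedPoint V))
  haveI := finite_connectedComponents ↥(g.fiber η)
  have hbij := Groth.Agent.S8533.result V g
  haveI : Finite (_root_.ConnectedComponents ↥Z) := Finite.of_surjective _ hbij.2
  have hsurj : Function.Surjective (g.fiberι η).continuous.connectedComponentsMap := by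
    intro C
    obtain ⟨C₀, rfl⟩ := hbij.2 C
    obtain ⟨a₀, rfl⟩ := ConnectedComponents.surjective_coe C₀
    let a := g.fiberι (IsLocalRing.closedPoint V) a₀
    have ha : g a = IsLocalRing.closedPoint V := (g.range_fiberι _).le ⟨a₀, rfl⟩
    have hnhd := hopen a ha _ ((isClopen_connectedComponent_of_finite a).2.mem_nhds mem_connectedComponent)
    obtain ⟨O, hO, hOo, haO⟩ := mem_nhds_iff.mp hnhd
    have hgenη : η ∈ O := (show η ⤳ g.base a from by
      refine (PrimeSpectrum.le_iff_specializes η (g.base a)).mp ?_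
      show η.asIdeal ≤ (g.base a).asIdeal
      rw [hη]
      exact bot_le).mem_open hOo haO
    obtain ⟨b, hb, hbη⟩ := hO hgenη
    obtain ⟨b', rfl⟩ := (g.range_fiberι η).ge (show b ∈ g ⁻¹' {η} from hbη)
    exact ⟨ConnectedComponents.mk b', ConnectedComponents.coe_eq_coe'.mpr hb⟩
  have hle : ENat.card (_root_.ConnectedComponents ↥(g.fiber (IsLocalRing.closedPoint V))) ≤
      ENat.card (_root_.ConnectedComponents ↥(g.fiber η)) := by
    rw [ENat.card_congr (Equiv.ofBijective _ hbij)]
    exact ENat.card_le_card_of_injective (Function.injective_surjInv hsurj)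
  refine ⟨hle, fun hflat hsep => ?_⟩
  rw [ENat.card_congr (Equiv.ofBijective _ hbij)]
  refine (ENat.card_congr (Equiv.ofBijective _ ⟨?_, hsurj⟩)).symm
  intro p q hpq
  obtain ⟨x, rfl⟩ := ConnectedComponents.surjective_coe p
  obtain ⟨y, rfl⟩ := ConnectedComponents.surjective_coe q
  by_contra hne
  obtain ⟨hcl, hop⟩ := isClopen_connectedComponent_of_finite x
  have hemb := (g.fiberι η).isEmbedding
  obtain ⟨u, hu, hux⟩ := hemb.isInducing.isOpen_iff.mp hop
  obtain ⟨v, hv, hvx⟩ := hemb.isInducing.isOpen_iff.mp hcl.isOpen_compl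
  have hG : {z | (g z).asIdeal = ⊥} = Set.range (g.fiberι η) := by
    rw [g.range_fiberι]
    ext z
    exact ⟨fun hz => PrimeSpectrum.ext (hz.trans hη.symm), fun hz => by
      rw [Set.mem_setOf_eq, show g z = η from hz, hη]⟩
  haveI := hflat
  have hd := disjoint_closure_of_generic g hsep u v hu hv (fun z hz => by
      obtain ⟨z', rfl⟩ := hG.le hz
      by_cases h : z' ∈ connectedComponent x
      · exact Or.inl (hux.ge h)
      · exact Or.inr (hvx.ge h))
    (Set.eq_empty_iff_forall_notMem.mpr fun z ⟨hz, hzu, hzv⟩ => by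
      obtain ⟨z', rfl⟩ := hG.le hz
      exact (hvx.le hzv) (hux.le hzu))
  let Cu := closure ({z | (g z).asIdeal = ⊥} ∩ u)
  let Cv := closure ({z | (g z).asIdeal = ⊥} ∩ v)
  have hcov : Cuᶜ = Cv := by
    refine Set.Subset.antisymm (fun z hz => ?_) (fun z hz hz' => Set.disjoint_left.mp hd hz' hz)
    obtain ⟨w, hw, hwη⟩ := Flat.generalizingMap g (show η ⤳ g z from by
      refine (PrimeSpectrum.le_iff_specializes η (g z)).mp ?_
      show η.asIdeal ≤ (g z).asIdeal
      rw [hη]
      exact bot_le)
    have hwG : w ∈ {z | (g z).asIdeal = ⊥} := by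
      show (g w).asIdeal = ⊥
      rw [show g w = η from hwη, hη]
    obtain ⟨w', rfl⟩ := hG.le hwG
    by_cases h : w' ∈ connectedComponent x
    · exact absurd (hw.mem_closed isClosed_closure (show g.fiberι η w' ∈ Cu from subset_closure ⟨hwG, hux.ge h⟩)) hz
    · exact hw.mem_closed isClosed_closure (show g.fiberι η w' ∈ Cv from subset_closure ⟨hwG, hvx.ge h⟩)
  have hclopen : IsClopen Cu := ⟨isClosed_closure, isClosed_compl_iff.mp (hcov ▸ isClosed_closure)⟩
  have hxu : g.fiberι η x ∈ Cu := subset_closure ⟨hG.ge (Set.mem_range_self x), hux.ge mem_connectedComponent⟩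
  have hyv : g.fiberι η y ∈ Cv := subset_closure ⟨hG.ge (Set.mem_range_self y),
    hvx.ge fun h => hne (ConnectedComponents.coe_eq_coe'.mpr h).symm⟩
  have h1 : connectedComponent (g.fiberι η x) ⊆ Cu := hclopen.connectedComponent_subset hxu
  exact Set.disjoint_left.mp hd (h1 (ConnectedComponents.coe_eq_coe'.mp
    (show ConnectedComponents.mk (g.fiberι η y) = ConnectedComponents.mk (g.fiberι η x) from hpq.symm))) hyv

end GrothLib.Chev28
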