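import Groth.Agent.Lib.Chev28.Scheme
import Groth.Agent.Lib.Altitude.Scheme

/-!
Cuts with a prescribed number of functions, coefficient bounds, and primes of dimension one.
-/

universe u

open CategoryTheory CategoryTheory.Limits AlgebraicGeometry TopologicalSpace Topology
open TensorProduct MvPolynomial

noncomputable section

namespace GrothLib.Chev28

variable {Z Y : Scheme.{u}}

theorem quasiFiniteAt_pad {A B : Type u} [CommRing A] [CommRing B] [Algebra A B] {d n : ℕ} (hdn : d ≤ n)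
    (b : Fin d → B) (Q : Ideal B) [Q.IsPrime]
    (hqf : letI : Algebra (MvPolynomial (Fin d) A) B := (aeval b).toRingHom.toAlgebra
      Algebra.QuasiFiniteAt (MvPolynomial (Fin d) A) Q) :
    ∃ b' : Fin n → B, letI : Algebra (MvPolynomial (Fin n) A) B := (aeval b').toRingHom.toAlgebra
      Algebra.QuasiFiniteAt (MvPolynomial (Fin n) A) Q := by
  let b' : Fin n → B := fun i => if h : (i : ℕ) < d then b ⟨i, h⟩ else 0
  refine ⟨b', ?_⟩
  letI i1 : Algebra (MvPolynomial (Fin d) A) B := (aeval b).toRingHom.toAlgebra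
  letI i2 : Algebra (MvPolynomial (Fin n) A) B := (aeval b').toRingHom.toAlgebra
  letI i3 : Algebra (MvPolynomial (Fin d) A) (MvPolynomial (Fin n) A) :=
    (rename (Fin.castLE hdn) : MvPolynomial (Fin d) A →ₐ[A] MvPolynomial (Fin n) A).toRingHom.toAlgebra
  haveI := hqf
  have hb : ∀ P : MvPolynomial (Fin d) A, aeval b P = aeval b' (rename (Fin.castLE hdn) P) := fun P => by
    rw [aeval_rename]
    congr 2
    funext i
    simp [b']
  let L := Localization.AtPrime Q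
  haveI htower : @IsScalarTower (MvPolynomial (Fin d) A) (MvPolynomial (Fin n) A) L i3.toSMul _ _ := by
    refine @IsScalarTower.of_algebraMap_eq _ _ _ _ _ _ i3 _ _ fun P => ?_
    rw [IsScalarTower.algebraMap_apply (MvPolynomial (Fin d) A) B L,
      IsScalarTower.algebraMap_apply (MvPolynomial (Fin n) A) B L]
    exact congrArg (algebraMap B L) (hb P)
  exact @Algebra.QuasiFinite.of_restrictScalars (MvPolynomial (Fin d) A) (MvPolynomial (Fin n) A) L
    _ _ _ i3 _ _ htower _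

/-- On an affine where the fibres have dimension at most `n`, every point has `n` cutting functions. -/
theorem exists_cut_le (h : Z ⟶ Y) [LocallyOfFiniteType h] {V : Y.Opens} {U : Z.Opens} (hV : IsAffineOpen V)
    (hU : IsAffineOpen U) (hUV : U ≤ h ⁻¹ᵁ V) (w : Z) (hwU : w ∈ U) (n : ℕ)
    (hfib : ∀ z ∈ U, FlatMor.fibreDimAt h z ≤ n)
    [Algebra Γ(Y, V) Γ(Z, U)] (halg : algebraMap Γ(Y, V) Γ(Z, U) = (h.appLE V U hUV).hom) :
    ∃ b : Fin n → Γ(Z, U),
      letI : Algebra (MvPolynomial (Fin n) Γ(Y, V)) Γ(Z, U) := (aeval b).toRingHom.toAlgebra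
      Algebra.QuasiFiniteAt (MvPolynomial (Fin n) Γ(Y, V)) (hU.primeIdealOf ⟨w, hwU⟩).asIdeal := by
  let A : Type u := Γ(Y, V)
  let B : Type u := Γ(Z, U)
  haveI : Algebra.FiniteType A B := by
    have := h.finiteType_appLE hV hU hUV
    rwa [← halg, RingHom.finiteType_algebraMap] at this
  have hmem : ∀ q : PrimeSpectrum B, hU.fromSpec q ∈ U := fun q => hU.range_fromSpec.le ⟨q, rfl⟩
  have hprime : ∀ q : PrimeSpectrum B, hU.primeIdealOf ⟨hU.fromSpec q, hmem q⟩ = q := fun q =>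
    hU.fromSpec.isOpenEmbedding.injective (hU.fromSpec_primeIdealOf _)
  let qw : PrimeSpectrum B := hU.primeIdealOf ⟨w, hwU⟩
  let pp : PrimeSpectrum A := PrimeSpectrum.comap (algebraMap A B) qw
  let p := pp.asIdeal
  let C := p.Fiber B
  let ε := PrimeSpectrum.preimageHomeomorphFiber A B pp
  obtain ⟨m, hm, hwm⟩ := (ε ⟨qw, rfl⟩).asIdeal.exists_le_maximal (ε ⟨qw, rfl⟩).isPrime.ne_top
  haveI := hm
  obtain ⟨s, g, hginj, hgfin, -⟩ := GrothLib.SpecDense.exists_normalization_at (k := p.ResidueField) m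
  obtain ⟨Qz, _, hQzmin, hCdim⟩ := GrothLib.QSec28.exists_minimalPrime_dim (C := C) (n := s) (by
    algebraize [g.toRingHom]
    haveI : Module.Finite (MvPolynomial (Fin s) p.ResidueField) C := hgfin
    rw [GrothLib.Dim.ringKrullDim_eq_of_isIntegral (R := MvPolynomial (Fin s) p.ResidueField) (S := C) hginj,
      MvPolynomial.ringKrullDim_of_isNoetherianRing, ringKrullDim_eq_zero_of_field, zero_add, Nat.card_fin])
  obtain ⟨d, b, -, hgen, hqf, -⟩ := GrothLib.QuasiSec.exists_cut p m Qz hCdim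
  have hqw : qw.asIdeal ≤ m.comap Algebra.TensorProduct.includeRight.toRingHom := by
    refine le_trans (le_of_eq ?_) (Ideal.comap_mono hwm)
    exact (congrArg (fun v => PrimeSpectrum.asIdeal (Subtype.val v)) (ε.symm_apply_apply ⟨qw, rfl⟩)).symm
  have hqfw : letI : Algebra (MvPolynomial (Fin d) A) B := (aeval b).toRingHom.toAlgebra
      Algebra.QuasiFiniteAt (MvPolynomial (Fin d) A) qw.asIdeal := by
    letI : Algebra (MvPolynomial (Fin d) A) B := (aeval b).toRingHom.toAlgebra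
    haveI := hqf
    exact Algebra.QuasiFiniteAt.of_le hqw
  let qz : PrimeSpectrum B := (ε.symm ⟨Qz, inferInstance⟩).1
  haveI hzl : qz.asIdeal.LiesOver p := ⟨(congrArg PrimeSpectrum.asIdeal (ε.symm ⟨Qz, inferInstance⟩).2).symm⟩
  have hzd : (d : Cardinal.{u}) ≤ Algebra.trdeg (A ⧸ p) (B ⧸ qz.asIdeal) := by
    have hind : AlgebraicIndependent (A ⧸ p) (fun i => Ideal.Quotient.mk qz.asIdeal (b i)) := by
      refine (injective_iff_map_eq_zero _).mpr fun P hP => ?_
      obtain ⟨P', rfl⟩ := MvPolynomial.map_surjective (Ideal.Quotient.mk p) Ideal.Quotient.mk_surjective P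
      have h1 : Ideal.Quotient.mk qz.asIdeal (aeval b P') = 0 := by
        rw [← hP, show (Ideal.Quotient.mk p : A →+* A ⧸ p) = algebraMap A (A ⧸ p) from rfl,
          MvPolynomial.aeval_map_algebraMap]
        exact comp_aeval_apply b (Ideal.Quotient.mkₐ A qz.asIdeal) P'
      have h1' : aeval b P' ∈ qz.asIdeal := Ideal.Quotient.eq_zero_iff_mem.mp h1
      have h2 : (1 : p.ResidueField) ⊗ₜ[A] aeval b P' ∈ Qz := h1'
      rw [GrothLib.QSec28.aeval_one_tmul] at h2
      have h3 := hgen _ h2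
      ext k
      rw [MvPolynomial.coeff_map, MvPolynomial.coeff_zero, Ideal.Quotient.eq_zero_iff_mem,
        ← Ideal.algebraMap_residueField_eq_zero, ← MvPolynomial.coeff_map, h3, MvPolynomial.coeff_zero]
    simpa using hind.lift_cardinalMk_le_trdeg
  have hsq : ∀ q : PrimeSpectrum B, h (hU.fromSpec q) = hV.fromSpec (PrimeSpectrum.comap (algebraMap A B) q) :=
    fun q => by
      rw [← Scheme.Hom.comp_apply, ← hV.SpecMap_appLE_fromSpec h hU hUV, halg]
      rfl
  have hzmax : ∀ z', h z' = h (hU.fromSpec qz) → z' ⤳ hU.fromSpec qz → z' = hU.fromSpec qz := by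
    intro z' hz' hs
    obtain ⟨q', rfl⟩ : z' ∈ Set.range hU.fromSpec := hU.range_fromSpec.ge (hs.mem_open U.2 (hmem _))
    have hq' : PrimeSpectrum.comap (algebraMap A B) q' = pp := by
      refine hV.fromSpec.isOpenEmbedding.injective ?_
      rw [← hsq, hz', hsq]
      exact congrArg hV.fromSpec (ε.symm ⟨Qz, inferInstance⟩).2
    have hle : q'.asIdeal ≤ qz.asIdeal :=
      (PrimeSpectrum.le_iff_specializes q' qz).mpr (hU.fromSpec.isEmbedding.isInducing.specializes_iff.mp hs)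
    have h2 : (ε ⟨q', hq'⟩).asIdeal ≤ Qz := by
      have h3 : ε ⟨q', hq'⟩ ≤ ε (ε.symm ⟨Qz, inferInstance⟩) :=
        (PrimeSpectrum.preimageOrderIsoFiber A B pp).monotone hle
      rw [Homeomorph.apply_symm_apply] at h3
      exact h3
    have h4 : ε ⟨q', hq'⟩ = ⟨Qz, inferInstance⟩ :=
      PrimeSpectrum.ext (le_antisymm h2 (hQzmin.2 ⟨(ε ⟨q', hq'⟩).isPrime, bot_le⟩ h2))
    refine congrArg hU.fromSpec ?_
    change q' = (ε.symm ⟨Qz, inferInstance⟩).1
    rw [← h4, Homeomorph.symm_apply_apply]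
  obtain ⟨k, hk, hk'⟩ := GrothLib.Equidim6.fibreDimAt_eq_resTrdeg h (hU.fromSpec qz) hzmax
  have h0 : qz.asIdeal = (hU.primeIdealOf ⟨hU.fromSpec qz, hmem qz⟩).asIdeal :=
    congrArg PrimeSpectrum.asIdeal (hprime qz).symm
  have h1 : p = (hV.primeIdealOf ⟨h (hU.fromSpec qz), hUV (hmem qz)⟩).asIdeal := by
    rw [← IsAffineOpen.comap_primeIdealOf_appLE V hV U hU hUV (hmem qz), ← halg]
    exact hzl.over.trans (congrArg (Ideal.comap (algebraMap A B)) h0)
  rw [GrothLib.QSec28.trdeg_quotient_eq_resTrdeg h hV hU hUV (hU.fromSpec qz) (hmem qz) halg p qz.asIdeal h1 h0,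
    hk] at hzd
  have hkn : FlatMor.fibreDimAt h (hU.fromSpec qz) ≤ n := hfib _ (hmem qz)
  rw [hk'] at hkn
  have hdk : d ≤ k := by exact_mod_cast hzd
  have hkn' : k ≤ n := by exact_mod_cast hkn
  exact quasiFiniteAt_pad (hdk.trans hkn') b qw.asIdeal hqfw

/-- A prime of coheight at most one avoiding a given element, in a Noetherian domain. -/
theorem exists_prime_avoid_height_le_one {D : Type u} [CommRing D] [IsDomain D] [IsNoetherianRing D]
    (P : Ideal D) [P.IsPrime] (hP : P ≠ ⊥) (a : D) (ha : a ≠ 0) :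
    ∃ q : Ideal D, ∃ _ : q.IsPrime, q ≤ P ∧ q ≠ P ∧ a ∉ q ∧ (P.map (Ideal.Quotient.mk q)).height ≤ 1 := by
  obtain ⟨m, hmP, hm0⟩ := Submodule.exists_mem_ne_zero_of_ne_bot hP
  let a' := a * m
  have ha' : a' ≠ 0 := mul_ne_zero ha hm0
  have ha'P : a' ∈ P := P.mul_mem_left _ hmP
  let S : Set (Ideal D) := {q | q.IsPrime ∧ q ≤ P ∧ a' ∉ q}
  obtain ⟨q, ⟨hqp, hqP, hqa⟩, hqmax⟩ := set_has_maximal_iff_noetherian.mpr ‹_› S
    ⟨⊥, Ideal.isPrime_bot, bot_le, by simpa using ha'⟩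
  haveI := hqp
  refine ⟨q, hqp, hqP, fun h => hqa (h ▸ ha'P), fun h => hqa (Ideal.mul_mem_right _ q h), ?_⟩
  let Pb := P.map (Ideal.Quotient.mk q)
  haveI : Pb.IsPrime := Ideal.map_isPrime_of_surjective Ideal.Quotient.mk_surjective (by rwa [Ideal.mk_ker])
  let ab := Ideal.Quotient.mk q a'
  have hab : ab ∈ Pb := Ideal.mem_map_of_mem _ ha'P
  -- every nonzero prime inside contains the element
  have hall : ∀ n : Ideal (D ⧸ q), n.IsPrime → n ≤ Pb → n ≠ ⊥ → ab ∈ n := by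
    intro n hn hnP hn0
    by_contra hna
    have h1 : n.comap (Ideal.Quotient.mk q) ∈ S :=
      ⟨Ideal.comap_isPrime _ _, fun w hw => (Ideal.mem_quotient_iff_mem hqP).mp (hnP hw), hna⟩
    refine hqmax _ h1 (lt_of_le_of_ne (fun w hw => ?_) fun h => hn0 ?_)
    · rw [Ideal.mem_comap, Ideal.Quotient.eq_zero_iff_mem.mpr hw]
      exact n.zero_mem
    · rw [← Ideal.map_comap_of_surjective _ Ideal.Quotient.mk_surjective n, ← h, Ideal.map_quotient_self]
  suffices Pb ∈ (Ideal.span {ab}).minimalPrimes from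
    Ideal.height_le_one_of_isPrincipal_of_mem_minimalPrimes _ _ this
  refine ⟨⟨inferInstance, Ideal.span_le.mpr (Set.singleton_subset_iff.mpr hab)⟩, fun n hn hnP => ?_⟩
  by_contra hPn
  classical
  -- choose an element outside the minimal primes of the principal ideal
  let T : Set (Ideal (D ⧸ q)) := {I ∈ (Ideal.span {ab}).minimalPrimes | ¬ Pb ≤ I}
  have hTfin : T.Finite := ((Ideal.span {ab}).finite_minimalPrimes_of_isNoetherianRing (D ⧸ q)).subset fun I hI => hI.1
  obtain ⟨c, hcP, hc⟩ : ∃ c ∈ Pb, ∀ I ∈ T, c ∉ I := by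
    by_contra h
    push Not at h
    have hsub : (Pb : Set (D ⧸ q)) ⊆ ⋃ I ∈ (hTfin.toFinset : Set (Ideal (D ⧸ q))), (I : Set (D ⧸ q)) := fun c hc => by
      obtain ⟨I, hI, hcI⟩ := h c hc
      exact Set.mem_biUnion (hTfin.mem_toFinset.mpr hI) hcI
    obtain ⟨I, hI, hle⟩ := (Ideal.subset_union_prime ⊥ ⊥ fun I hI _ _ => (hTfin.mem_toFinset.mp hI).1.1.1).mp hsub
    exact (hTfin.mem_toFinset.mp hI).2 hle
  have hab0 : ab ≠ 0 := fun h => hqa (Ideal.Quotient.eq_zero_iff_mem.mp h)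
  have hn0 : n ≠ ⊥ := fun h => hab0 (Ideal.mem_bot.mp (h ▸ hn.2 (Ideal.subset_span rfl)))
  haveI := hn.1
  obtain ⟨I₀, hI₀, hI₀n⟩ := Ideal.exists_minimalPrimes_le hn.2
  have hI₀T : I₀ ∈ T := ⟨hI₀, fun h => hPn (h.trans hI₀n)⟩
  have hc0 : c ≠ 0 := fun h => hc I₀ hI₀T (h ▸ I₀.zero_mem)
  obtain ⟨N, hN, hNP⟩ := Ideal.exists_minimalPrimes_le
    (show Ideal.span {c} ≤ Pb from Ideal.span_le.mpr (Set.singleton_subset_iff.mpr hcP))
  haveI := hN.1.1
  have hcN : c ∈ N := hN.1.2 (Ideal.subset_span rfl)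
  have haN : ab ∈ N := hall N hN.1.1 hNP fun h => hc0 (Ideal.mem_bot.mp (h ▸ hcN))
  have hNh : N.height ≤ 1 := Ideal.height_le_one_of_isPrincipal_of_mem_minimalPrimes _ _ hN
  obtain ⟨I, hI, hIN⟩ := Ideal.exists_minimalPrimes_le
    (show Ideal.span {ab} ≤ N from Ideal.span_le.mpr (Set.singleton_subset_iff.mpr haN))
  haveI := hI.1.1
  have hIT : I ∈ T := by
    refine ⟨hI, fun h => ?_⟩
    exact hPn (h.trans (hI.2 ⟨hn.1, hn.2⟩ ((hnP.trans h))))
  have hlt : I < N := lt_of_le_of_ne hIN fun h => hc I hIT (h ▸ hcN)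
  have hI0 : 1 ≤ I.height := by
    rw [ENat.one_le_iff_ne_zero, Ne, Ideal.height_eq_zero_iff_eq_bot]
    intro h
    exact hab0 (Ideal.mem_bot.mp (h ▸ hI.1.2 (Ideal.subset_span rfl)))
  exact absurd ((hI0.trans_lt (Ideal.height_strict_mono_of_isPrime hlt)).trans_le hNh) (lt_irrefl _)

end GrothLib.Chev28
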