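import Groth.Agent.Lib.Chev28.DimFormula
import Groth.Agent.Lib.FlatClosure.Basic
import Mathlib.AlgebraicGeometry.Morphisms.FinitePresentation
import Mathlib.AlgebraicGeometry.Morphisms.UniversallyOpen

/-!
Universal openness over a regular curve.
-/

universe u

open CategoryTheory CategoryTheory.Limits AlgebraicGeometry TopologicalSpace Topology

noncomputable section

namespace GrothLib.Chev28

variable {X Y : Scheme.{u}}

/-- A morphism is universally open at a point lying on a component that dominates a regular curve. -/
theorem isUnivOpenAt_of_dominant_dedekind [IrreducibleSpace Y] [IsLocallyNoetherian Y]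
    (hY : ∀ y : Y, IsRegularLocalRing (Y.presheaf.stalk y) ∧ ringKrullDim (Y.presheaf.stalk y) ≤ 1)
    (f : X ⟶ Y) [LocallyOfFiniteType f] {ξ z : X} (hξ : ξ ⤳ z) (hfξ : f ξ = genericPoint Y) :
    EGA43.IsUnivOpenAt f z := by
  haveI : ∀ y : Y, _root_.IsReduced (Y.presheaf.stalk y) := fun y =>
    haveI := (hY y).1
    haveI := GrothLib.CMFree.isDomain_of_isRegularLocalRing (Y.presheaf.stalk y)
    inferInstance
  haveI : IsReduced Y := isReduced_of_isReduced_stalk Y
  haveI : IsIntegral Y := isIntegral_of_irreducibleSpace_of_isReduced Y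
  obtain ⟨Zs, ι, _, _, hrange, hgen⟩ := exists_integral_closure ξ
  haveI : QuasiCompact (Zs.fromSpecResidueField (genericPoint Zs)) :=
    GrothLib.FlatClosure.quasiCompact_fromSpecResidueField _
  let g := ι ≫ f
  have hg : g (genericPoint Zs) = genericPoint Y := (congrArg f hgen).trans hfξ
  haveI : Flat g := GrothLib.FlatClosure.flat_of_dominant hY g
    (Zs.fromSpecResidueField (genericPoint Zs)) fun p => by
      rw [Scheme.fromSpecResidueField_apply, hg]
  haveI : UniversallyOpen g := inferInstance
  obtain ⟨w, rfl⟩ := hrange.ge hξ.mem_closure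
  refine isUnivOpenAt_of_comp ι f w fun Y' g' x' _ => fun U hU => ?_
  exact (pullback.snd g g').isOpenMap.image_mem_nhds hU

end GrothLib.Chev28
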