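import Mathlib

universe u

open CategoryTheory AlgebraicGeometry Limits MorphismProperty

namespace GrothLib.Chev28

/-- If `f` is separated and a dense open `U` of the source maps into an open `W` by a closed immersion,
then `U` is the whole preimage of `W`. -/
theorem eq_preimage_of_dense {X Y : Scheme.{u}} (f : X ⟶ Y) [IsSeparated f] (W : Y.Opens)
    (U : X.Opens) (hd : Dense (U : Set X)) (hle : U ≤ f ⁻¹ᵁ W)
    [IsClosedImmersion (X.homOfLE hle ≫ f ∣_ W)] : U = f ⁻¹ᵁ W := by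
  have : IsClosedImmersion (X.homOfLE hle) := IsClosedImmersion.of_comp _ (f ∣_ W)
  apply le_antisymm hle
  intro x hx
  have hcl : IsClosed (Set.range (X.homOfLE hle)) :=
    (X.homOfLE hle).isClosedEmbedding.isClosed_range
  by_contra hxU
  have hι : ∀ u : (U : Scheme.{u}), (f ⁻¹ᵁ W).ι (X.homOfLE hle u) = U.ι u := fun u => by
    rw [← Scheme.Hom.comp_apply, Scheme.homOfLE_ι]
  let x' : ((f ⁻¹ᵁ W : X.Opens) : Scheme.{u}) := ⟨x, hx⟩
  have hx' : x' ∈ (Set.range (X.homOfLE hle))ᶜ := by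
    rintro ⟨u, hu⟩
    apply hxU
    have h2 := hι u
    rw [hu] at h2
    change x = (Subtype.val u : X) at h2
    rw [h2]
    exact u.2
  have hopen : IsOpen ((f ⁻¹ᵁ W).ι '' (Set.range (X.homOfLE hle))ᶜ) :=
    (f ⁻¹ᵁ W).ι.isOpenEmbedding.isOpenMap _ hcl.isOpen_compl
  obtain ⟨z, hzU, z', hz', rfl⟩ := hd.exists_mem_open hopen ⟨x, x', hx', rfl⟩
  apply hz'
  exact ⟨⟨_, hzU⟩, (f ⁻¹ᵁ W).ι.isOpenEmbedding.injective (hι _)⟩

/-- Under the hypotheses of `eq_preimage_of_dense`, restriction over `W` is the given map. -/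
theorem morphismRestrict_of_dense {P : MorphismProperty Scheme.{u}} [P.RespectsIso]
    {X Y : Scheme.{u}} (f : X ⟶ Y) [IsSeparated f] (W : Y.Opens)
    (U : X.Opens) (hd : Dense (U : Set X)) (hle : U ≤ f ⁻¹ᵁ W)
    [IsClosedImmersion (X.homOfLE hle ≫ f ∣_ W)]
    (h : P (X.homOfLE hle ≫ f ∣_ W)) : P (f ∣_ W) := by
  have e := eq_preimage_of_dense f W U hd hle
  subst e
  simpa using h

/-- Lifting a morphism to an open of the target and checking a local property there. -/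
theorem lift_prop {P : MorphismProperty Scheme.{u}} [IsZariskiLocalAtTarget P]
    {X Y : Scheme.{u}} (f : X ⟶ Y) {ι : Type*} (W : ι → Y.Opens) (W₀ : Y.Opens)
    (hW₀ : W₀ = iSup W) (h : ∀ i, P (f ∣_ W i))
    (g : X ⟶ W₀) (hg : g ≫ W₀.ι = f) : P g := by
  have hcov : iSup (fun i => W₀.ι ⁻¹ᵁ W i) = ⊤ := by
    rw [← Scheme.Hom.preimage_iSup, ← hW₀]
    simp
  refine IsZariskiLocalAtTarget.of_iSup_eq_top _ hcov fun i => ?_
  subst hg
  have := h i
  rw [morphismRestrict_comp] at this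
  have : IsIso (W₀.ι ∣_ W i) := by
    have hi : W i ≤ W₀.ι.opensRange := by
      rw [Scheme.Opens.opensRange_ι, hW₀]
      exact le_iSup W i
    have : Surjective (W₀.ι ∣_ W i) := ⟨by
      rintro ⟨w, hw⟩
      exact ⟨⟨⟨w, by simpa using hi hw⟩, hw⟩, Subtype.ext (by simp [morphismRestrict_base_coe])⟩⟩
    exact (isIso_iff_isOpenImmersion_and_epi_base _).mpr
      ⟨inferInstance, (TopCat.epi_iff_surjective _).mpr this.surj⟩
  exact (P.cancel_right_of_respectsIso _ _).mp ‹P (g ∣_ _ ≫ W₀.ι ∣_ W i)›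

theorem isImmersion_of_dense_cover {X Y : Scheme.{u}} (f : X ⟶ Y) [IsSeparated f] {ι : Type*}
    (U : ι → X.Opens) (hU : ⨆ i, U i = ⊤) (hd : ∀ i, Dense (U i : Set X))
    (h : ∀ i, IsImmersion ((U i).ι ≫ f)) : IsImmersion f := by
  let W : ι → Y.Opens := fun i => ((U i).ι ≫ f).coborderRange
  have hle : ∀ i, U i ≤ f ⁻¹ᵁ W i := fun i x hx => by
    have h2 := (((U i).ι ≫ f).liftCoborder ⟨x, hx⟩).2
    have e := congrArg (fun φ => φ.base ⟨x, hx⟩) ((U i).ι ≫ f).liftCoborder_ι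
    simp only [Scheme.Hom.comp_base, TopCat.comp_app] at e
    change f x ∈ W i
    convert h2 using 1
    exact e.symm
  have hW : ∀ i, IsClosedImmersion (f ∣_ W i) := fun i => by
    have he : X.homOfLE (hle i) ≫ f ∣_ W i = ((U i).ι ≫ f).liftCoborder := by
      rw [← cancel_mono (W i).ι, Category.assoc, morphismRestrict_ι, Scheme.homOfLE_ι_assoc]
      exact ((U i).ι ≫ f).liftCoborder_ι.symm
    have : IsClosedImmersion (X.homOfLE (hle i) ≫ f ∣_ W i) := by rw [he]; infer_instance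
    exact morphismRestrict_of_dense (P := @IsClosedImmersion) f (W i) (U i) (hd i) (hle i) this
  have hr : Set.range f ⊆ Set.range (iSup W).ι := by
    rw [Scheme.Opens.range_ι]
    rintro _ ⟨x, rfl⟩
    obtain ⟨i, hi⟩ := TopologicalSpace.Opens.mem_iSup.mp (show x ∈ ⨆ i, U i by rw [hU]; trivial)
    exact TopologicalSpace.Opens.mem_iSup.mpr ⟨i, hle i hi⟩
  have := lift_prop (P := @IsClosedImmersion) f W _ rfl hW _ (IsOpenImmersion.lift_fac (iSup W).ι f hr)
  rw [← IsOpenImmersion.lift_fac (iSup W).ι f hr]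
  infer_instance

theorem isOpenImmersion_of_dense_cover {X Y : Scheme.{u}} (f : X ⟶ Y) [IsSeparated f] {ι : Type*}
    (U : ι → X.Opens) (hU : ⨆ i, U i = ⊤) (hd : ∀ i, Dense (U i : Set X))
    (h : ∀ i, IsOpenImmersion ((U i).ι ≫ f)) : IsOpenImmersion f := by
  let W : ι → Y.Opens := fun i => ((U i).ι ≫ f).opensRange
  have hle : ∀ i, U i ≤ f ⁻¹ᵁ W i := fun i x hx => ⟨⟨x, hx⟩, rfl⟩
  have hW : ∀ i, IsOpenImmersion (f ∣_ W i) := fun i => by
    let g := X.homOfLE (hle i) ≫ f ∣_ W i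
    have he : g ≫ (W i).ι = (U i).ι ≫ f := by simp [g]
    have : IsOpenImmersion (g ≫ (W i).ι) := by rw [he]; infer_instance
    have : IsOpenImmersion g := IsOpenImmersion.of_comp g (W i).ι
    have : Surjective g := ⟨by
      rintro ⟨w, u, rfl⟩
      exact ⟨u, Subtype.ext (congrArg (fun φ => φ.base u) he)⟩⟩
    have : IsIso g := (isIso_iff_isOpenImmersion_and_epi_base _).mpr
      ⟨inferInstance, (TopCat.epi_iff_surjective _).mpr ‹Surjective g›.surj⟩
    have : IsClosedImmersion (X.homOfLE (hle i) ≫ f ∣_ W i) := (inferInstance : IsClosedImmersion g)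
    exact morphismRestrict_of_dense (P := @IsOpenImmersion) f (W i) (U i) (hd i) (hle i)
      (inferInstance : IsOpenImmersion g)
  have hr : Set.range f ⊆ Set.range (iSup W).ι := by
    rw [Scheme.Opens.range_ι]
    rintro _ ⟨x, rfl⟩
    obtain ⟨i, hi⟩ := TopologicalSpace.Opens.mem_iSup.mp (show x ∈ ⨆ i, U i by rw [hU]; trivial)
    exact TopologicalSpace.Opens.mem_iSup.mpr ⟨i, hle i hi⟩
  have := lift_prop (P := @IsOpenImmersion) f W _ rfl hW _ (IsOpenImmersion.lift_fac (iSup W).ι f hr)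
  rw [← IsOpenImmersion.lift_fac (iSup W).ι f hr]
  infer_instance

end GrothLib.Chev28
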