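import Groth.Agent.Lib.Chev28.Codim
import Groth.Agent.Lib.FibreDim5.StalkDim

/-!
Dimension formulas over universally catenary local rings.
-/

universe u

open CategoryTheory CategoryTheory.Limits AlgebraicGeometry TopologicalSpace Topology

noncomputable section

namespace GrothLib.Chev28

variable {X Y : Scheme.{u}}

/-- The fibre dimension at a point: dimension of the fibre's local ring plus the transcendence degree. -/
theorem exists_dim_fibre_stalk (f : X ⟶ Y) [LocallyOfFiniteType f] (x : X) :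
    ∃ k s : ℕ, Dual3.resTrdeg f x = s ∧
      ringKrullDim ((f.fiber (f x)).presheaf.stalk (f.asFiber x)) = (k : WithBot ℕ∞) ∧
      FlatMor.fibreDimAt f x = ((k + s : ℕ) : WithBot ℕ∞) := by
  let F := f.fiber (f x)
  let q := f.fiberToSpecResidueField (f x)
  haveI : LocallyOfFiniteType q := MorphismProperty.pullback_snd f _ inferInstance
  haveI : IsLocallyNoetherian F := LocallyOfFiniteType.isLocallyNoetherian q
  obtain ⟨k, hk, -⟩ := exists_nat_dim_stalk (Y := F) (f.asFiber x)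
  obtain ⟨s, hs, hs'⟩ := GrothLib.Altitude.exists_trdeg_eq_dim_closure f x
  refine ⟨k, s, hs, hk, ?_⟩
  rw [FlatMor.fibreDimAt, GrothLib.AffDom.localDim_eq (K := Y.residueField (f x)) q (f.asFiber x),
    GrothLib.AffDom.ptDim, hk]
  erw [hs']
  push_cast
  rw [add_comm]

/-- The local ring of the component attains the dimension. -/
theorem exists_component_dim_stalk [IsLocallyNoetherian X] (x : X) :
    ∃ (ξ : X) (h : ξ ⤳ x), (∀ z, z ⤳ ξ → z = ξ) ∧
      ringKrullDim (Cyc.LocQuot x ξ h) = ringKrullDim (X.presheaf.stalk x) := by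
  obtain ⟨d, hd, -⟩ := exists_nat_dim_stalk x
  obtain ⟨P, -, hPmin, hPd⟩ := GrothLib.QSec28.exists_minimalPrime_dim (C := X.presheaf.stalk x) (n := d) hd
  obtain ⟨ξ, hξ, hmax, rfl⟩ := exists_eq_ker_of_mem_minimalPrimes x P hPmin
  exact ⟨ξ, hξ, hmax, le_antisymm (ringKrullDim_quotient_le _) hPd⟩

/-- The dimension formula for the components through a point of an equidimensional morphism. -/
theorem dim_locQuot_of_isEquidimAt [IsLocallyNoetherian Y] (f : X ⟶ Y) [LocallyOfFiniteType f] (x : X)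
    (hcat : CAlg.IsUniversallyCatenary (Y.presheaf.stalk (f x))) (h : EGA43.IsEquidimAt f x) :
    ∃ n s : ℕ, FlatMor.fibreDimAt f x = (n : WithBot ℕ∞) ∧ Dual3.resTrdeg f x = s ∧
      ∀ (ξ : X) (hξ : ξ ⤳ x), (∀ z, z ⤳ ξ → z = ξ) → (∀ y', y' ⤳ f ξ → y' = f ξ) ∧
        ∃ a b : ℕ, ringKrullDim (Cyc.LocQuot x ξ hξ) = a ∧
          ringKrullDim (Cyc.LocQuot (f x) (f ξ) (hξ.map f.continuous)) = b ∧ a + s = b + n := by
  obtain ⟨n, hn, hcomp⟩ := components_of_isEquidimAt f x h
  obtain ⟨s, hs, -⟩ := GrothLib.Altitude.exists_trdeg_eq_dim_closure f x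
  refine ⟨n, s, hn, hs, fun ξ hξ hmax => ⟨(hcomp ξ hξ hmax).1, ?_⟩⟩
  obtain ⟨t, s', a, b, ht, hs', ha, hb, -, heq⟩ := GrothLib.Altitude.dim_locQuot_add_trdeg f hξ
  have hts : t = n := by exact_mod_cast (ht.symm.trans (hcomp ξ hξ hmax).2 :)
  have hss : s' = s := by exact_mod_cast (hs'.symm.trans hs :)
  exact ⟨a, b, ha, hb, by rw [← hts, ← hss]; exact heq hcat⟩

/-- The dimension formula with an equidimensional base. -/
theorem dim_eq_of_isEquidimAt_of_isEquidim [IsLocallyNoetherian Y] (f : X ⟶ Y) [LocallyOfFiniteType f] (x : X)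
    (hY : EGA4.IsEquidim (Y.presheaf.stalk (f x)))
    (hcat : CAlg.IsUniversallyCatenary (Y.presheaf.stalk (f x))) (h : EGA43.IsEquidimAt f x) :
    ringKrullDim (X.presheaf.stalk x) =
      ringKrullDim (Y.presheaf.stalk (f x)) + ringKrullDim ((f.fiber (f x)).presheaf.stalk (f.asFiber x)) := by
  haveI := LocallyOfFiniteType.isLocallyNoetherian f
  obtain ⟨n, s, hn, hs, hcomp⟩ := dim_locQuot_of_isEquidimAt f x hcat h
  obtain ⟨k, s', hs', hk, hks⟩ := exists_dim_fibre_stalk f x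
  obtain ⟨ξ, hξ, hmax, hd⟩ := exists_component_dim_stalk x
  obtain ⟨hη, a, b, ha, hb, hab⟩ := hcomp ξ hξ hmax
  obtain ⟨c, hc, -⟩ := exists_nat_dim_stalk (f x)
  have hbc : b = c := by
    exact_mod_cast hb.symm.trans (((isEquidim_stalk_iff (f x)).mp hY _ (hξ.map f.continuous) hη).trans hc)
  have hss : s' = s := by exact_mod_cast (hs'.symm.trans hs :)
  have hnk : n = k + s' := by exact_mod_cast hn.symm.trans hks
  rw [← hd, ha, hc, hk]
  exact_mod_cast (show a = c + k by omega)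

theorem dim_locQuot_congr {y y' η : Y} (e : y = y') (h : η ⤳ y) (h' : η ⤳ y') :
    ringKrullDim (Cyc.LocQuot y η h) = ringKrullDim (Cyc.LocQuot y' η h') := by
  subst e
  rfl

/-- A point whose transcendence degree is its fibre dimension is maximal in its fibre. -/
theorem maximal_in_fibre_of_dim_le (f : X ⟶ Y) [LocallyOfFiniteType f] (z : X) (D : ℕ)
    (hD : Dual3.resTrdeg f z = D) (hle : FlatMor.fibreDimAt f z ≤ (D : WithBot ℕ∞)) :
    (∀ z', f z' = f z → z' ⤳ z → z' = z) ∧ FlatMor.fibreDimAt f z = (D : WithBot ℕ∞) ∧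
      ringKrullDim ((f.fiber (f z)).presheaf.stalk (f.asFiber z)) = ((0 : ℕ) : WithBot ℕ∞) := by
  obtain ⟨k, t, ht, hd, -, ζ, -, -, hζ, hk0, -⟩ := exists_fibre_series f z
  obtain ⟨k', t', ht', hk', hd'⟩ := exists_dim_fibre_stalk f z
  have h1 : t = D := by exact_mod_cast (ht.symm.trans hD :)
  have h2 : t' = D := by exact_mod_cast (ht'.symm.trans hD :)
  rw [hd] at hle
  have hle' : k + t ≤ D := by exact_mod_cast hle
  obtain rfl : ζ = z := hk0 (by omega)
  have hkk : k + t = k' + t' := by exact_mod_cast hd.symm.trans hd'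
  refine ⟨hζ, ?_, ?_⟩
  · rw [hd, show k + t = D by omega]
  · rw [hk', show k' = 0 by omega]

/-- The dimension formula holds iff some generic point of a fibre component through `x`, of the same
fibre dimension, satisfies it. -/
theorem dim_formula_iff [IsLocallyNoetherian Y] (f : X ⟶ Y) [LocallyOfFiniteType f] (x : X)
    (hcat : CAlg.IsUniversallyCatenary (Y.presheaf.stalk (f x))) :
    ringKrullDim (X.presheaf.stalk x) =
        ringKrullDim (Y.presheaf.stalk (f x)) + ringKrullDim ((f.fiber (f x)).presheaf.stalk (f.asFiber x)) ↔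
      ∃ z : X, f z = f x ∧ z ⤳ x ∧ (∀ z' : X, f z' = f x → z' ⤳ z → z' = z) ∧
        FlatMor.fibreDimAt f z = FlatMor.fibreDimAt f x ∧
        ringKrullDim (X.presheaf.stalk z) = ringKrullDim (Y.presheaf.stalk (f z)) := by
  haveI := LocallyOfFiniteType.isLocallyNoetherian f
  obtain ⟨k, s, hs, hk, hD⟩ := exists_dim_fibre_stalk f x
  obtain ⟨c, hc, -⟩ := exists_nat_dim_stalk (f x)
  constructor
  · intro h
    obtain ⟨ξ, hξ, hmax, hd⟩ := exists_component_dim_stalk x
    obtain ⟨t, s', a, b, ht, hs', ha, hb, -, heq⟩ := GrothLib.Altitude.dim_locQuot_add_trdeg f hξ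
    have hss : s' = s := by exact_mod_cast (hs'.symm.trans hs :)
    have hab := heq hcat
    rw [← hd, ha, hc, hk] at h
    have hac : a = c + k := by exact_mod_cast h
    have hbc := (dim_locQuot_le_stalk (hξ.map f.continuous) b c hb hc).1
    obtain ⟨Zs, ι, _, _, hrange, hgen⟩ := exists_integral_closure ξ
    obtain ⟨w, hw⟩ := hrange.ge hξ.mem_closure
    obtain ⟨h1, h2, -⟩ := component_dims f hξ ht ⟨hξ.mem_closure, rfl⟩
    rw [localDim_inter_fibre ι f hrange w x hw] at h1 h2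
    have htD : t ≤ k + s := by exact_mod_cast (h1.trans h2).trans hD.le
    have htk : t = k + s := by omega
    obtain ⟨w₀, hw₀, hw₀w, hmax₀, hd₀⟩ := GrothLib.Equidim6.exists_fibre_maximal (ι ≫ f) w
    obtain ⟨D₀, hD₀, hD₀'⟩ := GrothLib.Equidim6.fibreDimAt_eq_resTrdeg (ι ≫ f) w₀
      (fun z hz hs => hmax₀ z (hz.trans hw₀) hs)
    rw [hd₀, hD₀'] at h1 h2
    rw [GrothLib.AlgSp.resTrdeg_comp, GrothLib.AlgSp.resTrdeg_eq_zero_of_lqf ι, add_zero] at hD₀
    rw [hD] at h2
    have hD₀D : D₀ = k + s := le_antisymm (by exact_mod_cast h2) (htk ▸ (by exact_mod_cast h1))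
    have hzx : ι w₀ ⤳ x := hw ▸ hw₀w.map ι.continuous
    have hfz : f (ι w₀) = f x := hw ▸ hw₀
    obtain ⟨hzmax, hzD, hz0⟩ := maximal_in_fibre_of_dim_le f (ι w₀) (k + s) (hD₀D ▸ hD₀)
      (hzx.mem_open (GrothLib.FibreDimAt6.isOpen_fibreDimAt_le f (k + s)) hD.le)
    refine ⟨ι w₀, hfz, hzx, fun z' hz' hsp => hzmax z' (hz'.trans hfz.symm) hsp, hzD.trans hD.symm, ?_⟩
    have hξz : ξ ⤳ ι w₀ := specializes_iff_mem_closure.mpr (hrange.le ⟨w₀, rfl⟩)
    obtain ⟨t', sz, az, bz, ht', hsz, haz, hbz, -, heq'⟩ := GrothLib.Altitude.dim_locQuot_add_trdeg f hξz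
    have h1 : t' = t := by exact_mod_cast (ht'.symm.trans ht :)
    have h2 : sz = D₀ := by exact_mod_cast (hsz.symm.trans hD₀ :)
    have hbb : bz = b := by exact_mod_cast hbz.symm.trans ((dim_locQuot_congr hfz _ _).trans hb)
    have habz := heq' (by rw [hfz]; exact hcat)
    refine le_antisymm ?_ ?_
    · have h3 := GrothLib.FibreDim5.dim_stalk_le_add f (ι w₀)
      rwa [hz0, Nat.cast_zero, add_zero] at h3
    · rw [hfz, hc, show c = az by omega, ← haz]
      exact ringKrullDim_quotient_le _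
  · rintro ⟨z, hzx, hsp, hmax, hzD, hz⟩
    obtain ⟨D, hDz, hD'⟩ := GrothLib.Equidim6.fibreDimAt_eq_resTrdeg f z
      (fun z' hz' hs => hmax z' (hz'.trans hzx) hs)
    have hDD : D = k + s := by exact_mod_cast hD'.symm.trans (hzD.trans hD)
    obtain ⟨ξ, hξ, hξmax, hd⟩ := exists_component_dim_stalk z
    obtain ⟨t', sz, az, bz, ht', hsz, haz, hbz, -, heq'⟩ := GrothLib.Altitude.dim_locQuot_add_trdeg f hξ
    obtain ⟨t, s', a, b, ht, hs', ha, hb, -, heq⟩ :=
      GrothLib.Altitude.dim_locQuot_add_trdeg f (hξ.trans hsp)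
    have h1 : t' = t := by exact_mod_cast (ht'.symm.trans ht :)
    have h2 : sz = D := by exact_mod_cast (hsz.symm.trans hDz :)
    have h3 : s' = s := by exact_mod_cast (hs'.symm.trans hs :)
    have hbb : bz = b := by exact_mod_cast hbz.symm.trans ((dim_locQuot_congr hzx _ _).trans hb)
    rw [← hd, haz, hzx, hc] at hz
    have h4 : az = c := by exact_mod_cast hz
    have habz := heq' (by rw [hzx]; exact hcat)
    have hab := heq hcat
    refine le_antisymm (GrothLib.FibreDim5.dim_stalk_le_add f x) ?_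
    rw [hc, hk]
    refine le_trans ?_ (ha.symm.le.trans (ringKrullDim_quotient_le _))
    exact_mod_cast (show c + k ≤ a by omega)

end GrothLib.Chev28
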