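import Groth.Agent.Lib.Chev28.TFAE
import Groth.Agent.Lib.FibreGen6.Valuation
import Groth.Agent.Lib.HTop.Val

/-!
Dimension conditions at a maximal point of a fibre, arbitrary base (EGA IV 14.3.2 / 14.4).
-/

universe u

open CategoryTheory CategoryTheory.Limits AlgebraicGeometry TopologicalSpace Topology
open TensorProduct

noncomputable section

namespace GrothLib.Chev28

variable {X Y : Scheme.{u}}

theorem exists_generic_generization_at {W : CommRingCat.{u}} [IsDomain W] (p : X ⟶ Spec W) (x : X)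
    (hp : EGA43.IsOpenAt p x) : ∃ z : X, p z = GrothLib.HTop.gen W ∧ z ⤳ x := by
  obtain ⟨_, ⟨(U : X.Opens), hU, rfl⟩, hxU, -⟩ :=
    X.isBasis_affineOpens.exists_subset_of_mem_open (Set.mem_univ x) isOpen_univ
  obtain ⟨q, hq⟩ := hU.range_fromSpec.ge hxU
  obtain ⟨φ, hφ⟩ := Spec.map_surjective (hU.fromSpec ≫ p)
  have hne : ∀ (r : W), r ≠ 0 → ∀ a : Γ(X, U), a ∉ q.asIdeal → φ.hom r * a ≠ 0 := by
    intro r hr a ha h0
    have hN : hU.fromSpec '' (PrimeSpectrum.basicOpen a : Set (PrimeSpectrum Γ(X, U))) ∈ nhds x :=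
      (hU.fromSpec.isOpenEmbedding.isOpenMap _ (PrimeSpectrum.basicOpen a).2).mem_nhds ⟨q, ha, hq⟩
    obtain ⟨O, hO, hOo, hxO⟩ := mem_nhds_iff.mp (hp _ hN)
    obtain ⟨_, ⟨v, hv, rfl⟩, hpv⟩ := hO ((GrothLib.HTop.gen_specializes (p x)).mem_open hOo hxO)
    have h1 : (Spec.map φ v).asIdeal = ⊥ := by
      rw [hφ, Scheme.Hom.comp_apply, hpv]
      rfl
    have h2 : φ.hom r ∈ v.asIdeal := by
      have := v.2.mem_or_mem (show φ.hom r * a ∈ v.asIdeal by rw [h0]; exact zero_mem _)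
      exact this.resolve_right hv
    have h3 : r ∈ (⊥ : Ideal W) := h1.le (show r ∈ (Spec.map φ v).asIdeal from h2)
    exact hr ((Submodule.mem_bot _).1 h3)
  let M : Submonoid Γ(X, U) := (nonZeroDivisors W).map φ.hom ⊔ q.asIdeal.primeCompl
  obtain ⟨P, hP, -, hPM⟩ := Ideal.exists_le_prime_disjoint (⊥ : Ideal Γ(X, U)) M (by
    rw [Set.disjoint_left]
    rintro m hm0 hm
    rw [SetLike.mem_coe, Submonoid.mem_sup] at hm
    obtain ⟨_, ⟨r, hr, rfl⟩, a, ha, rfl⟩ := hm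
    exact hne r (nonZeroDivisors.ne_zero hr) a ha hm0)
  refine ⟨hU.fromSpec ⟨P, hP⟩, ?_, ?_⟩
  · rw [← Scheme.Hom.comp_apply, ← hφ]
    refine PrimeSpectrum.ext ((le_antisymm (fun r hr => ?_) bot_le))
    by_contra hr0
    exact Set.disjoint_left.1 hPM hr
      (SetLike.mem_coe.2 ((le_sup_left : _ ≤ M) ⟨r, mem_nonZeroDivisors_of_ne_zero hr0, rfl⟩))
  · rw [← hq]
    refine ((PrimeSpectrum.le_iff_specializes (⟨P, hP⟩ : PrimeSpectrum Γ(X, U)) q).1 ?_).map hU.fromSpec.continuous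
    intro a ha
    by_contra haq
    exact Set.disjoint_left.1 hPM ha (SetLike.mem_coe.2 ((le_sup_right : _ ≤ M) haq))

/-- Universal openness at a maximal point of a fibre bounds the nearby fibre dimensions from below. -/
theorem dim_le_of_isUnivOpenAt (f : X ⟶ Y) [LocallyOfFiniteType f] (x : X)
    (hmax : ∀ z, f z = f x → z ⤳ x → z = x) (h : EGA43.IsUnivOpenAt f x)
    (U : X.Opens) (hxU : x ∈ U) (y' : Y) (hy' : y' ⤳ f x) :
    FlatMor.fibreDimAt f x ≤ topologicalKrullDim ↥((U : Set X) ∩ f ⁻¹' {y'}) := by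
  obtain ⟨R, _, _, τ, hτg, hτc⟩ := GrothLib.HTop.exists_valuationRing_map hy'
  let p := pullback.snd f τ
  have hpb : IsPullback (pullback.fst f τ) p f τ := IsPullback.of_hasPullback f τ
  haveI : LocallyOfFiniteType p := MorphismProperty.pullback_snd f τ inferInstance
  obtain ⟨x₁, hx₁, hx₁c⟩ := Scheme.Pullback.exists_preimage_pullback (f := f) (g := τ) x
    (GrothLib.HTop.closed R) hτc.symm
  obtain ⟨x₂, hpx₂, hx₂sp, hx₂max, hx₂dim⟩ := GrothLib.Equidim6.exists_fibre_maximal p x₁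
  have hfp : ∀ v, f (pullback.fst f τ v) = τ (p v) := fun v => by
    rw [← Scheme.Hom.comp_apply, hpb.w, Scheme.Hom.comp_apply]
  have hfst : pullback.fst f τ x₂ = x := hmax _
    (by rw [hfp, hpx₂, ← hfp, hx₁])
    ((hx₂sp.map (pullback.fst f τ).continuous).trans (specializes_of_eq hx₁))
  obtain ⟨z, hz, hzsp⟩ := exists_generic_generization_at p x₂
    (GrothLib.OpenAt.isOpenAt_of_isPullback h hpb x₂ hfst)
  have hle := GrothLib.FibreGen6.ptDim_le_of_specializes R p hzsp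
  have hd1 : FlatMor.fibreDimAt f x = GrothLib.AffDom.ptDim (p.asFiber x₂) := by
    rw [← hx₁, ← GrothLib.AlgSp.fibreDimAt_of_isPullback hpb, hx₂dim]
    haveI : LocallyOfFiniteType (p.fiberToSpecResidueField (p x₂)) := MorphismProperty.pullback_snd p _ inferInstance
    refine GrothLib.Equidim6.localDim_of_maximal (K := (Spec R).residueField (p x₂))
      (p.fiberToSpecResidueField (p x₂)) _ fun v hv => ?_
    apply (p.fiberι (p x₂)).isEmbedding.injective
    rw [p.fiberι_asFiber]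
    exact hx₂max _ (((p.range_fiberι (p x₂)).le ⟨v, rfl⟩).trans hpx₂)
      ((hv.map (p.fiberι (p x₂)).continuous).trans (specializes_of_eq (p.fiberι_asFiber x₂)))
  have hd2 : GrothLib.AffDom.ptDim (p.asFiber z) ≤ FlatMor.fibreDimAt f (pullback.fst f τ z) := by
    haveI : LocallyOfFiniteType (p.fiberToSpecResidueField (p z)) := MorphismProperty.pullback_snd p _ inferInstance
    rw [← GrothLib.AlgSp.fibreDimAt_of_isPullback hpb, FlatMor.fibreDimAt,
      GrothLib.AffDom.localDim_eq (K := (Spec R).residueField (p z)) (p.fiberToSpecResidueField (p z))]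
    exact le_add_of_nonneg_right ringKrullDim_nonneg_of_nontrivial
  have hfz : f (pullback.fst f τ z) = y' := by rw [hfp, hz]; exact hτg
  have hzU : pullback.fst f τ z ∈ U :=
    ((hzsp.map (pullback.fst f τ).continuous).trans (specializes_of_eq hfst)).mem_open U.2 hxU
  refine ((hd1.trans_le (hle.trans hd2)).trans ?_)
  rw [← hfz]
  exact GrothLib.FibreDimAt6.fibreDimAt_le_of_open f _ U hzU

/-- The dimension condition at the generic points gives components, over an arbitrary base. -/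
theorem exists_component_of_dim_cond (f : X ⟶ Y) [LocallyOfFiniteType f] (x : X) (n : ℕ)
    (η : Y) (hηx : η ⤳ f x) (hη : ∀ y', y' ⤳ η → y' = η)
    (h : ∀ U : X.Opens, x ∈ U → (n : WithBot ℕ∞) ≤ topologicalKrullDim ↥((U : Set X) ∩ f ⁻¹' {η})) :
    ∃ ξ : X, (∀ z', z' ⤳ ξ → z' = ξ) ∧ ξ ⤳ x ∧ f ξ = η ∧ ∃ m : ℕ, Dual3.resTrdeg f ξ = m ∧ n ≤ m := by
  obtain ⟨V, hV, hxV, -⟩ := exists_isAffineOpen_mem_and_subset (x := f x) (U := ⊤) trivial
  obtain ⟨U, hU, hxU, hUV⟩ := exists_isAffineOpen_mem_and_subset (x := x) (U := f ⁻¹ᵁ V) hxV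
  let A : Type u := Γ(Y, V)
  let B : Type u := Γ(X, U)
  letI : Algebra A B := (f.appLE V U hUV).hom.toAlgebra
  haveI : Algebra.FiniteType A B := f.finiteType_appLE hV hU hUV
  have sq : hU.fromSpec ≫ f = Spec.map (CommRingCat.ofHom (algebraMap A B)) ≫ hV.fromSpec :=
    (hV.SpecMap_appLE_fromSpec f hU hUV).symm
  have hsq : ∀ q : PrimeSpectrum B, f (hU.fromSpec q) = hV.fromSpec (PrimeSpectrum.comap (algebraMap A B) q) :=
    fun q => by rw [← Scheme.Hom.comp_apply, sq]; rfl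
  have hηV : η ∈ V := hηx.mem_open V.2 hxV
  let pp : PrimeSpectrum A := hV.primeIdealOf ⟨η, hηV⟩
  have hpp : hV.fromSpec pp = η := hV.fromSpec_primeIdealOf _
  let ε := PrimeSpectrum.preimageHomeomorphFiber A B pp
  haveI : IsNoetherianRing (pp.asIdeal.Fiber B) :=
    Algebra.FiniteType.isNoetherianRing pp.asIdeal.ResidueField _
  let S : Set X := {ξ | ξ ∈ U ∧ f ξ = η ∧ (∀ z', f z' = f ξ → z' ⤳ ξ → z' = ξ) ∧ ¬ ξ ⤳ x}
  have hS : S.Finite := by
    refine (((minimalPrimes.finite_of_isNoetherianRing (pp.asIdeal.Fiber B)).preimage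
      (f := PrimeSpectrum.asIdeal) (fun a _ b _ hab => PrimeSpectrum.ext hab)).image
      (fun c => hU.fromSpec (ε.symm c).1)).subset ?_
    rintro ξ ⟨hξU, hξη, hξmax, -⟩
    obtain ⟨q, hq⟩ := hU.range_fromSpec.ge hξU
    have hqp : PrimeSpectrum.comap (algebraMap A B) q = pp := by
      refine hV.fromSpec.isOpenEmbedding.injective ?_
      rw [← hsq, hq, hpp, hξη]
    refine ⟨ε ⟨q, hqp⟩, ⟨⟨(ε ⟨q, hqp⟩).isPrime, bot_le⟩, fun I hI hle => ?_⟩, ?_⟩
    · let c : PrimeSpectrum (pp.asIdeal.Fiber B) := ⟨I, hI.1⟩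
      have h1 : f (hU.fromSpec (ε.symm c).1) = f ξ := by
        rw [hξη, hsq, ← hpp]
        exact congrArg hV.fromSpec (ε.symm c).2
      have h2 : hU.fromSpec (ε.symm c).1 ⤳ ξ := by
        have h3 : c ⤳ ε ⟨q, hqp⟩ := (PrimeSpectrum.le_iff_specializes c _).mp hle
        have h4 := (h3.map ε.symm.continuous).map (continuous_subtype_val)
        rw [Homeomorph.symm_apply_apply] at h4
        exact hq ▸ h4.map hU.fromSpec.continuous
      have h5 := hξmax _ h1 h2
      have h6 : ε.symm c = ⟨q, hqp⟩ := Subtype.ext (hU.fromSpec.isOpenEmbedding.injective (h5.trans hq.symm))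
      have h7 : c = ε ⟨q, hqp⟩ := by rw [← h6, Homeomorph.apply_symm_apply]
      exact (congrArg PrimeSpectrum.asIdeal h7).symm.le
    · show hU.fromSpec (ε.symm (ε ⟨q, hqp⟩)).1 = ξ
      rw [Homeomorph.symm_apply_apply]
      exact hq
  let O : X.Opens := ⟨(U : Set X) ∩ (⋃ ξ ∈ S, closure {ξ})ᶜ,
    U.2.inter (hS.isClosed_biUnion fun _ _ => isClosed_closure).isOpen_compl⟩
  have hxO : x ∈ O := by
    refine ⟨hxU, fun hx => ?_⟩
    simp only [Set.mem_iUnion] at hx
    obtain ⟨ξ, hξ, hxξ⟩ := hx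
    exact hξ.2.2.2 (specializes_iff_mem_closure.mpr hxξ)
  obtain ⟨ξ, hξO, hξη, hξmax, hdim⟩ := exists_maximal_of_le_dim f η O n (h O hxO)
  have hmax : ∀ z', z' ⤳ ξ → z' = ξ := fun z' hz' =>
    hξmax z' ((hη _ (hξη ▸ hz'.map f.continuous)).trans hξη.symm) hz'
  have hsp : ξ ⤳ x := by
    by_contra hsp
    exact hξO.2 (Set.mem_biUnion (show ξ ∈ S from ⟨hξO.1, hξη, hξmax, hsp⟩) (subset_closure rfl))
  obtain ⟨m, hm, hm'⟩ := GrothLib.Equidim6.resTrdeg_eq_fibreDimAt_of_maximal f ξ hmax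
  refine ⟨ξ, hmax, hsp, hξη, m, hm, ?_⟩
  rw [hm'] at hdim
  exact_mod_cast hdim

end GrothLib.Chev28
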