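import Groth.Agent.Lib.Chev28.TFAE
import Groth.Agent.Lib.Ratliff.Equidim
import Mathlib.RingTheory.Spectrum.Prime.LTSeries
import Mathlib.RingTheory.Ideal.Height

/-!
Dimensions of the local rings of a component over a geometrically unibranch point, and equidimensionality.
-/

universe u

open CategoryTheory CategoryTheory.Limits AlgebraicGeometry TopologicalSpace Topology
open TensorProduct MvPolynomial

noncomputable section

namespace GrothLib.Chev28

/-- Chains lift, up to refinement of the bottom, along a map with surjective local spectrum and a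
single point over the closed point. -/
theorem exists_series_above {S T : Type u} [CommRing S] [CommRing T] [IsNoetherianRing S] [IsNoetherianRing T]
    [Algebra S T] (m : PrimeSpectrum S) (M : PrimeSpectrum T)
    (hfib : ∀ P ≤ M, PrimeSpectrum.comap (algebraMap S T) P = m → P = M)
    (hlift : ∀ p ≤ m, ∃ P ≤ M, PrimeSpectrum.comap (algebraMap S T) P = p) :
    ∀ k : ℕ, ∀ l : LTSeries (PrimeSpectrum S), l.last = m → l.length = k →
      ∃ l' : LTSeries (PrimeSpectrum T), l'.last = M ∧ l'.length = k ∧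
        l.head ≤ PrimeSpectrum.comap (algebraMap S T) l'.head := by
  classical
  have hM : PrimeSpectrum.comap (algebraMap S T) M = m := by
    obtain ⟨P, hP, hPm⟩ := hlift m le_rfl
    exact hfib P hP hPm ▸ hPm
  intro k
  induction k with
  | zero =>
    intro l hl hlen
    refine ⟨RelSeries.singleton _ M, rfl, rfl, ?_⟩
    change l.head ≤ PrimeSpectrum.comap (algebraMap S T) M
    rw [hM, ← hl]
    exact l.head_le_last
  | succ k ih =>
    intro l hl hlen
    have hlt : l.head < m := hl ▸ l.strictMono (show (0 : Fin (l.length + 1)) < Fin.last l.length by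
      rw [Fin.lt_def]; simp [hlen])
    rcases Nat.eq_zero_or_pos k with rfl | hk
    · obtain ⟨P, hP, hPl⟩ := hlift l.head hlt.le
      have hne : P ≠ M := fun h => hlt.ne (by rw [← hPl, h, hM])
      exact ⟨(RelSeries.singleton _ M).cons P (lt_of_le_of_ne hP hne), by simp, rfl, by simp [hPl]⟩
    let p := l.head
    let Ps : Set (Ideal S) := insert p.asIdeal
      ((fun P : Ideal T => P.comap (algebraMap S T)) ''
        {P ∈ (p.asIdeal.map (algebraMap S T)).minimalPrimes | P.comap (algebraMap S T) ≠ m.asIdeal ∧ P ≤ M.asIdeal})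
    have hPs : Ps.Finite :=
      ((((p.asIdeal.map (algebraMap S T)).finite_minimalPrimes_of_isNoetherianRing T).subset
        fun P hP => hP.1).image _).insert _
    have hPsp : ∀ I ∈ Ps, I.IsPrime ∧ ¬ m.asIdeal ≤ I := by
      rintro I (rfl | ⟨P, ⟨hP, hPm, hPM⟩, rfl⟩)
      · exact ⟨p.isPrime, fun h => hlt.not_ge h⟩
      · haveI := hP.1.1
        refine ⟨Ideal.comap_isPrime _ _, fun h => hPm (le_antisymm ?_ h)⟩
        rw [← hM]
        exact Ideal.comap_mono hPM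
    obtain ⟨a, ham, ha⟩ : ∃ a ∈ m.asIdeal, ∀ I ∈ Ps, a ∉ I := by
      by_contra h
      push Not at h
      have hsub : (m.asIdeal : Set S) ⊆ ⋃ I ∈ (hPs.toFinset : Set (Ideal S)), (I : Set S) := fun c hc => by
        obtain ⟨I, hI, hcI⟩ := h c hc
        exact Set.mem_biUnion (hPs.mem_toFinset.mpr hI) hcI
      obtain ⟨I, hI, hle⟩ := (Ideal.subset_union_prime ⊥ ⊥ fun I hI _ _ =>
        (hPsp I (hPs.mem_toFinset.mp hI)).1).mp hsub
      exact (hPsp I (hPs.mem_toFinset.mp hI)).2 hle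
    obtain ⟨q, haq, hqlen, hqh, hql⟩ := PrimeSpectrum.exist_ltSeries_mem_one_of_mem_last l (hl.symm ▸ ham)
    have hq0 : q.length ≠ 0 := by omega
    obtain ⟨l', hl'M, hl'len, hl'le⟩ := ih (q.tail hq0) (by rw [RelSeries.last_tail, ← hql, hl])
      (by show q.length - 1 = k; omega)
    rw [RelSeries.head_tail] at hl'le
    have hp : p ≤ PrimeSpectrum.comap (algebraMap S T) l'.head := by
      refine le_trans ?_ hl'le
      rw [show p = q.head from hqh]
      exact q.monotone (Fin.zero_le _)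
    have hHM : l'.head ≤ M := hl'M ▸ l'.head_le_last
    obtain ⟨P, hP, hPH⟩ := Ideal.exists_minimalPrimes_le
      (show p.asIdeal.map (algebraMap S T) ≤ l'.head.asIdeal from Ideal.map_le_iff_le_comap.mpr hp)
    haveI := hP.1.1
    have hPlt : (⟨P, hP.1.1⟩ : PrimeSpectrum T) < l'.head := by
      refine lt_of_le_of_ne hPH fun h => ?_
      have haP : a ∈ P.comap (algebraMap S T) := by
        rw [show P = l'.head.asIdeal from congrArg PrimeSpectrum.asIdeal h]
        exact hl'le haq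
      by_cases hPm : P.comap (algebraMap S T) = m.asIdeal
      · have h1 : (⟨P, hP.1.1⟩ : PrimeSpectrum T) = M := hfib _ (hPH.trans hHM) (PrimeSpectrum.ext hPm)
        rw [h] at h1
        have h2 := l'.strictMono (show (0 : Fin (l'.length + 1)) < Fin.last l'.length by
          rw [Fin.lt_def]; simp [hl'len, hk])
        exact h2.ne (h1.trans hl'M.symm)
      · exact ha _ (Set.mem_insert_of_mem _ ⟨P, ⟨hP, hPm, hPH.trans hHM⟩, rfl⟩) haP
    refine ⟨l'.cons ⟨P, hP.1.1⟩ hPlt, by simp [hl'M], by simp [hl'len], ?_⟩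
    rw [RelSeries.head_cons]
    exact Ideal.map_le_iff_le_comap.mp hP.1.2

theorem height_le_of_lifts {S T : Type u} [CommRing S] [CommRing T] [IsNoetherianRing S] [IsNoetherianRing T]
    [Algebra S T] (m : PrimeSpectrum S) (M : PrimeSpectrum T)
    (hfib : ∀ P ≤ M, PrimeSpectrum.comap (algebraMap S T) P = m → P = M)
    (hlift : ∀ p ≤ m, ∃ P ≤ M, PrimeSpectrum.comap (algebraMap S T) P = p) :
    m.asIdeal.height ≤ M.asIdeal.height := by
  rw [PrimeSpectrum.height_eq_orderHeight, PrimeSpectrum.height_eq_orderHeight]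
  refine Order.height_le fun l hl => ?_
  obtain ⟨l', hl', hlen, -⟩ := exists_series_above m M hfib hlift l.length l hl rfl
  rw [← hlen]
  exact Order.length_le_height hl'.le

/-- The lower bound in the dimension formula, over a geometrically unibranch point. -/
theorem height_add_le {A B : Type u} [CommRing A] [CommRing B] [Algebra A B] [IsNoetherianRing A]
    [Algebra.FiniteType A B] (p : Ideal A) [p.IsPrime] (Q P₀ : Ideal B) [Q.IsPrime] [P₀.IsPrime]
    [Q.LiesOver p] (hle : P₀ ≤ Q) (p₀ : Ideal A) [p₀.IsPrime] [P₀.LiesOver p₀] (hmin : p₀ ∈ minimalPrimes A)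
    (hu : CAlg2.IsGeomUnibranch (Localization.AtPrime p)) {n : ℕ} (b : Fin n → B)
    (hqf : letI : Algebra (MvPolynomial (Fin n) A) B := (aeval b).toRingHom.toAlgebra
      Algebra.QuasiFiniteAt (MvPolynomial (Fin n) A) Q)
    (htr : (n : Cardinal.{u}) ≤ Algebra.trdeg (A ⧸ p₀) (B ⧸ P₀))
    (s a : ℕ) (hs : Algebra.trdeg (A ⧸ p) (B ⧸ Q) = s) (ha : (Q.map (Ideal.Quotient.mk P₀)).height = a) :
    p.height + n ≤ (a + s : ℕ) := by
  let S := MvPolynomial (Fin n) A
  let B' := B ⧸ P₀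
  let Q' : Ideal B' := Q.map (Ideal.Quotient.mk P₀)
  haveI : Q'.IsPrime := Ideal.map_isPrime_of_surjective Ideal.Quotient.mk_surjective (by rwa [Ideal.mk_ker])
  have hQ'c : Q'.comap (Ideal.Quotient.mk P₀) = Q := Ideal.ext fun w => (Ideal.mem_quotient_iff_mem hle)
  let b₀ : Fin n → B' := fun i => Ideal.Quotient.mk P₀ (b i)
  letI : Algebra S B := (aeval b).toRingHom.toAlgebra
  haveI : IsScalarTower A S B := IsScalarTower.of_algebraMap_eq fun r => ((aeval b).commutes r).symm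
  have hst : ∀ P : S, aeval b₀ P = Ideal.Quotient.mk P₀ (aeval b P) := fun P =>
    (comp_aeval_apply b (Ideal.Quotient.mkₐ A P₀) P).symm
  let φ : B →ₐ[S] B' := Ideal.Quotient.mkₐ S P₀
  haveI := hqf
  haveI : Algebra.QuasiFiniteAt S Q' :=
    Algebra.QuasiFiniteAt.of_surjectiveOnStalks Q φ
      (RingHom.surjectiveOnStalks_of_surjective Ideal.Quotient.mk_surjective) Q' hQ'c.symm
  haveI : IsScalarTower A S B' := inferInstance
  haveI : Algebra.FiniteType A B' := inferInstance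
  haveI : Algebra.FiniteType S B' := Algebra.FiniteType.of_restrictScalars_finiteType A S B'
  haveI : IsNoetherianRing B' := Algebra.FiniteType.isNoetherianRing A B'
  let q : Ideal S := Q'.comap (algebraMap S B')
  have hqC : q.comap (C : A →+* S) = p := by
    rw [Ideal.LiesOver.over (P := Q) (p := p)]
    ext r
    simp only [q, Ideal.mem_comap]
    rw [← hQ'c, Ideal.mem_comap]
    change Ideal.Quotient.mk P₀ (aeval b (C r)) ∈ Q' ↔ _
    rw [aeval_C]
  -- the cut is independent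
  have hbot : (⊥ : Ideal B').comap (algebraMap S B') = p₀.map (C : A →+* S) := by
    ext P
    rw [Ideal.mem_comap, Ideal.mem_bot, MvPolynomial.mem_map_C_iff]
    constructor
    · intro hP m
      exact coeff_mem_of_trdeg Q P₀ hle p₀ b hqf htr P (Ideal.Quotient.eq_zero_iff_mem.mp hP) m
    · intro hP
      change Ideal.Quotient.mk P₀ (aeval b P) = 0
      rw [← hst]
      rw [← MvPolynomial.aeval_map_algebraMap (A ⧸ p₀) b₀ P,
        show MvPolynomial.map (algebraMap A (A ⧸ p₀)) P = 0 from ?_, map_zero]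
      ext m
      rw [coeff_map, coeff_zero]
      exact Ideal.Quotient.eq_zero_iff_mem.mpr (hP m)
  have hmin' : (⊥ : Ideal B').comap (algebraMap S B') ∈ minimalPrimes S := by
    refine ⟨⟨Ideal.comap_isPrime _ _, bot_le⟩, fun I hI hIle => ?_⟩
    haveI := hI.1
    rw [hbot] at hIle ⊢
    refine Ideal.map_le_iff_le_comap.mpr (hmin.2 ⟨Ideal.comap_isPrime _ _, bot_le⟩ ?_)
    intro r hr
    have := MvPolynomial.mem_map_C_iff.mp (hIle hr) 0
    simpa using this
  have hcut : HasIndepCut S Q' := by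
    refine ⟨⊥, Ideal.isPrime_bot, bot_le, hmin', 0, Fin.elim0, fun P hP m => ?_, ?_⟩
    · rw [MvPolynomial.eq_C_of_isEmpty P, aeval_C] at hP
      rw [Subsingleton.elim m 0]
      exact hP
    · letI : Algebra (MvPolynomial (Fin 0) S) B' := (aeval (Fin.elim0 : Fin 0 → B')).toRingHom.toAlgebra
      haveI : IsScalarTower S (MvPolynomial (Fin 0) S) (Localization.AtPrime Q') :=
        IsScalarTower.of_algebraMap_eq fun P => by
          rw [IsScalarTower.algebraMap_apply S B' (Localization.AtPrime Q'),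
            IsScalarTower.algebraMap_apply (MvPolynomial (Fin 0) S) B' (Localization.AtPrime Q')]
          exact congrArg _ ((aeval (Fin.elim0 : Fin 0 → B')).commutes P).symm
      exact Algebra.QuasiFinite.of_restrictScalars S (MvPolynomial (Fin 0) S) (Localization.AtPrime Q')
  have hqu : CAlg2.IsUnibranch (Localization.AtPrime q) := by
    have key : ∀ (p₁ p₂ : Ideal A) [p₁.IsPrime] [p₂.IsPrime], p₁ = p₂ →
        CAlg2.IsGeomUnibranch (Localization.AtPrime p₂) → CAlg2.IsGeomUnibranch (Localization.AtPrime p₁) := by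
      intro p₁ p₂ _ _ e h'; subst e; exact h'
    exact (GrothLib.GeomUnib.isGeomUnibranch_mvPolynomial n q (key _ _ hqC hu)).1
  have hq : q.height ≤ Q'.height := by
    refine height_le_of_lifts (⟨q, inferInstance⟩ : PrimeSpectrum S) (⟨Q', inferInstance⟩ : PrimeSpectrum B')
      (fun P hP hPq => PrimeSpectrum.ext ?_) fun I hI => ?_
    · exact Algebra.QuasiFiniteAt.eq_of_le_of_under_eq (R := S) hP (congrArg PrimeSpectrum.asIdeal hPq)
    · obtain ⟨J, hJ, hJle, hJI⟩ := exists_prime_le_of_isUnibranch Q' hqu hcut I.asIdeal hI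
      exact ⟨⟨J, hJ⟩, hJle, PrimeSpectrum.ext hJI⟩
  haveI : q.LiesOver p := ⟨hqC.symm⟩
  obtain ⟨s', hs', hh⟩ := GrothLib.Altitude.height_add_trdeg_mvPolynomial p q
  have hss : s' ≤ s := by
    let g : S ⧸ q →+* B ⧸ Q := Ideal.quotientMap Q (aeval b).toRingHom (fun P hP => by
      change aeval b P ∈ Q
      rw [← hQ'c, Ideal.mem_comap]
      exact hP)
    let g' : S ⧸ q →ₐ[A ⧸ p] B ⧸ Q :=
      { g with
        commutes' := fun r => by
          obtain ⟨r, rfl⟩ := Ideal.Quotient.mk_surjective r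
          change Ideal.Quotient.mk Q (aeval b (C r)) = Ideal.Quotient.mk Q (algebraMap A B r)
          rw [aeval_C] }
    have hg : Function.Injective g' := by
      refine Ideal.quotientMap_injective' (H := fun P hP => ?_) (fun P hP => ?_)
      · rw [Ideal.mem_comap]
        change aeval b P ∈ Q
        rw [← hQ'c, Ideal.mem_comap]
        exact hP
      · change Ideal.Quotient.mk P₀ (aeval b P) ∈ Q'
        rw [← Ideal.mem_comap, hQ'c]
        exact hP
    have := trdeg_le_of_injective g' hg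
    rw [hs, hs'] at this
    exact_mod_cast this
  change Q'.height = a at ha
  rw [← hh]
  push_cast
  rw [← ha]
  gcongr

end GrothLib.Chev28

namespace GrothLib.Chev28

variable {X Y : Scheme.{u}}

/-- A neighbourhood meeting only the components through a point. -/
theorem exists_open_components_through [IsLocallyNoetherian X] (x : X) :
    ∃ O : X.Opens, x ∈ O ∧ ∀ ξ ∈ O, (∀ z, z ⤳ ξ → z = ξ) → ξ ⤳ x := by
  obtain ⟨U, hU, hxU, -⟩ := exists_isAffineOpen_mem_and_subset (x := x) (U := ⊤) trivial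
  haveI : IsNoetherianRing Γ(X, U) := IsLocallyNoetherian.component_noetherian ⟨U, hU⟩
  let S : Set X := {ξ | ξ ∈ U ∧ (∀ z', z' ⤳ ξ → z' = ξ) ∧ ¬ ξ ⤳ x}
  have hS : S.Finite := by
    refine (((minimalPrimes.finite_of_isNoetherianRing Γ(X, U)).preimage
      (f := PrimeSpectrum.asIdeal) (fun a _ b _ hab => PrimeSpectrum.ext hab)).image hU.fromSpec).subset ?_
    rintro ξ ⟨hξU, hξ, -⟩
    refine ⟨hU.primeIdealOf ⟨ξ, hξU⟩, ⟨⟨(hU.primeIdealOf _).isPrime, bot_le⟩, fun q hq hle => ?_⟩,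
      hU.fromSpec_primeIdealOf _⟩
    have h1 : hU.fromSpec ⟨q, hq.1⟩ = ξ := hξ _ <|
      (((PrimeSpectrum.le_iff_specializes (⟨q, hq.1⟩ : PrimeSpectrum Γ(X, U)) _).mp hle).map
        hU.fromSpec.continuous).trans (specializes_of_eq (hU.fromSpec_primeIdealOf ⟨ξ, hξU⟩))
    have h2 := hU.fromSpec.isOpenEmbedding.injective
      (h1.trans (hU.fromSpec_primeIdealOf ⟨ξ, hξU⟩).symm)
    exact (congrArg PrimeSpectrum.asIdeal h2).symm.le
  refine ⟨⟨(U : Set X) ∩ (⋃ ξ ∈ S, closure {ξ})ᶜ,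
    U.2.inter (hS.isClosed_biUnion fun _ _ => isClosed_closure).isOpen_compl⟩, ⟨hxU, fun hx => ?_⟩,
    fun ξ hξ hmax => ?_⟩
  · simp only [Set.mem_iUnion] at hx
    obtain ⟨ξ, hξ, hxξ⟩ := hx
    exact hξ.2.2 (specializes_iff_mem_closure.mpr hxξ)
  · by_contra hsp
    exact hξ.2 (Set.mem_biUnion (show ξ ∈ S from ⟨hξ.1, hmax, hsp⟩) (subset_closure rfl))

theorem exists_nat_dim_stalk [IsLocallyNoetherian Y] (y : Y) :
    ∃ c : ℕ, ringKrullDim (Y.presheaf.stalk y) = c ∧
      ∀ (V : Y.Opens) (hV : IsAffineOpen V) (hy : y ∈ V), (hV.primeIdealOf ⟨y, hy⟩).asIdeal.height = c := by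
  have key : ∀ (V : Y.Opens) (hV : IsAffineOpen V) (hy : y ∈ V),
      ringKrullDim (Y.presheaf.stalk y) = (hV.primeIdealOf ⟨y, hy⟩).asIdeal.height := fun V hV hy => by
    letI := TopCat.Presheaf.algebra_section_stalk Y.presheaf ⟨y, hy⟩
    haveI := hV.isLocalization_stalk ⟨y, hy⟩
    exact IsLocalization.AtPrime.ringKrullDim_eq_height (hV.primeIdealOf ⟨y, hy⟩).asIdeal _
  obtain ⟨V, hV, hyV, -⟩ := exists_isAffineOpen_mem_and_subset (x := y) (U := ⊤) trivial
  haveI : IsNoetherianRing Γ(Y, V) := IsLocallyNoetherian.component_noetherian ⟨V, hV⟩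
  obtain ⟨c, hc⟩ := ENat.ne_top_iff_exists.1
    (Ideal.height_ne_top (I := (hV.primeIdealOf ⟨y, hyV⟩).asIdeal) Ideal.IsPrime.ne_top')
  have h0 : ringKrullDim (Y.presheaf.stalk y) = c := by
    rw [key V hV hyV, ← hc]; rfl
  exact ⟨c, h0, fun W hW hyW => WithBot.coe_injective ((key W hW hyW).symm.trans h0)⟩

/-- The closure of a proper generization has smaller local dimension. -/
theorem dim_locQuot_le_stalk [IsLocallyNoetherian Y] {η y : Y} (h : η ⤳ y) (b c : ℕ)
    (hb : ringKrullDim (Cyc.LocQuot y η h) = b) (hc : ringKrullDim (Y.presheaf.stalk y) = c) :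
    b ≤ c ∧ (b = c → ∀ y', y' ⤳ η → y' = η) := by
  obtain ⟨V, hV, hyV, -⟩ := exists_isAffineOpen_mem_and_subset (x := y) (U := ⊤) trivial
  haveI : IsNoetherianRing Γ(Y, V) := IsLocallyNoetherian.component_noetherian ⟨V, hV⟩
  obtain ⟨c', hc', hc''⟩ := exists_nat_dim_stalk y
  have hcc : c' = c := by exact_mod_cast hc'.symm.trans hc
  subst hcc
  have hηV : η ∈ V := h.mem_open V.2 hyV
  let q := (hV.primeIdealOf ⟨η, hηV⟩).asIdeal
  rw [GrothLib.Altitude.ringKrullDim_locQuot_eq_height hV h hyV] at hb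
  have hb' : ((hV.primeIdealOf ⟨y, hyV⟩).asIdeal.map (Ideal.Quotient.mk q)).height = b :=
    WithBot.coe_injective hb
  have hle := GrothLib.Altitude.height_add_height_map_le q _ (GrothLib.Altitude.primeIdealOf_mono hV h hyV)
  rw [hb', hc'' V hV hyV] at hle
  refine ⟨by exact_mod_cast le_add_self.trans hle, fun hbc y' hy' => ?_⟩
  subst hbc
  obtain ⟨i, hi⟩ := ENat.ne_top_iff_exists.1 (Ideal.height_ne_top (I := q) Ideal.IsPrime.ne_top')
  rw [← hi] at hle
  have hi0 : i = 0 := by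
    have : i + b ≤ b := by exact_mod_cast hle
    omega
  rw [hi0, Nat.cast_zero] at hi
  have hmin : q ∈ minimalPrimes Γ(Y, V) := Ideal.height_eq_zero_iff.mp hi.symm
  have hy'V : y' ∈ V := hy'.mem_open V.2 hηV
  have h1 := GrothLib.Altitude.primeIdealOf_mono hV hy' hηV
  have h2 : hV.primeIdealOf ⟨y', hy'V⟩ = hV.primeIdealOf ⟨η, hηV⟩ :=
    PrimeSpectrum.ext (le_antisymm h1 (hmin.2 ⟨(hV.primeIdealOf ⟨y', hy'V⟩).isPrime, bot_le⟩ h1))
  exact (hV.fromSpec_primeIdealOf ⟨y', hy'V⟩).symm.trans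
    ((congrArg hV.fromSpec h2).trans (hV.fromSpec_primeIdealOf _))

/-- The lower bound in the dimension formula, for a component through `x`. -/
theorem dim_locQuot_ge [IsLocallyNoetherian Y] (f : X ⟶ Y) [LocallyOfFiniteType f] {ξ x : X} (h : ξ ⤳ x)
    (hη : ∀ y', y' ⤳ f ξ → y' = f ξ) (hy : CAlg2.IsGeomUnibranch (Y.presheaf.stalk (f x))) (n : ℕ)
    (hn : Dual3.resTrdeg f ξ = n) (hdim : FlatMor.fibreDimAt f x ≤ n) (s a c : ℕ)
    (hs : Dual3.resTrdeg f x = s) (ha : ringKrullDim (Cyc.LocQuot x ξ h) = a)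
    (hc : ringKrullDim (Y.presheaf.stalk (f x)) = c) : c + n ≤ a + s := by
  obtain ⟨V, hV, hxV, -⟩ := exists_isAffineOpen_mem_and_subset (x := f x) (U := ⊤) trivial
  let O : X.Opens := ⟨_, GrothLib.FibreDimAt6.isOpen_fibreDimAt_le f n⟩
  obtain ⟨U, hU, hxU, hUO⟩ := exists_isAffineOpen_mem_and_subset (x := x) (U := O ⊓ f ⁻¹ᵁ V) ⟨hdim, hxV⟩
  have hUV : U ≤ f ⁻¹ᵁ V := hUO.trans inf_le_right
  let A : Type u := Γ(Y, V)
  let B : Type u := Γ(X, U)
  letI : Algebra A B := (f.appLE V U hUV).hom.toAlgebra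
  haveI : Algebra.FiniteType A B := f.finiteType_appLE hV hU hUV
  haveI : IsNoetherianRing A := IsLocallyNoetherian.component_noetherian ⟨V, hV⟩
  obtain ⟨b, hb⟩ := exists_cut_le f hV hU hUV x hxU n (fun z hz => (hUO hz).1) rfl
  have hξU : ξ ∈ U := h.mem_open U.2 hxU
  let Q := (hU.primeIdealOf ⟨x, hxU⟩).asIdeal
  let P₀ := (hU.primeIdealOf ⟨ξ, hξU⟩).asIdeal
  let p := Q.comap (algebraMap A B)
  let p₀ := P₀.comap (algebraMap A B)
  haveI : Q.LiesOver p := ⟨rfl⟩
  haveI : P₀.LiesOver p₀ := ⟨rfl⟩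
  have hp : p = (hV.primeIdealOf ⟨f x, hUV hxU⟩).asIdeal :=
    congrArg PrimeSpectrum.asIdeal (IsAffineOpen.comap_primeIdealOf_appLE V hV U hU hUV hxU)
  have hp₀ : p₀ = (hV.primeIdealOf ⟨f ξ, hUV hξU⟩).asIdeal :=
    congrArg PrimeSpectrum.asIdeal (IsAffineOpen.comap_primeIdealOf_appLE V hV U hU hUV hξU)
  have hmin : p₀ ∈ minimalPrimes A := by
    refine ⟨⟨Ideal.comap_isPrime _ _, bot_le⟩, fun q hq hle => ?_⟩
    have h1 : hV.fromSpec ⟨q, hq.1⟩ = f ξ := by
      refine hη _ (Specializes.trans ?_ (specializes_of_eq (hV.fromSpec_primeIdealOf ⟨f ξ, hUV hξU⟩)))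
      exact ((PrimeSpectrum.le_iff_specializes (⟨q, hq.1⟩ : PrimeSpectrum A) _).mp (hle.trans hp₀.le)).map
        hV.fromSpec.continuous
    have h2 := hV.fromSpec.isOpenEmbedding.injective (h1.trans (hV.fromSpec_primeIdealOf ⟨_, hUV hξU⟩).symm)
    exact (hp₀.trans (congrArg PrimeSpectrum.asIdeal h2).symm).le
  have hyloc : CAlg2.IsGeomUnibranch (Localization.AtPrime p) := by
    have e : hV.fromSpec (hV.primeIdealOf ⟨f x, hUV hxU⟩) = f x := hV.fromSpec_primeIdealOf _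
    rw [← e, GrothLib.GeomUnib.isGeomUnibranch_stalk_openImmersion_iff,
      GrothLib.GeomUnib.isGeomUnibranch_stalk_spec_iff] at hy
    have key : ∀ (p₁ p₂ : Ideal A) [p₁.IsPrime] [p₂.IsPrime], p₁ = p₂ →
        CAlg2.IsGeomUnibranch (Localization.AtPrime p₂) → CAlg2.IsGeomUnibranch (Localization.AtPrime p₁) := by
      intro p₁ p₂ _ _ e h'; subst e; exact h'
    exact key _ _ hp hy
  have ha' : (Q.map (Ideal.Quotient.mk P₀)).height = a := WithBot.coe_injective
    ((GrothLib.Altitude.ringKrullDim_locQuot_eq_height hU h hxU).symm.trans ha)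
  have h1 := height_add_le p Q P₀ (GrothLib.Altitude.primeIdealOf_mono hU h hxU) p₀ hmin hyloc b hb
    (by rw [GrothLib.QSec28.trdeg_quotient_eq_resTrdeg f hV hU hUV ξ hξU rfl p₀ P₀ hp₀ rfl, hn])
    s a (by rw [GrothLib.QSec28.trdeg_quotient_eq_resTrdeg f hV hU hUV x hxU rfl p Q hp rfl, hs]) ha'
  obtain ⟨c', hc', hc''⟩ := exists_nat_dim_stalk (f x)
  rw [hp, hc'' V hV (hUV hxU)] at h1
  rw [show c = c' by exact_mod_cast hc.symm.trans hc']
  exact_mod_cast h1

theorem exists_eq_ker_of_mem_minimalPrimes [IsLocallyNoetherian X] (x : X) (P : Ideal (X.presheaf.stalk x))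
    (hP : P ∈ minimalPrimes (X.presheaf.stalk x)) :
    ∃ (ξ : X) (h : ξ ⤳ x), (∀ z, z ⤳ ξ → z = ξ) ∧ P = RingHom.ker (Cyc.specMap x ξ h) := by
  obtain ⟨U, hU, hxU, -⟩ := exists_isAffineOpen_mem_and_subset (x := x) (U := ⊤) trivial
  letI := TopCat.Presheaf.algebra_section_stalk X.presheaf ⟨x, hxU⟩
  haveI := hU.isLocalization_stalk ⟨x, hxU⟩
  let M := (hU.primeIdealOf ⟨x, hxU⟩).asIdeal.primeCompl
  have hker : ∀ (ξ : X) (h : ξ ⤳ x), (RingHom.ker (Cyc.specMap x ξ h)).comap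
      (algebraMap Γ(X, U) (X.presheaf.stalk x)) = (hU.primeIdealOf ⟨ξ, h.mem_open U.2 hxU⟩).asIdeal :=
    fun ξ h => GrothLib.Altitude.ker_specMap_comap_germ hU h hxU
  have hinj : ∀ P P' : Ideal (X.presheaf.stalk x), P.comap (algebraMap Γ(X, U) (X.presheaf.stalk x)) ≤
      P'.comap (algebraMap Γ(X, U) (X.presheaf.stalk x)) → P ≤ P' := fun P P' hle => by
    rw [← IsLocalization.map_under M (X.presheaf.stalk x) P, ← IsLocalization.map_under M (X.presheaf.stalk x) P']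
    exact Ideal.map_mono hle
  haveI := hP.1.1
  let q : PrimeSpectrum Γ(X, U) := ⟨P.comap (algebraMap Γ(X, U) (X.presheaf.stalk x)), Ideal.comap_isPrime _ _⟩
  let ξ := hU.fromSpec q
  have hξU : ξ ∈ U := hU.range_fromSpec.le ⟨q, rfl⟩
  have hqξ : hU.primeIdealOf ⟨ξ, hξU⟩ = q :=
    hU.fromSpec.isOpenEmbedding.injective (hU.fromSpec_primeIdealOf _)
  have hqmin : q.asIdeal ∈ minimalPrimes Γ(X, U) := by
    refine ⟨⟨q.isPrime, bot_le⟩, fun I hI hle => ?_⟩
    haveI := hI.1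
    have hdisj : Disjoint (M : Set Γ(X, U)) I := Set.disjoint_left.mpr fun r hr hrI =>
      Ideal.IsPrime.ne_top' (I := P) (Ideal.eq_top_of_isUnit_mem _ (hle hrI) (IsLocalization.map_units _ ⟨r, hr⟩))
    haveI := IsLocalization.isPrime_of_isPrime_disjoint M (X.presheaf.stalk x) I hI.1 hdisj
    have h1 : P ≤ I.map (algebraMap Γ(X, U) (X.presheaf.stalk x)) :=
      hP.2 ⟨inferInstance, bot_le⟩ (Ideal.map_le_iff_le_comap.mpr hle)
    calc q.asIdeal ≤ (I.map (algebraMap Γ(X, U) (X.presheaf.stalk x))).comap _ := Ideal.comap_mono h1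
      _ = I := IsLocalization.under_map_of_isPrime_disjoint M (X.presheaf.stalk x) hI.1 hdisj
  have hsp : ξ ⤳ x := by
    refine Specializes.trans ?_ (specializes_of_eq (hU.fromSpec_primeIdealOf ⟨x, hxU⟩))
    refine ((PrimeSpectrum.le_iff_specializes q _).mp fun r hr => ?_).map hU.fromSpec.continuous
    by_contra hrx
    exact Ideal.IsPrime.ne_top' (I := P) (Ideal.eq_top_of_isUnit_mem _ hr (IsLocalization.map_units _ (⟨r, show r ∈ M from hrx⟩ : M)))
  have hmax : ∀ z, z ⤳ ξ → z = ξ := fun z hz => by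
    have hzU : z ∈ U := hz.mem_open U.2 hξU
    have h1 : (hU.primeIdealOf ⟨z, hzU⟩).asIdeal ≤ q.asIdeal :=
      hqξ ▸ GrothLib.Altitude.primeIdealOf_mono hU hz hξU
    have h2 : hU.primeIdealOf ⟨z, hzU⟩ = q :=
      PrimeSpectrum.ext (le_antisymm h1 (hqmin.2 ⟨(hU.primeIdealOf ⟨z, hzU⟩).isPrime, bot_le⟩ h1))
    exact (hU.fromSpec_primeIdealOf ⟨z, hzU⟩).symm.trans (congrArg hU.fromSpec h2)
  have hPk : P = RingHom.ker (Cyc.specMap x ξ hsp) := by
    refine le_antisymm (hinj _ _ ?_) (hinj _ _ ?_)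
    all_goals rw [hker ξ hsp, congrArg PrimeSpectrum.asIdeal hqξ]
  exact ⟨ξ, hsp, hmax, hPk⟩

/-- The components through `x` as minimal primes of the local ring. -/
theorem isEquidim_stalk_iff [IsLocallyNoetherian X] (x : X) :
    EGA4.IsEquidim (X.presheaf.stalk x) ↔ ∀ (ξ : X) (h : ξ ⤳ x), (∀ z, z ⤳ ξ → z = ξ) →
      ringKrullDim (Cyc.LocQuot x ξ h) = ringKrullDim (X.presheaf.stalk x) := by
  obtain ⟨U, hU, hxU, -⟩ := exists_isAffineOpen_mem_and_subset (x := x) (U := ⊤) trivial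
  letI := TopCat.Presheaf.algebra_section_stalk X.presheaf ⟨x, hxU⟩
  haveI := hU.isLocalization_stalk ⟨x, hxU⟩
  let M := (hU.primeIdealOf ⟨x, hxU⟩).asIdeal.primeCompl
  have hker : ∀ (ξ : X) (h : ξ ⤳ x), (RingHom.ker (Cyc.specMap x ξ h)).comap
      (algebraMap Γ(X, U) (X.presheaf.stalk x)) = (hU.primeIdealOf ⟨ξ, h.mem_open U.2 hxU⟩).asIdeal :=
    fun ξ h => GrothLib.Altitude.ker_specMap_comap_germ hU h hxU
  have hinj : ∀ P P' : Ideal (X.presheaf.stalk x), P.comap (algebraMap Γ(X, U) (X.presheaf.stalk x)) ≤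
      P'.comap (algebraMap Γ(X, U) (X.presheaf.stalk x)) → P ≤ P' := fun P P' hle => by
    rw [← IsLocalization.map_under M (X.presheaf.stalk x) P, ← IsLocalization.map_under M (X.presheaf.stalk x) P']
    exact Ideal.map_mono hle
  constructor
  · intro h ξ hξ hmax
    refine h _ ⟨⟨RingHom.ker_isPrime _, bot_le⟩, fun P hP hle => hinj _ _ ?_⟩
    haveI := hP.1
    rw [hker ξ hξ]
    let q : PrimeSpectrum Γ(X, U) := ⟨P.comap (algebraMap Γ(X, U) (X.presheaf.stalk x)), Ideal.comap_isPrime _ _⟩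
    have h1 : q.asIdeal ≤ (hU.primeIdealOf ⟨ξ, hξ.mem_open U.2 hxU⟩).asIdeal :=
      hker ξ hξ ▸ Ideal.comap_mono hle
    have h2 : hU.fromSpec q = ξ := hmax _ ((((PrimeSpectrum.le_iff_specializes q _).mp h1).map
      hU.fromSpec.continuous).trans (specializes_of_eq (hU.fromSpec_primeIdealOf ⟨ξ, hξ.mem_open U.2 hxU⟩)))
    have h3 := hU.fromSpec.isOpenEmbedding.injective
      (h2.trans (hU.fromSpec_primeIdealOf ⟨ξ, hξ.mem_open U.2 hxU⟩).symm)
    exact (congrArg PrimeSpectrum.asIdeal h3).symm.le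
  · intro h P hP
    obtain ⟨ξ, hsp, hmax, rfl⟩ := exists_eq_ker_of_mem_minimalPrimes x P hP
    exact h ξ hsp hmax

/-- Equidimensionality from the components through the point. -/
theorem isEquidimAt_of_components [IsLocallyNoetherian Y] (f : X ⟶ Y) [LocallyOfFiniteType f] (x : X) (n : ℕ)
    (hn : FlatMor.fibreDimAt f x ≤ (n : WithBot ℕ∞))
    (h : ∀ ξ, ξ ⤳ x → (∀ z, z ⤳ ξ → z = ξ) → (∀ y', y' ⤳ f ξ → y' = f ξ) ∧ Dual3.resTrdeg f ξ = n) :
    EGA43.IsEquidimAt f x := by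
  haveI := LocallyOfFiniteType.isLocallyNoetherian f
  obtain ⟨O, hxO, hO⟩ := exists_open_components_through x
  let U : X.Opens := O ⊓ ⟨_, GrothLib.FibreDimAt6.isOpen_fibreDimAt_le f n⟩
  have hmaxU : ∀ v : (U : Scheme.{u}), (∀ z, z ⤳ v → z = v) → ∀ z, z ⤳ U.ι v → z = U.ι v := fun v hv z hz => by
    obtain ⟨z', rfl⟩ : z ∈ Set.range U.ι := U.range_ι.ge (hz.mem_open U.2 v.2)
    exact congrArg U.ι (hv z' (U.ι.isEmbedding.isInducing.specializes_iff.mp hz))
  haveI : QuasiSober ↥U := U.2.isOpenEmbedding_subtypeVal.quasiSober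
  refine ⟨n, U, ⟨hxO, hn⟩, fun Z hZ => ?_, fun x' => ?_⟩
  · obtain ⟨v, rfl⟩ : ∃ v : (U : Scheme.{u}), closure {v} = Z :=
      ⟨_, (hZ.1.isGenericPoint_genericPoint (isClosed_of_mem_irreducibleComponents _ hZ)).def⟩
    have hv := hmaxU v (maximal_of_closure_mem hZ)
    have hsp : U.ι v ⤳ x := hO _ v.2.1 hv
    refine ⟨closure {f (U.ι v)}, GrothLib.Equidim6.closure_mem_components (h _ hsp hv).1,
      (hsp.map f.continuous).mem_closure, ?_⟩
    rw [closure_image_closure_singleton (U.ι ≫ f).continuous]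
    rfl
  · haveI : LocallyOfFiniteType ((U.ι ≫ f).fiberToSpecResidueField ((U.ι ≫ f) x')) :=
      MorphismProperty.pullback_snd (U.ι ≫ f) _ inferInstance
    refine (GrothLib.Equidim6.equidim_iff (K := Y.residueField ((U.ι ≫ f) x'))
      ((U.ι ≫ f).fiberToSpecResidueField _) n).2 fun z => (GrothLib.Equidim6.localDim_asFiber (U.ι ≫ f) _ z).trans ?_
    set v := (U.ι ≫ f).fiberι ((U.ι ≫ f) x') z
    rw [GrothLib.CMMor6.fibreDimAt_comp_flat_lqf U.ι f v]
    refine le_antisymm v.2.2 ?_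
    obtain ⟨ξ, hξ, hξmax⟩ := GrothLib.AffDom.exists_maximal_point (U.ι v)
    have hξU : ξ ∈ U := hξ.mem_open U.2 v.2
    have hξn := (h ξ (hO ξ hξU.1 hξmax) hξmax).2
    obtain ⟨h1, h2, -⟩ := component_dims f hξ hξn ⟨hξ.mem_closure, rfl⟩
    exact h1.trans h2

theorem components_of_isEquidimAt (f : X ⟶ Y) [LocallyOfFiniteType f] (x : X) (h : EGA43.IsEquidimAt f x) :
    ∃ n : ℕ, FlatMor.fibreDimAt f x = (n : WithBot ℕ∞) ∧
      ∀ ξ, ξ ⤳ x → (∀ z, z ⤳ ξ → z = ξ) → (∀ y', y' ⤳ f ξ → y' = f ξ) ∧ Dual3.resTrdeg f ξ = n := by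
  obtain ⟨e, U, hxU, hdom, hdim⟩ := h
  have hfd : ∀ z ∈ U, FlatMor.fibreDimAt f z = (e : WithBot ℕ∞) := fun z hz => by
    haveI : LocallyOfFiniteType ((U.ι ≫ f).fiberToSpecResidueField ((U.ι ≫ f) ⟨z, hz⟩)) :=
      MorphismProperty.pullback_snd (U.ι ≫ f) _ inferInstance
    exact (GrothLib.CMMor6.fibreDimAt_comp_flat_lqf U.ι f ⟨z, hz⟩).symm.trans
      ((GrothLib.Equidim6.equidim_iff (K := Y.residueField ((U.ι ≫ f) ⟨z, hz⟩))
        ((U.ι ≫ f).fiberToSpecResidueField _) e).1 (hdim ⟨z, hz⟩) ((U.ι ≫ f).asFiber ⟨z, hz⟩))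
  refine ⟨e, hfd x hxU, fun ξ hξ hmax => ?_⟩
  have hξU : ξ ∈ U := hξ.mem_open U.2 hxU
  obtain ⟨k, hk, hk'⟩ := GrothLib.Equidim6.resTrdeg_eq_fibreDimAt_of_maximal f ξ hmax
  refine ⟨?_, by rw [hk, show k = e by exact_mod_cast hk'.symm.trans (hfd ξ hξU)]⟩
  have hv : ∀ z, z ⤳ (⟨ξ, hξU⟩ : (U : Scheme.{u})) → z = ⟨ξ, hξU⟩ := fun z hz =>
    Subtype.ext (hmax z.1 (hz.map U.ι.continuous))
  obtain ⟨W, hW, -, hWc⟩ := hdom (closure {(⟨ξ, hξU⟩ : (U : Scheme.{u}))})
    (GrothLib.Equidim6.closure_mem_components (X := (U : Scheme.{u})) hv)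
  have hWc' : closure ({f ξ} : Set Y) = W :=
    ((closure_image_closure_singleton (U.ι ≫ f).continuous (⟨ξ, hξU⟩ : (U : Scheme.{u}))).symm.trans hWc :)
  exact maximal_of_closure_mem (hWc' ▸ hW : closure ({f ξ} : Set Y) ∈ irreducibleComponents (Y : Type u))

theorem isEquidimAt_of_specializes {f : X ⟶ Y} {x z : X} (h : EGA43.IsEquidimAt f x) (hzx : z ⤳ x)
    (he : f z = f x) : EGA43.IsEquidimAt f z := by
  obtain ⟨e, U, hxU, hdom, hdim⟩ := h
  exact ⟨e, U, hzx.mem_open U.2 hxU, fun Z hZ => by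
    obtain ⟨W, hW, hxW, hc⟩ := hdom Z hZ
    exact ⟨W, hW, (show f z ∈ W by rw [he]; exact hxW), hc⟩, hdim⟩

/-- EGA IV 14.4: an equidimensional morphism gives equidimensional local rings. -/
theorem isEquidim_stalk_of_isEquidimAt [IsLocallyNoetherian Y] (f : X ⟶ Y) [LocallyOfFiniteType f] (x : X)
    (hy : CAlg2.IsGeomUnibranch (Y.presheaf.stalk (f x))) (h : EGA43.IsEquidimAt f x) :
    EGA4.IsEquidim (X.presheaf.stalk x) := by
  haveI := LocallyOfFiniteType.isLocallyNoetherian f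
  obtain ⟨n, hn, hcomp⟩ := components_of_isEquidimAt f x h
  obtain ⟨c, hc, -⟩ := exists_nat_dim_stalk (f x)
  obtain ⟨s, hs, -⟩ := GrothLib.Altitude.exists_trdeg_eq_dim_closure f x
  have hall : ∀ (ξ : X) (hξ : ξ ⤳ x), (∀ z, z ⤳ ξ → z = ξ) →
      ∃ a : ℕ, ringKrullDim (Cyc.LocQuot x ξ hξ) = a ∧ a + s = c + n := by
    intro ξ hξ hmax
    obtain ⟨hη, hξn⟩ := hcomp ξ hξ hmax
    obtain ⟨t, s', a, b, ht, hs', ha, hb, hle, -⟩ := GrothLib.Altitude.dim_locQuot_add_trdeg f hξ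
    have hts : t = n := by exact_mod_cast (ht.symm.trans hξn :)
    have hss : s' = s := by exact_mod_cast (hs'.symm.trans hs :)
    have hge := dim_locQuot_ge f hξ hη hy n hξn hn.le s a c hs ha hc
    have hbc := (dim_locQuot_le_stalk (hξ.map f.continuous) b c hb hc).1
    exact ⟨a, ha, by omega⟩
  refine (isEquidim_stalk_iff x).mpr fun ξ hξ hmax => ?_
  obtain ⟨a, ha, has⟩ := hall ξ hξ hmax
  obtain ⟨d, hd, -⟩ := exists_nat_dim_stalk x
  obtain ⟨P, hPp, hPmin, hPd⟩ := GrothLib.QSec28.exists_minimalPrime_dim (C := X.presheaf.stalk x) (n := d) hd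
  have hdq : d ≤ a := by
    obtain ⟨ξ', hξ', hmax', hP'⟩ : ∃ (ξ' : X) (h : ξ' ⤳ x), (∀ z, z ⤳ ξ' → z = ξ') ∧
        P = RingHom.ker (Cyc.specMap x ξ' h) := exists_eq_ker_of_mem_minimalPrimes x P hPmin
    obtain ⟨a', ha', has'⟩ := hall ξ' hξ' hmax'
    subst hP'
    have : (d : WithBot ℕ∞) ≤ a' := hd.symm.le.trans (hPd.trans ha'.le)
    have : d ≤ a' := by exact_mod_cast this
    omega
  have hale : (a : WithBot ℕ∞) ≤ d := by
    rw [← ha, ← hd]
    exact ringKrullDim_quotient_le _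
  rw [ha, hd, le_antisymm (by exact_mod_cast hale : a ≤ d) hdq]

end GrothLib.Chev28
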