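import Groth.Agent.Lib.Chev28.DimCat

/-!
The dimension formula over an irreducible base.
-/

universe u

open CategoryTheory CategoryTheory.Limits AlgebraicGeometry TopologicalSpace Topology

noncomputable section

namespace GrothLib.Chev28

variable {X Y : Scheme.{u}}

theorem dim_locQuot_generic [IrreducibleSpace Y] [IsLocallyNoetherian Y] {η y : Y} (h : η ⤳ y)
    (hη : η = genericPoint Y) : ringKrullDim (Cyc.LocQuot y η h) = ringKrullDim (Y.presheaf.stalk y) := by
  subst hη
  obtain ⟨ξ, hξ, hmax, hd⟩ := exists_component_dim_stalk y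
  obtain rfl : genericPoint Y = ξ := hmax _ (genericPoint_specializes ξ)
  exact hd

theorem map_genericPoint_of_dominant [IrreducibleSpace X] [IrreducibleSpace Y] (f : X ⟶ Y) [IsDominant f] :
    f (genericPoint X) = genericPoint Y := by
  have hd : closure ({f (genericPoint X)} : Set Y) = Set.univ := by
    rw [← closure_image_closure_singleton f.continuous (genericPoint X),
      show closure ({genericPoint X} : Set X) = Set.univ from genericPoint_spec X, Set.image_univ]
    exact f.denseRange.closure_range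
  exact (show IsGenericPoint (f (genericPoint X)) Set.univ from hd).eq (genericPoint_spec Y)

/-- The generic fibre of a dominant irreducible scheme has the transcendence degree as dimension. -/
theorem exists_dim_generic_fibre [IrreducibleSpace X] [IrreducibleSpace Y] (f : X ⟶ Y) [LocallyOfFiniteType f]
    [IsDominant f] : ∃ t : ℕ, Dual3.resTrdeg f (genericPoint X) = t ∧
      topologicalKrullDim ↥(f.fiber (genericPoint Y)) = (t : WithBot ℕ∞) := by
  obtain ⟨m, hm, hd⟩ := exists_dim_closure_inter_fibre f (genericPoint X)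
  rw [show closure ({genericPoint X} : Set X) = Set.univ from genericPoint_spec X, Set.univ_inter,
    map_genericPoint_of_dominant f] at hd
  refine ⟨m, hm, ?_⟩
  rw [← hd]
  exact GrothLib.Dim.IsEmbedding.topologicalKrullDim_eq (f := f.fiberι (genericPoint Y))
    (f.fiberι (genericPoint Y)).isEmbedding (f.range_fiberι _)

/-- The data of the dimension inequality for a component through a point. -/
theorem exists_component_data [IsLocallyNoetherian Y] (f : X ⟶ Y) [LocallyOfFiniteType f] {ξ x : X} (hξ : ξ ⤳ x)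
    (k s c : ℕ) (hs : Dual3.resTrdeg f x = s) (hD : FlatMor.fibreDimAt f x = ((k + s : ℕ) : WithBot ℕ∞))
    (hc : ringKrullDim (Y.presheaf.stalk (f x)) = c) :
    ∃ t a b : ℕ, Dual3.resTrdeg f ξ = t ∧ ringKrullDim (Cyc.LocQuot x ξ hξ) = a ∧
      ringKrullDim (Cyc.LocQuot (f x) (f ξ) (hξ.map f.continuous)) = b ∧ b ≤ c ∧
      (b = c → ∀ y', y' ⤳ f ξ → y' = f ξ) ∧ t ≤ k + s ∧ a + s ≤ b + t ∧
      (CAlg.IsUniversallyCatenary (Y.presheaf.stalk (f x)) → a + s = b + t) := by
  obtain ⟨t, s', a, b, ht, hs', ha, hb, hab, heq⟩ := GrothLib.Altitude.dim_locQuot_add_trdeg f hξ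
  have hss : s' = s := by exact_mod_cast (hs'.symm.trans hs :)
  subst hss
  obtain ⟨h1, h2, -⟩ := component_dims f hξ ht ⟨hξ.mem_closure, rfl⟩
  exact ⟨t, a, b, ht, ha, hb, (dim_locQuot_le_stalk _ b c hb hc).1, (dim_locQuot_le_stalk _ b c hb hc).2,
    by exact_mod_cast (h1.trans h2).trans hD.le, hab, heq⟩

theorem fibreDimAt_eq_generic_of_dim_formula [IrreducibleSpace X] [IrreducibleSpace Y] [IsLocallyNoetherian Y]
    (f : X ⟶ Y) [LocallyOfFiniteType f] [IsDominant f] (x : X)
    (h : ringKrullDim (X.presheaf.stalk x) =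
      ringKrullDim (Y.presheaf.stalk (f x)) + ringKrullDim ((f.fiber (f x)).presheaf.stalk (f.asFiber x))) :
    FlatMor.fibreDimAt f x = topologicalKrullDim ↥(f.fiber (genericPoint Y)) := by
  haveI := LocallyOfFiniteType.isLocallyNoetherian f
  obtain ⟨k, s, hs, hk, hD⟩ := exists_dim_fibre_stalk f x
  obtain ⟨c, hc, -⟩ := exists_nat_dim_stalk (f x)
  obtain ⟨t, ht, hfib⟩ := exists_dim_generic_fibre f
  obtain ⟨t', a, b, ht', ha, -, hbc, -, htk, hab, -⟩ :=
    exists_component_data f (genericPoint_specializes x) k s c hs hD hc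
  rw [← dim_locQuot_generic (genericPoint_specializes x) rfl, ha, hc, hk] at h
  have hac : a = c + k := by exact_mod_cast h
  have htt : t' = t := by exact_mod_cast (ht'.symm.trans ht :)
  rw [hfib, hD, show k + s = t by omega]

theorem dim_formula_of_fibreDimAt_eq_generic [IrreducibleSpace X] [IrreducibleSpace Y] [IsLocallyNoetherian Y]
    (f : X ⟶ Y) [LocallyOfFiniteType f] [IsDominant f] (x : X)
    (hcat : CAlg.IsUniversallyCatenary (Y.presheaf.stalk (f x)))
    (h : FlatMor.fibreDimAt f x = topologicalKrullDim ↥(f.fiber (genericPoint Y))) :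
    ringKrullDim (X.presheaf.stalk x) =
      ringKrullDim (Y.presheaf.stalk (f x)) + ringKrullDim ((f.fiber (f x)).presheaf.stalk (f.asFiber x)) := by
  haveI := LocallyOfFiniteType.isLocallyNoetherian f
  obtain ⟨k, s, hs, hk, hD⟩ := exists_dim_fibre_stalk f x
  obtain ⟨c, hc, -⟩ := exists_nat_dim_stalk (f x)
  obtain ⟨t, ht, hfib⟩ := exists_dim_generic_fibre f
  obtain ⟨t', a, b, ht', ha, hb, -, -, -, -, heq⟩ :=
    exists_component_data f (genericPoint_specializes x) k s c hs hD hc
  have htt : t' = t := by exact_mod_cast (ht'.symm.trans ht :)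
  have hbc : b = c := by
    exact_mod_cast hb.symm.trans ((dim_locQuot_generic _ (map_genericPoint_of_dominant f)).trans hc)
  have hkt : k + s = t := by exact_mod_cast hD.symm.trans (h.trans hfib)
  have := heq hcat
  rw [← dim_locQuot_generic (genericPoint_specializes x) rfl, ha, hc, hk]
  exact_mod_cast (show a = c + k by omega)

theorem isEquidim_stalk_of_isEquidimAt' [IsLocallyNoetherian Y] (f : X ⟶ Y) [LocallyOfFiniteType f] (x : X)
    (h : EGA43.IsEquidimAt f x) (hcat : CAlg.IsUniversallyCatenary (Y.presheaf.stalk (f x)))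
    (hY : EGA4.IsEquidim (Y.presheaf.stalk (f x))) : EGA4.IsEquidim (X.presheaf.stalk x) := by
  haveI := LocallyOfFiniteType.isLocallyNoetherian f
  obtain ⟨n, s, hn, hs, hcomp⟩ := dim_locQuot_of_isEquidimAt f x hcat h
  obtain ⟨c, hc, -⟩ := exists_nat_dim_stalk (f x)
  have key : ∀ (ξ : X) (hξ : ξ ⤳ x), (∀ z, z ⤳ ξ → z = ξ) →
      ∃ a : ℕ, ringKrullDim (Cyc.LocQuot x ξ hξ) = a ∧ a + s = c + n := fun ξ hξ hmax => by
    obtain ⟨hη, a, b, ha, hb, hab⟩ := hcomp ξ hξ hmax
    have hbc : b = c := by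
      exact_mod_cast hb.symm.trans (((isEquidim_stalk_iff (f x)).mp hY _ (hξ.map f.continuous) hη).trans hc)
    exact ⟨a, ha, by omega⟩
  refine (isEquidim_stalk_iff x).mpr fun ξ hξ hmax => ?_
  obtain ⟨ξ₁, hξ₁, hmax₁, hd⟩ := exists_component_dim_stalk x
  obtain ⟨a, ha, has⟩ := key ξ hξ hmax
  obtain ⟨a₁, ha₁, has₁⟩ := key ξ₁ hξ₁ hmax₁
  rw [← hd, ha, ha₁, show a = a₁ by omega]

theorem isEquidimAt_of_isEquidim_stalk_of_dim_formula [IsLocallyNoetherian Y] (f : X ⟶ Y)
    [LocallyOfFiniteType f] (x : X) (hX : EGA4.IsEquidim (X.presheaf.stalk x))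
    (h : ringKrullDim (X.presheaf.stalk x) =
      ringKrullDim (Y.presheaf.stalk (f x)) + ringKrullDim ((f.fiber (f x)).presheaf.stalk (f.asFiber x))) :
    EGA43.IsEquidimAt f x := by
  haveI := LocallyOfFiniteType.isLocallyNoetherian f
  obtain ⟨k, s, hs, hk, hD⟩ := exists_dim_fibre_stalk f x
  obtain ⟨c, hc, -⟩ := exists_nat_dim_stalk (f x)
  refine isEquidimAt_of_components f x (k + s) hD.le fun ξ hξ hmax => ?_
  obtain ⟨t, a, b, ht, ha, -, hbc, hb', htk, hab, -⟩ := exists_component_data f hξ k s c hs hD hc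
  rw [← (isEquidim_stalk_iff x).mp hX ξ hξ hmax, ha, hc, hk] at h
  have hac : a = c + k := by exact_mod_cast h
  exact ⟨hb' (by omega), by rw [ht, show t = k + s by omega]⟩

theorem dim_formula_on_fibre_of_generic [IsLocallyNoetherian Y] (f : X ⟶ Y) [LocallyOfFiniteType f] (y : Y)
    (hcat : CAlg.IsUniversallyCatenary (Y.presheaf.stalk y))
    (h : ∀ z : X, f z = y → ringKrullDim ((f.fiber (f z)).presheaf.stalk (f.asFiber z)) = 0 →
      ringKrullDim (X.presheaf.stalk z) = ringKrullDim (Y.presheaf.stalk (f z)))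
    (x : X) (hx : f x = y) :
    ringKrullDim (X.presheaf.stalk x) =
      ringKrullDim (Y.presheaf.stalk (f x)) + ringKrullDim ((f.fiber (f x)).presheaf.stalk (f.asFiber x)) := by
  subst hx
  obtain ⟨x₀, he, hs, hmax, hd⟩ := GrothLib.Equidim6.exists_fibre_maximal f x
  obtain ⟨D, hD, hD'⟩ := GrothLib.Equidim6.fibreDimAt_eq_resTrdeg f x₀ (fun z hz => hmax z (hz.trans he))
  obtain ⟨-, -, h0⟩ := maximal_in_fibre_of_dim_le f x₀ D hD hD'.le
  exact (dim_formula_iff f x hcat).mpr ⟨x₀, he, hs, hmax, hd.symm, h x₀ he (h0.trans Nat.cast_zero)⟩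

theorem exists_component_of_dim_eq [IrreducibleSpace Y] [IsLocallyNoetherian Y] (f : X ⟶ Y)
    [LocallyOfFiniteType f] (z : X)
    (h0 : ringKrullDim ((f.fiber (f z)).presheaf.stalk (f.asFiber z)) = 0)
    (h : ringKrullDim (X.presheaf.stalk z) = ringKrullDim (Y.presheaf.stalk (f z))) :
    ∃ X' ∈ irreducibleComponents (X : Type u), z ∈ X' ∧
      topologicalKrullDim ↥(X' ∩ f ⁻¹' {genericPoint Y}) = FlatMor.fibreDimAt f z := by
  haveI := LocallyOfFiniteType.isLocallyNoetherian f
  obtain ⟨k, s, hs, hk, hD⟩ := exists_dim_fibre_stalk f z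
  obtain ⟨c, hc, -⟩ := exists_nat_dim_stalk (f z)
  have hk0 : k = 0 := by exact_mod_cast hk.symm.trans h0
  obtain ⟨ξ, hξ, hmax, hd⟩ := exists_component_dim_stalk z
  obtain ⟨t, a, b, ht, ha, -, hbc, hb', htk, hab, -⟩ := exists_component_data f hξ k s c hs hD hc
  have hac : a = c := by exact_mod_cast (ha.symm.trans (hd.trans h)).trans hc
  have hη : f ξ = genericPoint Y := (hb' (by omega) _ (genericPoint_specializes _)).symm
  obtain ⟨m, hm, hdim⟩ := exists_dim_closure_inter_fibre f ξ
  refine ⟨_, GrothLib.Equidim6.closure_mem_components hmax, hξ.mem_closure, ?_⟩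
  have hmt : m = t := by exact_mod_cast (hm.symm.trans ht :)
  rw [← hη, hdim, hD, show m = k + s by omega]

theorem dim_eq_of_exists_component [IrreducibleSpace Y] [IsLocallyNoetherian Y] (f : X ⟶ Y)
    [LocallyOfFiniteType f] (z : X) (hcat : CAlg.IsUniversallyCatenary (Y.presheaf.stalk (f z)))
    (h0 : ringKrullDim ((f.fiber (f z)).presheaf.stalk (f.asFiber z)) = 0)
    (h : ∃ X' ∈ irreducibleComponents (X : Type u), z ∈ X' ∧
      topologicalKrullDim ↥(X' ∩ f ⁻¹' {genericPoint Y}) = FlatMor.fibreDimAt f z) :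
    ringKrullDim (X.presheaf.stalk z) = ringKrullDim (Y.presheaf.stalk (f z)) := by
  haveI := LocallyOfFiniteType.isLocallyNoetherian f
  obtain ⟨k, s, hs, hk, hD⟩ := exists_dim_fibre_stalk f z
  obtain ⟨c, hc, -⟩ := exists_nat_dim_stalk (f z)
  have hk0 : k = 0 := by exact_mod_cast hk.symm.trans h0
  obtain ⟨X', hX', hzX, hdimX⟩ := h
  obtain ⟨ξ, rfl⟩ : ∃ ξ : X, closure {ξ} = X' :=
    ⟨_, (hX'.1.isGenericPoint_genericPoint (isClosed_of_mem_irreducibleComponents _ hX')).def⟩
  have hξ : ξ ⤳ z := specializes_iff_mem_closure.mpr hzX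
  obtain ⟨⟨q, hq, hqη⟩⟩ : Nonempty ↥(closure {ξ} ∩ f ⁻¹' {genericPoint Y}) := by
    refine nonempty_of_nonneg_dim ?_
    rw [hdimX]
    exact GrothLib.Equidim6.nonneg_fibreDimAt' f z
  have hη : f ξ = genericPoint Y := by
    have h1 : f ξ ⤳ genericPoint Y := hqη ▸ (specializes_iff_mem_closure.mpr hq).map f.continuous
    exact (h1.antisymm (genericPoint_specializes _)).eq
  obtain ⟨t, a, b, ht, ha, hb, hbc, -, htk, -, heq⟩ := exists_component_data f hξ k s c hs hD hc
  have hbc' : b = c := by exact_mod_cast hb.symm.trans ((dim_locQuot_generic _ hη).trans hc)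
  obtain ⟨m, hm, hdim⟩ := exists_dim_closure_inter_fibre f ξ
  rw [hη, hdimX, hD] at hdim
  have hmt : m = t := by exact_mod_cast (hm.symm.trans ht :)
  have hks : k + s = m := by exact_mod_cast hdim
  have := heq hcat
  refine le_antisymm ?_ ?_
  · have h3 := GrothLib.FibreDim5.dim_stalk_le_add f z
    rwa [h0, add_zero] at h3
  · rw [hc, show c = a by omega, ← ha]
    exact ringKrullDim_quotient_le _

end GrothLib.Chev28
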