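import Groth.Agent.Lib.Chev28.DimFormula
import Groth.Agent.Lib.AlgSp.FibreDimBC
import Mathlib.AlgebraicGeometry.Morphisms.Flat

/-!
Equidimensionality under flat base change.
-/

universe u

open CategoryTheory CategoryTheory.Limits AlgebraicGeometry TopologicalSpace Topology

noncomputable section

namespace GrothLib.Chev28

variable {X Y Y' : Scheme.{u}}

/-- Over a point of the base the base change of any morphism is flat over any scheme. -/
theorem flat_snd_over_point (f : X ⟶ Y) (g : Y' ⟶ Y) (η : Y) :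
    Flat (pullback.snd (pullback.snd f g) (g.fiberι η)) := by
  haveI : Flat (pullback.snd f (Y.fromSpecResidueField η)) := inferInstance
  have key : ∀ h : g.fiber η ⟶ Y, h = g.fiberToSpecResidueField η ≫ Y.fromSpecResidueField η →
      Flat (pullback.snd f h) := by
    rintro h rfl
    haveI : Flat (pullback.snd (pullback.snd f (Y.fromSpecResidueField η)) (g.fiberToSpecResidueField η)) :=
      inferInstance
    rw [← pullbackLeftPullbackSndIso_inv_snd_snd]
    infer_instance
  haveI : Flat (pullback.snd f (g.fiberι η ≫ g)) := key _ pullback.condition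
  rw [← pullbackLeftPullbackSndIso_hom_snd]
  infer_instance

/-- Equidimensionality is stable under flat base change. -/
theorem isEquidimAt_pullback_snd [IsLocallyNoetherian Y'] (f : X ⟶ Y) [LocallyOfFiniteType f] (g : Y' ⟶ Y)
    [Flat g] (x : X) (h : EGA43.IsEquidimAt f x) (x' : ↥(pullback f g)) (hx' : pullback.fst f g x' = x) :
    EGA43.IsEquidimAt (pullback.snd f g) x' := by
  subst hx'
  haveI : LocallyOfFiniteType (pullback.snd f g) := MorphismProperty.pullback_snd f g inferInstance
  obtain ⟨n, hn, hcomp⟩ := components_of_isEquidimAt f _ h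
  have hbc : ∀ p, FlatMor.fibreDimAt (pullback.snd f g) p = FlatMor.fibreDimAt f (pullback.fst f g p) :=
    fun p => GrothLib.AlgSp.fibreDimAt_of_isPullback (IsPullback.of_hasPullback f g) p
  refine isEquidimAt_of_components _ x' n (by rw [hbc, hn]) fun ξ' hξ' hmax' => ?_
  let ξ := pullback.fst f g ξ'
  have hmax : ∀ z, z ⤳ ξ → z = ξ := fun z hz => by
    obtain ⟨z', hz', hz''⟩ := Flat.generalizingMap (pullback.fst f g) hz
    rw [← hz'', hmax' z' hz']
  obtain ⟨hη, hξn⟩ := hcomp ξ (hξ'.map (pullback.fst f g).continuous) hmax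
  have hg : g (pullback.snd f g ξ') = f ξ := by
    rw [← Scheme.Hom.comp_apply, ← pullback.condition, Scheme.Hom.comp_apply]
  refine ⟨fun y'' hy'' => ?_, ?_⟩
  · have hgy : g y'' = f ξ := hη _ (hg ▸ hy''.map g.continuous)
    obtain ⟨w, hw⟩ := (g.range_fiberι (f ξ)).ge (show y'' ∈ g ⁻¹' {f ξ} from hgy)
    obtain ⟨w', hw'⟩ := (g.range_fiberι (f ξ)).ge (show pullback.snd f g ξ' ∈ g ⁻¹' {f ξ} from hg)
    have hs : w ⤳ w' := (g.fiberι (f ξ)).isEmbedding.isInducing.specializes_iff.mp (by rw [hw, hw']; exact hy'')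
    haveI := flat_snd_over_point f g (f ξ)
    obtain ⟨p, hp₁, hp₂⟩ := Scheme.Pullback.exists_preimage_pullback (f := pullback.snd f g)
      (g := g.fiberι (f ξ)) ξ' w' hw'.symm
    obtain ⟨p', hp', hp''⟩ := Flat.generalizingMap (pullback.snd (pullback.snd f g) (g.fiberι (f ξ)))
      (show w ⤳ _ from hp₂.symm ▸ hs)
    have h1 := hmax' _ (hp₁ ▸ hp'.map (pullback.fst (pullback.snd f g) (g.fiberι (f ξ))).continuous)
    rw [← hw, ← hp'', ← Scheme.Hom.comp_apply, ← pullback.condition, Scheme.Hom.comp_apply, h1]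
  · obtain ⟨m, hm, hm'⟩ := GrothLib.Equidim6.resTrdeg_eq_fibreDimAt_of_maximal (pullback.snd f g) ξ' hmax'
    obtain ⟨k, hk, hk'⟩ := GrothLib.Equidim6.resTrdeg_eq_fibreDimAt_of_maximal f ξ hmax
    rw [hbc, hk'] at hm'
    have h1 : k = n := by exact_mod_cast (hk.symm.trans hξn :)
    rw [hm, show m = n by rw [← h1]; exact_mod_cast hm'.symm]

end GrothLib.Chev28
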