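import Groth.Agent.Lib.FEt21.FlatEtaleLocus

/-!
# A finite flat morphism étale off codimension two is étale

The proof is that of `FEt21.etale_of_flat_of_depth_two`, with dimension in place of depth.
-/

set_option autoImplicit false
set_option backward.isDefEq.respectTransparency false
set_option linter.style.haveILetI false

universe u

open CategoryTheory CategoryTheory.Limits AlgebraicGeometry TopologicalSpace TensorProduct

namespace GrothLib.FEt21

variable {X Y : Scheme.{u}} (f : Y ⟶ X)

theorem etale_of_flat_of_codim_two [IsLocallyNoetherian X] (U : X.Opens)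
    (hU : ∀ x : X, x ∉ U → (2 : WithBot ℕ∞) ≤ ringKrullDim (X.presheaf.stalk x))
    [IsFinite f] [Flat f] [Etale (pullback.snd f U.ι)] : Etale f := by
  classical
  haveI : LocallyOfFinitePresentation f := inferInstance
  let C : Set X := {x | ¬ ∃ W : X.Opens, x ∈ W ∧ Etale (pullback.snd f W.ι)}
  have hC : IsClosed C := by
    refine ⟨?_⟩
    rw [isOpen_iff_forall_mem_open]
    intro x hx
    obtain ⟨W, hxW, hW⟩ := not_not.mp hx
    exact ⟨W, fun z hz h => h ⟨W, hz, hW⟩, W.2, hxW⟩
  suffices hempty : ∀ x, x ∉ C by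
    choose W hxW hW using fun x => not_not.mp (hempty x)
    refine IsZariskiLocalAtTarget.of_iSup_eq_top (P := @Etale) W
      (top_unique fun x _ => Opens.mem_iSup.2 ⟨x, hxW x⟩) fun x => ?_
    haveI := hW x
    rw [morphismRestrict]
    infer_instance
  intro x₀ hx₀
  obtain ⟨x, hx, -, hmax⟩ := GrothLib.Depth.exists_maximal_generalization hC hx₀
  have hxU : x ∉ U := fun h => hx ⟨U, h, inferInstance⟩
  obtain ⟨V, hV, hxV, hfree⟩ := exists_free_affine f x
  letI := (f.app V).hom.toAlgebra
  haveI := hfree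
  haveI : Module.Finite Γ(X, V) Γ(Y, f ⁻¹ᵁ V) := f.finite_app V hV
  haveI : IsNoetherianRing Γ(X, V) := IsLocallyNoetherian.component_noetherian ⟨V, hV⟩
  let b := Module.Free.chooseBasis Γ(X, V) Γ(Y, f ⁻¹ᵁ V)
  set δ := (Algebra.traceMatrix Γ(X, V) b).det with hδ
  let p := hV.primeIdealOf ⟨x, hxV⟩
  by_cases hδp : δ ∈ p.asIdeal
  · obtain ⟨P, hP, hPp⟩ := Ideal.exists_minimalPrimes_le
      ((Ideal.span_singleton_le_iff_mem _).mpr hδp)
    haveI := hP.1.1
    have hP1 := Ideal.height_le_one_of_isPrincipal_of_mem_minimalPrimes _ P hP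
    have hp2 : 2 ≤ p.asIdeal.height := by
      letI : Algebra Γ(X, V) (X.presheaf.stalk x) := (X.presheaf.germ V x hxV).hom.toAlgebra
      haveI : IsLocalization.AtPrime (X.presheaf.stalk x) p.asIdeal := hV.isLocalization_stalk ⟨x, hxV⟩
      have h1 := hU x hxU
      rw [IsLocalization.AtPrime.ringKrullDim_eq_height p.asIdeal (X.presheaf.stalk x)] at h1
      exact WithBot.coe_le_coe.mp h1
    have hne : P ≠ p.asIdeal := fun e => by
      rw [e] at hP1
      exact absurd (hp2.trans hP1) (by norm_num)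
    let P' : PrimeSpectrum Γ(X, V) := ⟨P, inferInstance⟩
    let z : X := hV.fromSpec P'
    have hzx : z ⤳ x := by
      have h2 := ((PrimeSpectrum.le_iff_specializes P' p).1 hPp).map hV.fromSpec.continuous
      rwa [hV.fromSpec_primeIdealOf] at h2
    have hzne : z ≠ x := fun e => hne (congrArg PrimeSpectrum.asIdeal (hV.fromSpec.isOpenEmbedding.injective
      (e.trans (hV.fromSpec_primeIdealOf ⟨x, hxV⟩).symm) : P' = p))
    obtain ⟨W, hzW, hW⟩ := not_not.mp (fun h => hzne (hmax z h hzx))
    have hzV : z ∈ V := hV.range_fromSpec.subset ⟨P', rfl⟩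
    obtain ⟨g, hgle, hzg⟩ := hV.exists_basicOpen_le ⟨z, hzW⟩ hzV
    haveI : Etale (pullback.snd f (X.basicOpen g).ι) := by
      rw [← X.homOfLE_ι hgle]
      exact etale_snd_comp f W.ι _
    have hu := (formallyUnramified_app_iff f hV (hV.basicOpen g) (X.basicOpen_le g) b).mp (by
      have h3 := (etale_snd_ι_iff f (hV.basicOpen g)).mp inferInstance
      exact h3.formallyUnramified)
    have hzδ : z ∈ X.basicOpen δ := by
      have h5 : X.basicOpen g ≤ X.basicOpen δ := by
        have h6 := X.basicOpen_res δ (homOfLE (X.basicOpen_le g)).op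
        rw [X.basicOpen_of_isUnit hu] at h6
        exact h6.le.trans inf_le_right
      exact h5 hzg
    have : P' ∈ hV.fromSpec ⁻¹ᵁ X.basicOpen δ := hzδ
    rw [hV.fromSpec_preimage_basicOpen] at this
    exact this (hP.1.2 (Ideal.mem_span_singleton_self δ))
  · have hxD : x ∈ X.basicOpen δ := by
      have : p ∈ hV.fromSpec ⁻¹ᵁ X.basicOpen δ := by rw [hV.fromSpec_preimage_basicOpen]; exact hδp
      rw [Scheme.Hom.mem_preimage, hV.fromSpec_primeIdealOf] at this
      exact this
    have hD := hV.basicOpen δ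
    refine hx ⟨X.basicOpen δ, hxD, (etale_snd_ι_iff f hD).mpr ?_⟩
    have hu := (formallyUnramified_app_iff f hV hD (X.basicOpen_le δ) b).mpr
      (RingedSpace.isUnit_res_basicOpen _ δ)
    have hfl := f.flat_appLE hD (hD.preimage f) le_rfl
    have hfp := f.finitePresentation_appLE hD (hD.preimage f) le_rfl
    rw [← Scheme.Hom.app_eq_appLE] at hfl hfp
    algebraize [(f.app (X.basicOpen δ)).hom]
    exact Algebra.Etale.of_formallyUnramified_of_flat

theorem etale_of_restrict_codim_two [IsLocallyNoetherian X] (U : X.Opens)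
    (hU : ∀ x : X, x ∉ U → (2 : WithBot ℕ∞) ≤ ringKrullDim (X.presheaf.stalk x))
    [IsFinite f] [Flat f] [Etale (f ∣_ U)] : Etale f := by
  haveI : Etale (pullback.snd f U.ι) := by
    have : pullback.snd f U.ι = (pullbackRestrictIsoRestrict f U).hom ≫ f ∣_ U := by
      rw [morphismRestrict, Iso.hom_inv_id_assoc]
    rw [this]
    infer_instance
  exact etale_of_flat_of_codim_two f U hU

end GrothLib.FEt21
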