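import Groth.Agent.Lib.Chev28.DimIrred
import Groth.Agent.Lib.AlgSp.FibreDimBC
import Groth.Agent.Lib.FibreDimAt6.Proper
import Groth.Agent.Lib.QuasiSec.Finite
import Mathlib.RingTheory.Spectrum.Prime.Chevalley

/-!
The dimensions of the components of the fibres of a morphism open along a fibre (EGA IV 14.3).
-/

universe u

open CategoryTheory CategoryTheory.Limits AlgebraicGeometry TopologicalSpace Topology

noncomputable section

namespace GrothLib.Chev28

variable {X Y : Scheme.{u}}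

/-- The transcendence degrees at the maximal points of a fibre. -/
def fibDims (f : X ⟶ Y) (y : Y) : Set ℕ :=
  {d | ∃ z : X, f z = y ∧ (∀ z', f z' = f z → z' ⤳ z → z' = z) ∧ Dual3.resTrdeg f z = d}

theorem image_dims_eq (f : X ⟶ Y) [LocallyOfFiniteType f] (y : Y) :
    (fun Z : Set ↥(f.fiber y) => topologicalKrullDim ↥Z) '' irreducibleComponents ↥(f.fiber y) =
      (fun d : ℕ => (d : WithBot ℕ∞)) '' fibDims f y := by
  have key : ∀ (z : X) (hz : f z = y) (w : f.fiber y), f.fiberι y w = z →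
      ∃ d : ℕ, Dual3.resTrdeg f z = d ∧ topologicalKrullDim ↥(closure ({w} : Set (f.fiber y))) = d := by
    intro z hz w hw
    subst hz
    obtain rfl : w = f.asFiber z :=
      (f.fiberι (f z)).isEmbedding.injective (hw.trans (f.fiberι_asFiber z).symm)
    obtain ⟨d, hd, hd'⟩ := GrothLib.Altitude.exists_trdeg_eq_dim_closure f z
    exact ⟨d, hd, hd'⟩
  ext D
  constructor
  · rintro ⟨Z, hZ, rfl⟩
    obtain ⟨w, rfl⟩ : ∃ w : f.fiber y, closure {w} = Z :=
      ⟨_, (hZ.1.isGenericPoint_genericPoint (isClosed_of_mem_irreducibleComponents _ hZ)).def⟩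
    have hfz : f (f.fiberι y w) = y := (f.range_fiberι y).le ⟨w, rfl⟩
    obtain ⟨d, hd, hd'⟩ := key _ hfz w rfl
    refine ⟨d, ⟨_, hfz, fun z' hz' hs => ?_, hd⟩, hd'.symm⟩
    obtain ⟨w', rfl⟩ := (f.range_fiberι y).ge (show z' ∈ f ⁻¹' {y} from hz'.trans hfz)
    rw [maximal_of_closure_mem hZ w' ((f.fiberι y).isEmbedding.isInducing.specializes_iff.mp hs)]
  · rintro ⟨d, ⟨z, hfz, hmax, hd⟩, rfl⟩
    obtain ⟨w, hw⟩ := (f.range_fiberι y).ge (show z ∈ f ⁻¹' {y} from hfz)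
    obtain ⟨d', hd₁, hd₂⟩ := key z hfz w hw
    refine ⟨closure {w}, GrothLib.Equidim6.closure_mem_components fun w' hw' => ?_, ?_⟩
    · apply (f.fiberι y).isEmbedding.injective
      rw [hw]
      exact hmax _ (((f.range_fiberι y).le ⟨w', rfl⟩).trans hfz.symm)
        (hw ▸ hw'.map (f.fiberι y).continuous)
    · show topologicalKrullDim ↥(closure ({w} : Set (f.fiber y))) = _
      rw [hd₂, show d' = d by exact_mod_cast (hd₁.symm.trans hd :)]

theorem exists_mem_fibDims (f : X ⟶ Y) [LocallyOfFiniteType f] (x : X) :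
    ∃ d ∈ fibDims f (f x), FlatMor.fibreDimAt f x = (d : WithBot ℕ∞) := by
  obtain ⟨z, he, -, hmax, hd⟩ := GrothLib.Equidim6.exists_fibre_maximal f x
  have hmax' : ∀ z', f z' = f z → z' ⤳ z → z' = z := fun z' hz' => hmax z' (hz'.trans he)
  obtain ⟨d, hd₁, hd₂⟩ := GrothLib.Equidim6.fibreDimAt_eq_resTrdeg f z hmax'
  exact ⟨d, ⟨z, he, hmax', hd₁⟩, hd.trans hd₂⟩

theorem exists_fibreDimAt_of_mem_fibDims {f : X ⟶ Y} [LocallyOfFiniteType f] {y : Y} {d : ℕ}
    (h : d ∈ fibDims f y) : ∃ z : X, f z = y ∧ FlatMor.fibreDimAt f z = (d : WithBot ℕ∞) := by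
  obtain ⟨z, hfz, hmax, hd⟩ := h
  obtain ⟨d', hd₁, hd₂⟩ := GrothLib.Equidim6.fibreDimAt_eq_resTrdeg f z hmax
  exact ⟨z, hfz, by rw [hd₂, show d' = d by exact_mod_cast (hd₁.symm.trans hd :)]⟩

theorem le_dim_fiber_of_mem_fibDims {f : X ⟶ Y} [LocallyOfFiniteType f] {y : Y} {d : ℕ} (h : d ∈ fibDims f y) :
    (d : WithBot ℕ∞) ≤ topologicalKrullDim ↥(f.fiber y) := by
  obtain ⟨z, hfz, hz⟩ := exists_fibreDimAt_of_mem_fibDims h
  rw [← hz]
  exact (GrothLib.FibreDimAt6.dim_fiber_le_iff f y _).mp le_rfl z hfz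

theorem dim_fiber_le_of_fibDims {f : X ⟶ Y} [LocallyOfFiniteType f] {y : Y} {n : WithBot ℕ∞}
    (h : ∀ d ∈ fibDims f y, (d : WithBot ℕ∞) ≤ n) : topologicalKrullDim ↥(f.fiber y) ≤ n := by
  refine (GrothLib.FibreDimAt6.dim_fiber_le_iff f y n).mpr fun x hx => ?_
  obtain ⟨d, hd, hd'⟩ := exists_mem_fibDims f x
  exact hd'.trans_le (h d (hx ▸ hd))

theorem dim_fiber_le_of_subset {f : X ⟶ Y} [LocallyOfFiniteType f] {y y' : Y} (h : fibDims f y ⊆ fibDims f y') :
    topologicalKrullDim ↥(f.fiber y) ≤ topologicalKrullDim ↥(f.fiber y') :=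
  dim_fiber_le_of_fibDims fun _ hd => le_dim_fiber_of_mem_fibDims (h hd)

theorem finite_fibDims (f : X ⟶ Y) [LocallyOfFiniteType f] [QuasiCompact f] (y : Y) : (fibDims f y).Finite := by
  haveI : LocallyOfFiniteType (f.fiberToSpecResidueField y) := MorphismProperty.pullback_snd f _ inferInstance
  haveI := LocallyOfFiniteType.isLocallyNoetherian (f.fiberToSpecResidueField y)
  haveI : IsNoetherian (f.fiber y) := {}
  refine Set.Finite.of_finite_image ?_ (fun a _ b _ hab => ?_) (f := fun d : ℕ => (d : WithBot ℕ∞))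
  · rw [← image_dims_eq]
    exact (TopologicalSpace.NoetherianSpace.finite_irreducibleComponents).image _
  · have h' : (a : WithBot ℕ∞) = (b : WithBot ℕ∞) := hab
    exact_mod_cast h'

theorem exists_max_fibDims (f : X ⟶ Y) [LocallyOfFiniteType f] [QuasiCompact f] (y : Y)
    (hne : (fibDims f y).Nonempty) :
    ∃ n ∈ fibDims f y, topologicalKrullDim ↥(f.fiber y) = (n : WithBot ℕ∞) := by
  obtain ⟨n, hn, hmax⟩ := Set.exists_max_image (fibDims f y) id (finite_fibDims f y) hne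
  refine ⟨n, hn, le_antisymm (dim_fiber_le_of_fibDims fun d hd => ?_) (le_dim_fiber_of_mem_fibDims hn)⟩
  exact Nat.cast_le.mpr (hmax d hd)

/-- A morphism open at a generic point of a fibre component has, over each generization of the base point,
a fibre component of the same dimension specializing to it. -/
theorem exists_over_generization [IsLocallyNoetherian Y] (f : X ⟶ Y) [LocallyOfFiniteType f] (z : X)
    (hz : ∀ z', f z' = f z → z' ⤳ z → z' = z) (n : ℕ) (hn : Dual3.resTrdeg f z = n)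
    (hopen : EGA43.IsOpenAt f.base z) {y' : Y} (hy' : y' ⤳ f z) :
    ∃ ξ : X, ξ ⤳ z ∧ f ξ = y' ∧ (∀ v, f v = f ξ → v ⤳ ξ → v = ξ) ∧ Dual3.resTrdeg f ξ = n := by
  obtain ⟨S, j, _, _, hrange, hgen⟩ := exists_integral_closure y'
  haveI := LocallyOfFiniteType.isLocallyNoetherian j
  let g := pullback.snd f j
  let p := pullback.fst f j
  haveI : LocallyOfFiniteType g := MorphismProperty.pullback_snd f j inferInstance
  haveI : IsClosedImmersion p := MorphismProperty.pullback_fst f j inferInstance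
  have hsq : ∀ a, f (p a) = j (g a) := fun a => by
    rw [← Scheme.Hom.comp_apply, ← Scheme.Hom.comp_apply, pullback.condition]
  obtain ⟨w, hw⟩ := hrange.ge hy'.mem_closure
  obtain ⟨z₁, hz₁p, hz₁g⟩ := Scheme.Pullback.exists_preimage_pullback (f := f) (g := j) z w hw.symm
  have hmax₁ : ∀ z', g z' = g z₁ → z' ⤳ z₁ → z' = z₁ := fun z' hz' hs => by
    apply p.isEmbedding.injective
    rw [show p z₁ = z from hz₁p]
    refine hz _ ?_ (hz₁p ▸ hs.map p.continuous)
    rw [hsq, hz', ← hsq, show p z₁ = z from hz₁p]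
  have hbc := GrothLib.AlgSp.fibreDimAt_of_isPullback (IsPullback.of_hasPullback f j)
  obtain ⟨n', hn', hn''⟩ := GrothLib.Equidim6.fibreDimAt_eq_resTrdeg f z hz
  obtain ⟨k, hk, hk'⟩ := GrothLib.Equidim6.fibreDimAt_eq_resTrdeg g z₁ hmax₁
  have hkn : k = n := by
    rw [hbc, show pullback.fst f j z₁ = z from hz₁p, hn''] at hk'
    have h1 : n' = k := by exact_mod_cast hk'
    have h2 : n' = n := by exact_mod_cast (hn'.symm.trans hn :)
    omega
  subst hkn
  have hη : ∀ s, s ⤳ genericPoint S → s = genericPoint S := fun s hs =>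
    (hs.antisymm (genericPoint_specializes s)).eq
  obtain ⟨ξ₁, hξ₁max, hξ₁z, hgξ₁, m, hm, hnm⟩ := exists_component_of_forall_mem_closure g z₁ hmax₁ k hk
    (genericPoint S) (genericPoint_specializes _) hη fun s hs => by
      have h1 : z ∈ closure (f ⁻¹' {j s}) :=
        mem_closure_of_isOpenAt hopen (by
          have := hs.map j.continuous
          rwa [← hsq, show p z₁ = z from hz₁p] at this)
      rw [p.isEmbedding.isInducing.closure_eq_preimage_closure_image, Set.mem_preimage,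
        show p z₁ = z from hz₁p]
      refine closure_mono ?_ h1
      intro a ha
      obtain ⟨a₁, ha₁, ha₁'⟩ := Scheme.Pullback.exists_preimage_pullback (f := f) (g := j) a s ha
      exact ⟨a₁, ha₁', ha₁⟩
  have hmaxξ : ∀ v, f v = f (p ξ₁) → v ⤳ p ξ₁ → v = p ξ₁ := fun v hv hs => by
    have hva : f v = j (genericPoint S) := hv.trans ((hsq ξ₁).trans (congrArg j hgξ₁))
    obtain ⟨v₁, hv₁, -⟩ := Scheme.Pullback.exists_preimage_pullback (f := f) (g := j) v (genericPoint S) hva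
    subst hv₁
    rw [hξ₁max v₁ (p.isEmbedding.isInducing.specializes_iff.mp hs)]
  have hsp : p ξ₁ ⤳ z := hz₁p ▸ hξ₁z.map p.continuous
  refine ⟨p ξ₁, hsp, (hsq ξ₁).trans ((congrArg j hgξ₁).trans hgen), hmaxξ, ?_⟩
  obtain ⟨m₁, hm₁, hm₂⟩ := GrothLib.Equidim6.fibreDimAt_eq_resTrdeg g ξ₁ fun v _ hs => hξ₁max v hs
  obtain ⟨m₂, hm₃, hm₄⟩ := GrothLib.Equidim6.fibreDimAt_eq_resTrdeg f (p ξ₁) hmaxξ
  have h1 : m₁ = m := by exact_mod_cast (hm₁.symm.trans hm :)
  have hle : FlatMor.fibreDimAt f (p ξ₁) ≤ (k : WithBot ℕ∞) :=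
    hsp.mem_open (GrothLib.FibreDimAt6.isOpen_fibreDimAt_le f k) (hn''.le.trans (by
      exact_mod_cast (show n' ≤ k from le_of_eq (by exact_mod_cast (hn'.symm.trans hn :)))))
  rw [hbc, hm₄] at hm₂
  rw [hm₄] at hle
  have h2 : m₂ = m₁ := by exact_mod_cast hm₂
  have h3 : m₂ ≤ k := by exact_mod_cast hle
  rw [hm₃, show m₂ = k by omega]

theorem fibDims_subset [IsLocallyNoetherian Y] (f : X ⟶ Y) [LocallyOfFiniteType f] {y y' : Y} (hy : y' ⤳ y)
    (h : ∀ z, f z = y → EGA43.IsOpenAt f.base z) : fibDims f y ⊆ fibDims f y' := by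
  rintro d ⟨z, hfz, hz, hd⟩
  obtain ⟨ξ, -, hξ, hmax, hm⟩ := exists_over_generization f z hz d hd (h z hfz) (hfz ▸ hy)
  exact ⟨ξ, hξ, hmax, hm⟩

/-- The dimension of a fibre component at whose generic point the morphism is open occurs in all nearby fibres. -/
theorem mem_nhds_fibDims [IsLocallyNoetherian Y] (f : X ⟶ Y) [LocallyOfFiniteType f] (z : X)
    (hz : ∀ z', f z' = f z → z' ⤳ z → z' = z) (n : ℕ) (hn : Dual3.resTrdeg f z = n)
    (hopen : EGA43.IsOpenAt f.base z) : {y' | n ∈ fibDims f y'} ∈ 𝓝 (f z) := by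
  obtain ⟨n', hn', hn''⟩ := GrothLib.Equidim6.fibreDimAt_eq_resTrdeg f z hz
  obtain rfl : n' = n := by exact_mod_cast (hn'.symm.trans hn :)
  obtain ⟨V, hV, hzV, -⟩ := exists_isAffineOpen_mem_and_subset (x := f z) (U := ⊤) trivial
  obtain ⟨U, hU, hzU, hUO⟩ := exists_isAffineOpen_mem_and_subset (x := z)
    (U := ⟨_, GrothLib.FibreDimAt6.isOpen_fibreDimAt_le f n'⟩ ⊓ f ⁻¹ᵁ V) ⟨hn''.le, hzV⟩
  have hUV : U ≤ f ⁻¹ᵁ V := hUO.trans inf_le_right
  let A : Type u := Γ(Y, V)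
  let B : Type u := Γ(X, U)
  letI : Algebra A B := (f.appLE V U hUV).hom.toAlgebra
  haveI : IsNoetherianRing A := IsLocallyNoetherian.component_noetherian ⟨V, hV⟩
  haveI : Algebra.FiniteType A B := f.finiteType_appLE hV hU hUV
  haveI : IsNoetherianRing B := Algebra.FiniteType.isNoetherianRing A B
  haveI : Algebra.FinitePresentation A B := Algebra.FinitePresentation.of_finiteType.mp inferInstance
  have sq : ∀ q : PrimeSpectrum B, f (hU.fromSpec q) = hV.fromSpec (PrimeSpectrum.comap (algebraMap A B) q) :=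
    fun q => by
      rw [← Scheme.Hom.comp_apply, ← hV.SpecMap_appLE_fromSpec f hU hUV]
      rfl
  let S : Set (PrimeSpectrum B) := {q | ¬ FlatMor.fibreDimAt f (hU.fromSpec q) < (n' : WithBot ℕ∞)}
  have hS : IsConstructible S := by
    have hopenlt : IsOpen {x : X | FlatMor.fibreDimAt f x < (n' : WithBot ℕ∞)} := by
      rw [isOpen_iff_forall_mem_open]
      intro x hx
      obtain ⟨d, -, hd⟩ := exists_mem_fibDims f x
      rw [Set.mem_setOf_eq, hd] at hx
      refine ⟨_, fun v hv => ?_, GrothLib.FibreDimAt6.isOpen_fibreDimAt_le f d, hd.le⟩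
      exact lt_of_le_of_lt hv hx
    have ho : IsOpen Sᶜ := by
      rw [show Sᶜ = hU.fromSpec ⁻¹' {x : X | FlatMor.fibreDimAt f x < (n' : WithBot ℕ∞)} from compl_compl _]
      exact hopenlt.preimage hU.fromSpec.continuous
    rw [← compl_compl S]
    exact ((NoetherianSpace.isCompact Sᶜ).isConstructible ho).compl
  have hT : IsConstructible (PrimeSpectrum.comap (algebraMap A B) '' S) :=
    PrimeSpectrum.isConstructible_comap_image (RingHom.finitePresentation_algebraMap.mpr inferInstance) hS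
  let v : PrimeSpectrum A := hV.primeIdealOf ⟨f z, hzV⟩
  have hv : hV.fromSpec v = f z := hV.fromSpec_primeIdealOf _
  have hmem := GrothLib.QuasiSec.mem_nhds_of_isConstructible hT v fun q hq => by
    obtain ⟨ξ, hξz, hξq, hmax, hξn⟩ := exists_over_generization f z hz n' hn hopen
      (y' := hV.fromSpec q) (hv ▸ hq.map hV.fromSpec.continuous)
    obtain ⟨r, rfl⟩ := hU.range_fromSpec.ge (hξz.mem_open U.2 hzU)
    refine ⟨r, ?_, hV.fromSpec.isOpenEmbedding.injective ((sq r).symm.trans hξq)⟩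
    obtain ⟨k, hk, hk'⟩ := GrothLib.Equidim6.fibreDimAt_eq_resTrdeg f _ hmax
    show ¬ _ < _
    rw [hk', show k = n' by exact_mod_cast (hk.symm.trans hξn :)]
    exact lt_irrefl _
  have h3 := hV.fromSpec.isOpenEmbedding.isOpenMap.image_mem_nhds hmem
  rw [hv] at h3
  refine Filter.mem_of_superset h3 ?_
  rintro _ ⟨_, ⟨r, hr, rfl⟩, rfl⟩
  rw [← sq r]
  obtain ⟨d, hd, hd'⟩ := exists_mem_fibDims f (hU.fromSpec r)
  have hle : FlatMor.fibreDimAt f (hU.fromSpec r) ≤ (n' : WithBot ℕ∞) := (hUO (hU.range_fromSpec.le ⟨r, rfl⟩)).1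
  have heq : d = n' := by
    have h1 : FlatMor.fibreDimAt f (hU.fromSpec r) = (n' : WithBot ℕ∞) := le_antisymm hle (not_lt.mp hr)
    exact_mod_cast hd'.symm.trans h1
  exact heq ▸ hd

theorem mem_nhds_fibDims_of_mem [IsLocallyNoetherian Y] (f : X ⟶ Y) [LocallyOfFiniteType f] {y : Y}
    (h : ∀ z, f z = y → EGA43.IsOpenAt f.base z) {d : ℕ} (hd : d ∈ fibDims f y) :
    {y' | d ∈ fibDims f y'} ∈ 𝓝 y := by
  obtain ⟨z, rfl, hz, hn⟩ := hd
  exact mem_nhds_fibDims f z hz d hn (h z rfl)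

theorem isOpenAt_of_isOpenMap {f : X ⟶ Y} (hf : IsOpenMap f.base) (z : X) : EGA43.IsOpenAt f.base z :=
  fun _ hU => hf.image_mem_nhds hU

theorem dim_fiber_eventually_eq_of_proper [IsLocallyNoetherian Y] (f : X ⟶ Y) [IsProper f] (y : Y)
    (h : ∀ z, f z = y → EGA43.IsOpenAt f.base z) :
    ∃ V ∈ 𝓝 y, ∀ z ∈ V, topologicalKrullDim ↥(f.fiber z) = topologicalKrullDim ↥(f.fiber y) := by
  have hle := (GrothLib.FibreDimAt6.isOpen_dim_fiber_le f (topologicalKrullDim ↥(f.fiber y))).mem_nhds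
    (x := y) (show topologicalKrullDim ↥(f.fiber y) ≤ topologicalKrullDim ↥(f.fiber y) from le_rfl)
  rcases (fibDims f y).eq_empty_or_nonempty with he | hne
  · refine ⟨_, hle, fun z hz => le_antisymm hz ((le_of_eq ?_).trans bot_le)⟩
    exact le_bot_iff.mp (dim_fiber_le_of_fibDims (n := ⊥) (by rw [he]; exact fun d hd => hd.elim))
  · obtain ⟨n, hn, hdim⟩ := exists_max_fibDims f y hne
    refine ⟨_, Filter.inter_mem hle (mem_nhds_fibDims_of_mem f h hn), fun z hz => le_antisymm hz.1 ?_⟩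
    rw [hdim]
    exact le_dim_fiber_of_mem_fibDims hz.2

theorem fibDims_subset_of_components [IsLocallyNoetherian Y] (f : X ⟶ Y) [LocallyOfFiniteType f]
    (hf : IsOpenMap f.base) (y : Y) :
    ∃ V ∈ 𝓝 y, ∀ z ∈ V, ∃ η : Y, η ⤳ y ∧ (∀ y', y' ⤳ η → y' = η) ∧ fibDims f z ⊆ fibDims f η := by
  obtain ⟨O, hyO, hO⟩ := exists_open_components_through y
  refine ⟨O, O.2.mem_nhds hyO, fun z hz => ?_⟩
  obtain ⟨η, hηz, hη⟩ := exists_maximal_generization z
  exact ⟨η, hO η (hηz.mem_open O.2 hz) hη, hη, fibDims_subset f hηz fun v _ => isOpenAt_of_isOpenMap hf v⟩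

theorem dim_fiber_eventually_eq_of_isOpenMap [IsLocallyNoetherian Y] (f : X ⟶ Y) [LocallyOfFiniteType f]
    [QuasiCompact f] (hf : IsOpenMap f.base) (y : Y)
    (h : ∀ η : Y, η ⤳ y → (∀ y', y' ⤳ η → y' = η) →
      topologicalKrullDim ↥(f.fiber y) = topologicalKrullDim ↥(f.fiber η)) :
    ∃ V ∈ 𝓝 y, ∀ z ∈ V, topologicalKrullDim ↥(f.fiber z) = topologicalKrullDim ↥(f.fiber y) := by
  obtain ⟨V, hV, hVz⟩ := fibDims_subset_of_components f hf y
  have hle : ∀ z ∈ V, topologicalKrullDim ↥(f.fiber z) ≤ topologicalKrullDim ↥(f.fiber y) := fun z hz => by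
    obtain ⟨η, h1, h2, h3⟩ := hVz z hz
    exact (dim_fiber_le_of_subset h3).trans (h η h1 h2).ge
  rcases (fibDims f y).eq_empty_or_nonempty with he | hne
  · refine ⟨V, hV, fun z hz => le_antisymm (hle z hz) ((le_of_eq ?_).trans bot_le)⟩
    exact le_bot_iff.mp (dim_fiber_le_of_fibDims (n := ⊥) (by rw [he]; exact fun d hd => hd.elim))
  · obtain ⟨n, hn, hdim⟩ := exists_max_fibDims f y hne
    refine ⟨_, Filter.inter_mem hV (mem_nhds_fibDims_of_mem f (fun v _ => isOpenAt_of_isOpenMap hf v) hn),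
      fun z hz => le_antisymm (hle z hz.1) ?_⟩
    rw [hdim]
    exact le_dim_fiber_of_mem_fibDims hz.2

theorem fibDims_eventually_eq_of_isOpenMap [IsLocallyNoetherian Y] (f : X ⟶ Y) [LocallyOfFiniteType f]
    [QuasiCompact f] (hf : IsOpenMap f.base) (y : Y)
    (h : ∀ η : Y, η ⤳ y → (∀ y', y' ⤳ η → y' = η) → fibDims f y = fibDims f η) :
    ∃ V ∈ 𝓝 y, ∀ z ∈ V, fibDims f z = fibDims f y := by
  obtain ⟨V, hV, hVz⟩ := fibDims_subset_of_components f hf y
  have hI : (⋂ d ∈ fibDims f y, {z | d ∈ fibDims f z}) ∈ 𝓝 y :=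
    (Filter.biInter_mem (finite_fibDims f y)).mpr fun d hd =>
      mem_nhds_fibDims_of_mem f (fun v _ => isOpenAt_of_isOpenMap hf v) hd
  refine ⟨_, Filter.inter_mem hV hI, fun z hz => Set.Subset.antisymm ?_ fun d hd => Set.mem_iInter₂.mp hz.2 d hd⟩
  obtain ⟨η, h1, h2, h3⟩ := hVz z hz.1
  rw [h η h1 h2]
  exact h3

theorem dim_inter_fibre_eventually_eq [IsLocallyNoetherian Y] (f : X ⟶ Y) [LocallyOfFiniteType f]
    [QuasiCompact f] (hf : IsOpenMap f.base) (y : Y) :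
    ∃ U : X.Opens, f ⁻¹' {y} ⊆ (U : Set X) ∧ ∃ V ∈ 𝓝 y, ∀ z ∈ V,
      topologicalKrullDim ↥((U : Set X) ∩ f ⁻¹' {z}) = topologicalKrullDim ↥((U : Set X) ∩ f ⁻¹' {y}) := by
  rcases (fibDims f y).eq_empty_or_nonempty with he | hne
  · refine ⟨⊥, fun x hx => ?_, Set.univ, Filter.univ_mem, fun z _ => ?_⟩
    · obtain ⟨d, hd, -⟩ := exists_mem_fibDims f x
      rw [show f x = y from hx, he] at hd
      exact hd.elim
    · simp only [Opens.coe_bot]
      exact (congrArg (fun s : Set X => topologicalKrullDim ↥s) (Set.empty_inter _)).trans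
        (congrArg (fun s : Set X => topologicalKrullDim ↥s) (Set.empty_inter _)).symm
  · obtain ⟨n, hn, hdim⟩ := exists_max_fibDims f y hne
    let U : X.Opens := ⟨_, GrothLib.FibreDimAt6.isOpen_fibreDimAt_le f n⟩
    have hle : ∀ z, topologicalKrullDim ↥((U : Set X) ∩ f ⁻¹' {z}) ≤ (n : WithBot ℕ∞) := fun z => by
      rw [show topologicalKrullDim ↥((U : Set X) ∩ f ⁻¹' {z}) = topologicalKrullDim ↥((U.ι ≫ f).fiber z) from ?_]
      · refine (GrothLib.FibreDimAt6.dim_fiber_le_iff (U.ι ≫ f) z _).mpr fun v _ => ?_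
        rw [GrothLib.CMMor6.fibreDimAt_comp_flat_lqf U.ι f v]
        exact v.2
      · symm
        refine GrothLib.Dim.IsEmbedding.topologicalKrullDim_eq (f := fun q => U.ι ((U.ι ≫ f).fiberι z q))
          (U.ι.isEmbedding.comp ((U.ι ≫ f).fiberι z).isEmbedding) ?_
        ext a
        constructor
        · rintro ⟨q, rfl⟩
          exact ⟨((U.ι ≫ f).fiberι z q).2, ((U.ι ≫ f).range_fiberι z).le ⟨q, rfl⟩⟩
        · rintro ⟨haU, ha⟩
          obtain ⟨q, hq⟩ := ((U.ι ≫ f).range_fiberι z).ge (show (⟨a, haU⟩ : (U : Scheme.{u})) ∈ _ from ha)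
          exact ⟨q, congrArg U.ι hq⟩
    have hge : ∀ z, n ∈ fibDims f z → (n : WithBot ℕ∞) ≤ topologicalKrullDim ↥((U : Set X) ∩ f ⁻¹' {z}) := by
      intro z hz
      obtain ⟨v, rfl, hv⟩ := exists_fibreDimAt_of_mem_fibDims hz
      rw [← hv]
      exact GrothLib.FibreDimAt6.fibreDimAt_le_of_open f v U hv.le
    refine ⟨U, fun x hx => ?_, _, mem_nhds_fibDims_of_mem f (fun v _ => isOpenAt_of_isOpenMap hf v) hn,
      fun z hz => (le_antisymm (hle z) (hge z hz)).trans (le_antisymm (hle y) (hge y hn)).symm⟩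
    exact ((GrothLib.FibreDimAt6.dim_fiber_le_iff f y _).mp le_rfl x hx).trans hdim.le

theorem mem_fibDims_generic [IrreducibleSpace Y] (f : X ⟶ Y) [LocallyOfFiniteType f] (z : X) (d : ℕ)
    (hd : FlatMor.fibreDimAt f z = (d : WithBot ℕ∞))
    (h : ∃ X' ∈ irreducibleComponents (X : Type u), z ∈ X' ∧
      topologicalKrullDim ↥(X' ∩ f ⁻¹' {genericPoint Y}) = FlatMor.fibreDimAt f z) :
    d ∈ fibDims f (genericPoint Y) := by
  obtain ⟨X', hX', -, hdimX⟩ := h
  obtain ⟨ξ, rfl⟩ : ∃ ξ : X, closure {ξ} = X' :=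
    ⟨_, (hX'.1.isGenericPoint_genericPoint (isClosed_of_mem_irreducibleComponents _ hX')).def⟩
  rw [hd] at hdimX
  obtain ⟨⟨q, hq, hqη⟩⟩ : Nonempty ↥(closure {ξ} ∩ f ⁻¹' {genericPoint Y}) := by
    refine nonempty_of_nonneg_dim ?_
    rw [hdimX]
    exact_mod_cast Nat.zero_le d
  have hη : f ξ = genericPoint Y := by
    have h1 : f ξ ⤳ genericPoint Y := hqη ▸ (specializes_iff_mem_closure.mpr hq).map f.continuous
    exact (h1.antisymm (genericPoint_specializes _)).eq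
  obtain ⟨m, hm, hdim⟩ := exists_dim_closure_inter_fibre f ξ
  rw [hη, hdimX] at hdim
  exact ⟨ξ, hη, fun z' _ hs => maximal_of_closure_mem hX' z' hs,
    by rw [hm, show m = d by exact_mod_cast hdim.symm]⟩

end GrothLib.Chev28
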