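import Groth.Agent.Lib.Dim.Ring
import Mathlib.AlgebraicGeometry.AffineSpace
import Mathlib.AlgebraicGeometry.Morphisms.Finite
import Mathlib.AlgebraicGeometry.Morphisms.QuasiFinite
import Mathlib.AlgebraicGeometry.ZariskisMainTheorem
import Mathlib.AlgebraicGeometry.Morphisms.Preimmersion
import Mathlib.AlgebraicGeometry.Morphisms.Affine
import Mathlib.RingTheory.KrullDimension.Polynomial

/-!
Normalization on a fibre by a morphism to affine space over the base (EGA IV 13.3.1.1).
-/

universe u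

open CategoryTheory CategoryTheory.Limits AlgebraicGeometry Topology TensorProduct MvPolynomial

noncomputable section

namespace GrothLib.Chev28

section Ring

variable {A B k : Type u} [CommRing A] [CommRing B] [Field k] [Algebra A B] [Algebra A k]

theorem exists_smul_eq_tmul (hfrac : ∀ c : k, ∃ a s : A, algebraMap A k s ≠ 0 ∧ c * algebraMap A k s = algebraMap A k a)
    (r : k ⊗[A] B) : ∃ a : A, algebraMap A k a ≠ 0 ∧ ∃ b : B, algebraMap A k a • r = (1 : k) ⊗ₜ b := by
  induction r using TensorProduct.induction_on with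
  | zero => exact ⟨1, by simp, 0, by simp⟩
  | tmul c b =>
    obtain ⟨a, s, hs, hcs⟩ := hfrac c
    refine ⟨s, hs, a • b, ?_⟩
    rw [TensorProduct.smul_tmul', smul_eq_mul, mul_comm, hcs, Algebra.algebraMap_eq_smul_one,
      TensorProduct.smul_tmul]
  | add r₁ r₂ h₁ h₂ =>
    obtain ⟨a₁, ha₁, b₁, hb₁⟩ := h₁
    obtain ⟨a₂, ha₂, b₂, hb₂⟩ := h₂
    refine ⟨a₁ * a₂, by rw [map_mul]; exact mul_ne_zero ha₁ ha₂, a₂ • b₁ + a₁ • b₂, ?_⟩
    rw [map_mul, TensorProduct.tmul_add, TensorProduct.tmul_smul, TensorProduct.tmul_smul, ← hb₁, ← hb₂,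
      smul_add, ← algebraMap_smul k a₂ (algebraMap A k a₁ • r₁), ← algebraMap_smul k a₁ (algebraMap A k a₂ • r₂),
      smul_smul, smul_smul, mul_comm (algebraMap A k a₂)]

theorem exists_finite_aeval [Algebra.FiniteType A B]
    (hfrac : ∀ c : k, ∃ a s : A, algebraMap A k s ≠ 0 ∧ c * algebraMap A k s = algebraMap A k a)
    (e : ℕ) (he : ringKrullDim (k ⊗[A] B) = e) :
    ∃ b : Fin e → B, (aeval (R := k) fun i => (1 : k) ⊗ₜ[A] b i).Finite := by
  haveI : Nontrivial (k ⊗[A] B) := by
    by_contra hn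
    haveI := not_nontrivial_iff_subsingleton.mp hn
    rw [ringKrullDim_eq_bot_of_subsingleton] at he
    exact absurd he.symm (WithBot.natCast_ne_bot e)
  obtain ⟨s, G, hinj, hfin⟩ := exists_finite_inj_algHom_of_fg k (k ⊗[A] B)
  obtain rfl : s = e := by
    letI := G.toRingHom.toAlgebra
    haveI : Module.Finite (MvPolynomial (Fin s) k) (k ⊗[A] B) := hfin
    have h1 := GrothLib.Dim.ringKrullDim_eq_of_isIntegral (R := MvPolynomial (Fin s) k) (S := k ⊗[A] B) hinj
    rw [he, MvPolynomial.ringKrullDim_of_isNoetherianRing, ringKrullDim_eq_zero_of_field, zero_add,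
      Nat.card_fin] at h1
    exact_mod_cast h1.symm
  choose a ha b hb using fun i => exists_smul_eq_tmul hfrac (G (X i))
  refine ⟨b, ?_⟩
  let σ : MvPolynomial (Fin s) k →ₐ[k] MvPolynomial (Fin s) k := aeval fun i => algebraMap A k (a i) • X i
  have hσ : Function.Surjective σ := by
    intro p
    refine ⟨aeval (fun i => (algebraMap A k (a i))⁻¹ • X i) p, ?_⟩
    have : σ.comp (aeval fun i => (algebraMap A k (a i))⁻¹ • (X i : MvPolynomial (Fin s) k)) = AlgHom.id k _ := by
      refine MvPolynomial.algHom_ext fun i => ?_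
      rw [AlgHom.comp_apply, aeval_X, map_smul, show σ (X i) = algebraMap A k (a i) • X i from aeval_X _ _,
        smul_smul, inv_mul_cancel₀ (ha i), one_smul]
      rfl
    exact congrArg (fun φ : MvPolynomial (Fin s) k →ₐ[k] MvPolynomial (Fin s) k => φ p) this
  have heq : (aeval (R := k) fun i => (1 : k) ⊗ₜ[A] b i) = G.comp σ := by
    refine MvPolynomial.algHom_ext fun i => ?_
    rw [AlgHom.comp_apply, aeval_X, show σ (X i) = algebraMap A k (a i) • X i from aeval_X _ _, map_smul]
    exact (hb i).symm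
  rw [heq]
  exact hfin.comp (AlgHom.Finite.of_surjective σ hσ)

theorem finite_aeval_comp {K S : Type u} [CommRing K] [CommRing S] [Algebra K S] {σ : Type*} {τ : Type*}
    (ε : τ → σ) (hε : Function.Surjective ε) (f : σ → S) (h : (aeval (R := K) f).Finite) :
    (aeval (R := K) fun i => f (ε i)).toRingHom.Finite := by
  have h1 : (aeval (R := K) fun i => f (ε i)) = (aeval (R := K) f).comp (rename ε) :=
    MvPolynomial.algHom_ext fun i => by simp
  rw [h1]
  exact h.comp (AlgHom.Finite.of_surjective _ (MvPolynomial.rename_surjective _ hε))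

theorem exists_finite_aeval_ulift [Algebra.FiniteType A B]
    (hfrac : ∀ c : k, ∃ a s : A, algebraMap A k s ≠ 0 ∧ c * algebraMap A k s = algebraMap A k a)
    (e : ℕ) (he : ringKrullDim (k ⊗[A] B) = e) :
    ∃ b : ULift.{u} (Fin e) → B, (aeval (R := k) fun i => (1 : k) ⊗ₜ[A] b i).toRingHom.Finite := by
  obtain ⟨b, hb⟩ := exists_finite_aeval hfrac e he
  have h := finite_aeval_comp (K := k) (S := k ⊗[A] B) (σ := Fin e) (τ := ULift.{u} (Fin e)) ULift.down
    ULift.down_surjective (fun i => (1 : k) ⊗ₜ[A] b i) hb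
  exact ⟨fun i => b i.down, h⟩

end Ring

variable {X Y : Scheme.{u}}

/-- Every element of the residue field is a quotient of values of global sections, on an affine scheme. -/
theorem residueField_frac [IsAffine Y] (y : Y) :
    ∀ c : Y.residueField y, ∃ a s : Γ(Y, ⊤),
      (Spec.preimage (Y.fromSpecResidueField y ≫ Y.isoSpec.hom)).hom s ≠ 0 ∧
      c * (Spec.preimage (Y.fromSpecResidueField y ≫ Y.isoSpec.hom)).hom s =
        (Spec.preimage (Y.fromSpecResidueField y ≫ Y.isoSpec.hom)).hom a := by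
  intro c
  set φ := Spec.preimage (Y.fromSpecResidueField y ≫ Y.isoSpec.hom) with hφ
  haveI : IsPreimmersion (Spec.map φ) := by
    rw [hφ, Spec.map_preimage]
    infer_instance
  have h := (IsPreimmersion.SpecMap_iff φ).mp inferInstance
  obtain ⟨x, r, d, hd, hr, hx⟩ := (RingHom.surjective_localRingHom_iff (⊥ : Ideal (Y.residueField y))).mp
    (h.2 ⊥ Ideal.isPrime_bot) c
  refine ⟨x, r, fun h0 => hr (by simp [h0]), ?_⟩
  have hd' : d ≠ 0 := fun h0 => hd (by simp [h0])
  apply mul_left_cancel₀ hd'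
  rw [← hx]
  ring

theorem isPullback_lift_fiber {e : ℕ} (f : X ⟶ Y) (y : Y) (g : X ⟶ 𝔸(ULift.{u} (Fin e); Y))
    (hg : g ≫ (𝔸(ULift.{u} (Fin e); Y) ↘ Y) = f) {T F : Scheme.{u}} (p : T ⟶ X) (q : T ⟶ F)
    (r : F ⟶ Spec (Y.residueField y)) (m : F ⟶ 𝔸(ULift.{u} (Fin e); Y))
    (hF : IsPullback m r (𝔸(ULift.{u} (Fin e); Y) ↘ Y) (Y.fromSpecResidueField y))
    (hT : IsPullback p (q ≫ r) f (Y.fromSpecResidueField y)) (hpq : p ≫ g = q ≫ m) :
    IsPullback p (q ≫ hF.isoPullback.hom) g ((𝔸(ULift.{u} (Fin e); Y) ↘ Y).fiberι y) := by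
  subst hg
  have h1 : IsPullback p q g m := IsPullback.of_bot hT hpq hF
  exact IsPullback.of_iso h1 (Iso.refl _) (Iso.refl _) hF.isoPullback (Iso.refl _) (by simp) (by simp)
    (by simp) (by simp [Scheme.Hom.fiberι])

set_option maxHeartbeats 400000 in
theorem exists_toAffineSpace_finite [IsAffine X] [IsAffine Y] (f : X ⟶ Y) [LocallyOfFiniteType f] (y : Y)
    (e : ℕ) (he : topologicalKrullDim ↥(f.fiber y) = e) :
    ∃ g : X ⟶ 𝔸(ULift.{u} (Fin e); Y), g ≫ (𝔸(ULift.{u} (Fin e); Y) ↘ Y) = f ∧
      IsFinite (pullback.snd g ((𝔸(ULift.{u} (Fin e); Y) ↘ Y).fiberι y)) := by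
  let A : Type u := Γ(Y, ⊤)
  let B : Type u := Γ(X, ⊤)
  let k : Type u := Y.residueField y
  let φ := Spec.preimage (Y.fromSpecResidueField y ≫ Y.isoSpec.hom)
  letI : Algebra A B := f.appTop.hom.toAlgebra
  letI : Algebra A k := φ.hom.toAlgebra
  haveI : Algebra.FiniteType A B := by
    rw [← RingHom.finiteType_algebraMap]
    exact HasRingHomProperty.appTop (P := @LocallyOfFiniteType) f inferInstance
  let R : Type u := k ⊗[A] B
  have hsqR : IsPullback (Spec.map (CommRingCat.ofHom (Algebra.TensorProduct.includeRight : B →ₐ[A] R).toRingHom) ≫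
      X.isoSpec.inv) (Spec.map (CommRingCat.ofHom (algebraMap k R))) f (Y.fromSpecResidueField y) := by
    have hA : IsPullback (Spec.map (CommRingCat.ofHom (Algebra.TensorProduct.includeRight : B →ₐ[A] R).toRingHom))
        (Spec.map (CommRingCat.ofHom (algebraMap k R))) (Spec.map f.appTop) (Spec.map φ) :=
      (isPullback_SpecMap_of_isPushout _ _ _ _ (CommRingCat.isPushout_tensorProduct A k B)).flip
    refine IsPullback.of_iso hA (Iso.refl _) X.isoSpec.symm (Iso.refl _) Y.isoSpec.symm (by simp) (by simp)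
      (by simp [Scheme.isoSpec_inv_naturality]) ?_
    simp [φ, Spec.map_preimage]
  have heR : ringKrullDim R = e := by
    rw [← he, ← PrimeSpectrum.topologicalKrullDim_eq_ringKrullDim]
    exact IsHomeomorph.topologicalKrullDim_eq _ (hsqR.isoPullback.hom.homeomorph.isHomeomorph)
  obtain ⟨b, hG⟩ := exists_finite_aeval_ulift (A := A) (B := B) (k := k) (residueField_frac y) e heR
  let g : X ⟶ 𝔸(ULift.{u} (Fin e); Y) := AffineSpace.homOfVector f b
  have hg : g ≫ (𝔸(ULift.{u} (Fin e); Y) ↘ Y) = f := AffineSpace.homOfVector_over _ _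
  refine ⟨g, hg, ?_⟩
  let G : MvPolynomial (ULift.{u} (Fin e)) k →+* R :=
    (aeval (R := k) fun i : ULift.{u} (Fin e) => (1 : k) ⊗ₜ[A] b i).toRingHom
  let q : Spec (CommRingCat.of R) ⟶ 𝔸(ULift.{u} (Fin e); Spec (Y.residueField y)) :=
    Spec.map (CommRingCat.ofHom G) ≫ (AffineSpace.SpecIso (ULift.{u} (Fin e)) (Y.residueField y)).inv
  haveI : IsFinite (Spec.map (CommRingCat.ofHom G)) := (IsFinite.SpecMap_iff _).mpr hG
  haveI : IsFinite q := inferInstanceAs (IsFinite (_ ≫ _))
  have hqr : q ≫ (𝔸(ULift.{u} (Fin e); Spec (Y.residueField y)) ↘ Spec (Y.residueField y)) =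
      Spec.map (CommRingCat.ofHom (algebraMap k R)) := by
    simp only [q, Category.assoc, AffineSpace.SpecIso_inv_over, ← Spec.map_comp]
    congr 1
    refine CommRingCat.hom_ext (RingHom.ext fun r => ?_)
    exact aeval_C _ r
  have hF := AffineSpace.isPullback_map (n := ULift.{u} (Fin e)) (Y.fromSpecResidueField y)
  have hpq : (Spec.map (CommRingCat.ofHom (Algebra.TensorProduct.includeRight : B →ₐ[A] R).toRingHom) ≫
      X.isoSpec.inv) ≫ g = q ≫ AffineSpace.map _ (Y.fromSpecResidueField y) := by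
    refine AffineSpace.hom_ext ?_ fun i => ?_
    · simp only [Category.assoc, hg, AffineSpace.map_over, reassoc_of% hqr]
      exact hsqR.w
    · have hq : q.appTop (AffineSpace.coord _ i) = (Scheme.ΓSpecIso (CommRingCat.of R)).inv ((1 : k) ⊗ₜ[A] b i) := by
        rw [show q.appTop = (AffineSpace.SpecIso (ULift.{u} (Fin e)) (Y.residueField y)).inv.appTop ≫
          (Spec.map (CommRingCat.ofHom G)).appTop from rfl, CommRingCat.comp_apply,
          AffineSpace.SpecIso_inv_appTop_coord, ← CommRingCat.comp_apply, ← Scheme.ΓSpecIso_inv_naturality,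
          CommRingCat.comp_apply]
        congr 1
        exact aeval_X _ i
      rw [Scheme.Hom.comp_appTop, CommRingCat.comp_apply, AffineSpace.homOfVector_appTop_coord,
        Scheme.Hom.comp_appTop, CommRingCat.comp_apply, Scheme.Hom.comp_appTop q, CommRingCat.comp_apply,
        AffineSpace.map_appTop_coord, hq]
      rw [show X.isoSpec.inv.appTop = (Scheme.ΓSpecIso Γ(X, ⊤)).inv by
          rw [← cancel_mono (Scheme.ΓSpecIso Γ(X, ⊤)).hom, Iso.inv_hom_id, ← Scheme.toSpecΓ_appTop,
            ← Scheme.Hom.comp_appTop, Scheme.toSpecΓ_isoSpec_inv]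
          rfl,
        ← CommRingCat.comp_apply, ← Scheme.ΓSpecIso_inv_naturality, CommRingCat.comp_apply]
      rfl
  have hT := isPullback_lift_fiber f y g hg _ q _ _ hF (by rw [hqr]; exact hsqR) hpq
  refine (MorphismProperty.cancel_left_of_respectsIso @IsFinite hT.isoPullback.hom _).mp ?_
  exact hT.isoPullback_hom_snd.symm ▸ (inferInstance : IsFinite (q ≫ hF.isoPullback.hom))

theorem surjective_and_quasiFinite_of_finite [IsAffine X] [IsAffine Y] (f : X ⟶ Y) [LocallyOfFiniteType f] (y : Y)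
    (e : ℕ) (he : topologicalKrullDim ↥(f.fiber y) = e) (g : X ⟶ 𝔸(ULift.{u} (Fin e); Y))
    (hg : g ≫ (𝔸(ULift.{u} (Fin e); Y) ↘ Y) = f)
    (hfin : IsFinite (pullback.snd g ((𝔸(ULift.{u} (Fin e); Y) ↘ Y).fiberι y))) :
    Function.Surjective (pullback.snd g ((𝔸(ULift.{u} (Fin e); Y) ↘ Y).fiberι y)) ∧
      ∃ U : X.Opens, f.base ⁻¹' {y} ⊆ (U : Set X) ∧ LocallyQuasiFinite (U.ι ≫ g) := by
  subst hg
  set π := 𝔸(ULift.{u} (Fin e); Y) ↘ Y with hπ
  have hP : IsPullback (pullback.fst g (π.fiberι y)) (pullback.snd g (π.fiberι y) ≫ π.fiberToSpecResidueField y)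
      (g ≫ π) (Y.fromSpecResidueField y) :=
    (IsPullback.of_hasPullback g (π.fiberι y)).paste_vert (IsPullback.of_hasPullback π (Y.fromSpecResidueField y))
  let eT : pullback g (π.fiberι y) ≅ (g ≫ π).fiber y := hP.isoPullback
  let eF : π.fiber y ≅ Spec (CommRingCat.of (MvPolynomial (ULift.{u} (Fin e)) (Y.residueField y))) :=
    (AffineSpace.isPullback_map (n := ULift.{u} (Fin e)) (Y.fromSpecResidueField y)).isoPullback.symm ≪≫
      AffineSpace.SpecIso _ (Y.residueField y)
  haveI := hfin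
  haveI : IsAffine (pullback g (π.fiberι y)) := by
    haveI : IsAffine (π.fiber y) := .of_isIso eF.hom
    exact isAffine_of_isAffineHom (pullback.snd g (π.fiberι y))
  let q := (pullback g (π.fiberι y)).isoSpec.inv ≫ pullback.snd g (π.fiberι y) ≫ eF.hom
  haveI : IsFinite q := inferInstanceAs (IsFinite (_ ≫ _ ≫ _))
  let H := Spec.preimage q
  have hH : H.hom.Finite := (IsFinite.SpecMap_iff _).mp (by rw [Spec.map_preimage]; infer_instance)
  letI := H.hom.toAlgebra
  haveI : Module.Finite (MvPolynomial (ULift.{u} (Fin e)) (Y.residueField y)) Γ(pullback g (π.fiberι y), ⊤) := hH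
  have heR : ringKrullDim Γ(pullback g (π.fiberι y), ⊤) = e := by
    rw [← he, ← PrimeSpectrum.topologicalKrullDim_eq_ringKrullDim]
    exact IsHomeomorph.topologicalKrullDim_eq _
      ((pullback g (π.fiberι y)).isoSpec.inv ≫ eT.hom).homeomorph.isHomeomorph
  have hinj : Function.Injective H.hom := by
    rw [RingHom.injective_iff_ker_eq_bot]
    by_contra hne
    let P := RingHom.ker H.hom
    have hle : ringKrullDim Γ(pullback g (π.fiberι y), ⊤) ≤
        ringKrullDim (MvPolynomial (ULift.{u} (Fin e)) (Y.residueField y) ⧸ P) := by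
      letI := (RingHom.kerLift H.hom).toAlgebra
      haveI : Module.Finite (MvPolynomial (ULift.{u} (Fin e)) (Y.residueField y) ⧸ P)
          Γ(pullback g (π.fiberι y), ⊤) :=
        RingHom.Finite.of_comp_finite (f := Ideal.Quotient.mk P) (g := RingHom.kerLift H.hom) hH
      exact GrothLib.Dim.ringKrullDim_le_of_isIntegral _ _
    obtain ⟨a, ha, ha0⟩ := Submodule.exists_mem_ne_zero_of_ne_bot hne
    have hlt := (add_le_add (ringKrullDim_le_of_surjective (Ideal.Quotient.factor
      ((Ideal.span_singleton_le_iff_mem P).mpr ha)) (Ideal.Quotient.factor_surjective _)) le_rfl).trans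
      (ringKrullDim_quotient_succ_le_of_nonZeroDivisor (mem_nonZeroDivisors_of_ne_zero ha0))
    rw [MvPolynomial.ringKrullDim_of_isNoetherianRing, ringKrullDim_eq_zero_of_field, zero_add, Nat.card_ulift,
      Nat.card_fin] at hlt
    rw [heR] at hle
    have := (add_le_add hle le_rfl).trans hlt
    exact absurd this (by norm_cast; omega)
  refine ⟨?_, ?_⟩
  · have hs : Function.Surjective q := by
      rw [← Spec.map_preimage q]
      exact hH.to_isIntegral.comap_surjective hinj
    intro w
    obtain ⟨v, hv⟩ := hs (eF.hom w)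
    exact ⟨_, eF.hom.isOpenEmbedding.injective hv⟩
  · haveI : LocallyOfFiniteType g := locallyOfFiniteType_of_comp g π
    refine ⟨g.quasiFiniteLocus, fun x hx => ?_, ?_⟩
    · show x ∈ g.quasiFiniteLocus
      obtain ⟨p, hp⟩ := (π.range_fiberι y).ge (show g x ∈ π ⁻¹' {y} from hx)
      obtain ⟨x', hx', hx''⟩ := Scheme.Pullback.exists_preimage_pullback (f := g) (g := π.fiberι y) x p hp.symm
      show g.QuasiFiniteAt x
      rw [Scheme.Hom.quasiFiniteAt_iff_isOpen_singleton_asFiber]
      have hd : _root_.IsDiscrete (g ⁻¹' {g x}) := by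
        have h1 := ((pullback.snd g (π.fiberι y)).isDiscrete_preimage_singleton p).image
          (pullback.fst g (π.fiberι y)).isEmbedding.isInducing
        convert h1 using 1
        ext a
        constructor
        · intro ha
          obtain ⟨a', ha', ha''⟩ := Scheme.Pullback.exists_preimage_pullback (f := g) (g := π.fiberι y) a p
            (Eq.trans (ha : g a = g x) hp.symm)
          exact ⟨a', ha'', ha'⟩
        · rintro ⟨a', ha', rfl⟩
          show g _ = g x
          rw [← hp, ← Scheme.Hom.comp_apply, pullback.condition, Scheme.Hom.comp_apply]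
          exact congrArg (π.fiberι y) ha'
      haveI := hd.to_subtype
      haveI : DiscreteTopology ↥(g.fiber (g x)) := (g.fiberHomeo (g x)).isInducing.isEmbedding.discreteTopology
      exact isOpen_discrete _
    · rw [← Scheme.Hom.quasiFiniteLocus_eq_top_iff, Scheme.Hom.quasiFiniteLocus_comp]
      ext w
      simp only [TopologicalSpace.Opens.coe_top, Set.mem_univ, iff_true]
      exact w.2

end GrothLib.Chev28
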