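import Groth.Agent.Lib.Chev28.LengthDVR
import Groth.Agent.Lib.QCoh.StalkPullback
import Groth.Agent.Lib.QuasiFlat.Basic
import Groth.Prelude.Def_CurvBase
import Mathlib.LinearAlgebra.TensorProduct.Quotient
import Mathlib.RingTheory.DiscreteValuationRing.Basic
import Mathlib.Topology.NoetherianSpace

/-!
Stalks of modules on the fibres over a discrete valuation ring.
-/

set_option autoImplicit false
set_option backward.isDefEq.respectTransparency false
set_option linter.style.haveILetI false

universe u

open CategoryTheory AlgebraicGeometry IsLocalRing TopologicalSpace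
open scoped TensorProduct

namespace GrothLib.Chev28

/-- The stalk of a pullback along a surjective stalk map is a quotient of the stalk. -/
theorem pullback_stalk_of_surjective {X Z : Scheme.{u}} [IsLocallyNoetherian X] (i : Z ⟶ X) (F : X.Modules)
    (hF : Coh.IsCoh F) (z : Z) (hsurj : Function.Surjective (i.stalkMap z).hom)
    (J : Ideal (X.presheaf.stalk (i z))) (hJ : RingHom.ker (i.stalkMap z).hom = J) :
    Module.length (Z.presheaf.stalk z) (((Scheme.Modules.pullback i).obj F).presheaf.stalk z) =
        Module.length (X.presheaf.stalk (i z))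
          (F.presheaf.stalk (i z) ⧸ J • (⊤ : Submodule (X.presheaf.stalk (i z)) (F.presheaf.stalk (i z)))) ∧
      (maximalIdeal (X.presheaf.stalk (i z)) ∈ associatedPrimes (X.presheaf.stalk (i z))
          (F.presheaf.stalk (i z) ⧸ J • (⊤ : Submodule (X.presheaf.stalk (i z)) (F.presheaf.stalk (i z)))) →
        Curv2.IsAssPoint ((Scheme.Modules.pullback i).obj F) z) := by
  letI := (i.stalkMap z).hom.toAlgebra
  let R := X.presheaf.stalk (i z)
  let S := Z.presheaf.stalk z
  let e : ((OX.stalk z).obj ((Scheme.Modules.pullback i).obj F)) ≅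
      (ModuleCat.extendScalars (i.stalkMap z).hom).obj ((OX.stalk (i z)).obj F) := (QCoh.stalkPullbackIso i z).app F
  let el : ((Scheme.Modules.pullback i).obj F).presheaf.stalk z ≃ₗ[S] S ⊗[R] F.presheaf.stalk (i z) :=
    e.toLinearEquiv
  let e₀ : (R ⧸ J) ≃ₗ[R] S := ((Ideal.quotientEquivAlgOfEq R hJ.symm).trans
    (Ideal.quotientKerAlgEquivOfSurjective (f := Algebra.ofId R S) hsurj)).toLinearEquiv
  let q : (S ⊗[R] F.presheaf.stalk (i z)) ≃ₗ[R]
      F.presheaf.stalk (i z) ⧸ J • (⊤ : Submodule R (F.presheaf.stalk (i z))) :=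
    (TensorProduct.congr e₀.symm (LinearEquiv.refl R _)) ≪≫ₗ TensorProduct.quotTensorEquivQuotSMul _ J
  refine ⟨?_, fun hass => ?_⟩
  · rw [el.length_eq, ← q.length_eq]
    exact (Module.length_eq_of_surjective (R := S) (S := R) (M := S ⊗[R] F.presheaf.stalk (i z)) hsurj).symm
  · haveI : IsNoetherianRing S := isNoetherianRing_of_surjective R S (i.stalkMap z).hom hsurj
    have h1 : IsAssociatedPrime (maximalIdeal R) (S ⊗[R] F.presheaf.stalk (i z)) :=
      (LinearEquiv.isAssociatedPrime_iff q).mpr hass
    obtain ⟨hp, w, hw⟩ := isAssociatedPrime_iff.mp h1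
    refine (LinearEquiv.isAssociatedPrime_iff el).mpr (isAssociatedPrime_iff.mpr ⟨inferInstance, w, ?_⟩)
    have key : ∀ r : R, (algebraMap R S r) • w = r • w := fun r => algebraMap_smul S r w
    ext s
    obtain ⟨r, rfl⟩ := hsurj s
    have hr : r ∈ maximalIdeal R ↔ r • w = 0 := by
      rw [hw]; simp [Submodule.mem_colon]
    show algebraMap R S r ∈ maximalIdeal S ↔ _
    simp only [Submodule.mem_colon, Set.mem_singleton_iff, forall_eq, Submodule.mem_bot]
    show _ ↔ algebraMap R S r • w = 0
    rw [key, ← hr]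
    exact map_mem_nonunits_iff (i.stalkMap z).hom r

/-- A point of a closed set has a generization maximal in it. -/
theorem exists_maximal_generization {X : Scheme.{u}} {T : Set X} (hT : IsClosed T) {x : X} (hx : x ∈ T) :
    ∃ z ∈ T, z ⤳ x ∧ ∀ w ∈ T, w ⤳ z → w = z := by
  let C : Set T := irreducibleComponent (⟨x, hx⟩ : T)
  have hC : IsIrreducible C := isIrreducible_irreducibleComponent
  have hCc : IsClosed C := isClosed_irreducibleComponent
  have hD : IsIrreducible (Subtype.val '' C : Set X) := hC.image _ continuous_subtype_val.continuousOn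
  have hDc : IsClosed (Subtype.val '' C : Set X) := hT.isClosedEmbedding_subtypeVal.isClosedMap _ hCc
  obtain ⟨z, hz⟩ := QuasiSober.sober hD hDc
  have hzC : z ∈ Subtype.val '' C := hz.mem
  have hzT : z ∈ T := by obtain ⟨t, -, rfl⟩ := hzC; exact t.2
  refine ⟨z, hzT, hz.specializes ⟨⟨x, hx⟩, mem_irreducibleComponent, rfl⟩, fun w hw hwz => ?_⟩
  have hirr : IsIrreducible (closure ({⟨w, hw⟩} : Set T)) := isIrreducible_singleton.closure
  have hle : C ⊆ closure ({⟨w, hw⟩} : Set T) := fun t ht => by
    rw [← specializes_iff_mem_closure, subtype_specializes_iff]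
    exact hwz.trans (hz.specializes ⟨t, ht, rfl⟩)
  have heq := ((irreducibleComponent_mem_irreducibleComponents (⟨x, hx⟩ : T)).2 hirr hle).antisymm hle
  have hwC : (⟨w, hw⟩ : T) ∈ C := heq.le (subset_closure rfl)
  exact (hwz.antisymm (hz.specializes ⟨_, hwC, rfl⟩)).eq

/-- A closed set of a noetherian scheme has finitely many maximal points. -/
theorem finite_maximal_points {X : Scheme.{u}} [NoetherianSpace X] {T : Set X} (hT : IsClosed T) :
    {z | z ∈ T ∧ ∀ w ∈ T, w ⤳ z → w = z}.Finite := by
  rw [← Set.finite_coe_iff]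
  haveI : Finite (irreducibleComponents T) := NoetherianSpace.finite_irreducibleComponents.to_subtype
  refine Finite.of_injective (fun z => (⟨irreducibleComponent (⟨z.1, z.2.1⟩ : T),
    irreducibleComponent_mem_irreducibleComponents _⟩ : irreducibleComponents T)) fun a b hab => ?_
  have hab' : irreducibleComponent (⟨a.1, a.2.1⟩ : T) = irreducibleComponent ⟨b.1, b.2.1⟩ :=
    congrArg Subtype.val hab
  have hD : IsIrreducible (Subtype.val '' irreducibleComponent (⟨a.1, a.2.1⟩ : T) : Set X) :=
    isIrreducible_irreducibleComponent.image _ continuous_subtype_val.continuousOn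
  obtain ⟨z, hz⟩ := QuasiSober.sober hD (hT.isClosedEmbedding_subtypeVal.isClosedMap _ isClosed_irreducibleComponent)
  have hzT : z ∈ T := by obtain ⟨t, -, ht⟩ := hz.mem; exact ht ▸ t.2
  have ha : z = a.1 := a.2.2 z hzT (hz.specializes ⟨_, mem_irreducibleComponent, rfl⟩)
  have hb : z = b.1 := b.2.2 z hzT (hz.specializes ⟨⟨b.1, b.2.1⟩, hab' ▸ mem_irreducibleComponent, rfl⟩)
  exact Subtype.ext (ha.symm.trans hb)

variable {A : Type u} [CommRing A] [IsDomain A] [IsDiscreteValuationRing A]

theorem eq_closedPoint_or_eq_genericPoint (w : Spec (CommRingCat.of A)) :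
    w = closedPoint A ∨ w = genericPoint (Spec (CommRingCat.of A)) := by
  by_cases hw : w.asIdeal = ⊥
  · refine Or.inr (Specializes.antisymm ?_ (genericPoint_specializes w)).eq
    refine (PrimeSpectrum.le_iff_specializes _ _).mp ?_
    show w.asIdeal ≤ _
    rw [hw]; exact bot_le
  · refine Or.inl (PrimeSpectrum.ext ?_)
    exact IsLocalRing.eq_maximalIdeal (w.2.isMaximal hw)

/-- The uniformizer in the local rings of the base. -/
theorem exists_uniformizer_stalks : ∃ σ : Γ(Spec (CommRingCat.of A), ⊤),
    (maximalIdeal ((Spec (CommRingCat.of A)).presheaf.stalk (closedPoint A)) =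
      Ideal.span {(Spec (CommRingCat.of A)).presheaf.germ ⊤ (closedPoint A) trivial σ}) ∧
    (∀ w, IsRegular ((Spec (CommRingCat.of A)).presheaf.germ ⊤ w trivial σ)) ∧
    maximalIdeal ((Spec (CommRingCat.of A)).presheaf.stalk (genericPoint (Spec (CommRingCat.of A)))) = ⊥ := by
  obtain ⟨π, hπ⟩ := IsDiscreteValuationRing.exists_irreducible A
  let σ : Γ(Spec (CommRingCat.of A), ⊤) := (Scheme.ΓSpecIso (CommRingCat.of A)).inv π
  refine ⟨σ, ?_, fun w => ?_, ?_⟩
  · let w : PrimeSpectrum A := closedPoint A
    letI : Algebra A ((Spec (CommRingCat.of A)).presheaf.stalk (closedPoint A)) :=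
      StructureSheaf.stalkAlgebra A w
    haveI : IsLocalization.AtPrime ((Spec (CommRingCat.of A)).presheaf.stalk (closedPoint A)) w.asIdeal :=
      StructureSheaf.IsLocalization.to_stalk A w
    have h := IsLocalization.AtPrime.map_eq_maximalIdeal w.asIdeal ((Spec (CommRingCat.of A)).presheaf.stalk (closedPoint A))
    rw [show w.asIdeal = Ideal.span {π} from hπ.maximalIdeal_eq, Ideal.map_span, Set.image_singleton] at h
    exact h.symm
  · refine (isRegular_iff_ne_zero.mpr ?_)
    intro h0
    refine hπ.ne_zero ((Scheme.ΓSpecIso (CommRingCat.of A)).symm.commRingCatIsoToRingEquiv.injective ?_)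
    exact (germ_injective_of_isIntegral (Spec (CommRingCat.of A)) (U := ⊤) w trivial
      (h0.trans (map_zero _).symm)).trans (map_zero _).symm
  · exact (IsLocalRing.isField_iff_maximalIdeal_eq).mp (Field.toIsField (Spec (CommRingCat.of A)).functionField)

end GrothLib.Chev28
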