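import Groth.Agent.Lib.Chev28.OpenDim
import Mathlib.RingTheory.Flat.TorsionFree
import Mathlib.RingTheory.DedekindDomain.Dvr
import Mathlib.RingTheory.Filtration

/-!
Flatness over a discrete valuation ring from openness and a reduced fibre (EGA IV 14.4).
-/

universe u

open CategoryTheory CategoryTheory.Limits AlgebraicGeometry TopologicalSpace Topology IsLocalRing

noncomputable section

namespace GrothLib.Chev28

variable {X Y : Scheme.{u}}

/-- Where the morphism is open at the generic points of the fibre components through `x`, every minimal prime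
over the maximal ideal of the base contains primes lying over all primes of the base. -/
theorem exists_le_comap_eq_of_isOpenAt (f : X ⟶ Y) (x : X)
    (h : ∀ z : ↥(f.fiber (f x)), f.asFiber x ∈ closure {z} →
      (∀ z' : ↥(f.fiber (f x)), z ∈ closure {z'} → z' = z) →
      EGA43.IsOpenAt f.base ((f.fiberι (f x)) z))
    (P : PrimeSpectrum (X.presheaf.stalk x))
    (hPmin : P.asIdeal ∈ ((maximalIdeal (Y.presheaf.stalk (f x))).map (f.stalkMap x).hom).minimalPrimes)
    (p : PrimeSpectrum (Y.presheaf.stalk (f x))) :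
    ∃ P' ≤ P, PrimeSpectrum.comap (f.stalkMap x).hom P' = p := by
  let S := Y.presheaf.stalk (f x)
  let T := X.presheaf.stalk x
  have hIP := hPmin.1.2
  have hPm : maximalIdeal S = P.asIdeal.comap (f.stalkMap x).hom :=
    (maximalIdeal.isMaximal S).eq_of_le (Ideal.comap_isPrime _ _).ne_top' (Ideal.map_le_iff_le_comap.mp hIP)
  let z := X.fromSpecStalk x P
  have hzx : z ⤳ x := by
    have h1 := (PrimeSpectrum.le_iff_specializes P (IsLocalRing.closedPoint T)).mp
      (IsLocalRing.le_maximalIdeal P.isPrime.ne_top)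
    exact (h1.map (X.fromSpecStalk x).continuous).trans (specializes_of_eq Scheme.fromSpecStalk_closedPoint)
  have hPz : GrothLib.CycDiv.primeOf hzx = P.asIdeal := GrothLib.CycDiv.primeOf_fromSpecStalk P hzx
  have hprime : ∀ {v : Y} (h : v ⤳ f x), GrothLib.CycDiv.primeOf h = maximalIdeal S → v = f x := fun {v} h hv => by
    have h1 := GrothLib.CycDiv.fromSpecStalk_primeOf h
    rw [show (⟨GrothLib.CycDiv.primeOf h, inferInstance⟩ : PrimeSpectrum S) = IsLocalRing.closedPoint S
      from PrimeSpectrum.ext hv] at h1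
    exact h1.symm.trans Scheme.fromSpecStalk_closedPoint
  have hfz : f z = f x := hprime (hzx.map f.continuous)
    ((GrothLib.CycDiv.comap_primeOf f hzx).symm.trans (by rw [hPz]; exact hPm.symm))
  obtain ⟨w, hw⟩ := (f.range_fiberι (f x)).ge (show z ∈ f ⁻¹' {f x} from hfz)
  have hopen : EGA43.IsOpenAt f.base z := by
    have := h w ?_ ?_
    · rwa [hw] at this
    · refine specializes_iff_mem_closure.mp ((f.fiberι (f x)).isEmbedding.isInducing.specializes_iff.mp ?_)
      rw [hw, f.fiberι_asFiber]
      exact hzx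
    · intro w' hw'
      have hs : f.fiberι (f x) w' ⤳ z :=
        hw ▸ (specializes_iff_mem_closure.mpr hw').map (f.fiberι (f x)).continuous
      have hle : GrothLib.CycDiv.primeOf (hs.trans hzx) ≤ P.asIdeal :=
        ((GrothLib.CycDiv.primeOf_le_iff (hs.trans hzx) hzx).mpr hs).trans hPz.le
      have heq : f (f.fiberι (f x) w') = f x := (f.range_fiberι (f x)).le ⟨w', rfl⟩
      have hge : P.asIdeal ≤ GrothLib.CycDiv.primeOf (hs.trans hzx) := hPmin.2 ⟨inferInstance, by
        refine Ideal.map_le_iff_le_comap.mpr (le_of_eq ?_)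
        refine Eq.trans ?_ (GrothLib.CycDiv.comap_primeOf f (hs.trans hzx)).symm
        exact ((GrothLib.CycDiv.primeOf_congr ((hs.trans hzx).map f.continuous)
          (specializes_of_eq Scheme.fromSpecStalk_closedPoint) (heq.trans Scheme.fromSpecStalk_closedPoint.symm)).trans
          (GrothLib.CycDiv.primeOf_fromSpecStalk (IsLocalRing.closedPoint S) _)).symm⟩ hle
      apply (f.fiberι (f x)).isEmbedding.injective
      rw [hw]
      exact (hs.antisymm ((GrothLib.CycDiv.primeOf_le_iff hzx (hs.trans hzx)).mp (hPz.le.trans hge))).eq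
  let y' := Y.fromSpecStalk (f x) p
  have hy' : y' ⤳ f x := (((PrimeSpectrum.le_iff_specializes p _).mp
    (IsLocalRing.le_maximalIdeal p.isPrime.ne_top : p ≤ IsLocalRing.closedPoint S)).map
    (Y.fromSpecStalk (f x)).continuous).trans (specializes_of_eq Scheme.fromSpecStalk_closedPoint)
  obtain ⟨z', hz', hfz'⟩ := exists_lift_of_isOpenAt f hopen (show y' ⤳ f z by rw [hfz]; exact hy')
  refine ⟨⟨GrothLib.CycDiv.primeOf (hz'.trans hzx), inferInstance⟩,
    ((GrothLib.CycDiv.primeOf_le_iff (hz'.trans hzx) hzx).mpr hz').trans hPz.le, PrimeSpectrum.ext ?_⟩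
  exact (GrothLib.CycDiv.comap_primeOf f (hz'.trans hzx)).trans
    ((GrothLib.CycDiv.primeOf_congr _ hy' hfz').trans (GrothLib.CycDiv.primeOf_fromSpecStalk p hy'))

/-- An element of a Noetherian local ring with reduced quotient, avoiding some prime below each minimal prime
over it, is regular. -/
theorem isRegular_of_isRadical_span {T : Type u} [CommRing T] [IsNoetherianRing T] [IsLocalRing T] (π : T)
    (hm : π ∈ maximalIdeal T) (hrad : (Ideal.span {π}).IsRadical)
    (h : ∀ P ∈ (Ideal.span {π}).minimalPrimes, ∃ Q : Ideal T, Q.IsPrime ∧ Q ≤ P ∧ π ∉ Q)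
    (a : T) (ha : π * a = 0) : a = 0 := by
  have key : ∀ n : ℕ, ∀ b : T, (∃ k : ℕ, π ^ k * b = 0) → b ∈ Ideal.span {π} ^ n := by
    intro n
    induction n with
    | zero => intro b _; simp
    | succ n ih =>
      rintro b ⟨k, hk⟩
      have hb : b ∈ Ideal.span {π} := by
        rw [← hrad.radical, ← Ideal.sInf_minimalPrimes]
        refine Submodule.mem_sInf.mpr fun P hP => ?_
        obtain ⟨Q, hQ, hQP, hπQ⟩ := h P hP
        refine hQP ((hQ.mem_or_mem (show π ^ k * b ∈ Q by rw [hk]; exact Q.zero_mem)).resolve_left fun h' => ?_)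
        exact hπQ (hQ.mem_of_pow_mem k h')
      obtain ⟨c, rfl⟩ := Ideal.mem_span_singleton'.mp hb
      rw [pow_succ]
      exact Ideal.mul_mem_mul (ih c ⟨k + 1, by rw [pow_succ, mul_assoc, mul_comm π c, hk]⟩)
        (Ideal.mem_span_singleton_self π)
  have hinf : a ∈ ⨅ n, Ideal.span {π} ^ n :=
    Submodule.mem_iInf _ |>.mpr fun n => key n a ⟨1, by rwa [pow_one]⟩
  rw [Ideal.iInf_pow_eq_bot_of_isLocalRing _
    (fun h' => Ideal.IsPrime.ne_top' (I := maximalIdeal T)
      (top_le_iff.mp (h' ▸ (Ideal.span_singleton_le_iff_mem _).mpr hm)))] at hinf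
  exact hinf

/-- A morphism to a scheme is flat at a point over which the base is a discrete valuation ring, if it is open
at the generic points of the fibre components through it and the fibre is reduced there. -/
theorem flat_stalkMap_of_isOpenAt_of_reduced [IsLocallyNoetherian X] (f : X ⟶ Y) (x : X)
    [IsDomain (Y.presheaf.stalk (f x))] [IsDiscreteValuationRing (Y.presheaf.stalk (f x))]
    (h : ∀ z : ↥(f.fiber (f x)), f.asFiber x ∈ closure {z} →
      (∀ z' : ↥(f.fiber (f x)), z ∈ closure {z'} → z' = z) →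
      EGA43.IsOpenAt f.base ((f.fiberι (f x)) z))
    (hred : _root_.IsReduced ((f.fiber (f x)).presheaf.stalk (f.asFiber x))) :
    (f.stalkMap x).hom.Flat := by
  let S := Y.presheaf.stalk (f x)
  let T := X.presheaf.stalk x
  letI : Algebra S T := (f.stalkMap x).hom.toAlgebra
  haveI : IsLocalHom (algebraMap S T) := inferInstanceAs (IsLocalHom (f.stalkMap x).hom)
  obtain ⟨ϖ, hϖ⟩ := IsDiscreteValuationRing.exists_irreducible S
  obtain ⟨e⟩ := GrothLib.CMMor6.nonempty_fibQuot_equiv f x
  let I : Ideal T := (maximalIdeal S).map (f.stalkMap x).hom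
  have hI : I = Ideal.span {algebraMap S T ϖ} := by
    show (maximalIdeal S).map _ = _
    rw [hϖ.maximalIdeal_eq, Ideal.map_span, Set.image_singleton]
    rfl
  have hrad : I.IsRadical := by
    haveI : _root_.IsReduced (T ⧸ I) := isReduced_of_injective e.toRingHom e.injective
    exact (Ideal.isRadical_iff_quotient_reduced I).mpr inferInstance
  have hreg : ∀ a : T, algebraMap S T ϖ * a = 0 → a = 0 := by
    refine isRegular_of_isRadical_span _ (map_nonunit (algebraMap S T) ϖ
      (hϖ.maximalIdeal_eq ▸ Ideal.mem_span_singleton_self ϖ)) (hI ▸ hrad) fun P hP => ?_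
    obtain ⟨Q, hQ, hQ'⟩ := exists_le_comap_eq_of_isOpenAt f x h ⟨P, hP.1.1⟩
      (show P ∈ I.minimalPrimes by rw [hI]; exact hP) ⊥
    refine ⟨Q.asIdeal, Q.isPrime, hQ, fun hmem => hϖ.ne_zero ?_⟩
    have h' : ϖ ∈ (PrimeSpectrum.comap (f.stalkMap x).hom Q).asIdeal := hmem
    rw [hQ'] at h'
    exact h'
  show Module.Flat S T
  rw [Module.Flat.flat_iff_torsion_eq_bot_of_isBezout, eq_bot_iff]
  rintro a ⟨⟨r, hr⟩, hra⟩
  obtain ⟨n, u, rfl⟩ := IsDiscreteValuationRing.eq_unit_mul_pow_irreducible
    (nonZeroDivisors.ne_zero hr) hϖ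
  change ((u : S) * ϖ ^ n) • a = 0 at hra
  rw [Algebra.smul_def, map_mul, map_pow, mul_assoc] at hra
  have h' : algebraMap S T ϖ ^ n * a = 0 := ((u.isUnit.map (algebraMap S T)).mul_right_eq_zero).mp hra
  rw [Submodule.mem_bot]
  clear hra hr
  induction n generalizing a with
  | zero => simpa using h'
  | succ n ih => exact hreg a (ih (by rwa [pow_succ, mul_assoc] at h'))

theorem flat_stalkMap_of_isOpenAt_of_reduced_dvr {A : Type u} [CommRing A] [IsDomain A] [IsDiscreteValuationRing A]
    {X : Scheme.{u}} (f : X ⟶ Spec (CommRingCat.of A)) [IsLocallyNoetherian X] (x : X)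
    (hx : f x = IsLocalRing.closedPoint A)
    (h : ∀ z : ↥(f.fiber (f x)), f.asFiber x ∈ closure {z} →
      (∀ z' : ↥(f.fiber (f x)), z ∈ closure {z'} → z' = z) →
      EGA43.IsOpenAt f.base ((f.fiberι (f x)) z))
    (hred : _root_.IsReduced ((f.fiber (f x)).presheaf.stalk (f.asFiber x))) :
    (f.stalkMap x).hom.Flat := by
  let p : PrimeSpectrum A := f x
  have hp : p.asIdeal ≠ ⊥ := by
    rw [show p.asIdeal = maximalIdeal A from congrArg PrimeSpectrum.asIdeal hx]
    exact IsDiscreteValuationRing.not_a_field A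
  haveI : IsDomain ((Spec.structureSheaf A).presheaf.stalk p) :=
    IsLocalization.isDomain_of_le_nonZeroDivisors ((Spec.structureSheaf A).presheaf.stalk p)
      (Ideal.primeCompl_le_nonZeroDivisors p.asIdeal)
  haveI hD : IsDiscreteValuationRing ((Spec.structureSheaf A).presheaf.stalk p) :=
    IsLocalization.AtPrime.isDiscreteValuationRing_of_dedekind_domain A hp _
  haveI : IsDomain ((Spec (CommRingCat.of A)).presheaf.stalk (f x)) := this
  haveI : IsDiscreteValuationRing ((Spec (CommRingCat.of A)).presheaf.stalk (f x)) := hD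
  exact flat_stalkMap_of_isOpenAt_of_reduced f x h hred

end GrothLib.Chev28
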