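import Groth.Agent.Lib.Chev28.FlatDedekind
import Groth.Agent.Lib.AssPts.Flat
import Groth.Agent.Lib.CycDiv.Stalk
import Groth.Agent.Lib.FFDesc.Basic

universe u

open CategoryTheory Limits AlgebraicGeometry

namespace GrothLib.Chev28

variable {X Y : Scheme.{u}}

/-- A nonzero element of a Noetherian stalk survives at an associated point. -/
theorem exists_assPoint (x : X) [IsNoetherianRing (X.presheaf.stalk x)] (s : X.presheaf.stalk x) (hs : s ≠ 0) :
    ∃ (ξ : X) (h : ξ ⤳ x), IsAssociatedPrime (IsLocalRing.maximalIdeal (X.presheaf.stalk ξ)) (X.presheaf.stalk ξ) ∧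
      (∀ a, a * s = 0 → (X.presheaf.stalkSpecializes h).hom a ∈ IsLocalRing.maximalIdeal (X.presheaf.stalk ξ)) ∧
      (X.presheaf.stalkSpecializes h).hom s ≠ 0 := by
  obtain ⟨P, hP, hle⟩ := exists_le_isAssociatedPrime_of_isNoetherianRing (X.presheaf.stalk x) s hs
  haveI := hP.1
  let q : Spec (X.presheaf.stalk x) := ⟨P, hP.1⟩
  have hξ : X.fromSpecStalk x q ⤳ x := by
    have : X.fromSpecStalk x q ∈ Set.range (X.fromSpecStalk x) := ⟨q, rfl⟩
    rwa [Scheme.range_fromSpecStalk] at this
  let h := hξ
  letI := (X.presheaf.stalkSpecializes h).hom.toAlgebra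
  haveI := CycDiv.isLocalization_stalkSpecializes h
  have hprime : CycDiv.primeOf h = P := by
    let q' : PrimeSpectrum (X.presheaf.stalk x) := ⟨CycDiv.primeOf h, inferInstance⟩
    have h1 : Spec.map (X.presheaf.stalkSpecializes h) (IsLocalRing.closedPoint _) = q' := by
      refine PrimeSpectrum.ext ?_
      ext a
      exact (CycDiv.mem_primeOf_iff h a).symm
    have h2 : X.fromSpecStalk x q' = X.fromSpecStalk x q := by
      rw [← h1, ← Scheme.Hom.comp_apply, Scheme.SpecMap_stalkSpecializes_fromSpecStalk,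
        Scheme.fromSpecStalk_closedPoint]
    exact congrArg PrimeSpectrum.asIdeal ((X.fromSpecStalk x).isEmbedding.injective h2)
  have hmax : (IsLocalRing.maximalIdeal (X.presheaf.stalk (X.fromSpecStalk x q))).comap
      (algebraMap (X.presheaf.stalk x) (X.presheaf.stalk (X.fromSpecStalk x q))) = P := by
    rw [← hprime]
    exact IsLocalization.AtPrime.comap_maximalIdeal _ (CycDiv.primeOf h)
  have hsa : ∀ a, a * s = 0 →
      (X.presheaf.stalkSpecializes h).hom a ∈ IsLocalRing.maximalIdeal (X.presheaf.stalk (X.fromSpecStalk x q)) := by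
    intro a ha
    have : a ∈ P := hle (Submodule.mem_colon_singleton.mpr ha)
    rw [← hmax] at this
    exact this
  refine ⟨_, h, ?_, hsa, ?_⟩
  · exact Module.associatedPrimes.mem_associatedPrimes_of_comap_mem_associatedPrimes_of_isLocalizedModule
      (CycDiv.primeOf h).primeCompl
      (Algebra.linearMap (X.presheaf.stalk x) (X.presheaf.stalk (X.fromSpecStalk x q))) _ (hmax.symm ▸ hP)
  · intro h0
    have h1 : algebraMap (X.presheaf.stalk x) (X.presheaf.stalk (X.fromSpecStalk x q)) s = 0 := h0
    obtain ⟨u, hu⟩ := (IsLocalization.map_eq_zero_iff (CycDiv.primeOf h).primeCompl _ _).mp h1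
    exact u.2 ((CycDiv.mem_primeOf_iff h _).mpr (hsa _ hu))

/-- Flatness over a regular integral base of dimension at most one via associated points. -/
theorem flat_iff_assPoints [IsIntegral Y] (hreg : ∀ y : Y, IsRegularLocalRing (Y.presheaf.stalk y))
    (hdim : topologicalKrullDim Y ≤ 1) [IsLocallyNoetherian X] (f : X ⟶ Y) :
    Flat f ↔ ∀ x : X, IsAssociatedPrime (IsLocalRing.maximalIdeal (X.presheaf.stalk x)) (X.presheaf.stalk x) →
      f x = genericPoint Y := by
  have hη : ∀ y : Y, IsField (Y.presheaf.stalk y) → y = genericPoint Y := fun y hy => by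
    obtain ⟨q, hq⟩ : genericPoint Y ∈ Set.range (Y.fromSpecStalk y) := by
      rw [Scheme.range_fromSpecStalk]; exact genericPoint_specializes y
    letI := hy.toField
    rw [← hq, show q = IsLocalRing.closedPoint _ from Subsingleton.elim (α := PrimeSpectrum _) _ _,
      Scheme.fromSpecStalk_closedPoint]
  constructor
  · intro hf x hx
    apply hη
    have := hreg (f x)
    letI := (f.stalkMap x).hom.toAlgebra
    haveI : IsLocalHom (algebraMap (Y.presheaf.stalk (f x)) (X.presheaf.stalk x)) :=
      inferInstanceAs (IsLocalHom (f.stalkMap x).hom)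
    haveI : Module.Flat (Y.presheaf.stalk (f x)) (X.presheaf.stalk x) := Flat.stalkMap f x
    have h := GrothLib.AssPts.mem_associatedPrimes_of_flat (A := Y.presheaf.stalk (f x))
      (B := X.presheaf.stalk x) (M := X.presheaf.stalk x) hx
    obtain ⟨-, a, ha⟩ := (isAssociatedPrime_iff (R := Y.presheaf.stalk (f x))).mp h
    rw [IsLocalRing.isField_iff_maximalIdeal_eq, eq_bot_iff]
    intro b hb
    have ha0 : a ≠ 0 := by
      rintro rfl
      exact (IsLocalRing.maximalIdeal.isMaximal (Y.presheaf.stalk (f x))).ne_top (by rw [ha]; simp)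
    rw [ha, Submodule.mem_colon_singleton, Submodule.mem_bot, smul_eq_mul, mul_eq_zero] at hb
    exact hb.resolve_right ha0
  · intro h
    refine (Flat.iff_flat_stalkMap f).mpr fun x => ?_
    have := hreg (f x)
    have : IsPrincipalIdealRing (Y.presheaf.stalk (f x)) :=
      Ref1.isPrincipalIdealRing_of_isRegularLocalRing ((ringKrullDim_stalk_le (f x)).trans hdim)
    letI := (f.stalkMap x).hom.toAlgebra
    change Module.Flat (Y.presheaf.stalk (f x)) (X.presheaf.stalk x)
    rw [IsDedekindDomain.flat_iff_torsion_eq_bot, eq_bot_iff]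
    rintro s ⟨⟨r, hr⟩, hrs : r • s = 0⟩
    rw [Algebra.smul_def] at hrs
    by_contra hs
    obtain ⟨ξ, hξ, hass, hann, -⟩ := exists_assPoint x s hs
    have h1 := hann _ hrs
    have h2 : (f.stalkMap ξ).hom ((Y.presheaf.stalkSpecializes (hξ.map f.continuous)).hom r) ∈
        IsLocalRing.maximalIdeal (X.presheaf.stalk ξ) := by
      have e := congrArg (fun φ => φ.hom r) (Scheme.Hom.stalkSpecializes_stalkMap f ξ x hξ)
      simp only [CommRingCat.hom_comp, RingHom.comp_apply] at e
      rw [e]
      exact h1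
    have hinj : Function.Injective (Y.presheaf.stalkSpecializes (hξ.map f.continuous)).hom := by
      letI := (Y.presheaf.stalkSpecializes (hξ.map f.continuous)).hom.toAlgebra
      haveI := CycDiv.isLocalization_stalkSpecializes (hξ.map f.continuous)
      exact IsLocalization.injective (M := (CycDiv.primeOf (hξ.map f.continuous)).primeCompl)
        (Y.presheaf.stalk (f ξ)) (Ideal.primeCompl_le_nonZeroDivisors _)
    have hfield : IsField (Y.presheaf.stalk (f ξ)) := by
      rw [h ξ hass]; exact Field.toIsField Y.functionField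
    have hr0 : (Y.presheaf.stalkSpecializes (hξ.map f.continuous)).hom r ≠ 0 :=
      fun e => nonZeroDivisors.ne_zero hr (hinj (e.trans (map_zero _).symm))
    obtain ⟨v, hv⟩ := hfield.mul_inv_cancel hr0
    exact h2 ((IsUnit.of_mul_eq_one v hv).map (f.stalkMap ξ).hom)

/-- The scheme theoretic image of a flat scheme over a Dedekind domain is flat. -/
theorem flat_image_of_flat {R : Type u} [CommRing R] [IsDedekindDomain R]
    (p : X ⟶ Spec (CommRingCat.of R)) (q : Y ⟶ Spec (CommRingCat.of R)) (f : X ⟶ Y) (w : f ≫ q = p) [Flat p] :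
    Flat (f.imageι ≫ q) := by
  let φ : ∀ U : Y.Opens, CommRingCat.of R ⟶ Γ(Y, U) := fun U =>
    (Scheme.ΓSpecIso (CommRingCat.of R)).inv ≫ q.appLE ⊤ U le_top
  have hnat : ∀ {U V : Y.Opens} (hVU : V ≤ U), φ U ≫ Y.presheaf.map (homOfLE hVU).op = φ V :=
    fun hVU => by simp only [φ, Category.assoc, Scheme.Hom.appLE_map]
  let J : ∀ U : Y.affineOpens, Ideal Γ(Y, U) := fun U =>
    { carrier := {b | ∃ r : R, r ≠ 0 ∧ φ U r * b ∈ f.ker.ideal U}
      add_mem' := by
        rintro a b ⟨r, hr, ha⟩ ⟨t, ht, hb⟩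
        refine ⟨r * t, mul_ne_zero hr ht, ?_⟩
        rw [map_mul, mul_add]
        refine add_mem ?_ ?_
        · rw [mul_comm (φ U r), mul_assoc]; exact Ideal.mul_mem_left _ _ ha
        · rw [mul_assoc]; exact Ideal.mul_mem_left _ _ hb
      zero_mem' := ⟨1, one_ne_zero, by simp⟩
      smul_mem' := by
        rintro c a ⟨r, hr, ha⟩
        refine ⟨r, hr, ?_⟩
        rw [smul_eq_mul, mul_left_comm]
        exact Ideal.mul_mem_left _ _ ha }
  have hJloc : ∀ (U : Y.affineOpens) (g : Γ(Y, U)),
      (J U).map (Y.presheaf.map (homOfLE <| Y.basicOpen_le g).op).hom = J (Y.affineBasicOpen g) := by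
    intro U g
    set ρ := (Y.presheaf.map (homOfLE <| Y.basicOpen_le g).op).hom
    letI : Algebra Γ(Y, U) Γ(Y, Y.basicOpen g) := ρ.toAlgebra
    haveI : IsLocalization.Away g Γ(Y, Y.basicOpen g) := U.2.isLocalization_basicOpen g
    have hφ : ∀ r : R, ρ (φ U r) = φ (Y.basicOpen g) r := fun r =>
      congrArg (fun ψ => ψ.hom r) (hnat (Y.basicOpen_le g))
    have hI := f.ker.map_ideal_basicOpen U g
    apply le_antisymm
    · rw [Ideal.map_le_iff_le_comap]
      rintro b ⟨r, hr, hb⟩
      refine ⟨r, hr, ?_⟩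
      change φ (Y.basicOpen g) r * ρ b ∈ _
      rw [← hφ, ← map_mul, ← hI]
      exact Ideal.mem_map_of_mem _ hb
    · rintro b ⟨r, hr, hb⟩
      change φ (Y.basicOpen g) r * b ∈ _ at hb
      rw [← hI] at hb
      obtain ⟨⟨b₀, u⟩, hbu⟩ := IsLocalization.surj (Submonoid.powers g) (S := Γ(Y, Y.basicOpen g)) b
      have h1 : algebraMap Γ(Y, U) Γ(Y, Y.basicOpen g) (φ U r * b₀) ∈
          (f.ker.ideal U).map (algebraMap Γ(Y, U) Γ(Y, Y.basicOpen g)) := by
        rw [map_mul, ← hbu, ← mul_assoc]
        refine Ideal.mul_mem_right _ _ ?_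
        rw [show algebraMap Γ(Y, U) Γ(Y, Y.basicOpen g) (φ U r) = φ (Y.basicOpen g) r from hφ r]
        exact hb
      obtain ⟨v, hv⟩ := (IsLocalization.algebraMap_mem_map_algebraMap_iff (Submonoid.powers g) _ _ _).mp h1
      have h2 : (v : Γ(Y, U)) * b₀ ∈ J U := ⟨r, hr, by
        rw [mul_left_comm]; exact hv.2⟩
      rw [show b = ρ (v * b₀) * (↑((IsLocalization.map_units Γ(Y, Y.basicOpen g) ⟨v, hv.1⟩).mul
          (IsLocalization.map_units Γ(Y, Y.basicOpen g) u)).unit⁻¹ : Γ(Y, Y.basicOpen g)) from ?_]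
      · exact Ideal.mul_mem_right _ _ (Ideal.mem_map_of_mem _ h2)
      · rw [Units.eq_mul_inv_iff_mul_eq, IsUnit.unit_spec]
        show b * (algebraMap _ _ v * algebraMap _ _ (u : Γ(Y, U))) = algebraMap _ _ (v * b₀)
        rw [map_mul, ← hbu]
        ring
  let J' : Y.IdealSheafData := { ideal := J, map_ideal_basicOpen := hJloc }
  have hJker : J' ≤ f.ker := by
    refine Scheme.IdealSheafData.le_ofIdeals_iff.mpr fun U => ?_
    rintro b ⟨r, hr, hb⟩
    have hb' : f.app U (φ U r * b) = 0 := f.ideal_ker_le U hb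
    rw [RingHom.mem_ker]
    refine TopCat.Sheaf.eq_of_locally_eq' ⟨X.presheaf, X.sheaf.property⟩
      (fun W : {W : X.affineOpens // (W : X.Opens) ≤ f ⁻¹ᵁ U} => (W.1 : X.Opens)) (f ⁻¹ᵁ U)
      (fun W => homOfLE W.2) (fun x hx => ?_) _ _ fun W => ?_
    · obtain ⟨W, hW, hxW, hWU⟩ := exists_isAffineOpen_mem_and_subset hx
      exact TopologicalSpace.Opens.mem_iSup.mpr ⟨⟨⟨W, hW⟩, hWU⟩, hxW⟩
    · set res := X.presheaf.map (homOfLE W.2).op
      rw [map_zero]
      have h1 : res (f.app U (φ U r)) * res (f.app U b) = 0 := by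
        rw [← map_mul, ← map_mul, hb', map_zero]
      let ψ : CommRingCat.of R ⟶ Γ(X, (W.1 : X.Opens)) :=
        (Scheme.ΓSpecIso (CommRingCat.of R)).inv ≫ p.appLE ⊤ W.1 le_top
      have hflat : ψ.hom.Flat := by
        rw [CommRingCat.hom_comp]
        exact (RingHom.Flat.of_bijective (ConcreteCategory.bijective_of_isIso _)).comp
          (HasRingHomProperty.appLE @Flat p inferInstance ⟨⊤, isAffineOpen_top _⟩ W.1 le_top)
      have hψ : ψ r = res (f.app U (φ U r)) := by
        subst w
        have : φ U ≫ f.app U ≫ res = ψ := by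
          simp only [φ, ψ, Category.assoc]
          congr 1
          exact Scheme.Hom.appLE_comp_appLE f q ⊤ U W.1 le_top W.2
        exact (congrArg (fun χ => χ.hom r) this).symm
      letI := ψ.hom.toAlgebra
      haveI : Module.Flat R Γ(X, (W.1 : X.Opens)) := hflat
      have hreg : IsSMulRegular Γ(X, (W.1 : X.Opens)) r :=
        Module.IsTorsionFree.isSMulRegular (IsRegular.of_ne_zero hr)
      refine hreg ?_
      show r • res (f.app U b) = r • 0
      rw [smul_zero, Algebra.smul_def, show algebraMap R _ r = ψ r from rfl, hψ]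
      exact h1
  rw [IsZariskiLocalAtSource.iff_of_openCover (P := @Flat) f.ker.subschemeCover.openCover]
  intro U
  show Flat (f.ker.subschemeCover.f U ≫ f.imageι ≫ q)
  have h1 : f.ker.subschemeCover.f U ≫ f.imageι ≫ q =
      Spec.map (φ (U : Y.affineOpens).1 ≫ CommRingCat.ofHom (Ideal.Quotient.mk (f.ker.ideal U))) := by
    show f.ker.subschemeCover.f U ≫ f.ker.subschemeι ≫ q = _
    rw [← Category.assoc, Scheme.IdealSheafData.subschemeCover_map_subschemeι,
      Scheme.IdealSheafData.glueDataObjι, Category.assoc,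
      IsAffineOpen.isoSpec_inv_ι, Category.assoc, Spec.map_comp]
    have h2 := IsAffineOpen.SpecMap_appLE_fromSpec q (isAffineOpen_top (Spec (CommRingCat.of R))) U.2 le_top
    refine (Category.assoc _ _ _).trans ?_
    refine (congrArg (fun ψ => Spec.map (CommRingCat.ofHom (Ideal.Quotient.mk (f.ker.ideal U))) ≫ ψ) h2.symm).trans ?_
    rw [IsAffineOpen.fromSpec_top, Scheme.isoSpec_Spec_inv]
    simp [φ, Spec.map_comp]
  rw [h1]
  refine (HasRingHomProperty.Spec_iff (P := @Flat)).mpr ?_
  letI := (φ (U : Y.affineOpens).1 ≫ CommRingCat.ofHom (Ideal.Quotient.mk (f.ker.ideal U))).hom.toAlgebra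
  show Module.Flat R (Γ(Y, (U : Y.affineOpens).1) ⧸ f.ker.ideal U)
  rw [IsDedekindDomain.flat_iff_torsion_eq_bot, eq_bot_iff]
  rintro x ⟨⟨r, hr⟩, hrx : r • x = 0⟩
  obtain ⟨b, rfl⟩ := Ideal.Quotient.mk_surjective x
  rw [Algebra.smul_def] at hrx
  change Ideal.Quotient.mk _ (φ (U : Y.affineOpens).1 r) * Ideal.Quotient.mk _ b = 0 at hrx
  rw [← map_mul, Ideal.Quotient.eq_zero_iff_mem] at hrx
  rw [Submodule.mem_bot, Ideal.Quotient.eq_zero_iff_mem]
  exact hJker U ⟨r, nonZeroDivisors.ne_zero hr, hrx⟩

theorem injective_stalkMap_congr {A B : Scheme.{u}} {a b : A ⟶ B} (h : a = b) (x : A)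
    (ha : Function.Injective (a.stalkMap x).hom) : Function.Injective (b.stalkMap x).hom := by
  subst h; exact ha

/-- Flat over an integral scheme: being an isomorphism over the generic point suffices. -/
theorem isIso_lift_of_generic {S S' C C' : Scheme.{u}} [IsLocallyNoetherian S']
    (f : S' ⟶ S) [Flat f] (i : C ⟶ S) [IsClosedImmersion i] [IsIntegral C]
    (i' : C' ⟶ S') [IsClosedImmersion i']
    (g : C' ⟶ C) (hsq : g ≫ i = i' ≫ f)
    (hgen : IsIso (pullback.snd (pullback.lift g i' hsq)
      (pullback.fst (pullback.fst i f ≫ i) (S.fromSpecStalk (i.base (genericPoint C)))))) :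
    IsIso (pullback.lift g i' hsq) := by
  let φ := pullback.lift g i' hsq
  haveI : IsClosedImmersion (φ ≫ pullback.snd i f) := by
    rw [show φ ≫ pullback.snd i f = i' from pullback.lift_snd _ _ _]; infer_instance
  haveI : IsClosedImmersion φ := IsClosedImmersion.of_comp φ (pullback.snd i f)
  haveI : IsLocallyNoetherian (pullback i f) := LocallyOfFiniteType.isLocallyNoetherian (pullback.snd i f)
  let p := pullback.fst i f
  let t := pullback.fst (p ≫ i) (S.fromSpecStalk (i.base (genericPoint C)))
  haveI : Flat t := by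
    haveI := GrothLib.FFDesc.flat_fromSpecStalk' S (i.base (genericPoint C))
    exact MorphismProperty.pullback_fst _ _ inferInstance
  let σ := pullback.snd φ t
  haveI : IsIso σ := hgen
  -- over the generic point
  have key : ∀ ξ : ↥(pullback i f), p ξ = genericPoint C →
      ∃ z, φ z = ξ ∧ Function.Injective (φ.stalkMap z) := by
    intro ξ hξ
    obtain ⟨w, hw⟩ : ξ ∈ Set.range t := by
      rw [Scheme.Pullback.range_fst, Scheme.range_fromSpecStalk]
      show i (p ξ) ⤳ _
      rw [hξ]
    obtain ⟨w', rfl⟩ := σ.surjective w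
    let z := pullback.fst φ t w'
    refine ⟨z, ?_, ?_⟩
    · rw [← hw]
      exact congrArg (fun ψ => ψ.base w') (pullback.condition (f := φ) (g := t))
    · have h1 : Function.Injective ((σ ≫ t).stalkMap w').hom := by
        rw [Scheme.Hom.stalkMap_comp]
        show Function.Injective ((σ.stalkMap w').hom.comp (t.stalkMap (σ w')).hom)
        refine Function.Injective.comp (g := (σ.stalkMap w').hom) ((ConcreteCategory.bijective_of_isIso (σ.stalkMap w')).1 :) ?_
        letI := (t.stalkMap (σ w')).hom.toAlgebra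
        haveI : Module.Flat ((pullback i f).presheaf.stalk (t (σ w')))
            ((pullback (p ≫ i) (S.fromSpecStalk (i.base (genericPoint C)))).presheaf.stalk (σ w')) :=
          Flat.stalkMap t (σ w')
        haveI : IsLocalHom (algebraMap ((pullback i f).presheaf.stalk (t (σ w')))
            ((pullback (p ≫ i) (S.fromSpecStalk (i.base (genericPoint C)))).presheaf.stalk (σ w'))) :=
          inferInstanceAs (IsLocalHom (t.stalkMap (σ w')).hom)
        haveI := Module.FaithfullyFlat.of_flat_of_isLocalHom (A := (pullback i f).presheaf.stalk (t (σ w')))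
          (B := (pullback (p ≫ i) (S.fromSpecStalk (i.base (genericPoint C)))).presheaf.stalk (σ w'))
        exact FaithfulSMul.algebraMap_injective _ _
      have h2 : Function.Injective ((pullback.fst φ t ≫ φ).stalkMap w').hom :=
        injective_stalkMap_congr (pullback.condition (f := φ) (g := t)).symm w' h1
      rw [Scheme.Hom.stalkMap_comp] at h2
      replace h2 : Function.Injective (((pullback.fst φ t).stalkMap w').hom ∘ (φ.stalkMap z).hom) := h2
      exact h2.of_comp
  haveI : Flat p := MorphismProperty.pullback_fst _ _ inferInstance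
  have hsurj : Function.Surjective φ := by
    intro x
    obtain ⟨ξ, hξx, hξ⟩ := Flat.generalizingMap p (genericPoint_specializes (p x))
    obtain ⟨z, hz, -⟩ := key ξ hξ
    exact hξx.mem_closed φ.isClosedEmbedding.isClosed_range ⟨z, hz⟩
  have hinj : ∀ c, Function.Injective (φ.stalkMap c) := by
    intro c
    rw [injective_iff_map_eq_zero]
    intro a ha
    by_contra ha0
    obtain ⟨ξ, hξ, hass, -, hξa⟩ := exists_assPoint (φ c) a ha0
    have hη : p ξ = genericPoint C := by
      letI := (p.stalkMap ξ).hom.toAlgebra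
      haveI : IsLocalHom (algebraMap (C.presheaf.stalk (p ξ)) ((pullback i f).presheaf.stalk ξ)) :=
        inferInstanceAs (IsLocalHom (p.stalkMap ξ).hom)
      haveI : Module.Flat (C.presheaf.stalk (p ξ)) ((pullback i f).presheaf.stalk ξ) := Flat.stalkMap p ξ
      by_contra hne
      have hnf : ¬ IsField (C.presheaf.stalk (p ξ)) := fun hF => hne (by
        obtain ⟨q, hq⟩ : genericPoint C ∈ Set.range (C.fromSpecStalk (p ξ)) := by
          rw [Scheme.range_fromSpecStalk]; exact genericPoint_specializes _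
        letI := hF.toField
        rw [← hq, show q = IsLocalRing.closedPoint _ from Subsingleton.elim (α := PrimeSpectrum _) _ _,
          Scheme.fromSpecStalk_closedPoint])
      obtain ⟨r, hr, hr0⟩ := Submodule.exists_mem_ne_zero_of_ne_bot
        (fun e => hnf (IsLocalRing.isField_iff_maximalIdeal_eq.mpr e))
      obtain ⟨-, b, hb⟩ := (isAssociatedPrime_iff (R := (pullback i f).presheaf.stalk ξ)).mp hass
      have h1 : algebraMap (C.presheaf.stalk (p ξ)) _ r * b = 0 := by
        have h2 : algebraMap (C.presheaf.stalk (p ξ)) ((pullback i f).presheaf.stalk ξ) r ∈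
            IsLocalRing.maximalIdeal ((pullback i f).presheaf.stalk ξ) :=
          map_nonunit (algebraMap (C.presheaf.stalk (p ξ)) ((pullback i f).presheaf.stalk ξ)) r hr
        rw [hb, Submodule.mem_colon_singleton] at h2
        exact h2
      have hb0 : b = 0 := Module.IsTorsionFree.isSMulRegular (M := (pullback i f).presheaf.stalk ξ)
        (IsRegular.of_ne_zero hr0) (show r • b = r • 0 by rw [Algebra.smul_def, h1, smul_zero])
      exact (IsLocalRing.maximalIdeal.isMaximal ((pullback i f).presheaf.stalk ξ)).ne_top (by rw [hb, hb0]; simp)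
    obtain ⟨z, rfl, hzinj⟩ := key ξ hη
    have hzc : z ⤳ c := φ.isClosedEmbedding.isInducing.specializes_iff.mp hξ
    have e := congrArg (fun ψ => ψ.hom a) (Scheme.Hom.stalkSpecializes_stalkMap φ z c hzc)
    simp only [CommRingCat.hom_comp, RingHom.comp_apply] at e
    refine hξa (hzinj (e.trans ?_))
    rw [ha, map_zero, map_zero]
  haveI : ∀ c, IsIso (φ.stalkMap c) := fun c => by
    rw [ConcreteCategory.isIso_iff_bijective]
    exact ⟨hinj c, φ.stalkMap_surjective c⟩
  haveI : Surjective φ := ⟨hsurj⟩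
  have hopen : Topology.IsOpenEmbedding φ :=
    ⟨φ.isClosedEmbedding.isEmbedding, by rw [hsurj.range_eq]; exact isOpen_univ⟩
  haveI : IsOpenImmersion φ := IsOpenImmersion.of_isIso_stalkMap φ hopen
  exact (isIso_iff_isOpenImmersion_and_epi_base φ).mpr ⟨inferInstance, (TopCat.epi_iff_surjective _).mpr hsurj⟩

end GrothLib.Chev28
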