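import Groth.Agent.Lib.Chev28.UnivRed
import Groth.Agent.Lib.Chev28.DimFormula
import Groth.Agent.Lib.AlgSp.FibreDimBC
import Groth.Agent.Lib.AlgSp.RelDimSpace
import Groth.Agent.Lib.CMMor6.Chart
import Mathlib.RingTheory.Ideal.AssociatedPrime.Localization
import Mathlib.RingTheory.Filtration

/-!
EGA IV 15.2.3 (iii): equidimensionality at points with geometrically reduced equidimensional fibre.
-/

universe u

open CategoryTheory CategoryTheory.Limits AlgebraicGeometry TopologicalSpace Topology IsLocalRing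
open TensorProduct

noncomputable section

namespace GrothLib.Chev28

section Algebra

variable {R T : Type u} [CommRing R] [CommRing T] [IsLocalRing R] [IsLocalRing T] [Algebra R T]
  [IsLocalHom (algebraMap R T)]

/-- With a reduced closed fibre every minimal prime of a flat local algebra is contained in a minimal prime of
the closed fibre. -/
theorem exists_minimalPrime_fibre_ge [IsNoetherianRing R] [IsNoetherianRing T] [Module.Flat R T]
    (hred : ((maximalIdeal R).map (algebraMap R T)).IsRadical) {P : Ideal T} (hP : P ∈ minimalPrimes T) :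
    ∃ Q ∈ ((maximalIdeal R).map (algebraMap R T)).minimalPrimes, P ≤ Q := by
  by_contra hne
  push Not at hne
  let I := (maximalIdeal R).map (algebraMap R T)
  have hass : IsAssociatedPrime P T := Module.associatedPrimes.minimalPrimes_annihilator_subset_associatedPrimes T T (by
    rwa [Module.annihilator_eq_bot.mpr inferInstance])
  obtain ⟨hPp, t, ht⟩ := (Submodule.isAssociatedPrime_iff).mp hass
  haveI : ∀ Q : I.minimalPrimes, Q.1.IsPrime := fun Q => Q.2.1.1
  let N : I.minimalPrimes → Type u := fun Q => Localization.AtPrime Q.1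
  haveI : ∀ Q, Module.Flat R (N Q) := fun Q =>
    haveI : Module.Flat T (N Q) := IsLocalization.flat (N Q) Q.1.primeCompl
    Module.Flat.trans R T (N Q)
  let v : ∀ Q : I.minimalPrimes, T →ₗ[R] N Q := fun Q => (IsScalarTower.toAlgHom R T (N Q)).toLinearMap
  have hv : ∀ a : T, (∀ Q, v Q a ∈ maximalIdeal R • (⊤ : Submodule R (N Q))) →
      a ∈ maximalIdeal R • (⊤ : Submodule R T) := by
    intro a ha
    rw [Ideal.smul_top_eq_map, Submodule.restrictScalars_mem]
    have hmem : ∀ Q : I.minimalPrimes, a ∈ Q.1 := fun Q => by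
      have h := ha Q
      rw [Ideal.smul_top_eq_map, Submodule.restrictScalars_mem, IsScalarTower.algebraMap_eq R T (N Q),
        ← Ideal.map_map] at h
      have h2 : algebraMap T (N Q) a ∈ Q.1.map (algebraMap T (N Q)) := Ideal.map_mono Q.2.1.2 h
      rw [Localization.AtPrime.map_eq_maximalIdeal] at h2
      exact (IsLocalization.AtPrime.to_map_mem_maximal_iff (N Q) Q.1 a).mp h2
    refine hred ?_
    rw [← Ideal.sInf_minimalPrimes]
    exact Submodule.mem_sInf.mpr fun Q hQ => hmem ⟨Q, hQ⟩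
  have hv0 : ∀ Q, v Q t = 0 := fun Q => by
    obtain ⟨p, hpP, hpQ⟩ := SetLike.not_le_iff_exists.mp (hne Q.1 Q.2)
    rw [ht, Submodule.mem_colon_singleton, Submodule.mem_bot, smul_eq_mul] at hpP
    exact (IsLocalization.map_eq_zero_iff Q.1.primeCompl (N Q) t).mpr ⟨⟨p, hpQ⟩, hpP⟩
  have ht0 : t = 0 := by
    have hmem : t ∈ ⨅ n : ℕ, maximalIdeal T ^ n := by
      refine Ideal.mem_iInf.mpr fun n => ?_
      have h := eq_zero_of_forall_of_pow N v hv n (A := R ⧸ maximalIdeal R ^ n)
        (fun q r => by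
          obtain ⟨a, rfl⟩ := Ideal.Quotient.mk_surjective q
          exact Ideal.Quotient.eq_zero_iff_mem.mpr (Ideal.mul_mem_right a _ r.2))
        (t ⊗ₜ[R] Ideal.Quotient.mk _ 1) fun Q => by rw [LinearMap.rTensor_tmul, hv0, zero_tmul]
      have h2 := congrArg (tensorQuotEquivQuotSMul T (maximalIdeal R ^ n)) h
      rw [tensorQuotEquivQuotSMul_tmul_mk, map_zero, one_smul, Submodule.Quotient.mk_eq_zero,
        Ideal.smul_top_eq_map, Submodule.restrictScalars_mem, Ideal.map_pow] at h2
      refine Ideal.pow_right_mono ?_ n h2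
      exact ((local_hom_TFAE (algebraMap R T)).out 0 2 rfl rfl).1 inferInstance
    rwa [Ideal.iInf_pow_eq_bot_of_isLocalRing _ (maximalIdeal.isMaximal T).ne_top, Ideal.mem_bot] at hmem
  refine hPp.ne_top ((Ideal.eq_top_iff_one P).mpr ?_)
  rw [ht, Submodule.mem_colon_singleton, ht0]
  simp

end Algebra

variable {X Y : Scheme.{u}}

/-- A minimal prime of the closed fibre is the generic point of a fibre component. -/
theorem isFibreGenericPt_of_minimalPrime (f : X ⟶ Y) {x z : X} (hzx : z ⤳ x)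
    (hP : GrothLib.CycDiv.primeOf hzx ∈ ((maximalIdeal (Y.presheaf.stalk (f x))).map (f.stalkMap x).hom).minimalPrimes) :
    IsFibreGenericPt f x z := by
  let S := Y.presheaf.stalk (f x)
  have hfib : ∀ (w : X) (hw : w ⤳ x), (GrothLib.CycDiv.primeOf hw).comap (f.stalkMap x).hom = maximalIdeal S ↔
      f w = f x := by
    intro w hw
    rw [GrothLib.CycDiv.comap_primeOf f hw]
    constructor
    · intro hv
      have h1 := GrothLib.CycDiv.fromSpecStalk_primeOf (hw.map f.continuous)
      rw [show (⟨GrothLib.CycDiv.primeOf (hw.map f.continuous), inferInstance⟩ : PrimeSpectrum S) =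
        IsLocalRing.closedPoint S from PrimeSpectrum.ext hv] at h1
      exact h1.symm.trans Scheme.fromSpecStalk_closedPoint
    · intro e
      exact (GrothLib.CycDiv.primeOf_congr (hw.map f.continuous)
        (specializes_of_eq Scheme.fromSpecStalk_closedPoint) (e.trans Scheme.fromSpecStalk_closedPoint.symm)).trans
        (GrothLib.CycDiv.primeOf_fromSpecStalk (IsLocalRing.closedPoint S) _)
  refine ⟨hzx, (hfib z hzx).mp ((maximalIdeal.isMaximal S).eq_of_le (Ideal.comap_isPrime _ _).ne_top'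
    (Ideal.map_le_iff_le_comap.mp hP.1.2)).symm, fun z' hz' hfz' => ?_⟩
  have hle : GrothLib.CycDiv.primeOf (hz'.trans hzx) ≤ GrothLib.CycDiv.primeOf hzx :=
    (GrothLib.CycDiv.primeOf_le_iff _ _).mpr hz'
  have hge := hP.2 ⟨inferInstance, Ideal.map_le_iff_le_comap.mpr ((hfib z' (hz'.trans hzx)).mpr hfz').ge⟩ hle
  exact (hz'.antisymm ((GrothLib.CycDiv.primeOf_le_iff _ _).mp hge)).eq

/-- A generic point of a geometrically reduced fibre at which the morphism is flat is a point of smoothness. -/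
theorem mem_smoothLocus_of_flat_of_maximal (f : X ⟶ Y) [LocallyOfFinitePresentation f] (z : X)
    (hflat : (f.stalkMap z).hom.Flat)
    (hred : FBase.IsGeomReducedAt (f.fiberToSpecResidueField (f z)) (f.asFiber z))
    (hmax : ∀ w, w ⤳ z → f w = f z → w = z) : z ∈ f.smoothLocus := by
  have hζmax : ∀ w, w ⤳ f.asFiber z → w = f.asFiber z := fun w hw => by
    apply (f.fiberι (f z)).isEmbedding.injective
    rw [f.fiberι_asFiber]
    exact hmax _ ((hw.map (f.fiberι (f z)).continuous).trans (specializes_of_eq (f.fiberι_asFiber z)))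
      ((f.range_fiberι (f z)).le ⟨w, rfl⟩)
  haveI : LocallyOfFinitePresentation (f.fiberToSpecResidueField (f z)) :=
    MorphismProperty.pullback_snd f _ inferInstance
  have hsm : f.asFiber z ∈ (f.fiberToSpecResidueField (f z)).smoothLocus :=
    ((@GrothLib.FibPd.isGeomReducedAt_iff (IsLocalRing.ResidueField (Y.presheaf.stalk (f z))) _ _
      (f.fiberToSpecResidueField (f z)) (MorphismProperty.pullback_snd f _ inferInstance) (f.asFiber z)).mp
        hred).1 _ specializes_rfl (ringKrullDim_stalk_le_zero_of_maximal _ hζmax)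
  exact (GrothLib.LocProp.smooth_nhd_iff f z).mp (GrothLib.EtLocal.smooth_nhd_of_flat_of_fibre_nhd f z
    hflat (f.asFiber z) (f.fiberι_asFiber z) ((GrothLib.LocProp.smooth_nhd_iff _ _).mpr hsm))

/-- At a point of flatness with reduced fibre, every component of the source contains a generic point of the
fibre. -/
theorem exists_fibreGenericPt_of_maximal [IsLocallyNoetherian Y] (f : X ⟶ Y) [LocallyOfFiniteType f] (x : X)
    (hred : _root_.IsReduced ((f.fiber (f x)).presheaf.stalk (f.asFiber x))) (hflat : (f.stalkMap x).hom.Flat)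
    {ξ : X} (hξ : ξ ⤳ x) (hmax : ∀ z, z ⤳ ξ → z = ξ) :
    ∃ z, IsFibreGenericPt f x z ∧ ξ ⤳ z := by
  haveI := LocallyOfFiniteType.isLocallyNoetherian f
  let S := Y.presheaf.stalk (f x)
  let T := X.presheaf.stalk x
  letI : Algebra S T := (f.stalkMap x).hom.toAlgebra
  haveI : IsLocalHom (algebraMap S T) := inferInstanceAs (IsLocalHom (f.stalkMap x).hom)
  haveI : Module.Flat S T := hflat
  let I := (maximalIdeal S).map (algebraMap S T)
  haveI := hred
  have hI : I.IsRadical := by
    obtain ⟨e⟩ := GrothLib.CMMor6.nonempty_fibQuot_equiv f x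
    haveI : _root_.IsReduced (T ⧸ I) := isReduced_of_injective e e.injective
    exact (Ideal.isRadical_iff_quotient_reduced I).mpr inferInstance
  have hmin : GrothLib.CycDiv.primeOf hξ ∈ minimalPrimes T := by
    refine ⟨⟨inferInstance, bot_le⟩, fun Q hQ hle => ?_⟩
    haveI := hQ.1
    have hw : X.fromSpecStalk x ⟨Q, inferInstance⟩ ⤳ x :=
      (Scheme.range_fromSpecStalk (x := x)).le ⟨_, rfl⟩
    have hle' : GrothLib.CycDiv.primeOf hw ≤ GrothLib.CycDiv.primeOf hξ := by
      rwa [GrothLib.CycDiv.primeOf_fromSpecStalk ⟨Q, inferInstance⟩ hw]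
    have heq := hmax _ ((GrothLib.CycDiv.primeOf_le_iff _ _).mp hle')
    rw [← GrothLib.CycDiv.primeOf_congr hw hξ heq, GrothLib.CycDiv.primeOf_fromSpecStalk ⟨Q, inferInstance⟩ hw]
  obtain ⟨P, hP, hle⟩ := exists_minimalPrime_fibre_ge (R := S) hI hmin
  haveI := hP.1.1
  obtain ⟨z, hzdef⟩ : ∃ z, z = X.fromSpecStalk x ⟨P, inferInstance⟩ := ⟨_, rfl⟩
  have hzx : z ⤳ x := hzdef ▸ (Scheme.range_fromSpecStalk (x := x)).le ⟨_, rfl⟩
  have hPz : GrothLib.CycDiv.primeOf hzx = P := by
    subst hzdef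
    exact GrothLib.CycDiv.primeOf_fromSpecStalk ⟨P, inferInstance⟩ hzx
  refine ⟨z, isFibreGenericPt_of_minimalPrime f hzx (hPz.symm ▸ hP), ?_⟩
  exact (GrothLib.CycDiv.primeOf_le_iff _ _).mp (hPz.symm ▸ hle)

/-- EGA IV 15.2.3 (iii). -/
theorem isEquidimAt_of_geomReduced [IsLocallyNoetherian Y] (f : X ⟶ Y) [LocallyOfFiniteType f] (x : X)
    (hred : FBase.IsGeomReducedAt (f.fiberToSpecResidueField (f x)) (f.asFiber x))
    (hopen : ∀ z, IsFibreGenericPt f x z → EGA43.IsUnivOpenAt f z)
    (e : ℕ) (heq : ∀ z, IsFibreGenericPt f x z → FlatMor.fibreDimAt f z = (e : WithBot ℕ∞)) :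
    EGA43.IsEquidimAt f x := by
  let I := Scheme.IdealSheafData.vanishingIdeal (X := Y) ⊤
  let r := I.subschemeι
  haveI : IsReduced I.subscheme := GrothLib.RedSub.isReduced_subscheme_vanishingIdeal ⊤
  haveI : Surjective r := ⟨Set.range_eq_univ.mp (by
    rw [GrothLib.RedSub.range_subschemeι_vanishingIdeal]
    rfl)⟩
  haveI : IsLocallyNoetherian I.subscheme := LocallyOfFiniteType.isLocallyNoetherian r
  haveI : LocallyOfFinitePresentation f := inferInstance
  let f' := pullback.snd f r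
  let p := pullback.fst f r
  haveI : IsClosedImmersion p := MorphismProperty.pullback_fst f r inferInstance
  haveI : Surjective p := MorphismProperty.pullback_fst f r inferInstance
  haveI : LocallyOfFiniteType f' := MorphismProperty.pullback_snd f r inferInstance
  haveI : LocallyOfFinitePresentation f' := MorphismProperty.pullback_snd f r inferInstance
  have hcond : ∀ a, r (f' a) = f (p a) := fun a =>
    (congrArg (fun n : pullback f r ⟶ Y => n a) pullback.condition).symm
  obtain ⟨x', rfl⟩ := p.surjective x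
  have hgen' : ∀ z, IsFibreGenericPt f' x' z → IsFibreGenericPt f (p x') (p z) := by
    rintro z ⟨hzx, hfz, hzmax⟩
    refine ⟨hzx.map p.continuous, by rw [← hcond, ← hcond, hfz], fun w hw hfw => ?_⟩
    obtain ⟨w', rfl⟩ := p.surjective w
    rw [hzmax w' (p.isClosedEmbedding.isInducing.specializes_iff.mp hw)
      (r.isClosedEmbedding.injective (by rw [hcond, hfw, ← hcond]))]
  have hred' := isGeomReducedAt_baseChange f r x' hred
  have hflat' : (f'.stalkMap x').hom.Flat :=
    flat_stalkMap_of_isUnivOpenAt_of_geomReducedAt f' x' inferInstance hred' fun z hz =>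
      GrothLib.OpenAt.univOpenAt_baseChange (hopen (p z) (hgen' z hz)) (IsPullback.of_hasPullback f r) z rfl
  let O : (pullback f r).Opens := ⟨_, GrothLib.FibPd.isOpen_flat_geomReduced f'⟩
  have hxO : x' ∈ O := ⟨hflat', hred'⟩
  haveI : Flat (O.ι ≫ f') :=
    (Flat.iff_flat_stalkMap _).mpr fun b => (flat_stalkMap_comp_iff_left O.ι f' b).mpr b.2.1
  obtain ⟨x₀, hfx₀, hx₀x, hx₀max, hdim⟩ := GrothLib.Equidim6.exists_fibre_maximal f (p x')
  refine isEquidimAt_of_components f (p x') e (hdim.trans (heq x₀ ⟨hx₀x, hfx₀, fun w hw hfw => hx₀max w hfw hw⟩)).le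
    fun ξ hξ hmax => ?_
  obtain ⟨ξ', rfl⟩ := p.surjective ξ
  have hξ' : ξ' ⤳ x' := p.isClosedEmbedding.isInducing.specializes_iff.mp hξ
  have hmax' : ∀ z, z ⤳ ξ' → z = ξ' := fun z hz =>
    p.isClosedEmbedding.injective (hmax _ (hz.map p.continuous))
  refine ⟨fun y' hy' => ?_, ?_⟩
  · obtain ⟨y'', rfl⟩ := r.surjective y'
    have hy'' : y'' ⤳ (O.ι ≫ f') ⟨ξ', hξ'.mem_open O.2 hxO⟩ :=
      r.isClosedEmbedding.isInducing.specializes_iff.mp ((hcond ξ').symm ▸ hy' : r y'' ⤳ r (f' ξ'))
    obtain ⟨v, hv, hv'⟩ := Flat.generalizingMap (O.ι ≫ f') hy''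
    rw [← hcond, ← hv']
    exact congrArg (fun a => r (f' a)) (hmax' v.1 (hv.map O.ι.continuous))
  · obtain ⟨m, hm, hm'⟩ := GrothLib.Equidim6.resTrdeg_eq_fibreDimAt_of_maximal f (p ξ') hmax
    obtain ⟨z', hz', hξz⟩ := exists_fibreGenericPt_of_maximal f' x'
      (isReduced_fibre_stalk_of_geomReducedAt f' x' hred') hflat' hξ' hmax'
    have hzO : z' ∈ O := hz'.1.mem_open O.2 hxO
    have hsm : z' ∈ f'.smoothLocus := mem_smoothLocus_of_flat_of_maximal f' z' hzO.1 hzO.2
      fun w hw hfw => hz'.2.2 w hw (hfw.trans hz'.2.1)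
    let W := f'.smoothLocus
    haveI : Smooth (W.ι ≫ f') := by
      rw [← Scheme.Hom.smoothLocus_eq_top_iff, ← Scheme.Hom.preimage_smoothLocus_eq]
      exact f'.smoothLocus.ι_preimage_self
    obtain ⟨n, W', hzW, hW'⟩ := GrothLib.AlgSp.exists_open_fibreDimAt_eq_of_smooth (W.ι ≫ f') ⟨z', hsm⟩
    have hξW : ξ' ∈ W := hξz.mem_open W.2 hsm
    have hξW' : (⟨ξ', hξW⟩ : W) ∈ W' :=
      (W.ι.isOpenEmbedding.isInducing.specializes_iff.mp (show W.ι ⟨ξ', hξW⟩ ⤳ W.ι ⟨z', hsm⟩ from hξz)).mem_open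
        W'.2 hzW
    have hW : ∀ v : W, v ∈ W' → FlatMor.fibreDimAt f (p v.1) = (n : WithBot ℕ∞) := fun v hv => by
      rw [← GrothLib.AlgSp.fibreDimAt_of_isPullback (IsPullback.of_hasPullback f r) v.1, ← hW' v hv]
      exact (GrothLib.CMMor6.fibreDimAt_comp_flat_lqf W.ι f' v).symm
    have hn : FlatMor.fibreDimAt f (p ξ') = (e : WithBot ℕ∞) := by
      rw [hW ⟨ξ', hξW⟩ hξW', ← hW ⟨z', hsm⟩ hzW, heq _ (hgen' z' hz')]
    rw [hm, show m = e by exact_mod_cast hm'.symm.trans hn]

end GrothLib.Chev28
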