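import Groth.Agent.Lib.Chev28.FlatSep
import Groth.Agent.Lib.CycDiv.Stalk
import Groth.Agent.Lib.CycDiv.Flat
import Groth.Agent.Lib.CMMor6.Mor
import Groth.Agent.Lib.Chev28.FlatDVR
import Mathlib.RingTheory.Flat.Stability

/-!
Flatness at a point with reduced fibre from flatness at the generic points of that fibre.
-/

universe u

open CategoryTheory CategoryTheory.Limits AlgebraicGeometry TopologicalSpace Topology IsLocalRing

noncomputable section

namespace GrothLib.Chev28

variable {X Y : Scheme.{u}}

/-- `z` is a generic point of a component through `x` of the fibre of `f` containing `x`. -/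
def IsFibreGenericPt (f : X ⟶ Y) (x z : X) : Prop :=
  z ⤳ x ∧ f z = f x ∧ ∀ z', z' ⤳ z → f z' = f x → z' = z

/-- Over a locally Noetherian base, a point with reduced fibre is a point of flatness if the generic points of
the fibre components through it are. -/
theorem flat_stalkMap_of_generic_noetherian (f : X ⟶ Y) [IsLocallyNoetherian Y] [LocallyOfFiniteType f] (x : X)
    (hred : _root_.IsReduced ((f.fiber (f x)).presheaf.stalk (f.asFiber x)))
    (hgen : ∀ z, IsFibreGenericPt f x z → (f.stalkMap z).hom.Flat) :
    (f.stalkMap x).hom.Flat := by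
  haveI := LocallyOfFiniteType.isLocallyNoetherian f
  let S := Y.presheaf.stalk (f x)
  let T := X.presheaf.stalk x
  letI : Algebra S T := (f.stalkMap x).hom.toAlgebra
  haveI : IsLocalHom (algebraMap S T) := inferInstanceAs (IsLocalHom (f.stalkMap x).hom)
  let I := (maximalIdeal S).map (algebraMap S T)
  haveI := hred
  have hI : I.IsRadical := by
    obtain ⟨e⟩ := GrothLib.CMMor6.nonempty_fibQuot_equiv f x
    haveI : _root_.IsReduced (T ⧸ I) := isReduced_of_injective e e.injective
    exact (Ideal.isRadical_iff_quotient_reduced I).mpr inferInstance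
  refine flat_of_flat_at_minimalPrimes (R := S) (T := T) hI fun P hP _ => ?_
  obtain ⟨z, hzdef⟩ : ∃ z, z = X.fromSpecStalk x ⟨P, inferInstance⟩ := ⟨_, rfl⟩
  have hzx : z ⤳ x := by
    rw [hzdef]
    exact (Scheme.range_fromSpecStalk (x := x)).le ⟨_, rfl⟩
  have hPz : GrothLib.CycDiv.primeOf hzx = P := by
    subst hzdef
    exact GrothLib.CycDiv.primeOf_fromSpecStalk ⟨P, inferInstance⟩ hzx
  have hcomap : P.comap (f.stalkMap x).hom = maximalIdeal S :=
    ((maximalIdeal.isMaximal S).eq_of_le (Ideal.comap_isPrime _ _).ne_top'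
      (Ideal.map_le_iff_le_comap.mp hP.1.2)).symm
  have hfib : ∀ (w : X) (hw : w ⤳ x), (GrothLib.CycDiv.primeOf hw).comap (f.stalkMap x).hom = maximalIdeal S ↔
      f w = f x := by
    intro w hw
    rw [GrothLib.CycDiv.comap_primeOf f hw]
    constructor
    · intro hv
      have h1 := GrothLib.CycDiv.fromSpecStalk_primeOf (hw.map f.continuous)
      rw [show (⟨GrothLib.CycDiv.primeOf (hw.map f.continuous), inferInstance⟩ : PrimeSpectrum S) =
        IsLocalRing.closedPoint S from PrimeSpectrum.ext hv] at h1
      exact h1.symm.trans Scheme.fromSpecStalk_closedPoint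
    · intro e
      exact (GrothLib.CycDiv.primeOf_congr (hw.map f.continuous)
        (specializes_of_eq Scheme.fromSpecStalk_closedPoint) (e.trans Scheme.fromSpecStalk_closedPoint.symm)).trans
        (GrothLib.CycDiv.primeOf_fromSpecStalk (IsLocalRing.closedPoint S) _)
  have hz : IsFibreGenericPt f x z := by
    refine ⟨hzx, (hfib z hzx).mp (by rw [hPz]; exact hcomap), fun z' hz' hfz' => ?_⟩
    have hle : GrothLib.CycDiv.primeOf (hz'.trans hzx) ≤ GrothLib.CycDiv.primeOf hzx :=
      (GrothLib.CycDiv.primeOf_le_iff _ _).mpr hz'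
    have hge : GrothLib.CycDiv.primeOf hzx ≤ GrothLib.CycDiv.primeOf (hz'.trans hzx) := by
      refine hPz.le.trans (hP.2 ⟨inferInstance, ?_⟩ (hle.trans hPz.le))
      exact Ideal.map_le_iff_le_comap.mpr ((hfib z' (hz'.trans hzx)).mpr hfz').ge
    exact (hz'.antisymm ((GrothLib.CycDiv.primeOf_le_iff _ _).mp hge)).eq
  letI : Algebra T (X.presheaf.stalk z) := (X.presheaf.stalkSpecializes hzx).hom.toAlgebra
  haveI hloc : IsLocalization.AtPrime (X.presheaf.stalk z) P := by
    have h := GrothLib.CycDiv.isLocalization_stalkSpecializes hzx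
    subst hPz
    exact h
  letI : Algebra S (X.presheaf.stalk z) :=
    ((X.presheaf.stalkSpecializes hzx).hom.comp (f.stalkMap x).hom).toAlgebra
  haveI : IsScalarTower S T (X.presheaf.stalk z) := IsScalarTower.of_algebraMap_eq' rfl
  have hflat : ((X.presheaf.stalkSpecializes hzx).hom.comp (f.stalkMap x).hom).Flat := by
    rw [← CommRingCat.hom_comp, ← Scheme.Hom.stalkSpecializes_stalkMap f z x hzx, CommRingCat.hom_comp]
    letI := (Y.presheaf.stalkSpecializes (hzx.map f.continuous)).hom.toAlgebra
    haveI := GrothLib.CycDiv.isLocalization_stalkSpecializes (hzx.map f.continuous)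
    refine RingHom.Flat.comp ?_ (hgen z hz)
    exact IsLocalization.flat (Y.presheaf.stalk (f z)) (GrothLib.CycDiv.primeOf (hzx.map f.continuous)).primeCompl
  haveI : Module.Flat S (X.presheaf.stalk z) := hflat
  exact Module.Flat.of_linearEquiv
    ((IsLocalization.algEquiv P.primeCompl (Localization.AtPrime P) (X.presheaf.stalk z)).toLinearEquiv.restrictScalars S)

end GrothLib.Chev28
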