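import Groth.Agent.Lib.Chev28.FlatDVR
import Groth.Agent.Lib.NagataFP.PD
import Mathlib.AlgebraicGeometry.Morphisms.FiniteType
import Mathlib.RingTheory.RingHom.Flat

/-!
Flatness and integrality at a point over a valuation ring (EGA IV 15.2).
-/

universe u

open CategoryTheory CategoryTheory.Limits AlgebraicGeometry TopologicalSpace Topology IsLocalRing

noncomputable section

namespace GrothLib.Chev28

/-- A local algebra essentially of finite type over a valuation ring is flat and integral as soon as the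
extension of the maximal ideal is prime and contains a prime lying over zero. -/
theorem isDomain_and_flat_of_prime {V T : Type u} [CommRing V] [IsDomain V] [ValuationRing V] [CommRing T]
    [IsLocalRing T] [Algebra V T] [Algebra.EssFiniteType V T]
    (hq : ((maximalIdeal V).map (algebraMap V T)).IsPrime) (P : Ideal T) [P.IsPrime]
    (hP : P ≤ (maximalIdeal V).map (algebraMap V T)) (hP0 : P.comap (algebraMap V T) = ⊥) :
    IsDomain T ∧ Module.Flat V T := by
  have hmem : ∀ {a : V}, algebraMap V T a ∈ P → a = 0 := fun {a} ha => by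
    have : a ∈ P.comap (algebraMap V T) := ha
    rwa [hP0, Ideal.mem_bot] at this
  have hfg : P.FG := by
    haveI : Module.IsTorsionFree V (T ⧸ P) := Module.IsTorsionFree.of_smul_eq_zero fun a m h => by
      obtain ⟨t, rfl⟩ := Ideal.Quotient.mk_surjective m
      rw [Algebra.smul_def, IsScalarTower.algebraMap_apply V T (T ⧸ P), Ideal.Quotient.algebraMap_eq,
        ← map_mul, Ideal.Quotient.eq_zero_iff_mem] at h
      rcases (inferInstance : P.IsPrime).mem_or_mem h with h1 | h1
      · exact Or.inl (hmem h1)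
      · exact Or.inr (Ideal.Quotient.eq_zero_iff_mem.mpr h1)
    haveI : Module.FinitePresentation T (T ⧸ P) :=
      GrothLib.NagataFP.finitePresentation_essFiniteType (A := V)
    have h := Module.FinitePresentation.fg_ker (Submodule.mkQ P) (Submodule.mkQ_surjective P)
    rwa [Submodule.ker_mkQ] at h
  have hsplit : ∀ t ∈ (maximalIdeal V).map (algebraMap V T),
      ∃ π ∈ maximalIdeal V, ∃ s : T, t = algebraMap V T π * s := by
    intro t ht
    induction ht using Submodule.span_induction with
    | mem x hx => obtain ⟨π, hπ, rfl⟩ := hx; exact ⟨π, hπ, 1, (mul_one _).symm⟩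
    | zero => exact ⟨0, zero_mem _, 0, by simp⟩
    | add x y _ _ hx hy =>
      obtain ⟨a, ha, s, rfl⟩ := hx
      obtain ⟨b, hb, r, rfl⟩ := hy
      rcases ValuationRing.dvd_total a b with ⟨c, rfl⟩ | ⟨c, rfl⟩
      · exact ⟨a, ha, s + algebraMap V T c * r, by rw [map_mul]; ring⟩
      · exact ⟨b, hb, algebraMap V T c * s + r, by rw [map_mul]; ring⟩
    | smul c x _ hx =>
      obtain ⟨a, ha, s, rfl⟩ := hx
      exact ⟨a, ha, c * s, by rw [smul_eq_mul]; ring⟩
  have hbot : P = ⊥ := by
    refine Submodule.eq_bot_of_le_smul_of_le_jacobson_bot ((maximalIdeal V).map (algebraMap V T)) P hfg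
      (fun t ht => ?_) ((le_maximalIdeal hq.ne_top).trans (IsLocalRing.jacobson_eq_maximalIdeal ⊥ bot_ne_top).ge)
    obtain ⟨π, hπ, s, rfl⟩ := hsplit t (hP ht)
    rcases (inferInstance : P.IsPrime).mem_or_mem ht with h1 | h1
    · rw [hmem h1, map_zero, zero_mul]
      exact zero_mem _
    · exact Submodule.smul_mem_smul (Ideal.mem_map_of_mem _ hπ) h1
  subst hbot
  haveI : IsDomain T := MulEquiv.isDomain _ (RingEquiv.quotientBot T).symm.toMulEquiv
  refine ⟨inferInstance, ?_⟩
  rw [Module.Flat.flat_iff_torsion_eq_bot_of_isBezout, eq_bot_iff]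
  rintro a ⟨⟨r, hr⟩, hra⟩
  change r • a = 0 at hra
  rw [Algebra.smul_def, mul_eq_zero] at hra
  exact hra.resolve_left fun h => nonZeroDivisors.ne_zero hr (hmem (by rw [h]; exact zero_mem _))

variable {X : Scheme.{u}}

/-- Over a valuation ring, a morphism is flat at a point of the closed fibre with a reduced and irreducible
fibre germ at whose generic point it is open, and the local ring there is a domain. -/
theorem flat_and_isDomain_of_valuation {V : Type u} [CommRing V] [IsDomain V] [ValuationRing V]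
    (f : X ⟶ Spec (CommRingCat.of V)) [LocallyOfFiniteType f] (a : X)
    (hc : f a = IsLocalRing.closedPoint V)
    (w₀ : ↥(f.fiber (f a))) (hw₀ : ∀ z, z ⤳ f.asFiber a → w₀ ⤳ z) (hw₀a : w₀ ⤳ f.asFiber a)
    (hopen : EGA43.IsOpenAt f.base (f.fiberι (f a) w₀))
    (hred : _root_.IsReduced ((f.fiber (f a)).presheaf.stalk (f.asFiber a))) :
    IsDomain (X.presheaf.stalk a) ∧ (f.stalkMap a).hom.Flat := by
  let T := X.presheaf.stalk a
  let F := f.fiber (f a)
  let w := f.asFiber a
  haveI := hred
  haveI hF : IsDomain (F.presheaf.stalk w) := by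
    obtain ⟨q, hq⟩ := (Scheme.range_fromSpecStalk (x := w)).ge hw₀a
    have hle : ∀ p : PrimeSpectrum (F.presheaf.stalk w), q.asIdeal ≤ p.asIdeal := by
      intro p
      have hp : F.fromSpecStalk w p ⤳ w := (Scheme.range_fromSpecStalk (x := w)).le ⟨p, rfl⟩
      have h1 := hw₀ _ hp
      rw [← hq, (F.fromSpecStalk w).isEmbedding.isInducing.specializes_iff] at h1
      exact (PrimeSpectrum.le_iff_specializes q p).mpr h1
    have hbot : q.asIdeal = ⊥ := by
      rw [eq_bot_iff]
      intro r hr
      have : r ∈ nilradical (F.presheaf.stalk w) := by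
        rw [nilradical_eq_sInf]
        exact Submodule.mem_sInf.mpr fun p hp => hle ⟨p, hp⟩ hr
      rwa [nilradical_eq_zero] at this
    haveI : (⊥ : Ideal (F.presheaf.stalk w)).IsPrime := hbot ▸ q.isPrime
    exact MulEquiv.isDomain _ (RingEquiv.quotientBot (F.presheaf.stalk w)).symm.toMulEquiv
  let p : PrimeSpectrum V := f a
  have hp : p.asIdeal = maximalIdeal V := congrArg PrimeSpectrum.asIdeal hc
  let S := (Spec (CommRingCat.of V)).presheaf.stalk (f a)
  haveI : IsLocalRing ((Spec.structureSheaf V).presheaf.stalk p) :=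
    IsLocalization.AtPrime.isLocalRing _ p.asIdeal
  let θ : V →+* S := algebraMap V ((Spec.structureSheaf V).presheaf.stalk p)
  have hmS : (maximalIdeal V).map θ = maximalIdeal S := by
    rw [← hp]
    exact IsLocalization.AtPrime.map_eq_maximalIdeal p.asIdeal ((Spec.structureSheaf V).presheaf.stalk p)
  have hθ : Function.Bijective θ := by
    have hunit : ∀ x ∈ p.asIdeal.primeCompl, IsUnit x := fun x hx => by
      by_contra hn
      exact hx (hp ▸ (IsLocalRing.mem_maximalIdeal x).mpr hn)
    exact (IsLocalization.atUnits V p.asIdeal.primeCompl hunit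
      (S := (Spec.structureSheaf V).presheaf.stalk p)).bijective
  letI : Algebra V T := ((f.stalkMap a).hom.comp θ).toAlgebra
  have hess : ((f.stalkMap a).hom.comp θ).EssFiniteType :=
    RingHom.EssFiniteType.stableUnderComposition _ _
      (RingHom.FiniteType.of_surjective _ hθ.2).essFiniteType (LocallyOfFiniteType.stalkMap f a)
  haveI : Algebra.EssFiniteType V T := hess
  have hmap : (maximalIdeal V).map (algebraMap V T) = (maximalIdeal S).map (f.stalkMap a).hom := by
    rw [← hmS, Ideal.map_map]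
    rfl
  obtain ⟨e⟩ := GrothLib.CMMor6.nonempty_fibQuot_equiv f a
  let I : Ideal T := (maximalIdeal S).map (f.stalkMap a).hom
  haveI hprime : I.IsPrime := by
    haveI : IsDomain (T ⧸ I) := MulEquiv.isDomain _ e.toMulEquiv
    exact (Ideal.Quotient.isDomain_iff_prime I).mp inferInstance
  haveI hb : (⊥ : Ideal S).IsPrime := by
    haveI : IsDomain ((Spec.structureSheaf V).presheaf.stalk p) :=
      IsLocalization.isDomain_of_le_nonZeroDivisors _ (Ideal.primeCompl_le_nonZeroDivisors p.asIdeal)
    exact Ideal.isPrime_bot (α := ((Spec.structureSheaf V).presheaf.stalk p))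
  obtain ⟨Q, hQ, hQ'⟩ := exists_le_comap_eq_of_isOpenAt f a (fun z hz hzmax => by
      obtain rfl : w₀ = z := hzmax w₀ (hw₀ z (specializes_iff_mem_closure.2 hz)).mem_closure
      exact hopen)
    ⟨I, hprime⟩ (show I ∈ I.minimalPrimes from ⟨⟨hprime, le_rfl⟩, fun _ h _ => h.2⟩) ⟨⊥, hb⟩
  have hQ0 : Q.asIdeal.comap (algebraMap V T) = ⊥ := by
    show Q.asIdeal.comap ((f.stalkMap a).hom.comp θ) = ⊥
    rw [← Ideal.comap_comap,
      show Q.asIdeal.comap (f.stalkMap a).hom = ⊥ from congrArg PrimeSpectrum.asIdeal hQ', ← RingHom.ker_eq_comap_bot,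
      (RingHom.injective_iff_ker_eq_bot θ).mp hθ.1]
  obtain ⟨hD, hflat⟩ := isDomain_and_flat_of_prime (V := V) (T := T) (hmap ▸ hprime) Q.asIdeal (hmap ▸ hQ) hQ0
  refine ⟨hD, ?_⟩
  have hfl : ((f.stalkMap a).hom.comp θ).Flat := hflat
  let θ' : S →+* V := (RingEquiv.ofBijective θ hθ).symm.toRingHom
  have heq : ((f.stalkMap a).hom.comp θ).comp θ' = (f.stalkMap a).hom := RingHom.ext fun s =>
    congrArg (f.stalkMap a).hom ((RingEquiv.ofBijective θ hθ).apply_symm_apply s)
  rw [← heq]
  exact RingHom.Flat.comp (RingHom.Flat.of_bijective (RingEquiv.ofBijective θ hθ).symm.bijective) hfl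

/-- In that situation the point has a single maximal generization. -/
theorem exists_unique_generization_of_valuation {V : Type u} [CommRing V] [IsDomain V] [ValuationRing V]
    (f : X ⟶ Spec (CommRingCat.of V)) [LocallyOfFiniteType f] (a : X)
    (hc : f a = IsLocalRing.closedPoint V)
    (w₀ : ↥(f.fiber (f a))) (hw₀ : ∀ z, z ⤳ f.asFiber a → w₀ ⤳ z) (hw₀a : w₀ ⤳ f.asFiber a)
    (hopen : EGA43.IsOpenAt f.base (f.fiberι (f a) w₀))
    (hred : _root_.IsReduced ((f.fiber (f a)).presheaf.stalk (f.asFiber a))) :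
    ∃ ξ : X, ξ ⤳ a ∧ ∀ z, z ⤳ a → ξ ⤳ z := by
  haveI := (flat_and_isDomain_of_valuation f a hc w₀ hw₀ hw₀a hopen hred).1
  refine ⟨X.fromSpecStalk a (⟨⊥, Ideal.isPrime_bot⟩ : PrimeSpectrum (X.presheaf.stalk a)),
    (Scheme.range_fromSpecStalk (x := a)).le ⟨_, rfl⟩, fun z hz => ?_⟩
  obtain ⟨q, rfl⟩ := (Scheme.range_fromSpecStalk (x := a)).ge hz
  exact ((PrimeSpectrum.le_iff_specializes (⟨⊥, Ideal.isPrime_bot⟩ : PrimeSpectrum (X.presheaf.stalk a)) q).mp
    (show (⊥ : Ideal (X.presheaf.stalk a)) ≤ q.asIdeal from bot_le)).map (X.fromSpecStalk a).continuous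

end GrothLib.Chev28
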