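import Groth.Agent.Lib.Chev28.SectCompGen
import Groth.Agent.Lib.Chev28.FlatVal
import Groth.Agent.Lib.FibPd.GeomOpen
import Groth.Agent.Lib.FibPd.GeomRkScheme
import Groth.Agent.Lib.FibPd.SkScheme
import Groth.Agent.Lib.FBase7.Points2
import Groth.Agent.Lib.SecComp6.Constr
import Groth.Agent.Lib.HTop.Val
import Groth.Agent.Lib.UnivOpenAt6.Local

/-!
Openness of the geometrically reduced part of the section components (EGA IV 15.6.5).
-/

universe u

open CategoryTheory CategoryTheory.Limits AlgebraicGeometry TopologicalSpace Topology Set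

noncomputable section

namespace GrothLib.Chev28

variable {X Y : Scheme.{u}}

/-- A locally constructible subset of a scheme stable under generization is open. -/
theorem isOpen_of_stableUnderGen {E : Set X} (hE : IsLocallyConstructible E)
    (hgen : ∀ x ∈ E, ∀ x', x' ⤳ x → x' ∈ E) : IsOpen E := by
  refine isOpen_iff_mem_nhds.2 fun x hx => ?_
  obtain ⟨_, ⟨(U : X.Opens), hU, rfl⟩, hxU, -⟩ :=
    X.isBasis_affineOpens.exists_subset_of_mem_open (Set.mem_univ x) isOpen_univ
  let j := hU.fromSpec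
  have hc : IsConstructible (j ⁻¹' E) :=
    (hE.preimage_of_isOpenEmbedding j.isOpenEmbedding).isConstructible
  obtain ⟨p, rfl⟩ := hU.range_fromSpec.ge hxU
  let E' : Set (PrimeSpectrum Γ(X, U)) := j ⁻¹' E
  let p' : PrimeSpectrum Γ(X, U) := p
  have hc' : IsConstructible E' := hc
  have hmem : E' ∈ 𝓝 p' := by
    by_contra hnot
    have hcl : p' ∈ closure E'ᶜ := by
      rw [closure_compl]
      exact fun hi => hnot (mem_interior_iff_mem_nhds.1 hi)
    obtain ⟨e, he, hsp⟩ := SpecSp.exists_specializes_of_mem_closure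
      (Constr.isClosed_constructibleTopology_of_isConstructible hc'.compl) hcl
    exact he (hgen _ hx _ (hsp.map j.continuous))
  exact Filter.mem_of_superset (j.isOpenEmbedding.isOpenMap.image_mem_nhds hmem)
    (Set.image_preimage_subset _ _)

/-- The locus where the fibre is geometrically reduced at the point is locally constructible. -/
theorem isLocallyConstructible_isGeomReducedAt (f : X ⟶ Y) [LocallyOfFinitePresentation f] :
    IsLocallyConstructible
      {x : X | FBase.IsGeomReducedAt (f.fiberToSpecResidueField (f x)) (f.asFiber x)} := by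
  have h := (GrothLib.FibPd.isLocallyConstructible_geom_hasRk f 0).inter
    (GrothLib.FibPd.isLocallyConstructible_hasSk f 1)
  convert h using 1
  ext x
  exact (@GrothLib.FibPd.isGeomReducedAt_iff (IsLocalRing.ResidueField (Y.presheaf.stalk (f x))) _ _
    (f.fiberToSpecResidueField (f x)) (MorphismProperty.pullback_snd f _ inferInstance) (f.asFiber x)).trans
    (and_congr_left fun _ =>
      (@GrothLib.FibPd.geom_hasRk_iff (IsLocalRing.ResidueField (Y.presheaf.stalk (f x))) _ _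
        (f.fiberToSpecResidueField (f x)) (MorphismProperty.pullback_snd f _ inferInstance) (f.asFiber x) 0).symm)

/-- Geometric reducedness at a point passes to the fibres of a base change. -/
theorem isGeomReducedAt_baseChange (f : X ⟶ Y) {Y' : Scheme.{u}} (h : Y' ⟶ Y) (z : ↥(pullback f h))
    (hz : FBase.IsGeomReducedAt (f.fiberToSpecResidueField (f (pullback.fst f h z))) (f.asFiber (pullback.fst f h z))) :
    FBase.IsGeomReducedAt ((pullback.snd f h).fiberToSpecResidueField (pullback.snd f h z))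
      ((pullback.snd f h).asFiber z) := by
  intro K _ _ x'' hx''
  let f' := pullback.snd f h
  let y' := f' z
  let ψ := Spec.map (CommRingCat.ofHom (algebraMap (IsLocalRing.ResidueField (Y'.presheaf.stalk y')) K))
  have sq : IsPullback (pullback.fst (f'.fiberToSpecResidueField y') ψ ≫ f'.fiberι y' ≫ pullback.fst f h)
      (pullback.snd (f'.fiberToSpecResidueField y') ψ) f (ψ ≫ Y'.fromSpecResidueField y' ≫ h) :=
    (IsPullback.of_hasPullback _ _).paste_horiz
      ((IsPullback.of_hasPullback _ _).paste_horiz (IsPullback.of_hasPullback f h))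
  let k := sq.isoPullback.hom
  have hk : pullback.fst f (ψ ≫ Y'.fromSpecResidueField y' ≫ h) (k x'') = pullback.fst f h z := by
    rw [← Scheme.Hom.comp_apply, sq.isoPullback_hom_fst]
    show pullback.fst f h (f'.fiberι y' (FBase.bcπ (f'.fiberToSpecResidueField y') K x'')) = _
    rw [show FBase.bcπ (f'.fiberToSpecResidueField y') K x'' = f'.asFiber z from hx'', f'.fiberι_asFiber]
  exact @GrothLib.SecComp6.isReduced_stalk_of_openImmersion _ _ k _ x''
    (GrothLib.SecComp6.isReduced_stalk_of_geomReducedAt f (ψ ≫ Y'.fromSpecResidueField y' ≫ h) (k x'') hk hz)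

/-- Geometric reducedness at a point of the fibres of a base change descends. -/
theorem isGeomReducedAt_of_baseChange (f : X ⟶ Y) {Y' : Scheme.{u}} (h : Y' ⟶ Y) (z : ↥(pullback f h))
    (hz : FBase.IsGeomReducedAt ((pullback.snd f h).fiberToSpecResidueField (pullback.snd f h z))
      ((pullback.snd f h).asFiber z)) :
    FBase.IsGeomReducedAt (f.fiberToSpecResidueField (f (pullback.fst f h z))) (f.asFiber (pullback.fst f h z)) := by
  let f' := pullback.snd f h
  let t' := f' z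
  let Ω := AlgebraicClosure (Y'.residueField t')
  let τ : Spec (CommRingCat.of Ω) ⟶ Y' :=
    Spec.map (CommRingCat.ofHom (algebraMap (Y'.residueField t') Ω)) ≫ Y'.fromSpecResidueField t'
  let pΩ : Spec (CommRingCat.of Ω) := IsLocalRing.closedPoint Ω
  have hτ : τ pΩ = t' := by
    show Y'.fromSpecResidueField t' _ = t'
    exact Scheme.fromSpecResidueField_apply t' _
  obtain ⟨z₂, hz₂, -⟩ := Scheme.Pullback.exists_preimage_pullback (f := f') (g := τ) z pΩ hτ.symm
  haveI hr2 : _root_.IsReduced ((pullback f' τ).presheaf.stalk z₂) :=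
    GrothLib.SecComp6.isReduced_stalk_of_geomReducedAt f' τ z₂ hz₂ hz
  have hpt : GeomRed6.pt (τ ≫ h) = f (pullback.fst f h z) := by
    show h (τ pΩ) = _
    rw [hτ]
    exact (congrArg (fun q : pullback f h ⟶ Y => q z) pullback.condition).symm
  obtain ⟨σ', hσ'⟩ : ∃ σ', σ' ≫ Y.fromSpecResidueField (f (pullback.fst f h z)) = τ ≫ h := by
    rw [← hpt]; exact GeomRed6.exists_factor (τ ≫ h)
  obtain ⟨φ, rfl⟩ := Spec.map_surjective σ'
  letI : Algebra (IsLocalRing.ResidueField (Y.presheaf.stalk (f (pullback.fst f h z)))) Ω := φ.hom.toAlgebra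
  let ff := f.fiberToSpecResidueField (f (pullback.fst f h z))
  let ψ := Spec.map (CommRingCat.ofHom
    (algebraMap (IsLocalRing.ResidueField (Y.presheaf.stalk (f (pullback.fst f h z)))) Ω))
  have sq₁ : IsPullback (pullback.fst f' τ ≫ pullback.fst f h) (pullback.snd f' τ) f (τ ≫ h) :=
    (IsPullback.of_hasPullback _ _).paste_horiz (IsPullback.of_hasPullback f h)
  have hψ : ψ ≫ Y.fromSpecResidueField (f (pullback.fst f h z)) = τ ≫ h := hσ'
  have sq₂ : IsPullback (pullback.fst ff ψ ≫ f.fiberι _) (pullback.snd ff ψ) f (τ ≫ h) := by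
    rw [← hψ]
    exact (IsPullback.of_hasPullback _ _).paste_horiz (IsPullback.of_hasPullback _ _)
  let e := sq₁.isoIsPullback _ _ sq₂
  have hfst : pullback.fst ff ψ (e.hom z₂) = f.asFiber (pullback.fst f h z) := by
    apply (f.fiberι _).isEmbedding.injective
    rw [f.fiberι_asFiber]
    refine Eq.trans ?_ (congrArg (pullback.fst f h) hz₂)
    show ((e.hom ≫ pullback.fst ff ψ) ≫ f.fiberι _) z₂ = (pullback.fst f' τ ≫ pullback.fst f h) z₂
    exact congrArg (fun q : pullback f' τ ⟶ X => q z₂)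
      ((Category.assoc _ _ _).trans (IsPullback.isoIsPullback_hom_fst _ _ sq₁ sq₂))
  have hred : _root_.IsReduced ((FBase.bc ff Ω).presheaf.stalk (e.hom z₂)) := by
    have h1 : z₂ = e.inv (e.hom z₂) := by
      rw [← Scheme.Hom.comp_apply, Iso.hom_inv_id]; rfl
    have h2 : _root_.IsReduced ((pullback f' τ).presheaf.stalk (e.inv (e.hom z₂))) := h1 ▸ hr2
    exact @GrothLib.SecComp6.isReduced_stalk_of_openImmersion _ _ e.inv _ (e.hom z₂) h2
  exact GrothLib.FBase7.isGeomReducedAt_of_perfect (Ω := Ω) ff _ (e.hom z₂) hfst hred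

/-- Generizations of a point of the geometrically reduced part of the section components of constant
dimension stay in it, and the morphism is flat there after base change to valuation rings. -/
theorem mem_sectComp_and_geomReduced_of_specializes (f : X ⟶ Y) [LocallyOfFinitePresentation f] (g : Y ⟶ X)
    (hg : g ≫ f = 𝟙 Y) (hirr : GeomIrredSectComp f g) {x x' : X} (hx' : x' ⤳ x)
    (hx : x ∈ MoreMor.sectionComponents f g)
    (hc : ∀ z, z ⤳ f x → topologicalKrullDim ↥(connectedComponentIn (f ⁻¹' {z}) (g z)) =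
      topologicalKrullDim ↥(connectedComponentIn (f ⁻¹' {f x}) (g (f x))))
    (hred : FBase.IsGeomReducedAt (f.fiberToSpecResidueField (f x)) (f.asFiber x)) :
    x' ∈ MoreMor.sectionComponents f g ∧
      FBase.IsGeomReducedAt (f.fiberToSpecResidueField (f x')) (f.asFiber x') := by
  obtain ⟨W, _, _, u, hu₁, hu₀⟩ := GrothLib.HTop.exists_valuationRing_map hx'
  let b := u ≫ f
  let f' := pullback.snd f b
  haveI : LocallyOfFinitePresentation f' := MorphismProperty.pullback_snd f b ‹_›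
  let σ : Spec W ⟶ pullback f b := pullback.lift (b ≫ g) (𝟙 _)
    (by rw [Category.assoc, hg, Category.comp_id, Category.id_comp])
  let σx : Spec W ⟶ pullback f b := pullback.lift u (𝟙 _) (by rw [Category.id_comp])
  have hσ : σ ≫ f' = 𝟙 _ := pullback.lift_snd _ _ _
  have hσg : σ ≫ pullback.fst f b = b ≫ g := pullback.lift_fst _ _ _
  have hσx : σx ≫ f' = 𝟙 _ := pullback.lift_snd _ _ _
  have hσxu : σx ≫ pullback.fst f b = u := pullback.lift_fst _ _ _
  have hC := isIrreducible_sectComp_baseChange f g hg hirr b σ hσ hσg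
  have hσ' : ∀ t, f' (σ t) = t := fun t => by rw [← Scheme.Hom.comp_apply, hσ]; rfl
  have hdim : ∀ t, topologicalKrullDim ↥(connectedComponentIn (f' ⁻¹' {t}) (σ t)) =
      topologicalKrullDim ↥(connectedComponentIn (f ⁻¹' {b t}) (g (b t))) := fun t => by
    rw [← fibreDimAt_eq_dim_sectComp _ (hσ' t) (hC t).2,
      ← fibreDimAt_eq_dim_sectComp f (show f (g (b t)) = b t by rw [← Scheme.Hom.comp_apply, hg]; rfl)
        (isIrreducible_sectComp f g hirr (b t)),
      GrothLib.AlgSp.fibreDimAt_of_isPullback (IsPullback.of_hasPullback f b), ← Scheme.Hom.comp_apply, hσg]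
    rfl
  let c : Spec W := GrothLib.HTop.closed W
  let η : Spec W := GrothLib.HTop.gen W
  have hbc : b c = f x := congrArg f hu₀
  have hbη : b η = f x' := congrArg f hu₁
  have hηc : η ⤳ c := IsLocalRing.specializes_closedPoint (R := W) _
  let a := σx c
  have hfa : f' a = c := by rw [← Scheme.Hom.comp_apply, hσx]; rfl
  have hpa : pullback.fst f b a = x := by rw [← Scheme.Hom.comp_apply, hσxu]; exact hu₀
  have haC : a ∈ connectedComponentIn (f' ⁻¹' {c}) (σ c) := by
    rw [(hC c).1]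
    refine ⟨hfa, ?_⟩
    rw [Set.mem_preimage, hpa, hbc]
    exact hx
  obtain ⟨ξ₀, hξ₀, hCc⟩ := sectComp_eq_fibClosure f' (hC c).2
  have hξ₀C : ξ₀ ∈ connectedComponentIn (f' ⁻¹' {c}) (σ c) := hCc.ge ⟨subset_closure rfl, hξ₀⟩
  have hsp₀ : ξ₀ ⤳ a := specializes_iff_mem_closure.2 (hCc.le haC).1
  have hopen₀ : EGA43.IsOpenAt f'.base ξ₀ := by
    have h1 : pullback.fst f b ξ₀ ∈ connectedComponentIn (f ⁻¹' {f x}) (g (f x)) := by
      have := ((hC c).1.le hξ₀C).2
      rwa [Set.mem_preimage, hbc] at this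
    exact isUnivOpenAt_of_dim_const f g hg hirr (f x) hc _ h1 _ b ξ₀ rfl
  obtain ⟨w₀, hw₀⟩ := (f'.range_fiberι (f' a)).ge (show ξ₀ ∈ f' ⁻¹' {f' a} from hξ₀.trans hfa.symm)
  have hw₀z : ∀ z, z ⤳ f'.asFiber a → w₀ ⤳ z := fun z hz => by
    rw [← (f'.fiberι (f' a)).isEmbedding.isInducing.specializes_iff, hw₀]
    have hz2 : f' (f'.fiberι (f' a) z) = c := ((f'.range_fiberι (f' a)).le ⟨z, rfl⟩).trans hfa
    have hz1 : f'.fiberι (f' a) z ⤳ a :=
      (hz.map (f'.fiberι (f' a)).continuous).trans (specializes_of_eq (f'.fiberι_asFiber a))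
    have hz3 := fibClosure_subset_connectedComponentIn f' hz2 hfa hz1 ⟨subset_closure rfl, hz2⟩
    rw [← connectedComponentIn_eq haC] at hz3
    exact specializes_iff_mem_closure.2 (hCc.le hz3).1
  have hw₀a : w₀ ⤳ f'.asFiber a := by
    rw [← (f'.fiberι (f' a)).isEmbedding.isInducing.specializes_iff, hw₀, f'.fiberι_asFiber]
    exact hsp₀
  have hredF : _root_.IsReduced ((f'.fiber (f' a)).presheaf.stalk (f'.asFiber a)) := by
    let t := (Spec W).fromSpecResidueField (f' a)
    have sq : IsPullback (f'.fiberι (f' a) ≫ pullback.fst f b) (f'.fiberToSpecResidueField (f' a)) f (t ≫ b) :=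
      (IsPullback.of_hasPullback _ _).paste_horiz (IsPullback.of_hasPullback f b)
    let k := sq.isoPullback.hom
    have hka : pullback.fst f (t ≫ b) (k (f'.asFiber a)) = x := by
      rw [← Scheme.Hom.comp_apply, sq.isoPullback_hom_fst, Scheme.Hom.comp_apply, f'.fiberι_asFiber, hpa]
    exact @GrothLib.SecComp6.isReduced_stalk_of_openImmersion _ _ k _ (f'.asFiber a)
      (GrothLib.SecComp6.isReduced_stalk_of_geomReducedAt f (t ≫ b) (k (f'.asFiber a)) hka hred)
  have hopenw : EGA43.IsOpenAt f'.base (f'.fiberι (f' a) w₀) := by rw [hw₀]; exact hopen₀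
  have hflat := (flat_and_isDomain_of_valuation (V := W) f' a hfa w₀ hw₀z hw₀a hopenw hredF).2
  obtain ⟨ξ, hξa, hξ⟩ := exists_unique_generization_of_valuation (V := W) f' a hfa w₀ hw₀z hw₀a hopenw hredF
  obtain ⟨ξ', hξ', hCη⟩ := sectComp_eq_fibClosure f' (hC η).2
  have hgξ' : σ η ∈ closure {ξ'} := (hCη.le (mem_connectedComponentIn (hσ' η))).1
  have hsub := (dim_sectComp_ge f' σ hσ hηc hξ' (specializes_iff_mem_closure.2 hgξ') (by rw [← hCη])).2 (hC c).2
    (by rw [hdim, hdim, hbc, hc (b η) ((hηc.map b.continuous).trans (specializes_of_eq hbc))])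
  have hξ'a : ξ' ⤳ a := specializes_iff_mem_closure.2 (closure_minimal (by
    rw [hCη]
    exact Set.inter_subset_left) isClosed_closure (hsub haC))
  have haη : σx η ⤳ a := hηc.map σx.continuous
  have hfaη : f' (σx η) = η := by rw [← Scheme.Hom.comp_apply, hσx]; rfl
  have hfξ : f' ξ = η := by
    refine PrimeSpectrum.ext (le_antisymm ?_ (bot_le : (⊥ : Ideal W) ≤ _))
    exact (PrimeSpectrum.le_iff_specializes (f' ξ) η).mpr (hξ' ▸ (hξ ξ' hξ'a).map f'.continuous)
  have hmem : σx η ∈ connectedComponentIn (f' ⁻¹' {η}) (σ η) := by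
    rw [connectedComponentIn_eq (hCη.ge ⟨subset_closure rfl, hξ'⟩)]
    exact fibClosure_subset_connectedComponentIn f' hfξ hξ' (hξ ξ' hξ'a)
      ⟨(hξ _ haη).mem_closure, hfaη⟩
  have hpη : pullback.fst f b (σx η) = x' := by rw [← Scheme.Hom.comp_apply, hσxu]; exact hu₁
  constructor
  · have h1 := ((hC η).1.le hmem).2
    rw [Set.mem_preimage, hpη, hbη] at h1
    exact h1
  · have h1 : a ∈ {z : ↥(pullback f b) | (f'.stalkMap z).hom.Flat ∧
        FBase.IsGeomReducedAt (f'.fiberToSpecResidueField (f'.base z)) (f'.asFiber z)} :=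
      ⟨hflat, isGeomReducedAt_baseChange f b a (by rw [hpa]; exact hred)⟩
    have h2 := haη.mem_open (GrothLib.FibPd.isOpen_flat_geomReduced f') h1
    have h3 := isGeomReducedAt_of_baseChange f b (σx η) h2.2
    rwa [hpη] at h3

/-- EGA IV 15.6.5. -/
theorem isOpen_sectComp_geomReduced (f : X ⟶ Y) [LocallyOfFinitePresentation f] [QuasiSeparated f] (g : Y ⟶ X)
    (hg : g ≫ f = 𝟙 Y) (hirr : GeomIrredSectComp f g) :
    IsOpen {x : X | x ∈ MoreMor.sectionComponents f g ∧
      (∃ V ∈ nhds (f x), ∀ z ∈ V, topologicalKrullDim ↥(connectedComponentIn (f ⁻¹' {z}) (g z)) =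
        topologicalKrullDim ↥(connectedComponentIn (f ⁻¹' {f x}) (g (f x)))) ∧
      FBase.IsGeomReducedAt (f.fiberToSpecResidueField (f x)) (f.asFiber x)} := by
  classical
  have hfg : ∀ t, f (g t) = t := fun t => congrArg (fun m : Y ⟶ Y => m.base t) hg
  refine isOpen_iff_mem_nhds.2 ?_
  rintro x₀ ⟨hx₀, ⟨N, hN, hNc⟩, hred₀⟩
  obtain ⟨O, hON, hO, hyO⟩ := mem_nhds_iff.1 hN
  obtain ⟨_, ⟨(V₀ : Y.Opens), hV₀, rfl⟩, hyV₀, -⟩ :=
    Y.isBasis_affineOpens.exists_subset_of_mem_open (Set.mem_univ (f x₀)) isOpen_univ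
  obtain ⟨_, ⟨(Wg : X.Opens), hWg, rfl⟩, hgW, hWgV⟩ := X.isBasis_affineOpens.exists_subset_of_mem_open
    (show g (f x₀) ∈ f ⁻¹ᵁ V₀ by show f (g (f x₀)) ∈ V₀; rw [hfg]; exact hyV₀) (f ⁻¹ᵁ V₀).2
  obtain ⟨r, hrle, hyr⟩ := hV₀.exists_basicOpen_le (V := g ⁻¹ᵁ Wg ⊓ ⟨O, hO⟩) ⟨f x₀, ⟨hgW, hyO⟩⟩ hyV₀
  let V : Y.Opens := Y.basicOpen r
  haveI : IsAffine (V : Scheme.{u}) := hV₀.basicOpen r
  obtain ⟨_, ⟨(Wx : X.Opens), hWx, rfl⟩, hxW, hWxV⟩ := X.isBasis_affineOpens.exists_subset_of_mem_open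
    (show x₀ ∈ f ⁻¹ᵁ V from hyr) (f ⁻¹ᵁ V).2
  let W : X.Opens := (Wg ⊓ f ⁻¹ᵁ V) ⊔ Wx
  have hWle : W ≤ f ⁻¹ᵁ V := sup_le inf_le_right hWxV
  have hWc : IsCompact (W : Set X) := by
    have h1 : Wg ⊓ f ⁻¹ᵁ V = Wg ⊓ X.basicOpen (f.app V₀ r) := by rw [← Scheme.preimage_basicOpen]
    have h2 : IsCompact ((Wg ⊓ f ⁻¹ᵁ V : X.Opens) : Set X) := by
      rw [h1]
      obtain ⟨U, hU⟩ : ∃ U : X.Opens, U = Wg ⊓ X.basicOpen (f.app V₀ r) := ⟨_, rfl⟩
      have hres : U = X.basicOpen (X.presheaf.map (homOfLE hWgV).op (f.app V₀ r)) := by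
        rw [hU, Scheme.basicOpen_res]
      rw [← hU, hres]
      exact isCompact_basicOpen X hWg.isCompact (X.presheaf.map (homOfLE hWgV).op (f.app V₀ r))
    exact h2.union hWx.isCompact
  let f₁ : (W : Scheme.{u}) ⟶ (V : Scheme.{u}) := f.resLE V W hWle
  have hf₁ : f₁ ≫ V.ι = W.ι ≫ f := Scheme.Hom.resLE_comp_ι _ _
  haveI : LocallyOfFinitePresentation f₁ := by
    haveI : LocallyOfFinitePresentation (f ∣_ V) := IsZariskiLocalAtTarget.restrict ‹_› V
    show LocallyOfFinitePresentation (X.homOfLE hWle ≫ f ∣_ V)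
    infer_instance
  haveI : CompactSpace (W : Scheme.{u}) := isCompact_iff_compactSpace.1 hWc
  haveI : QuasiCompact f₁ := inferInstance
  haveI : QuasiSeparated f₁ := by
    haveI : QuasiSeparated (f₁ ≫ V.ι) := by rw [hf₁]; infer_instance
    exact QuasiSeparated.of_comp f₁ V.ι
  have hrange : Set.range (V.ι ≫ g) ⊆ Set.range W.ι := by
    rintro _ ⟨t, rfl⟩
    rw [Scheme.Opens.range_ι]
    refine Or.inl ⟨(hrle t.2).1, ?_⟩
    show f (g t.1) ∈ V
    rw [hfg]
    exact t.2
  let g₁ : (V : Scheme.{u}) ⟶ (W : Scheme.{u}) := IsOpenImmersion.lift W.ι (V.ι ≫ g) hrange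
  have hg₁ι : g₁ ≫ W.ι = V.ι ≫ g := IsOpenImmersion.lift_fac _ _ _
  have hg₁ : g₁ ≫ f₁ = 𝟙 _ := by
    rw [← cancel_mono V.ι, Category.assoc, hf₁, reassoc_of% hg₁ι, hg, Category.comp_id, Category.id_comp]
  have hf₁' : ∀ w, (f₁ w).1 = f (W.ι w) := fun w => congrArg (fun q : (W : Scheme.{u}) ⟶ Y => q w) hf₁
  have hg₁' : ∀ t, W.ι (g₁ t) = g t.1 := fun t => congrArg (fun q : (V : Scheme.{u}) ⟶ X => q t) hg₁ι
  have hsc : ∀ w, w ∈ MoreMor.sectionComponents f₁ g₁ ↔ W.ι w ∈ MoreMor.sectionComponents f g := by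
    intro w
    have hgf : f₁ (g₁ (f₁ w)) = f₁ w := congrArg (fun q : (V : Scheme.{u}) ⟶ V => q (f₁ w)) hg₁
    constructor
    · intro hw
      show W.ι w ∈ connectedComponentIn (f ⁻¹' {f (W.ι w)}) (g (f (W.ι w)))
      rw [← hf₁', ← hg₁']
      refine (isPreconnected_connectedComponentIn.image W.ι W.ι.continuous.continuousOn).subset_connectedComponentIn
        ⟨_, mem_connectedComponentIn hgf, rfl⟩ ?_ ⟨w, hw, rfl⟩
      rintro _ ⟨t, ht, rfl⟩
      show f (W.ι t) = _
      rw [← hf₁', show f₁ t = f₁ w from connectedComponentIn_subset (f₁ ⁻¹' {f₁ w}) (g₁ (f₁ w)) ht]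
    · intro hw
      have hw' : W.ι w ∈ connectedComponentIn (f ⁻¹' {(f₁ w).1}) (g (f₁ w).1) := by
        rw [hf₁']; exact hw
      have hpre : _root_.IsPreconnected (W.ι ⁻¹' connectedComponentIn (f ⁻¹' {(f₁ w).1}) (g (f₁ w).1)) := by
        rw [← W.ι.isOpenEmbedding.isEmbedding.isInducing.isPreconnected_image, Set.image_preimage_eq_inter_range,
          Scheme.Opens.range_ι]
        refine IsPreirreducible.isPreconnected ?_
        intro U₁ U₂ hU₁ hU₂ ⟨a₁, ⟨ha₁, haW₁⟩, ha₁'⟩ ⟨a₂, ⟨ha₂, haW₂⟩, ha₂'⟩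
        obtain ⟨a, ha, ⟨haU₁, haW⟩, haU₂, -⟩ := (isIrreducible_sectComp f g hirr (f₁ w).1).2
          (U₁ ∩ (W : Set X)) (U₂ ∩ (W : Set X)) (hU₁.inter W.2) (hU₂.inter W.2)
          ⟨a₁, ha₁, ha₁', haW₁⟩ ⟨a₂, ha₂, ha₂', haW₂⟩
        exact ⟨a, ⟨ha, haW⟩, haU₁, haU₂⟩
      refine hpre.subset_connectedComponentIn (x := g₁ (f₁ w)) ?_ ?_ hw'
      · rw [Set.mem_preimage, hg₁']
        exact mem_connectedComponentIn (hfg _)
      · intro t ht
        exact Subtype.ext ((hf₁' t).trans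
          (connectedComponentIn_subset (f ⁻¹' {(f₁ w).1}) (g (f₁ w).1) ht))
  let E₀ : Set ↥(W : Scheme.{u}) := {w | w ∈ MoreMor.sectionComponents f₁ g₁ ∧
    FBase.IsGeomReducedAt (f.fiberToSpecResidueField (f (W.ι w))) (f.asFiber (W.ι w))}
  have hconst : ∀ z, z ∈ V → topologicalKrullDim ↥(connectedComponentIn (f ⁻¹' {z}) (g z)) =
      topologicalKrullDim ↥(connectedComponentIn (f ⁻¹' {f x₀}) (g (f x₀))) :=
    fun z hz => hNc z (hON (hrle hz).2)
  have hopen : IsOpen E₀ := by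
    refine isOpen_of_stableUnderGen
      ((GrothLib.SecComp6.isLocallyConstructible_sectionComponents f₁ g₁ hg₁).inter
        ((isLocallyConstructible_isGeomReducedAt f).preimage_of_isOpenEmbedding W.ι.isOpenEmbedding)) ?_
    rintro w ⟨hw, hwred⟩ w' hw'
    have hV : f (W.ι w) ∈ V := hWle w.2
    have h := mem_sectComp_and_geomReduced_of_specializes f g hg hirr (hw'.map W.ι.continuous)
      ((hsc w).1 hw) (fun z hz => (hconst z (hz.mem_open V.2 hV)).trans (hconst _ hV).symm) hwred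
    exact ⟨(hsc w').2 h.1, h.2⟩
  refine Filter.mem_of_superset (W.ι.isOpenEmbedding.isOpenMap.image_mem_nhds
    (hopen.mem_nhds (x := (⟨x₀, Or.inr hxW⟩ : W)) ⟨(hsc _).2 hx₀, hred₀⟩)) ?_
  rintro _ ⟨w, ⟨hw, hwred⟩, rfl⟩
  have hV : f (W.ι w) ∈ V := hWle w.2
  exact ⟨(hsc w).1 hw, ⟨V, V.2.mem_nhds hV, fun z hz => (hconst z hz).trans (hconst _ hV).symm⟩, hwred⟩

end GrothLib.Chev28
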