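import Groth.Agent.Lib.Chev28.FlatFib
import Groth.Agent.Lib.Chev28.SectCompRed
import Groth.Agent.Lib.Chev28.FibreDims
import Groth.Agent.Lib.ConsLim.Models
import Groth.Agent.Lib.FlatLimit.Scheme
import Groth.Agent.Lib.FibreFlat.OpenScheme
import Groth.Agent.Lib.AlgSp.FieldBase
import Groth.Agent.Lib.CMMor6.BaseChange

/-!
Flatness at a point with geometrically reduced fibre from flatness at the generic points of that fibre,
without Noetherian hypotheses.
-/

set_option backward.isDefEq.respectTransparency false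

universe u

open CategoryTheory CategoryTheory.Limits AlgebraicGeometry TopologicalSpace Topology IsLocalRing

noncomputable section

namespace GrothLib.Chev28

variable {X Y : Scheme.{u}}

theorem flat_stalkMap_comp_iff_right {X' : Scheme.{u}} (f : X' ⟶ X) (h : X ⟶ Y) [IsOpenImmersion h] (w : X') :
    ((f ≫ h).stalkMap w).hom.Flat ↔ (f.stalkMap w).hom.Flat := by
  rw [Scheme.Hom.stalkMap_comp]
  exact RingHom.Flat.respectsIso.cancel_left_isIso (h.stalkMap (f w)) (f.stalkMap w)

theorem flat_stalkMap_comp_iff_left {X' : Scheme.{u}} (j : X' ⟶ X) (f : X ⟶ Y) [IsOpenImmersion j] (w : X') :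
    ((j ≫ f).stalkMap w).hom.Flat ↔ (f.stalkMap (j w)).hom.Flat := by
  rw [Scheme.Hom.stalkMap_comp]
  exact RingHom.Flat.respectsIso.cancel_right_isIso (f.stalkMap (j w)) (j.stalkMap w)

/-- Geometric reducedness at a point passes to open pieces of base changes. -/
theorem isGeomReducedAt_of_openImmersion_pullback (f : X ⟶ Y) {X' Y' : Scheme.{u}} (f' : X' ⟶ Y') (h : Y' ⟶ Y)
    (k : X' ⟶ pullback f h) [IsOpenImmersion k] (hk : k ≫ pullback.snd f h = f') (w : X')
    (hw : FBase.IsGeomReducedAt (f.fiberToSpecResidueField (f (pullback.fst f h (k w))))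
      (f.asFiber (pullback.fst f h (k w)))) :
    FBase.IsGeomReducedAt (f'.fiberToSpecResidueField (f' w)) (f'.asFiber w) := by
  intro K _ _ x'' hx''
  let y' := f' w
  let ψ := Spec.map (CommRingCat.ofHom (algebraMap (IsLocalRing.ResidueField (Y'.presheaf.stalk y')) K))
  let c : Spec (CommRingCat.of K) ⟶ Y' := ψ ≫ Y'.fromSpecResidueField y'
  have sq₁ : IsPullback (pullback.fst (f'.fiberToSpecResidueField y') ψ ≫ f'.fiberι y')
      (pullback.snd (f'.fiberToSpecResidueField y') ψ) f' c :=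
    (IsPullback.of_hasPullback _ _).paste_horiz (IsPullback.of_hasPullback _ _)
  let e₁ := sq₁.isoPullback.hom
  let m : pullback f' c ⟶ pullback (pullback.snd f h) c :=
    pullback.map f' c (pullback.snd f h) c k (𝟙 _) (𝟙 _) (by rw [Category.comp_id, hk]) (by simp)
  have sq₂ : IsPullback (pullback.fst (pullback.snd f h) c ≫ pullback.fst f h) (pullback.snd (pullback.snd f h) c)
      f (c ≫ h) :=
    (IsPullback.of_hasPullback _ _).paste_horiz (IsPullback.of_hasPullback f h)
  let e₂ := sq₂.isoPullback.hom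
  let n := e₁ ≫ m ≫ e₂
  have hn : pullback.fst f (c ≫ h) (n x'') = pullback.fst f h (k w) := by
    have h1 : n ≫ pullback.fst f (c ≫ h) =
        pullback.fst (f'.fiberToSpecResidueField y') ψ ≫ f'.fiberι y' ≫ k ≫ pullback.fst f h := by
      simp only [n, e₂, e₁, m, Category.assoc, IsPullback.isoPullback_hom_fst, pullback.lift_fst_assoc,
        IsPullback.isoPullback_hom_fst_assoc]
    rw [← Scheme.Hom.comp_apply, h1]
    show pullback.fst f h (k (f'.fiberι y' (FBase.bcπ (f'.fiberToSpecResidueField y') K x''))) = _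
    rw [show FBase.bcπ (f'.fiberToSpecResidueField y') K x'' = f'.asFiber w from hx'', f'.fiberι_asFiber]
  haveI : IsOpenImmersion n := inferInstance
  exact @GrothLib.SecComp6.isReduced_stalk_of_openImmersion _ _ n _ x''
    (GrothLib.SecComp6.isReduced_stalk_of_geomReducedAt f (c ≫ h) (n x'') hn hw)

theorem isReduced_fibre_stalk_of_geomReducedAt (f : X ⟶ Y) (x : X)
    (h : FBase.IsGeomReducedAt (f.fiberToSpecResidueField (f x)) (f.asFiber x)) :
    _root_.IsReduced ((f.fiber (f x)).presheaf.stalk (f.asFiber x)) :=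
  GrothLib.SecComp6.isReduced_stalk_of_geomReducedAt f (Y.fromSpecResidueField (f x)) (f.asFiber x)
    (f.fiberι_asFiber x) h

open GrothLib.LimDescend GrothLib.LimDesc in
/-- Flatness on a quasi-compact open descends to a Noetherian model. -/
theorem exists_model_flat_on {A : Type u} [CommRing A] {X : Scheme.{u}} (f : X ⟶ Spec (CommRingCat.of A))
    [LocallyOfFinitePresentation f] [QuasiCompact f] [QuasiSeparated f] (O : X.Opens) (hO : IsCompact (O : Set X))
    (hflat : ∀ z ∈ O, (f.stalkMap z).hom.Flat) :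
    ∃ (X₀ Y₀ : Scheme.{u}) (f₀ : X₀ ⟶ Y₀) (p : Spec (CommRingCat.of A) ⟶ Y₀) (q : X ⟶ X₀),
      IsPullback q f f₀ p ∧ LocallyOfFinitePresentation f₀ ∧ IsLocallyNoetherian Y₀ ∧
        ∀ z ∈ O, (f₀.stalkMap (q z)).hom.Flat := by
  obtain ⟨i, ⟨M⟩⟩ := exists_model (fgDiagram A) (fgCone A) (isLimitFgCone A) (X := X) f
  haveI : CompactSpace (O : Scheme.{u}) := isCompact_iff_compactSpace.1 hO
  obtain ⟨k, φ, U, hU, hUO⟩ := exists_open_model (fgDiagram A) (fgCone A) (isLimitFgCone A) M O.ι
  let M₁ := M.map (fgDiagram A) (fgCone A) φ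
  obtain ⟨gW, hgW, hpb⟩ := isPullback_restrict (fgDiagram A) (fgCone A) M₁ O.ι U hUO
  let f₁ : U.toScheme ⟶ (fgDiagram A).obj k := U.ι ≫ M₁.hom
  haveI := compactSpace_model (fgDiagram A) (fgCone A) M₁
  haveI := quasiSeparatedSpace_model (fgDiagram A) (fgCone A) M₁
  haveI : CompactSpace U.toScheme := isCompact_iff_compactSpace.1 hU
  haveI : QuasiSeparatedSpace U.toScheme := QuasiSeparatedSpace.of_isOpenEmbedding U.ι.isOpenEmbedding
  haveI : LocallyOfFinitePresentation M₁.hom := M₁.lfp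
  haveI hf : Flat (O.ι ≫ f) := Flat.iff_flat_stalkMap _ |>.mpr fun z =>
    (flat_stalkMap_comp_iff_left O.ι f z).mpr (hflat _ z.2)
  have hY : IsPullback ((fgCone A).π.app k) (𝟙 (fgCone A).pt) (𝟙 ((fgDiagram A).obj k)) ((fgCone A).π.app k) :=
    IsPullback.of_id_fst.flip
  obtain ⟨j, hj⟩ := GrothLib.LimDesc.exists_flat (fgDiagram A) (isLimitFgCone A) f₁ (𝟙 _) hY hpb
  have hsnd : Flat (pullback.snd f₁ ((fgDiagram A).map j.hom)) := by
    have key : ∀ g₀, g₀ = f₁ → Flat (pullback.snd g₀ ((fgDiagram A).map j.hom)) →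
        Flat (pullback.snd f₁ ((fgDiagram A).map j.hom)) := by
      rintro _ rfl h
      exact h
    refine key _ (Category.comp_id f₁) ?_
    rw [← mapNat_snd (fgDiagram A) k (𝟙 _) (f₁ ≫ 𝟙 _) f₁ rfl j]
    haveI := hj
    infer_instance
  let n := (mapNat (fgDiagram A) k M₁.hom f₁ U.ι rfl).app j
  haveI : IsOpenImmersion n :=
    MorphismProperty.of_isPullback (P := @IsOpenImmersion) (isPullback_mapNat (fgDiagram A) k M₁.hom f₁ U.ι rfl j)
      inferInstance
  let M₂ := M₁.map (fgDiagram A) (fgCone A) j.hom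
  refine ⟨M₂.obj, (fgDiagram A).obj j.left, M₂.hom, (fgCone A).π.app j.left, M₂.proj, M₂.isPullback, M₂.lfp,
    inferInstance, fun z hz => ?_⟩
  have hzU : M₂.proj z ∈ n.opensRange := by
    rw [opensRange_mapNat]
    show pullback.fst M₁.hom ((fgDiagram A).map j.hom) (M₂.proj z) ∈ U
    refine (congrArg (fun m => m z ∈ U) (Model.map_proj_fst (fgDiagram A) (fgCone A) M₁ j.hom)).mpr ?_
    exact hUO.ge (by rwa [Scheme.Opens.opensRange_ι])
  obtain ⟨u, hu⟩ := hzU
  rw [← hu]
  refine (flat_stalkMap_comp_iff_left n M₂.hom u).mp ?_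
  rw [show n ≫ M₂.hom = pullback.snd f₁ ((fgDiagram A).map j.hom) from
    mapNat_snd (fgDiagram A) k M₁.hom f₁ U.ι rfl j]
  exact Flat.stalkMap _ u

/-- Over an affine base, a point with geometrically reduced fibre is a point of flatness if the generic points of
the fibre components through it are. -/
theorem flat_stalkMap_of_generic_affine {A : Type u} [CommRing A] {X : Scheme.{u}}
    (f : X ⟶ Spec (CommRingCat.of A)) [LocallyOfFinitePresentation f] [QuasiCompact f] [QuasiSeparated f] (x : X)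
    (hred : FBase.IsGeomReducedAt (f.fiberToSpecResidueField (f x)) (f.asFiber x))
    (hgen : ∀ z, IsFibreGenericPt f x z → (f.stalkMap z).hom.Flat) :
    (f.stalkMap x).hom.Flat := by
  classical
  let F : X.Opens := ⟨{z | (f.stalkMap z).hom.Flat}, GrothLib.FibreFlat.isOpen_flat_stalkMap f⟩
  haveI : IsLocallyNoetherian (f.fiber (f x)) :=
    haveI : LocallyOfFiniteType (f.fiberToSpecResidueField (f x)) := MorphismProperty.pullback_snd f _ inferInstance
    LocallyOfFiniteType.isLocallyNoetherian (f.fiberToSpecResidueField (f x))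
  haveI : CompactSpace (f.fiber (f x)) := QuasiCompact.compactSpace_of_compactSpace (f.fiberToSpecResidueField (f x))
  haveI : NoetherianSpace (f.fiber (f x)) := by
    haveI : IsNoetherian (f.fiber (f x)) := {}
    infer_instance
  obtain ⟨O, hO, hOF, hFO⟩ : ∃ O : X.Opens, IsCompact (O : Set X) ∧ O ≤ F ∧
      ∀ z ∈ F, f z = f x → z ∈ O := by
    have hK : IsCompact ((F : Set X) ∩ f ⁻¹' {f x}) := by
      rw [← f.range_fiberι, ← Set.image_preimage_eq_inter_range]
      exact (NoetherianSpace.isCompact _).image (f.fiberι (f x)).continuous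
    obtain ⟨t, ht, hKt⟩ := hK.elim_finite_subcover_image (b := {W : X.Opens | IsAffineOpen W ∧ W ≤ F})
      (c := fun W => (W : Set X)) (fun W _ => W.2) (fun z hz => by
        obtain ⟨_, ⟨W, hW, rfl⟩, hzW, hWF⟩ := X.isBasis_affineOpens.exists_subset_of_mem_open hz.1 F.2
        exact Set.mem_biUnion (x := W) ⟨hW, hWF⟩ hzW)
    refine ⟨⟨⋃ W ∈ t, (W : Set X), isOpen_biUnion fun W _ => W.2⟩,
      hKt.1.isCompact_biUnion fun W hW => (ht hW).1.isCompact, fun z hz => ?_, fun z hz hzx => hKt.2 ⟨hz, hzx⟩⟩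
    obtain ⟨W, hW, hzW⟩ := Set.mem_iUnion₂.mp hz
    exact (ht hW).2 hzW
  obtain ⟨X₀, Y₀, f₀, p, q, hpb, _, _, hflat₀⟩ := exists_model_flat_on f O hO fun z hz => hOF hz
  let e := hpb.isoPullback
  have hqe : pullback.fst f₀ p (e.hom x) = q x := by
    rw [← Scheme.Hom.comp_apply, hpb.isoPullback_hom_fst]
  have hq0 : FBase.IsGeomReducedAt (f₀.fiberToSpecResidueField (f₀ (q x))) (f₀.asFiber (q x)) := by
    rw [← hqe]
    refine isGeomReducedAt_of_baseChange f₀ p (e.hom x) ?_
    let j : X ⟶ pullback f (𝟙 _) := inv (pullback.fst f (𝟙 _))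
    have hj₂ : j ≫ pullback.snd f (𝟙 _) = f := by
      rw [IsIso.inv_comp_eq, pullback.condition, Category.comp_id]
    refine isGeomReducedAt_of_openImmersion_pullback f (pullback.snd f₀ p) (𝟙 _) (e.inv ≫ j) ?_ (e.hom x) ?_
    · rw [Category.assoc, hj₂]
      exact hpb.isoPullback_inv_snd
    · have hk : pullback.fst f (𝟙 _) ((e.inv ≫ j) (e.hom x)) = x := by
        rw [← Scheme.Hom.comp_apply, ← Scheme.Hom.comp_apply]
        simp [j]
      rwa [hk]
  have hflatq : (f₀.stalkMap (q x)).hom.Flat := by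
    refine flat_stalkMap_of_generic_noetherian f₀ (q x) (isReduced_fibre_stalk_of_geomReducedAt f₀ _ hq0)
      fun z₀ ⟨hz₀x, hfz₀, hz₀max⟩ => ?_
    obtain ⟨i, hi, hi'⟩ := GrothLib.FibreBC.exists_isPullback_fiber hpb (f x)
    haveI : UniversallyOpen (Spec.map (p.residueFieldMap (f x))) :=
      GrothLib.AlgSp.universallyOpen_to_field (k := Y₀.residueField (p (f x))) _
    haveI : UniversallyOpen i := MorphismProperty.of_isPullback hi'.flip ‹_›
    have hqf : f₀ (q x) = p (f x) := congrArg (fun m : X ⟶ Y₀ => m x) hpb.w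
    obtain ⟨w₀, hw₀⟩ := (f₀.range_fiberι (p (f x))).ge (show z₀ ∈ f₀ ⁻¹' {p (f x)} from hfz₀.trans hqf)
    have hw₀' : w₀ ⤳ i (f.asFiber x) := by
      refine (f₀.fiberι _).isEmbedding.isInducing.specializes_iff.mp ?_
      rw [hw₀, ← Scheme.Hom.comp_apply i, hi, Scheme.Hom.comp_apply, f.fiberι_asFiber]
      exact hz₀x
    obtain ⟨w, hw, hiw⟩ := exists_lift_of_isOpenAt i (isOpenAt_of_isOpenMap i.isOpenMap (f.asFiber x)) hw₀'
    obtain ⟨ζ, hζw, hζmax⟩ := exists_maximal_generization w
    let z := f.fiberι (f x) ζ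
    have hfz : f z = f x := (f.range_fiberι (f x)).le ⟨ζ, rfl⟩
    have hzgen : IsFibreGenericPt f x z := by
      refine ⟨((hζw.trans hw).map (f.fiberι (f x)).continuous).trans (specializes_of_eq (f.fiberι_asFiber x)), hfz,
        fun z' hz' hfz' => ?_⟩
      obtain ⟨ζ', rfl⟩ := (f.range_fiberι (f x)).ge (show z' ∈ f ⁻¹' {f x} from hfz')
      rw [hζmax ζ' ((f.fiberι _).isEmbedding.isInducing.specializes_iff.mp hz')]
    have hqz : q z = z₀ := by
      refine hz₀max _ ?_ ?_
      · rw [← hw₀, ← hiw, ← Scheme.Hom.comp_apply i, hi, Scheme.Hom.comp_apply]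
        exact (hζw.map (f.fiberι (f x)).continuous).map q.continuous
      · rw [hqf, ← hfz]
        exact congrArg (fun m : X ⟶ Y₀ => m z) hpb.w
    rw [← hqz]
    exact hflat₀ z (hFO z (hgen z hzgen) hfz)
  exact GrothLib.CMMor6.flat_stalkMap_baseChange hpb x hflatq

/-- A point with geometrically reduced fibre is a point of flatness if the generic points of the fibre
components through it are. -/
theorem flat_stalkMap_of_generic (f : X ⟶ Y) [LocallyOfFinitePresentation f] (x : X)
    (hred : FBase.IsGeomReducedAt (f.fiberToSpecResidueField (f x)) (f.asFiber x))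
    (hgen : ∀ z, IsFibreGenericPt f x z → (f.stalkMap z).hom.Flat) :
    (f.stalkMap x).hom.Flat := by
  obtain ⟨V, hV, hxV, -⟩ := exists_isAffineOpen_mem_and_subset (show f x ∈ (⊤ : Y.Opens) from trivial)
  obtain ⟨W, hW, hxW, e⟩ := exists_isAffineOpen_mem_and_subset (show x ∈ f ⁻¹ᵁ V from hxV)
  let fW : (W : Scheme.{u}) ⟶ Spec Γ(Y, V) := f.resLE V W e ≫ hV.isoSpec.hom
  have hfW : fW ≫ hV.fromSpec = W.ι ≫ f := by
    rw [Category.assoc, hV.isoSpec_hom_fromSpec, Scheme.Hom.resLE_comp_ι]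
  haveI : IsAffine (W : Scheme.{u}) := hW
  haveI : LocallyOfFinitePresentation (f ∣_ V) := IsZariskiLocalAtTarget.restrict ‹_› V
  haveI : LocallyOfFinitePresentation (f.resLE V W e) := by
    show LocallyOfFinitePresentation (X.homOfLE e ≫ f ∣_ V)
    infer_instance
  haveI : LocallyOfFinitePresentation fW := inferInstance
  let xW : W := ⟨x, hxW⟩
  have hflat_iff : ∀ w : (W : Scheme.{u}), (fW.stalkMap w).hom.Flat ↔ (f.stalkMap w.1).hom.Flat := fun w => by
    rw [← flat_stalkMap_comp_iff_right fW hV.fromSpec, hfW, flat_stalkMap_comp_iff_left]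
    rfl
  refine (hflat_iff xW).mp (flat_stalkMap_of_generic_affine (A := Γ(Y, V)) fW xW ?_ fun z ⟨hzx, hfz, hzmax⟩ => ?_)
  · let k : (W : Scheme.{u}) ⟶ pullback f hV.fromSpec := pullback.lift W.ι fW hfW.symm
    haveI : IsOpenImmersion (k ≫ pullback.fst f hV.fromSpec) := by rw [pullback.lift_fst]; infer_instance
    haveI : IsOpenImmersion k := IsOpenImmersion.of_comp k (pullback.fst f hV.fromSpec)
    refine isGeomReducedAt_of_openImmersion_pullback f fW hV.fromSpec k (pullback.lift_snd _ _ _) xW ?_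
    have hk : pullback.fst f hV.fromSpec (k xW) = x := by
      rw [← Scheme.Hom.comp_apply, pullback.lift_fst]
      rfl
    rwa [hk]
  · have hfW' : ∀ w : (W : Scheme.{u}), hV.fromSpec (fW w) = f w.1 := fun w =>
      congrArg (fun m : (W : Scheme.{u}) ⟶ Y => m w) hfW
    refine (hflat_iff z).mpr (hgen z.1 ⟨hzx.map W.ι.continuous, ?_, fun z' hz' hfz' => ?_⟩)
    · rw [← hfW' z, hfz]
      exact hfW' xW
    · have hz'W : z' ∈ W := hz'.mem_open W.2 z.2
      refine congrArg Subtype.val (hzmax ⟨z', hz'W⟩ (W.ι.isOpenEmbedding.isEmbedding.isInducing.specializes_iff.mp hz')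
        (hV.fromSpec.isOpenEmbedding.injective ?_))
      rw [hfW', hfW']
      exact hfz'

end GrothLib.Chev28
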