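import Groth.Agent.Lib.Chev28.DimFormula
import Groth.Agent.Lib.CycDiv.Flat
import Groth.Agent.Lib.GrpdQuot.InvariantOpen
import Groth.Agent.Lib.Equidim6.RelDim

/-!
The dimension formula at a point where the morphism is open along the fibre.
-/

universe u

open CategoryTheory CategoryTheory.Limits AlgebraicGeometry TopologicalSpace Topology IsLocalRing

noncomputable section

namespace GrothLib.Chev28

variable {X Y : Scheme.{u}}

/-- An open map at a point lifts generizations of the image to generizations of the point. -/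
theorem exists_lift_of_isOpenAt (f : X ⟶ Y) {z : X} (h : EGA43.IsOpenAt f z) {y' : Y} (hy' : y' ⤳ f z) :
    ∃ z', z' ⤳ z ∧ f z' = y' := by
  have h1 := mem_closure_of_isOpenAt h hy'
  rw [← f.range_fiberι y', ← Set.image_univ] at h1
  haveI : QuasiCompact (Y.fromSpecResidueField y') := ⟨fun U _ _ => (Set.toFinite _).isCompact⟩
  haveI : QuasiCompact (f.fiberι y') := MorphismProperty.pullback_fst f _ inferInstance
  obtain ⟨v, -, hv⟩ := GrothLib.GrpdQuot.exists_specializes_of_mem_closure (f.fiberι y') Set.univ isClosed_univ z h1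
  exact ⟨_, hv, (f.range_fiberι y').le ⟨v, rfl⟩⟩

/-- The dimension formula where the morphism is open at the generic points of the fibre through `x`. -/
theorem dim_stalk_eq_of_isOpenAt [IsLocallyNoetherian X] [IsLocallyNoetherian Y] (f : X ⟶ Y) (x : X)
    (h : ∀ z : ↥(f.fiber (f x)), f.asFiber x ∈ closure {z} →
      (∀ z' : ↥(f.fiber (f x)), z ∈ closure {z'} → z' = z) →
      EGA43.IsOpenAt f.base ((f.fiberι (f x)) z)) :
    ringKrullDim (X.presheaf.stalk x) =
      ringKrullDim (Y.presheaf.stalk (f x)) + ringKrullDim ((f.fiber (f x)).presheaf.stalk (f.asFiber x)) := by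
  refine le_antisymm (GrothLib.Equidim6.ringKrullDim_stalk_le_add f x) ?_
  let S := Y.presheaf.stalk (f x)
  let T := X.presheaf.stalk x
  letI : Algebra S T := (f.stalkMap x).hom.toAlgebra
  haveI : IsLocalHom (algebraMap S T) := inferInstanceAs (IsLocalHom (f.stalkMap x).hom)
  obtain ⟨e⟩ := GrothLib.CMMor6.nonempty_fibQuot_equiv f x
  rw [← ringKrullDim_eq_of_ringEquiv e]
  let I : Ideal T := (maximalIdeal S).map (algebraMap S T)
  have hI : I ≠ ⊤ := fun h => Ideal.IsPrime.ne_top' (I := maximalIdeal T)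
    (top_le_iff.mp (h ▸ Ideal.map_le_iff_le_comap.mpr (fun a ha => map_nonunit (algebraMap S T) a ha)))
  haveI : Nontrivial (T ⧸ I) := Ideal.Quotient.nontrivial_iff.mpr hI
  haveI : IsLocalRing (T ⧸ I) := IsLocalRing.of_surjective' _ Ideal.Quotient.mk_surjective
  obtain ⟨k, hk⟩ : ∃ k : ℕ, ringKrullDim (T ⧸ I) = k := by
    obtain ⟨k, hk⟩ := ENat.ne_top_iff_exists.1
      (Ideal.height_ne_top (I := maximalIdeal (T ⧸ I)) Ideal.IsPrime.ne_top')
    exact ⟨k, by rw [← IsLocalRing.maximalIdeal_height_eq_ringKrullDim, ← hk]; rfl⟩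
  obtain ⟨Q, hQp, hQmin, hQd⟩ := GrothLib.QSec28.exists_minimalPrime_dim (C := T ⧸ I) hk
  let π := Ideal.Quotient.mk I
  let P : Ideal T := Q.comap π
  haveI : P.IsPrime := Ideal.comap_isPrime _ _
  have hPmin : P ∈ I.minimalPrimes := by
    rw [Ideal.minimalPrimes_eq_comap]
    exact ⟨Q, hQmin, rfl⟩
  have hIP : I ≤ P := hPmin.1.2
  have hPm : maximalIdeal S = P.comap (algebraMap S T) :=
    (maximalIdeal.isMaximal S).eq_of_le (Ideal.comap_isPrime _ _).ne_top' (Ideal.map_le_iff_le_comap.mp hIP)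
  let z := X.fromSpecStalk x ⟨P, inferInstance⟩
  have hzx : z ⤳ x := by
    have h1 := (PrimeSpectrum.le_iff_specializes ⟨P, inferInstance⟩ (IsLocalRing.closedPoint T)).mp
      (IsLocalRing.le_maximalIdeal (Ideal.IsPrime.ne_top (I := P) inferInstance))
    exact (h1.map (X.fromSpecStalk x).continuous).trans (specializes_of_eq Scheme.fromSpecStalk_closedPoint)
  have hPz : GrothLib.CycDiv.primeOf hzx = P :=
    GrothLib.CycDiv.primeOf_fromSpecStalk ⟨P, inferInstance⟩ hzx
  have hprime : ∀ {v : Y} (h : v ⤳ f x), GrothLib.CycDiv.primeOf h = maximalIdeal S → v = f x := fun {v} h hv => by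
    have h1 := GrothLib.CycDiv.fromSpecStalk_primeOf h
    rw [show (⟨GrothLib.CycDiv.primeOf h, inferInstance⟩ : PrimeSpectrum S) = IsLocalRing.closedPoint S
      from PrimeSpectrum.ext hv] at h1
    exact h1.symm.trans Scheme.fromSpecStalk_closedPoint
  have hfz : f z = f x := hprime (hzx.map f.continuous)
    ((GrothLib.CycDiv.comap_primeOf f hzx).symm.trans (by rw [hPz]; exact hPm.symm))
  obtain ⟨w, hw⟩ := (f.range_fiberι (f x)).ge (show z ∈ f ⁻¹' {f x} from hfz)
  have hlift : ∀ p : PrimeSpectrum S, p ≤ IsLocalRing.closedPoint S →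
      ∃ P' ≤ (⟨P, inferInstance⟩ : PrimeSpectrum T), PrimeSpectrum.comap (algebraMap S T) P' = p := by
    intro p hp
    let y' := Y.fromSpecStalk (f x) p
    have hy' : y' ⤳ f x := (((PrimeSpectrum.le_iff_specializes p _).mp hp).map
      (Y.fromSpecStalk (f x)).continuous).trans (specializes_of_eq Scheme.fromSpecStalk_closedPoint)
    have hopen : EGA43.IsOpenAt f.base z := by
      have := h w ?_ ?_
      · rwa [hw] at this
      · refine specializes_iff_mem_closure.mp ((f.fiberι (f x)).isEmbedding.isInducing.specializes_iff.mp ?_)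
        rw [hw, f.fiberι_asFiber]
        exact hzx
      · intro w' hw'
        have hs : f.fiberι (f x) w' ⤳ z :=
          hw ▸ (specializes_iff_mem_closure.mpr hw').map (f.fiberι (f x)).continuous
        have hle : GrothLib.CycDiv.primeOf (hs.trans hzx) ≤ P :=
          ((GrothLib.CycDiv.primeOf_le_iff (hs.trans hzx) hzx).mpr hs).trans hPz.le
        have heq : f (f.fiberι (f x) w') = f x := (f.range_fiberι (f x)).le ⟨w', rfl⟩
        have hge : P ≤ GrothLib.CycDiv.primeOf (hs.trans hzx) := hPmin.2 ⟨inferInstance, by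
          refine Ideal.map_le_iff_le_comap.mpr (le_of_eq ?_)
          refine Eq.trans ?_ (GrothLib.CycDiv.comap_primeOf f (hs.trans hzx)).symm
          exact ((GrothLib.CycDiv.primeOf_congr ((hs.trans hzx).map f.continuous)
            (specializes_of_eq Scheme.fromSpecStalk_closedPoint) (heq.trans Scheme.fromSpecStalk_closedPoint.symm)).trans
            (GrothLib.CycDiv.primeOf_fromSpecStalk (IsLocalRing.closedPoint S) _)).symm⟩ hle
        apply (f.fiberι (f x)).isEmbedding.injective
        rw [hw]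
        exact (hs.antisymm ((GrothLib.CycDiv.primeOf_le_iff hzx (hs.trans hzx)).mp (hPz.le.trans hge))).eq
    obtain ⟨z', hz', hfz'⟩ := exists_lift_of_isOpenAt f hopen (show y' ⤳ f z by rw [hfz]; exact hy')
    refine ⟨⟨GrothLib.CycDiv.primeOf (hz'.trans hzx), inferInstance⟩,
      ((GrothLib.CycDiv.primeOf_le_iff (hz'.trans hzx) hzx).mpr hz').trans hPz.le, PrimeSpectrum.ext ?_⟩
    exact (GrothLib.CycDiv.comap_primeOf f (hz'.trans hzx)).trans
      ((GrothLib.CycDiv.primeOf_congr _ hy' hfz').trans (GrothLib.CycDiv.primeOf_fromSpecStalk p hy'))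
  have hfib : ∀ P' ≤ (⟨P, inferInstance⟩ : PrimeSpectrum T),
      PrimeSpectrum.comap (algebraMap S T) P' = IsLocalRing.closedPoint S → P' = ⟨P, inferInstance⟩ :=
    fun P' hle hP' => PrimeSpectrum.ext (le_antisymm hle (hPmin.2
      ⟨P'.isPrime, Ideal.map_le_iff_le_comap.mpr (congrArg PrimeSpectrum.asIdeal hP').ge⟩ hle))
  have hht : (maximalIdeal S).height ≤ P.height :=
    height_le_of_lifts (IsLocalRing.closedPoint S) ⟨P, inferInstance⟩ hfib hlift
  have hsum := GrothLib.Altitude.height_add_height_map_le P (maximalIdeal T)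
    (IsLocalRing.le_maximalIdeal (Ideal.IsPrime.ne_top (I := P) inferInstance))
  haveI : IsLocalRing (T ⧸ P) := IsLocalRing.of_surjective' _ Ideal.Quotient.mk_surjective
  have hmap : (maximalIdeal T).map (Ideal.Quotient.mk P) = maximalIdeal (T ⧸ P) :=
    IsLocalRing.map_maximalIdeal_of_surjective _ Ideal.Quotient.mk_surjective
  rw [hmap] at hsum
  have hdQ : ringKrullDim ((T ⧸ I) ⧸ Q) ≤ ringKrullDim (T ⧸ P) := by
    let φ : T ⧸ P →+* (T ⧸ I) ⧸ Q := Ideal.Quotient.lift P ((Ideal.Quotient.mk Q).comp π)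
      fun a ha => Ideal.Quotient.eq_zero_iff_mem.mpr ha
    refine ringKrullDim_le_of_surjective φ fun a => ?_
    obtain ⟨b, rfl⟩ := Ideal.Quotient.mk_surjective a
    obtain ⟨c, rfl⟩ := Ideal.Quotient.mk_surjective b
    exact ⟨Ideal.Quotient.mk P c, rfl⟩
  calc ringKrullDim S + ringKrullDim (T ⧸ I)
      ≤ ((maximalIdeal S).height : WithBot ℕ∞) + ((maximalIdeal (T ⧸ P)).height : WithBot ℕ∞) := by
        refine add_le_add (IsLocalRing.maximalIdeal_height_eq_ringKrullDim (R := S)).ge ?_
        exact (hQd.trans hdQ).trans (IsLocalRing.maximalIdeal_height_eq_ringKrullDim (R := T ⧸ P)).ge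
    _ ≤ ((maximalIdeal T).height : WithBot ℕ∞) := by
        rw [← WithBot.coe_add, WithBot.coe_le_coe]
        exact (add_le_add hht le_rfl).trans hsum
    _ = ringKrullDim T := IsLocalRing.maximalIdeal_height_eq_ringKrullDim

end GrothLib.Chev28
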