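import Groth.Agent.Lib.Chev28.SmoothCover
import Groth.Agent.Lib.Chev28.FlatVal
import Groth.Agent.Lib.Chev28.OpenDim
import Groth.Agent.Lib.Chev28.FibreDims
import Groth.Agent.Lib.HTop.Val
import Groth.Agent.Lib.FibreFlat.Stalk
import Groth.Agent.Lib.AlgMisc.GeomRegAt
import Groth.Agent.Lib.CMFree.Regular
import Groth.Agent.Lib.CycDiv.Flat
import Groth.Agent.Lib.NagataFP.PD

/-!
Flatness at a smooth generic point of a fibre where the morphism is universally open.
-/

set_option backward.isDefEq.respectTransparency false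

universe u

open CategoryTheory CategoryTheory.Limits AlgebraicGeometry TopologicalSpace Topology IsLocalRing

noncomputable section

namespace GrothLib.Chev28

/-- In a flat local algebra over a valuation ring with prime closed fibre ideal, the only prime below it over zero is zero. -/
theorem eq_bot_of_prime_of_valuation {V T : Type u} [CommRing V] [IsDomain V] [ValuationRing V] [CommRing T]
    [IsLocalRing T] [Algebra V T] [Algebra.EssFiniteType V T]
    (hq : ((maximalIdeal V).map (algebraMap V T)).IsPrime) (P : Ideal T) [P.IsPrime]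
    (hP : P ≤ (maximalIdeal V).map (algebraMap V T)) (hP0 : P.comap (algebraMap V T) = ⊥) : P = ⊥ := by
  have hmem : ∀ {a : V}, algebraMap V T a ∈ P → a = 0 := fun {a} ha => by
    have : a ∈ P.comap (algebraMap V T) := ha
    rwa [hP0, Ideal.mem_bot] at this
  have hfg : P.FG := by
    haveI : Module.IsTorsionFree V (T ⧸ P) := Module.IsTorsionFree.of_smul_eq_zero fun a m h => by
      obtain ⟨t, rfl⟩ := Ideal.Quotient.mk_surjective m
      rw [Algebra.smul_def, IsScalarTower.algebraMap_apply V T (T ⧸ P), Ideal.Quotient.algebraMap_eq,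
        ← map_mul, Ideal.Quotient.eq_zero_iff_mem] at h
      rcases (inferInstance : P.IsPrime).mem_or_mem h with h1 | h1
      · exact Or.inl (hmem h1)
      · exact Or.inr (Ideal.Quotient.eq_zero_iff_mem.mpr h1)
    haveI : Module.FinitePresentation T (T ⧸ P) :=
      GrothLib.NagataFP.finitePresentation_essFiniteType (A := V)
    have h := Module.FinitePresentation.fg_ker (Submodule.mkQ P) (Submodule.mkQ_surjective P)
    rwa [Submodule.ker_mkQ] at h
  have hsplit : ∀ t ∈ (maximalIdeal V).map (algebraMap V T),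
      ∃ π ∈ maximalIdeal V, ∃ s : T, t = algebraMap V T π * s := by
    intro t ht
    induction ht using Submodule.span_induction with
    | mem x hx => obtain ⟨π, hπ, rfl⟩ := hx; exact ⟨π, hπ, 1, (mul_one _).symm⟩
    | zero => exact ⟨0, zero_mem _, 0, by simp⟩
    | add x y _ _ hx hy =>
      obtain ⟨a, ha, s, rfl⟩ := hx
      obtain ⟨b, hb, r, rfl⟩ := hy
      rcases ValuationRing.dvd_total a b with ⟨c, rfl⟩ | ⟨c, rfl⟩
      · exact ⟨a, ha, s + algebraMap V T c * r, by rw [map_mul]; ring⟩
      · exact ⟨b, hb, algebraMap V T c * s + r, by rw [map_mul]; ring⟩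
    | smul c x _ hx =>
      obtain ⟨a, ha, s, rfl⟩ := hx
      exact ⟨a, ha, c * s, by rw [smul_eq_mul]; ring⟩
  refine Submodule.eq_bot_of_le_smul_of_le_jacobson_bot ((maximalIdeal V).map (algebraMap V T)) P hfg
    (fun t ht => ?_) ((le_maximalIdeal hq.ne_top).trans (IsLocalRing.jacobson_eq_maximalIdeal ⊥ bot_ne_top).ge)
  obtain ⟨π, hπ, s, rfl⟩ := hsplit t (hP ht)
  rcases (inferInstance : P.IsPrime).mem_or_mem ht with h1 | h1
  · rw [hmem h1, map_zero, zero_mul]
    exact zero_mem _
  · exact Submodule.smul_mem_smul (Ideal.mem_map_of_mem _ hπ) h1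

variable {X Y : Scheme.{u}}

/-- Over a valuation ring, near a point with integral closed fibre germ a point over the generic point of the
base specializing to the generic point of that germ is generic. -/
theorem specializes_of_valuation {V : Type u} [CommRing V] [IsDomain V] [ValuationRing V]
    (f : X ⟶ Spec (CommRingCat.of V)) [LocallyOfFiniteType f] (a : X) (hc : f a = IsLocalRing.closedPoint V)
    (hdom : IsDomain ((f.fiber (f a)).presheaf.stalk (f.asFiber a)))
    (p₀ : X) (hp₀ : ∀ z, z ⤳ a → f z = f a → p₀ ⤳ z)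
    (v : X) (hv : v ⤳ p₀) (hva : v ⤳ a) (hfv : (f v).asIdeal = ⊥) :
    ∀ z, z ⤳ a → v ⤳ z := by
  let T := X.presheaf.stalk a
  let p : PrimeSpectrum V := f a
  have hp : p.asIdeal = maximalIdeal V := congrArg PrimeSpectrum.asIdeal hc
  let S := (Spec (CommRingCat.of V)).presheaf.stalk (f a)
  haveI : IsLocalRing ((Spec.structureSheaf V).presheaf.stalk p) :=
    IsLocalization.AtPrime.isLocalRing _ p.asIdeal
  let θ : V →+* S := algebraMap V ((Spec.structureSheaf V).presheaf.stalk p)
  have hmS : (maximalIdeal V).map θ = maximalIdeal S := by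
    rw [← hp]
    exact IsLocalization.AtPrime.map_eq_maximalIdeal p.asIdeal ((Spec.structureSheaf V).presheaf.stalk p)
  have hθ : Function.Bijective θ := by
    have hunit : ∀ x ∈ p.asIdeal.primeCompl, IsUnit x := fun x hx => by
      by_contra hn
      exact hx (hp ▸ (IsLocalRing.mem_maximalIdeal x).mpr hn)
    exact (IsLocalization.atUnits V p.asIdeal.primeCompl hunit
      (S := (Spec.structureSheaf V).presheaf.stalk p)).bijective
  letI : Algebra V T := ((f.stalkMap a).hom.comp θ).toAlgebra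
  have hess : ((f.stalkMap a).hom.comp θ).EssFiniteType :=
    RingHom.EssFiniteType.stableUnderComposition _ _
      (RingHom.FiniteType.of_surjective _ hθ.2).essFiniteType (LocallyOfFiniteType.stalkMap f a)
  haveI : Algebra.EssFiniteType V T := hess
  have hmap : (maximalIdeal V).map (algebraMap V T) = (maximalIdeal S).map (f.stalkMap a).hom := by
    rw [← hmS, Ideal.map_map]
    rfl
  obtain ⟨e⟩ := GrothLib.CMMor6.nonempty_fibQuot_equiv f a
  haveI hprime : ((maximalIdeal S).map (f.stalkMap a).hom).IsPrime := by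
    haveI : IsDomain (T ⧸ (maximalIdeal S).map (f.stalkMap a).hom) := MulEquiv.isDomain _ e.toMulEquiv
    exact (Ideal.Quotient.isDomain_iff_prime _).mp inferInstance
  let Pm : PrimeSpectrum T := ⟨(maximalIdeal S).map (f.stalkMap a).hom, hprime⟩
  let zm := X.fromSpecStalk a Pm
  have hzm : zm ⤳ a := (Scheme.range_fromSpecStalk (x := a)).le ⟨_, rfl⟩
  have hzmP : GrothLib.CycDiv.primeOf hzm = (maximalIdeal S).map (f.stalkMap a).hom :=
    GrothLib.CycDiv.primeOf_fromSpecStalk Pm hzm
  have hfzm : f zm = f a := by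
    have h1 : (GrothLib.CycDiv.primeOf hzm).comap (f.stalkMap a).hom = maximalIdeal S := by
      rw [hzmP]
      exact ((maximalIdeal.isMaximal S).eq_of_le (Ideal.comap_isPrime _ _).ne_top' Ideal.le_comap_map).symm
    rw [GrothLib.CycDiv.comap_primeOf f hzm] at h1
    have h2 := GrothLib.CycDiv.fromSpecStalk_primeOf (hzm.map f.continuous)
    rw [show (⟨GrothLib.CycDiv.primeOf (hzm.map f.continuous), inferInstance⟩ : PrimeSpectrum S) =
      IsLocalRing.closedPoint S from PrimeSpectrum.ext h1] at h2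
    exact h2.symm.trans Scheme.fromSpecStalk_closedPoint
  have hP : GrothLib.CycDiv.primeOf hva ≤ (maximalIdeal V).map (algebraMap V T) := by
    rw [hmap, ← hzmP]
    exact (GrothLib.CycDiv.primeOf_le_iff _ _).mpr (hv.trans (hp₀ zm hzm hfzm))
  have hP0 : (GrothLib.CycDiv.primeOf hva).comap (algebraMap V T) = ⊥ := by
    have hs : GrothLib.CycDiv.primeOf (hva.map f.continuous) = ⊥ := by
      have hbot : (f v) = (⟨⊥, Ideal.isPrime_bot⟩ : PrimeSpectrum V) := PrimeSpectrum.ext hfv
      haveI hb : (⊥ : Ideal S).IsPrime := by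
        haveI : IsDomain ((Spec.structureSheaf V).presheaf.stalk p) :=
          IsLocalization.isDomain_of_le_nonZeroDivisors _ (Ideal.primeCompl_le_nonZeroDivisors p.asIdeal)
        exact Ideal.isPrime_bot (α := ((Spec.structureSheaf V).presheaf.stalk p))
      let g₀ := (Spec (CommRingCat.of V)).fromSpecStalk (f a) ⟨⊥, hb⟩
      have hg₀ : g₀ ⤳ f a := (Scheme.range_fromSpecStalk (x := f a)).le ⟨_, rfl⟩
      have h1 : GrothLib.CycDiv.primeOf (hva.map f.continuous) ≤ GrothLib.CycDiv.primeOf hg₀ := by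
        refine (GrothLib.CycDiv.primeOf_le_iff _ _).mpr ?_
        rw [hbot]
        exact (PrimeSpectrum.le_iff_specializes (⟨⊥, Ideal.isPrime_bot⟩ : PrimeSpectrum V) g₀).mp bot_le
      rw [GrothLib.CycDiv.primeOf_fromSpecStalk ⟨⊥, hb⟩ hg₀] at h1
      exact le_bot_iff.mp h1
    show (GrothLib.CycDiv.primeOf hva).comap ((f.stalkMap a).hom.comp θ) = ⊥
    rw [← Ideal.comap_comap, GrothLib.CycDiv.comap_primeOf f hva, hs, ← RingHom.ker_eq_comap_bot]
    exact (RingHom.injective_iff_ker_eq_bot θ).mp hθ.1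
  have hbotP := eq_bot_of_prime_of_valuation (V := V) (T := T) (hmap ▸ hprime) _ hP hP0
  intro z hz
  exact (GrothLib.CycDiv.primeOf_le_iff hva hz).mp (hbotP.trans_le bot_le)

/-- A smooth point of a fibre without proper generization is a field, geometrically separable over the base. -/
theorem formallySmooth_residueField_of_smooth_fibre (f : X ⟶ Y) [LocallyOfFinitePresentation f] (y : Y)
    (w : f.fiber y) (hmax : ∀ w', w' ⤳ w → w' = w)
    (hsm : haveI : LocallyOfFinitePresentation (f.fiberToSpecResidueField y) :=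
        MorphismProperty.pullback_snd f _ inferInstance
      w ∈ (f.fiberToSpecResidueField y).smoothLocus) :
    (maximalIdeal (Y.presheaf.stalk (f (f.fiberι y w)))).map (f.stalkMap (f.fiberι y w)).hom =
        maximalIdeal (X.presheaf.stalk (f.fiberι y w)) ∧
      (IsLocalRing.ResidueField.map (f.stalkMap (f.fiberι y w)).hom).FormallySmooth := by
  haveI : LocallyOfFinitePresentation (f.fiberToSpecResidueField y) :=
    MorphismProperty.pullback_snd f _ inferInstance
  let F := (f.fiber y).presheaf.stalk w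
  let ff := f.fiberToSpecResidueField y
  haveI : IsRegularLocalRing F :=
    Groth.Agent.Lib.AlgMisc.GeomRegAt.isRegularLocalRing_stalk_of_mem_smoothLocus (k := Y.residueField y) ff hsm
  haveI : IsDomain F := GrothLib.CMFree.isDomain_of_isRegularLocalRing F
  have hF : maximalIdeal F = ⊥ := by
    by_contra hne
    have h1 : (f.fiber y).fromSpecStalk w (⟨⊥, Ideal.isPrime_bot⟩ : PrimeSpectrum F) = w :=
      hmax _ ((Scheme.range_fromSpecStalk (x := w)).le ⟨_, rfl⟩)
    have h2 : (⟨⊥, Ideal.isPrime_bot⟩ : PrimeSpectrum F) = IsLocalRing.closedPoint F :=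
      ((f.fiber y).fromSpecStalk w).isEmbedding.injective (h1.trans Scheme.fromSpecStalk_closedPoint.symm)
    exact hne (congrArg PrimeSpectrum.asIdeal h2).symm
  obtain ⟨hφ, hker⟩ := GrothLib.FibreFlat.fiberι_stalkMap f y w
  let φ := ((f.fiberι y).stalkMap w).hom
  have hkerφ : RingHom.ker φ = maximalIdeal _ := by
    have h1 : IsLocalHom φ := inferInstance
    have h2 := ((local_hom_TFAE φ).out 0 4 rfl rfl).1 h1
    rw [hF, ← RingHom.ker_eq_comap_bot] at h2
    exact h2
  refine ⟨hker.symm.trans hkerφ, ?_⟩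
  -- the base
  have hfac := Scheme.Hom.stalkMap_congr_hom _ _ (f.fiber_fac y) w
  rw [Scheme.Hom.stalkMap_comp, Scheme.Hom.stalkMap_comp] at hfac
  let Sk := (Spec (Y.residueField y)).presheaf.stalk (ff w)
  have hSk : maximalIdeal Sk = ⊥ := by
    have hw : ff w = genericPoint (Spec (Y.residueField y)) := Subsingleton.elim _ _
    have hfield : IsField Sk := by
      show IsField ((Spec (Y.residueField y)).presheaf.stalk (ff w))
      rw [hw]
      exact Field.toIsField (Spec (Y.residueField y)).functionField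
    exact IsLocalRing.isField_iff_maximalIdeal_eq.mp hfield
  obtain ⟨ψ, hψsurj, hψloc, hcomp⟩ : ∃ ψ : Y.presheaf.stalk (f (f.fiberι y w)) →+* Sk, Function.Surjective ψ ∧
      IsLocalHom ψ ∧ φ.comp (f.stalkMap (f.fiberι y w)).hom = (ff.stalkMap w).hom.comp ψ := by
    refine ⟨((Y.presheaf.stalkCongr (Inseparable.of_eq (congrArg (fun m : f.fiber y ⟶ Y => m w) (f.fiber_fac y)))).hom ≫ (Y.fromSpecResidueField y).stalkMap (ff w)).hom, ?_, ?_, ?_⟩
    rotate_left 2
    · have := congrArg CommRingCat.Hom.hom hfac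
      simpa [φ, CommRingCat.hom_comp, RingHom.comp_assoc] using this
    · rw [CommRingCat.hom_comp]
      exact ((Y.fromSpecResidueField y).stalkMap_surjective (ff w)).comp
        (ConcreteCategory.bijective_of_isIso _).2
    · infer_instance
  have hkerψ : RingHom.ker ψ = maximalIdeal _ := by
    have h2 := ((local_hom_TFAE ψ).out 0 4 rfl rfl).1 hψloc
    rw [hSk, ← RingHom.ker_eq_comap_bot] at h2
    exact h2
  let ψ' : IsLocalRing.ResidueField (Y.presheaf.stalk (f (f.fiberι y w))) →+* Sk :=
    Ideal.Quotient.lift _ ψ (fun s hs => by rw [← RingHom.mem_ker, hkerψ]; exact hs)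
  let φ' : IsLocalRing.ResidueField (X.presheaf.stalk (f.fiberι y w)) →+* F :=
    Ideal.Quotient.lift _ φ (fun s hs => by rw [← RingHom.mem_ker, hkerφ]; exact hs)
  have hψ' : Function.Bijective ψ' :=
    ⟨RingHom.lift_injective_of_ker_le_ideal _ _ hkerψ.le, Ideal.Quotient.lift_surjective_of_surjective _ _ hψsurj⟩
  have hφ' : Function.Bijective φ' :=
    ⟨RingHom.lift_injective_of_ker_le_ideal _ _ hkerφ.le, Ideal.Quotient.lift_surjective_of_surjective _ _ hφ⟩
  let e := RingEquiv.ofBijective φ' hφ'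
  have heq : IsLocalRing.ResidueField.map (f.stalkMap (f.fiberι y w)).hom =
      e.symm.toRingHom.comp ((ff.stalkMap w).hom.comp ψ') := by
    ext s
    obtain ⟨s, rfl⟩ := residue_surjective s
    apply e.injective
    refine Eq.trans ?_ (e.apply_symm_apply _).symm
    exact RingHom.congr_fun hcomp s
  rw [heq]
  exact RingHom.FormallySmooth.comp (RingHom.FormallySmooth.comp (RingHom.FormallySmooth.of_bijective hψ') hsm)
    (RingHom.FormallySmooth.of_bijective e.symm.bijective)

/-- Universal openness at a point of an open piece. -/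
theorem isOpenAt_snd_of_openImmersion {X' : Scheme.{u}} (j : X' ⟶ X) [IsOpenImmersion j] (f : X ⟶ Y) (x' : X')
    (hf : EGA43.IsUnivOpenAt f (j x')) : EGA43.IsUnivOpenAt (j ≫ f) x' := by
  intro Y' g z hz
  let k : pullback (j ≫ f) g ⟶ pullback f g :=
    pullback.map (j ≫ f) g f g j (𝟙 _) (𝟙 _) (by rw [Category.comp_id]) (by simp)
  have hk : k ≫ pullback.snd f g = pullback.snd (j ≫ f) g := by simp [k]
  have h1 := hf Y' g (k z) (by
    rw [← Scheme.Hom.comp_apply, show k ≫ pullback.fst f g = pullback.fst (j ≫ f) g ≫ j by simp [k]]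
    exact congrArg j hz)
  intro U hU
  have h2 := h1 _ (k.isOpenEmbedding.isOpenMap.image_mem_nhds hU)
  rw [← hk]
  show ((k ≫ pullback.snd f g).base) '' U ∈ 𝓝 ((k ≫ pullback.snd f g) z)
  rw [← Set.image_comp] at h2
  exact h2

/-- A closed immersion into a smooth scheme, universally open over the base at a point which is generic in
the fibre of the smooth scheme, contains all generizations of this point. -/
theorem mem_range_of_smooth_cover {D E : Scheme.{u}} (i : D ⟶ E) [IsClosedImmersion i] (π : E ⟶ Y) [Smooth π]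
    (xD : D) (hmax : ∀ z, z ⤳ i xD → π z = π (i xD) → z = i xD) (hopen : EGA43.IsUnivOpenAt (i ≫ π) xD)
    {e' : E} (he' : e' ⤳ i xD) : e' ∈ Set.range i := by
  obtain ⟨W, _, _, u, hu₁, hu₀⟩ := GrothLib.HTop.exists_valuationRing_map he'
  let b := u ≫ π
  let f' : pullback π b ⟶ Spec (CommRingCat.of W) := pullback.snd π b
  haveI : Smooth f' := MorphismProperty.pullback_snd π b ‹_›
  let σ : Spec W ⟶ pullback π b := pullback.lift u (𝟙 _) (by rw [Category.id_comp])
  have hσ : σ ≫ f' = 𝟙 _ := pullback.lift_snd _ _ _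
  have hσu : σ ≫ pullback.fst π b = u := pullback.lift_fst _ _ _
  let c : Spec W := GrothLib.HTop.closed W
  let η : Spec W := GrothLib.HTop.gen W
  let a := σ c
  have hfa : f' a = c := congrArg (fun m : Spec W ⟶ Spec W => m c) hσ
  let ff := f'.fiberToSpecResidueField (f' a)
  haveI : Smooth ff := MorphismProperty.pullback_snd f' _ ‹_›
  haveI : IsRegularLocalRing ((f'.fiber (f' a)).presheaf.stalk (f'.asFiber a)) :=
    Groth.Agent.Lib.AlgMisc.GeomRegAt.isRegularLocalRing_stalk_of_mem_smoothLocus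
      (k := (Spec (CommRingCat.of W)).residueField (f' a)) ff
      (by rw [Scheme.Hom.smoothLocus_eq_top]; trivial)
  haveI hdom : IsDomain ((f'.fiber (f' a)).presheaf.stalk (f'.asFiber a)) :=
    GrothLib.CMFree.isDomain_of_isRegularLocalRing _
  let w₀ := (f'.fiber (f' a)).fromSpecStalk (f'.asFiber a)
    (⟨⊥, Ideal.isPrime_bot⟩ : PrimeSpectrum ((f'.fiber (f' a)).presheaf.stalk (f'.asFiber a)))
  let p₀ := f'.fiberι (f' a) w₀
  have hp₀a : p₀ ⤳ a :=
    (((Scheme.range_fromSpecStalk (x := f'.asFiber a)).le ⟨_, rfl⟩ : w₀ ⤳ f'.asFiber a).map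
      (f'.fiberι (f' a)).continuous).trans (specializes_of_eq (f'.fiberι_asFiber a))
  have hfp₀ : f' p₀ = f' a := (f'.range_fiberι (f' a)).le ⟨w₀, rfl⟩
  have hp₀ : ∀ z, z ⤳ a → f' z = f' a → p₀ ⤳ z := by
    intro z hz hfz
    obtain ⟨wz, rfl⟩ := (f'.range_fiberι (f' a)).ge (show z ∈ f' ⁻¹' {f' a} from hfz)
    have hwz : wz ⤳ f'.asFiber a := by
      refine (f'.fiberι _).isEmbedding.isInducing.specializes_iff.mp ?_
      rw [f'.fiberι_asFiber]
      exact hz
    obtain ⟨Q, rfl⟩ := (Scheme.range_fromSpecStalk (x := f'.asFiber a)).ge hwz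
    exact ((PrimeSpectrum.le_iff_specializes (⟨⊥, Ideal.isPrime_bot⟩ : PrimeSpectrum _) Q).mp
      (show (⊥ : Ideal _) ≤ Q.asIdeal from bot_le)).map
      (((f'.fiber (f' a)).fromSpecStalk (f'.asFiber a)) ≫ f'.fiberι (f' a)).continuous
  have hpe : pullback.fst π b p₀ = i xD := by
    have hae : pullback.fst π b a = i xD := (congrArg (fun m : Spec W ⟶ E => m c) hσu).trans hu₀
    have hcond : ∀ z, π (pullback.fst π b z) = b (f' z) := fun z =>
      congrArg (fun m : pullback π b ⟶ Y => m z) pullback.condition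
    refine hmax _ ((hp₀a.map (pullback.fst π b).continuous).trans (specializes_of_eq hae)) ?_
    rw [hcond, hfp₀, ← hcond, hae]
  obtain ⟨x'', hx''₁, hx''₂⟩ := Scheme.Pullback.exists_preimage_pullback (f := i) (g := pullback.fst π b) xD p₀ hpe.symm
  have sq : IsPullback (pullback.fst i (pullback.fst π b)) (pullback.snd i (pullback.fst π b) ≫ f') (i ≫ π) b :=
    (IsPullback.of_hasPullback i (pullback.fst π b)).paste_vert (IsPullback.of_hasPullback π b)
  let k := sq.isoPullback
  have hopen'' : EGA43.IsOpenAt (pullback.snd i (pullback.fst π b) ≫ f').base x'' := by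
    have h1 := hopen _ b (k.hom x'') (by
      rw [← Scheme.Hom.comp_apply, sq.isoPullback_hom_fst]
      exact hx''₁)
    intro U hU
    have h2 := h1 _ (k.hom.isOpenEmbedding.isOpenMap.image_mem_nhds hU)
    rw [← Set.image_comp] at h2
    rw [show pullback.snd i (pullback.fst π b) ≫ f' = k.hom ≫ pullback.snd (i ≫ π) b from
      sq.isoPullback_hom_snd.symm]
    exact h2
  have hfx'' : (pullback.snd i (pullback.fst π b) ≫ f') x'' = c := by
    rw [Scheme.Hom.comp_apply, hx''₂, hfp₀, hfa]
  obtain ⟨z, hz, hfz⟩ := exists_lift_of_isOpenAt _ hopen'' (y' := η)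
    (by rw [hfx'']; exact IsLocalRing.specializes_closedPoint (R := W) _)
  let v := pullback.snd i (pullback.fst π b) z
  have hv : v ⤳ p₀ := (hz.map (pullback.snd i (pullback.fst π b)).continuous).trans (specializes_of_eq hx''₂)
  have hfv : f' v = η := hfz
  have hgen := specializes_of_valuation (V := W) f' a hfa hdom p₀ hp₀ v hv (hv.trans hp₀a) (by rw [hfv]; rfl)
  have hση : σ η ⤳ a := (IsLocalRing.specializes_closedPoint (R := W) _ : η ⤳ c).map σ.continuous
  obtain ⟨z', hz'⟩ : σ η ∈ Set.range (pullback.snd i (pullback.fst π b)) :=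
    (hgen _ hση).mem_closed (pullback.snd i (pullback.fst π b)).isClosedEmbedding.isClosed_range ⟨z, rfl⟩
  refine ⟨pullback.fst i (pullback.fst π b) z', ?_⟩
  rw [← Scheme.Hom.comp_apply, pullback.condition, Scheme.Hom.comp_apply, hz', ← hu₁]
  exact congrArg (fun m : Spec W ⟶ E => m η) hσu

/-- A morphism locally of finite presentation is flat at a smooth generic point of a fibre over a point with
reduced local ring where it is universally open. -/
theorem flat_stalkMap_of_isUnivOpenAt_smooth_generic (f : X ⟶ Y) [LocallyOfFinitePresentation f] (y : Y)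
    (w : f.fiber y) (hy : _root_.IsReduced (Y.presheaf.stalk (f (f.fiberι y w))))
    (hmax : ∀ w', w' ⤳ w → w' = w)
    (hsm : haveI : LocallyOfFinitePresentation (f.fiberToSpecResidueField y) :=
        MorphismProperty.pullback_snd f _ inferInstance
      w ∈ (f.fiberToSpecResidueField y).smoothLocus)
    (hopen : EGA43.IsUnivOpenAt f (f.fiberι y w)) :
    (f.stalkMap (f.fiberι y w)).hom.Flat := by
  obtain ⟨hfield, hFS⟩ := formallySmooth_residueField_of_smooth_fibre f y w hmax hsm
  generalize f.fiberι y w = x at hfield hFS hy hopen ⊢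
  obtain ⟨V, hV, hxV, -⟩ := exists_isAffineOpen_mem_and_subset (show f x ∈ (⊤ : Y.Opens) from trivial)
  obtain ⟨W, hW, hxW, hWV⟩ := exists_isAffineOpen_mem_and_subset (show x ∈ f ⁻¹ᵁ V from hxV)
  letI : Algebra Γ(Y, V) Γ(X, W) := (f.appLE V W hWV).hom.toAlgebra
  haveI : Algebra.FiniteType Γ(Y, V) Γ(X, W) := f.finiteType_appLE hV hW hWV
  let q := (hW.primeIdealOf ⟨x, hxW⟩).asIdeal
  have hp : (hV.primeIdealOf ⟨f x, hWV hxW⟩).asIdeal = q.comap (algebraMap Γ(Y, V) Γ(X, W)) :=
    (congrArg PrimeSpectrum.asIdeal (IsAffineOpen.comap_primeIdealOf_appLE V hV W hW hWV hxW)).symm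
  let S := Y.presheaf.stalk (f x)
  let T := X.presheaf.stalk x
  letI : Algebra Γ(Y, V) S := (Y.presheaf.germ V (f x) (hWV hxW)).hom.toAlgebra
  letI : Algebra Γ(X, W) T := (X.presheaf.germ W x hxW).hom.toAlgebra
  haveI : IsLocalization.AtPrime S (q.comap (algebraMap Γ(Y, V) Γ(X, W))) := by
    have h := hV.isLocalization_stalk ⟨f x, hWV hxW⟩
    have key : ∀ (P : Ideal Γ(Y, V)) [P.IsPrime] (P' : Ideal Γ(Y, V)) [P'.IsPrime], P = P' →
        IsLocalization.AtPrime S P → IsLocalization.AtPrime S P' := by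
      intro P _ P' _ e hl
      subst e
      exact hl
    exact key _ _ hp h
  haveI : IsLocalization.AtPrime T q := hW.isLocalization_stalk ⟨x, hxW⟩
  letI : Algebra S T := (f.stalkMap x).hom.toAlgebra
  letI : Algebra Γ(Y, V) T := ((algebraMap Γ(X, W) T).comp (algebraMap Γ(Y, V) Γ(X, W))).toAlgebra
  haveI : IsScalarTower Γ(Y, V) Γ(X, W) T := IsScalarTower.of_algebraMap_eq' rfl
  haveI : IsScalarTower Γ(Y, V) S T := IsScalarTower.of_algebraMap_eq fun s => by
    show X.presheaf.germ W x hxW (f.appLE V W hWV s) = f.stalkMap x (Y.presheaf.germ V (f x) (hWV hxW) s)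
    rw [Scheme.Hom.germ_stalkMap_apply]
    simp only [Scheme.Hom.appLE, CommRingCat.hom_comp, RingHom.comp_apply]
    exact TopCat.Presheaf.germ_res_apply X.presheaf _ _ _ _
  haveI : IsLocalHom (algebraMap S T) := inferInstanceAs (IsLocalHom (f.stalkMap x).hom)
  haveI : Algebra.FormallySmooth (ResidueField S) (ResidueField T) :=
    RingHom.formallySmooth_algebraMap.mp hFS
  obtain ⟨h, hhq, H⟩ := exists_smooth_cover (A := Γ(Y, V)) (B := Γ(X, W)) q S T hfield
  let D := X.basicOpen h
  have hD : IsAffineOpen D := hW.basicOpen h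
  have hDW : D ≤ W := X.basicOpen_le h
  letI : Algebra Γ(X, W) Γ(X, D) := (X.presheaf.map (homOfLE hDW).op).hom.toAlgebra
  haveI : IsLocalization.Away h Γ(X, D) := hW.isLocalization_basicOpen h
  obtain ⟨C, _, _, ψ, hC, hψ, hcomp, hQ, hredC⟩ := H Γ(X, D)
  let i : (D : Scheme.{u}) ⟶ Spec (CommRingCat.of C) := hD.isoSpec.hom ≫ Spec.map (CommRingCat.ofHom ψ)
  haveI : IsClosedImmersion (Spec.map (CommRingCat.ofHom ψ)) := IsClosedImmersion.spec_of_surjective _ hψ
  haveI : IsClosedImmersion i := inferInstance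
  let π₀ := Spec.map (CommRingCat.ofHom (algebraMap Γ(Y, V) C))
  haveI : Smooth π₀ := (HasRingHomProperty.Spec_iff (P := @Smooth)).mpr (RingHom.smooth_algebraMap.mpr inferInstance)
  let π : Spec (CommRingCat.of C) ⟶ Y := π₀ ≫ hV.fromSpec
  haveI : Smooth π := inferInstance
  have hig : i ≫ π = D.ι ≫ f := by
    have hc : CommRingCat.ofHom (algebraMap Γ(Y, V) C) ≫ CommRingCat.ofHom ψ = f.appLE V D (hDW.trans hWV) := by
      rw [← Scheme.Hom.appLE_map (f := f) hWV (homOfLE hDW).op]
      exact CommRingCat.hom_ext hcomp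
    simp only [i, π, π₀, Category.assoc]
    rw [← Category.assoc (Spec.map (CommRingCat.ofHom ψ)), ← Spec.map_comp, hc,
      hV.SpecMap_appLE_fromSpec f hD, ← Category.assoc, hD.isoSpec_hom_fromSpec]
  have hxD : x ∈ D := by
    have h1 : hW.fromSpec (hW.primeIdealOf ⟨x, hxW⟩) ∈ D := by
      rw [← Scheme.Hom.mem_preimage (f := hW.fromSpec), hW.fromSpec_preimage_basicOpen]; exact hhq
    rwa [hW.fromSpec_primeIdealOf ⟨x, hxW⟩] at h1
  let xD : D := ⟨x, hxD⟩
  set q' := (q.map (algebraMap Γ(X, W) Γ(X, D))).comap ψ with hq'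
  have he : (i xD).asIdeal = q' := by
    have h1 : ((hD.primeIdealOf xD).asIdeal).comap (algebraMap Γ(X, W) Γ(X, D)) = q := by
      have h2 : Spec.map (X.presheaf.map (homOfLE hDW).op) (hD.primeIdealOf xD) = hW.primeIdealOf ⟨x, hxW⟩ := by
        apply hW.fromSpec.isOpenEmbedding.injective
        rw [hW.fromSpec_primeIdealOf, ← Scheme.Hom.comp_apply, hW.map_fromSpec hD]
        exact hD.fromSpec_primeIdealOf xD
      exact congrArg PrimeSpectrum.asIdeal h2
    show (hD.primeIdealOf xD).asIdeal.comap ψ = q'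
    rw [hq', ← h1]
    exact congrArg (Ideal.comap ψ) (IsLocalization.map_comap (Submonoid.powers h) Γ(X, D) _).symm
  have hopen' : EGA43.IsUnivOpenAt (i ≫ π) xD := by
    rw [hig]
    exact isOpenAt_snd_of_openImmersion D.ι f xD hopen
  have hπe : π (i xD) = f x := congrArg (fun m : (D : Scheme.{u}) ⟶ Y => m xD) hig
  have hπp : ((i xD).asIdeal).comap (algebraMap Γ(Y, V) C) = q.comap (algebraMap Γ(Y, V) Γ(X, W)) := by
    rw [← hp]
    have h2 : π₀ (i xD) = hV.primeIdealOf ⟨f x, hWV hxW⟩ := by
      apply hV.fromSpec.isOpenEmbedding.injective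
      rw [hV.fromSpec_primeIdealOf]
      exact hπe
    exact congrArg PrimeSpectrum.asIdeal h2
  have hmax' : ∀ z, z ⤳ i xD → π z = π (i xD) → z = i xD := by
    intro z hz hπz
    have h1 : π₀ z = π₀ (i xD) := hV.fromSpec.isOpenEmbedding.injective hπz
    refine PrimeSpectrum.ext ((hQ z.asIdeal z.isPrime ?_ ?_).trans he.symm)
    · exact le_trans (α := Ideal C) ((PrimeSpectrum.le_iff_specializes z (i xD)).mpr hz) he.le
    · exact (congrArg PrimeSpectrum.asIdeal h1).trans hπp
  -- the kernel is locally zero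
  haveI : q'.IsPrime := he ▸ (i xD).isPrime
  have hker : ∀ c, ψ c = 0 → ∃ t ∉ q', t * c = 0 := by
    intro c hc
    have hnil : IsNilpotent (algebraMap C (Localization.AtPrime q') c) := by
      rw [← mem_nilradical, nilradical_eq_sInf, Submodule.mem_sInf]
      intro P hP
      change Ideal (Localization.AtPrime q') at P
      haveI : P.IsPrime := hP
      let e' : Spec (CommRingCat.of C) := ⟨P.comap (algebraMap C (Localization.AtPrime q')), inferInstance⟩
      have he' : e' ⤳ i xD := by
        refine (PrimeSpectrum.le_iff_specializes e' (i xD)).mp ?_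
        show P.comap (algebraMap C (Localization.AtPrime q')) ≤ (i xD).asIdeal
        rw [he]
        exact (Ideal.comap_mono (le_maximalIdeal hP.ne_top)).trans
          (Localization.AtPrime.under_maximalIdeal (I := q')).le
      obtain ⟨d, hd⟩ := mem_range_of_smooth_cover i π xD hmax' hopen' he'
      have : c ∈ e'.asIdeal := by
        rw [← hd]
        show ψ c ∈ (hD.isoSpec.hom d).asIdeal
        rw [hc]
        exact zero_mem _
      exact this
    obtain ⟨n, hn⟩ := hnil
    rw [← map_pow, IsLocalization.map_eq_zero_iff q'.primeCompl] at hn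
    obtain ⟨⟨t, ht⟩, htc⟩ := hn
    exact hredC hy c t n ht htc
  -- so the local ring is that of the smooth algebra
  haveI hTD : IsLocalization.AtPrime T q := inferInstance
  letI : Algebra Γ(X, D) T := (X.presheaf.germ D x hxD).hom.toAlgebra
  haveI : IsScalarTower Γ(X, W) Γ(X, D) T := IsScalarTower.of_algebraMap_eq fun r =>
    (TopCat.Presheaf.germ_res_apply X.presheaf (homOfLE hDW) x hxD r).symm
  letI : Algebra C T := ((algebraMap Γ(X, D) T).comp ψ).toAlgebra
  haveI : IsScalarTower Γ(Y, V) C T := IsScalarTower.of_algebraMap_eq fun s => by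
    show algebraMap Γ(X, W) T (algebraMap Γ(Y, V) Γ(X, W) s) = algebraMap Γ(X, D) T (ψ (algebraMap Γ(Y, V) C s))
    rw [show ψ (algebraMap Γ(Y, V) C s) = algebraMap Γ(X, W) Γ(X, D) (algebraMap Γ(Y, V) Γ(X, W) s) from
      RingHom.congr_fun hcomp s]
    exact IsScalarTower.algebraMap_apply Γ(X, W) Γ(X, D) T _
  have hunit : ∀ d : Γ(X, D), d ∉ q.map (algebraMap Γ(X, W) Γ(X, D)) → IsUnit (algebraMap Γ(X, D) T d) := by
    intro d hd
    obtain ⟨⟨b, s⟩, hbs⟩ := IsLocalization.surj (Submonoid.powers h) d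
    have hu : IsUnit (algebraMap Γ(X, W) Γ(X, D) s.1) := IsLocalization.map_units Γ(X, D) s
    have hb : b ∉ q := fun hb => hd ((Ideal.mul_unit_mem_iff_mem _ hu).mp (hbs ▸ Ideal.mem_map_of_mem _ hb))
    have h2 : IsUnit (algebraMap Γ(X, D) T (d * algebraMap Γ(X, W) Γ(X, D) s.1)) := by
      rw [hbs, ← IsScalarTower.algebraMap_apply]
      exact IsLocalization.map_units (M := q.primeCompl) T ⟨b, hb⟩
    rw [map_mul] at h2
    exact isUnit_of_mul_isUnit_left h2
  haveI : IsLocalization.AtPrime T q' := by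
    refine ⟨fun c => hunit _ c.2, fun t => ?_, fun {c₁ c₂} heq => ?_⟩
    · obtain ⟨⟨b, s⟩, hbs⟩ := IsLocalization.surj q.primeCompl t
      obtain ⟨c, hc⟩ := hψ (algebraMap Γ(X, W) Γ(X, D) b)
      obtain ⟨c', hc'⟩ := hψ (algebraMap Γ(X, W) Γ(X, D) s)
      have hc'q : c' ∉ q' := by
        rw [hq', Ideal.mem_comap, hc']
        intro hmem
        have hdisj : Disjoint (Submonoid.powers h : Set Γ(X, W)) q :=
          (Ideal.disjoint_powers_iff_notMem_of_isPrime (I := q) (y := h)).mpr hhq
        exact s.2 ((IsLocalization.comap_map_of_isPrime_disjoint (Submonoid.powers h) Γ(X, D)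
          (inferInstance : q.IsPrime) hdisj).le hmem)
      refine ⟨⟨c, (⟨c', hc'q⟩ : q'.primeCompl)⟩, ?_⟩
      show t * algebraMap Γ(X, D) T (ψ c') = algebraMap Γ(X, D) T (ψ c)
      rw [hc, hc', ← IsScalarTower.algebraMap_apply, ← IsScalarTower.algebraMap_apply]
      exact hbs
    · have h0 : algebraMap Γ(X, D) T (ψ (c₁ - c₂)) = 0 := by
        rw [map_sub, map_sub, sub_eq_zero]
        exact heq
      obtain ⟨⟨b, s⟩, hbs⟩ := IsLocalization.surj (Submonoid.powers h) (ψ (c₁ - c₂))
      have hb : algebraMap Γ(X, W) T b = 0 := by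
        rw [IsScalarTower.algebraMap_apply Γ(X, W) Γ(X, D) T, ← hbs, map_mul, h0, zero_mul]
      obtain ⟨⟨r, hr⟩, hrb⟩ := (IsLocalization.map_eq_zero_iff q.primeCompl T b).mp hb
      obtain ⟨r', hr'⟩ := hψ (algebraMap Γ(X, W) Γ(X, D) r)
      have hr'q : r' ∉ q' := by
        rw [hq', Ideal.mem_comap, hr']
        intro hmem
        have hdisj : Disjoint (Submonoid.powers h : Set Γ(X, W)) q :=
          (Ideal.disjoint_powers_iff_notMem_of_isPrime (I := q) (y := h)).mpr hhq
        exact hr ((IsLocalization.comap_map_of_isPrime_disjoint (Submonoid.powers h) Γ(X, D)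
          (inferInstance : q.IsPrime) hdisj).le hmem)
      have hψ0 : ψ (r' * (c₁ - c₂)) = 0 := by
        have hu : IsUnit (algebraMap Γ(X, W) Γ(X, D) s.1) := IsLocalization.map_units Γ(X, D) s
        refine hu.mul_left_eq_zero.mp ?_
        rw [map_mul, hr', mul_assoc, hbs, ← map_mul]
        exact (congrArg _ hrb).trans (map_zero _)
      obtain ⟨t, ht, htc⟩ := hker _ hψ0
      refine ⟨(⟨t * r', fun hmem => (‹q'.IsPrime›.mem_or_mem hmem).elim ht hr'q⟩ : q'.primeCompl), ?_⟩
      rw [← sub_eq_zero, ← mul_sub, mul_assoc]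
      exact htc
  haveI : Module.Flat C T := IsLocalization.flat T q'.primeCompl
  haveI : Module.Flat Γ(Y, V) C := Algebra.Smooth.flat Γ(Y, V) C
  haveI : Module.Flat Γ(Y, V) T := Module.Flat.trans Γ(Y, V) C T
  exact (Module.flat_iff_of_isLocalization S (q.comap (algebraMap Γ(Y, V) Γ(X, W))).primeCompl T).mpr ‹_›

end GrothLib.Chev28
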