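import Groth.Agent.Lib.Chev28.FlatUniv
import Groth.Agent.S4871
import Groth.Agent.Lib.RedSmooth.Basic
import Groth.Agent.Lib.FibPd.GeomOpen

/-!
EGA IV 11.3.13 (reduced case): flat morphisms with geometrically reduced fibres over reduced bases have
reduced source.
-/

universe u

open CategoryTheory CategoryTheory.Limits AlgebraicGeometry TopologicalSpace Topology IsLocalRing

noncomputable section

namespace GrothLib.Chev28

variable {X Y : Scheme.{u}}

theorem isSchematicallyDense_of_dense {F : Scheme.{u}} [IsReduced F] (U : F.Opens) (hU : Dense (U : Set F)) :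
    CInt.IsSchematicallyDense U := by
  intro V
  rw [injective_iff_map_eq_zero]
  intro t ht
  rw [← basicOpen_eq_bot_iff]
  have h0 : F.basicOpen t ⊓ U = ⊥ := by
    have h1 : F.basicOpen (F.presheaf.map (homOfLE (inf_le_left : V ⊓ U ≤ V)).op t) = ⊥ := by
      rw [ht, Scheme.basicOpen_zero]
    rw [Scheme.basicOpen_res] at h1
    rw [eq_bot_iff, ← h1]
    exact fun a ha => ⟨⟨F.basicOpen_le t ha.1, ha.2⟩, ha.1⟩
  refine TopologicalSpace.Opens.ext (Set.eq_empty_iff_forall_notMem.mpr fun a ha => ?_)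
  obtain ⟨b, hb⟩ := hU.inter_open_nonempty _ (F.basicOpen t).2 ⟨a, ha⟩
  exact (h0.le hb : b ∈ (⊥ : F.Opens))

theorem isReduced_of_schematicallyDense {P : Scheme.{u}} (U : P.Opens) (hU : CInt.IsSchematicallyDense U)
    (h : ∀ a ∈ U, _root_.IsReduced (P.presheaf.stalk a)) : IsReduced P := by
  refine ⟨fun V => ⟨fun t ht => hU V ?_⟩⟩
  rw [map_zero]
  refine TopCat.Presheaf.section_ext P.sheaf _ _ _ fun a ha => ?_
  haveI := h a ha.2
  exact ((ht.map (P.presheaf.map (homOfLE (inf_le_left : V ⊓ U ≤ V)).op).hom).map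
    (P.presheaf.germ _ a ha).hom).eq_zero.trans (map_zero _).symm

/-- A flat morphism of finite presentation with geometrically reduced fibres over a reduced base has reduced
source. -/
theorem isReduced_of_flat_of_geomReduced [IsReduced Y] (f : X ⟶ Y) [Flat f] [LocallyOfFinitePresentation f]
    (hred : ∀ x, FBase.IsGeomReducedAt (f.fiberToSpecResidueField (f x)) (f.asFiber x)) : IsReduced X := by
  haveI : Smooth (f.smoothLocus.ι ≫ f) := by
    rw [← Scheme.Hom.smoothLocus_eq_top_iff, ← Scheme.Hom.preimage_smoothLocus_eq]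
    exact f.smoothLocus.ι_preimage_self
  haveI : IsReduced (f.smoothLocus : Scheme.{u}) := GrothLib.RedSmooth.isReduced_of_smooth (f.smoothLocus.ι ≫ f)
  have hfib : ∀ s, CInt.IsSchematicallyDense (f.fiberι s ⁻¹ᵁ f.smoothLocus) := by
    intro s
    haveI : ∀ w, _root_.IsReduced ((f.fiber s).presheaf.stalk w) := fun w => by
      obtain ⟨x, hx⟩ : ∃ x, f.fiberι s w = x := ⟨_, rfl⟩
      have hfx : f x = s := hx ▸ (f.range_fiberι s).le ⟨w, rfl⟩
      subst hfx
      obtain rfl : w = f.asFiber x :=
        (f.fiberι (f x)).isEmbedding.injective (hx.trans (f.fiberι_asFiber x).symm)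
      exact isReduced_fibre_stalk_of_geomReducedAt f x (hred x)
    haveI : IsReduced (f.fiber s) := isReduced_of_isReduced_stalk _
    refine isSchematicallyDense_of_dense _ fun w => ?_
    obtain ⟨ζ, hζw, hζmax⟩ := exists_maximal_generization w
    obtain ⟨z, hz⟩ : ∃ z, f.fiberι s ζ = z := ⟨_, rfl⟩
    have hfz : f z = s := hz ▸ (f.range_fiberι s).le ⟨ζ, rfl⟩
    subst hfz
    obtain rfl : ζ = f.asFiber z :=
      (f.fiberι (f z)).isEmbedding.injective (hz.trans (f.fiberι_asFiber z).symm)
    haveI : LocallyOfFinitePresentation (f.fiberToSpecResidueField (f z)) :=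
      MorphismProperty.pullback_snd f _ inferInstance
    have hsm : f.asFiber z ∈ (f.fiberToSpecResidueField (f z)).smoothLocus :=
      ((@GrothLib.FibPd.isGeomReducedAt_iff (IsLocalRing.ResidueField (Y.presheaf.stalk (f z))) _ _
        (f.fiberToSpecResidueField (f z)) (MorphismProperty.pullback_snd f _ inferInstance) (f.asFiber z)).mp
          (hred z)).1 _ specializes_rfl (ringKrullDim_stalk_le_zero_of_maximal _ hζmax)
    refine (specializes_iff_mem_closure.mp hζw : w ∈ closure {f.asFiber z}) |> closure_mono (Set.singleton_subset_iff.mpr ?_)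
    show f.fiberι (f z) (f.asFiber z) ∈ f.smoothLocus
    rw [f.fiberι_asFiber]
    exact (GrothLib.LocProp.smooth_nhd_iff f z).mp (GrothLib.EtLocal.smooth_nhd_of_flat_of_fibre_nhd f z
      (Flat.stalkMap f z) (f.asFiber z) (f.fiberι_asFiber z)
      ((GrothLib.LocProp.smooth_nhd_iff _ _).mpr hsm))
  have hd := (Groth.Agent.S4871.result f f.smoothLocus).mpr hfib Y (𝟙 Y)
  haveI : IsReduced (pullback f (𝟙 Y)) := isReduced_of_schematicallyDense _ hd fun a ha => by
    haveI : _root_.IsReduced ((f.smoothLocus : Scheme.{u}).presheaf.stalk ⟨pullback.fst f (𝟙 Y) a, ha⟩) := inferInstance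
    have h1 : _root_.IsReduced (X.presheaf.stalk (pullback.fst f (𝟙 Y) a)) :=
      isReduced_of_injective (f.smoothLocus.ι.stalkMap ⟨pullback.fst f (𝟙 Y) a, ha⟩).hom
        (ConcreteCategory.bijective_of_isIso _).1
    exact @GrothLib.SecComp6.isReduced_stalk_of_openImmersion _ _ (pullback.fst f (𝟙 Y)) _ a h1
  exact isReduced_of_isOpenImmersion (inv (pullback.fst f (𝟙 Y)))

/-- The pointwise version. -/
theorem isReduced_stalk_of_flat_of_geomReducedAt (f : X ⟶ Y) [LocallyOfFinitePresentation f] (x : X)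
    (hy : _root_.IsReduced (Y.presheaf.stalk (f x))) (hflat : (f.stalkMap x).hom.Flat)
    (hred : FBase.IsGeomReducedAt (f.fiberToSpecResidueField (f x)) (f.asFiber x)) :
    _root_.IsReduced (X.presheaf.stalk x) := by
  let j := Y.fromSpecStalk (f x)
  haveI := hy
  let E : Set X := {x : X | (f.stalkMap x).hom.Flat ∧
    FBase.IsGeomReducedAt (f.fiberToSpecResidueField (f x)) (f.asFiber x)}
  let W : X.Opens := ⟨E, GrothLib.FibPd.isOpen_flat_geomReduced f⟩
  let P : (pullback f j).Opens := pullback.fst f j ⁻¹ᵁ W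
  let f₂ : (P : Scheme.{u}) ⟶ Spec (Y.presheaf.stalk (f x)) := P.ι ≫ pullback.snd f j
  haveI : LocallyOfFinitePresentation (pullback.snd f j) := MorphismProperty.pullback_snd f j inferInstance
  haveI : LocallyOfFinitePresentation f₂ := inferInstance
  haveI : Flat f₂ := Flat.iff_flat_stalkMap _ |>.mpr fun a =>
    (flat_stalkMap_comp_iff_left P.ι _ a).mpr
      (GrothLib.CMMor6.flat_stalkMap_baseChange (IsPullback.of_hasPullback f j) _ a.2.1)
  haveI : IsReduced (P : Scheme.{u}) := isReduced_of_flat_of_geomReduced f₂ fun a =>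
    isGeomReducedAt_of_openImmersion_pullback f f₂ j P.ι rfl a a.2.2
  obtain ⟨a, ha, -⟩ := Scheme.Pullback.exists_preimage_pullback (f := f) (g := j) x
    (IsLocalRing.closedPoint (Y.presheaf.stalk (f x))) Scheme.fromSpecStalk_closedPoint.symm
  have haP : a ∈ P := by
    show pullback.fst f j a ∈ W
    rw [ha]
    exact ⟨hflat, hred⟩
  haveI : Flat j := GrothLib.FFDesc.flat_fromSpecStalk' Y (f x)
  haveI : Flat (pullback.fst f j) := MorphismProperty.pullback_fst f j inferInstance
  haveI : Flat (P.ι ≫ pullback.fst f j) := inferInstance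
  have hfl := Flat.stalkMap (P.ι ≫ pullback.fst f j) ⟨a, haP⟩
  haveI : IsLocalHom ((P.ι ≫ pullback.fst f j).stalkMap ⟨a, haP⟩).hom := inferInstance
  have key : ∀ x', pullback.fst f j a = x' → _root_.IsReduced (X.presheaf.stalk x') := by
    rintro _ rfl
    exact isReduced_of_injective ((P.ι ≫ pullback.fst f j).stalkMap ⟨a, haP⟩).hom
      (GrothLib.FBase7.stalkMap_injective_of_flat (P.ι ≫ pullback.fst f j) ⟨a, haP⟩)
  exact key x ha

end GrothLib.Chev28
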