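import Groth.Agent.Lib.Flatness.Criterion
import Groth.Agent.Lib.Flatness.Artinian
import Mathlib.RingTheory.Ideal.MinimalPrime.Localization

/-!
Flatness from flatness at separating localizations of the closed fibre.
-/

universe u

open IsLocalRing TensorProduct Function

noncomputable section

namespace GrothLib.Chev28

variable {R : Type u} [CommRing R] [IsLocalRing R] {M : Type u} [AddCommGroup M] [Module R M]
  {ι : Type u} (N : ι → Type u) [∀ i, AddCommGroup (N i)] [∀ i, Module R (N i)] (v : ∀ i, M →ₗ[R] N i)
  (hv : ∀ t : M, (∀ i, v i t ∈ maximalIdeal R • (⊤ : Submodule R (N i))) → t ∈ maximalIdeal R • (⊤ : Submodule R M))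

include hv in
theorem eq_zero_of_forall_residueField (x : M ⊗[R] ResidueField R)
    (hx : ∀ i, (v i).rTensor (ResidueField R) x = 0) : x = 0 := by
  obtain ⟨t, ht⟩ := TensorProduct.mk_surjective R M (ResidueField R) residue_surjective
    (TensorProduct.comm R M (ResidueField R) x)
  change (1 : ResidueField R) ⊗ₜ[R] t = _ at ht
  obtain rfl : x = t ⊗ₜ[R] 1 := by
    rw [← (TensorProduct.comm R M (ResidueField R)).symm_apply_apply x, ← ht]
    rfl
  have h : t ∈ maximalIdeal R • (⊤ : Submodule R M) := hv t fun i => by
    refine (GrothLib.Flatness.one_tmul_eq_zero_iff (maximalIdeal R) _).mp ?_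
    have h1 : v i t ⊗ₜ[R] (1 : ResidueField R) = 0 := hx i
    exact (congrArg (TensorProduct.comm R (N i) (ResidueField R)) h1).trans (map_zero _)
  have h2 : (1 : ResidueField R) ⊗ₜ[R] t = 0 := (GrothLib.Flatness.one_tmul_eq_zero_iff (maximalIdeal R) t).mpr h
  exact (congrArg (TensorProduct.comm R (ResidueField R) M) h2).trans (map_zero _)

include hv in
theorem eq_zero_of_forall_of_isTorsionBySet {A : Type u} [AddCommGroup A] [Module R A]
    (hA : Module.IsTorsionBySet R A (maximalIdeal R : Set R)) (x : M ⊗[R] A)
    (hx : ∀ i, (v i).rTensor A x = 0) : x = 0 := by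
  classical
  letI : Module (ResidueField R) A := hA.module
  haveI : IsScalarTower R (ResidueField R) A := hA.isScalarTower
  let b := Module.Free.chooseBasis (ResidueField R) A
  let e := (b.repr.restrictScalars R).lTensor M ≪≫ₗ
    TensorProduct.finsuppRight R R M (ResidueField R) _
  refine e.injective ?_
  rw [map_zero]
  ext j
  rw [Finsupp.zero_apply]
  refine eq_zero_of_forall_residueField N v hv _ fun i => ?_
  have hnat : ∀ y : M ⊗[R] A, (v i).rTensor (ResidueField R) (e y j) =
      (TensorProduct.finsuppRight R R (N i) (ResidueField R) _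
        ((b.repr.restrictScalars R).lTensor (N i) ((v i).rTensor A y))) j := fun y => by
    induction y using TensorProduct.induction_on with
    | zero => simp
    | add p q hp hq => simp only [map_add, Finsupp.add_apply, hp, hq]
    | tmul m a => simp [e, TensorProduct.finsuppRight_apply_tmul_apply]
  rw [hnat, hx i, map_zero, map_zero, Finsupp.zero_apply]

include hv in
/-- Maps to flat modules separating the reduction separate all tensor products with modules killed by a
power of the maximal ideal. -/
theorem eq_zero_of_forall_of_pow [∀ i, Module.Flat R (N i)] :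
    ∀ (n : ℕ) {A : Type u} [AddCommGroup A] [Module R A]
      (_ : Module.IsTorsionBySet R A ((maximalIdeal R ^ n : Ideal R) : Set R)) (x : M ⊗[R] A)
      (_ : ∀ i, (v i).rTensor A x = 0), x = 0 := by
  intro n
  induction n with
  | zero =>
    intro A _ _ hA x _
    haveI : Subsingleton A := ⟨fun a b => by
      have h1 : ∀ c : A, c = 0 := fun c => by
        simpa using @hA c ⟨1, by simp⟩
      rw [h1 a, h1 b]⟩
    exact Subsingleton.elim _ _
  | succ n ih =>
    intro A _ _ hA x hx
    let B : Submodule R A := maximalIdeal R • ⊤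
    have hB : Module.IsTorsionBySet R B ((maximalIdeal R ^ n : Ideal R) : Set R) := by
      rintro ⟨b, hb⟩ ⟨r, hr⟩
      refine Subtype.ext ?_
      change r • b = 0
      induction hb using Submodule.smul_induction_on' with
      | smul s hs a _ =>
        rw [← mul_smul]
        exact @hA a ⟨r * s, by rw [pow_succ]; exact Ideal.mul_mem_mul hr hs⟩
      | add p _ q _ hp hq => rw [smul_add, hp, hq, add_zero]
    have hQ : Module.IsTorsionBySet R (A ⧸ B) (maximalIdeal R : Set R) := fun q r => by
      obtain ⟨a, rfl⟩ := B.mkQ_surjective q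
      rw [← map_smul]
      exact (Submodule.Quotient.mk_eq_zero _).mpr (Submodule.smul_mem_smul r.2 trivial)
    have hq : B.mkQ.lTensor M x = 0 := eq_zero_of_forall_of_isTorsionBySet N v hv hQ _ fun i => by
      rw [← LinearMap.comp_apply, LinearMap.rTensor_comp_lTensor, ← LinearMap.lTensor_comp_rTensor,
        LinearMap.comp_apply, hx i, map_zero]
    obtain ⟨y, rfl⟩ := (lTensor_exact M (LinearMap.exact_subtype_mkQ B) B.mkQ_surjective x).1 hq
    rw [ih hB y fun i => Module.Flat.lTensor_preserves_injective_linearMap (M := N i) B.subtype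
      B.injective_subtype (by
        rw [map_zero, ← LinearMap.comp_apply, LinearMap.lTensor_comp_rTensor, ← LinearMap.rTensor_comp_lTensor,
          LinearMap.comp_apply, hx i]), map_zero]

variable {T : Type u} [CommRing T] [IsLocalRing T] [Algebra R T] [IsLocalHom (algebraMap R T)]

/-- A Noetherian local algebra with reduced closed fibre is flat as soon as it is flat at the minimal primes
of the closed fibre. -/
theorem flat_of_flat_at_minimalPrimes [IsNoetherianRing R] [IsNoetherianRing T]
    (hred : ((maximalIdeal R).map (algebraMap R T)).IsRadical)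
    (hP : ∀ P ∈ ((maximalIdeal R).map (algebraMap R T)).minimalPrimes, ∀ [P.IsPrime],
      Module.Flat R (Localization.AtPrime P)) :
    Module.Flat R T := by
  let I := (maximalIdeal R).map (algebraMap R T)
  haveI : ∀ P : I.minimalPrimes, P.1.IsPrime := fun P => P.2.1.1
  let N : I.minimalPrimes → Type u := fun P => Localization.AtPrime P.1
  haveI : ∀ P, Module.Flat R (N P) := fun P => hP P.1 P.2
  let v : ∀ P : I.minimalPrimes, T →ₗ[R] N P := fun P => (IsScalarTower.toAlgHom R T (N P)).toLinearMap
  have hv : ∀ t : T, (∀ P, v P t ∈ maximalIdeal R • (⊤ : Submodule R (N P))) →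
      t ∈ maximalIdeal R • (⊤ : Submodule R T) := by
    intro t ht
    rw [Ideal.smul_top_eq_map, Submodule.restrictScalars_mem]
    have hmem : ∀ P : I.minimalPrimes, t ∈ P.1 := fun P => by
      have h := ht P
      rw [Ideal.smul_top_eq_map, Submodule.restrictScalars_mem, IsScalarTower.algebraMap_eq R T (N P),
        ← Ideal.map_map] at h
      have h2 : algebraMap T (N P) t ∈ P.1.map (algebraMap T (N P)) := Ideal.map_mono P.2.1.2 h
      rw [Localization.AtPrime.map_eq_maximalIdeal] at h2
      exact (IsLocalization.AtPrime.to_map_mem_maximal_iff (N P) P.1 t).mp h2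
    refine hred ?_
    rw [← Ideal.sInf_minimalPrimes]
    exact Submodule.mem_sInf.mpr fun P hPmem => hmem ⟨P, hPmem⟩
  refine GrothLib.Flatness.flat_of_forall_pow (R := R) (S := T) (M := T) (maximalIdeal R) ?_
    fun n A B _ _ _ _ f hA hB hf => ?_
  · rw [IsLocalRing.jacobson_eq_maximalIdeal ⊥ bot_ne_top]
    exact ((local_hom_TFAE (algebraMap R T)).out 0 2 rfl rfl).1 inferInstance
  · rw [injective_iff_map_eq_zero]
    intro x hx
    refine eq_zero_of_forall_of_pow N v hv n hA x fun P => ?_
    refine Module.Flat.lTensor_preserves_injective_linearMap (M := N P) f hf ?_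
    rw [map_zero, ← LinearMap.comp_apply, LinearMap.lTensor_comp_rTensor, ← LinearMap.rTensor_comp_lTensor,
      LinearMap.comp_apply, hx, map_zero]

end GrothLib.Chev28
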