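import Groth.Agent.Lib.Chev28.FlatFibGen
import Groth.Agent.Lib.Chev28.FlatGen
import Groth.Agent.Lib.FibPd.GeomFinite

/-!
EGA IV 15.2.2: universally open morphisms with geometrically reduced fibres over reduced bases are flat.
-/

universe u

open CategoryTheory CategoryTheory.Limits AlgebraicGeometry TopologicalSpace Topology IsLocalRing

noncomputable section

namespace GrothLib.Chev28

variable {X Y : Scheme.{u}}

theorem ringKrullDim_stalk_le_zero_of_maximal {F : Scheme.{u}} (w : F) (hw : ∀ w', w' ⤳ w → w' = w) :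
    ringKrullDim (F.presheaf.stalk w) ≤ (0 : ℕ) := by
  haveI : Subsingleton (PrimeSpectrum (F.presheaf.stalk w)) := ⟨fun p p' =>
    (F.fromSpecStalk w).isEmbedding.injective
      ((hw _ ((Scheme.range_fromSpecStalk (x := w)).le ⟨p, rfl⟩)).trans
        (hw _ ((Scheme.range_fromSpecStalk (x := w)).le ⟨p', rfl⟩)).symm)⟩
  exact le_trans Order.krullDim_nonpos_of_subsingleton (by simp)

/-- EGA IV 15.2.2 at a point. -/
theorem flat_stalkMap_of_isUnivOpenAt_of_geomReducedAt (f : X ⟶ Y) [LocallyOfFinitePresentation f] (x : X)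
    (hy : _root_.IsReduced (Y.presheaf.stalk (f x)))
    (hred : FBase.IsGeomReducedAt (f.fiberToSpecResidueField (f x)) (f.asFiber x))
    (hopen : ∀ z, IsFibreGenericPt f x z → EGA43.IsUnivOpenAt f z) :
    (f.stalkMap x).hom.Flat := by
  refine flat_stalkMap_of_generic f x hred fun z hz => ?_
  obtain ⟨hzx, hfz, hzmax⟩ := hz
  obtain ⟨w, rfl⟩ := (f.range_fiberι (f x)).ge (show z ∈ f ⁻¹' {f x} from hfz)
  have hwmax : ∀ w', w' ⤳ w → w' = w := fun w' hw' =>
    (f.fiberι (f x)).isEmbedding.injective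
      (hzmax _ (hw'.map (f.fiberι (f x)).continuous) ((f.range_fiberι (f x)).le ⟨w', rfl⟩))
  have hwx : w ⤳ f.asFiber x := by
    refine (f.fiberι (f x)).isEmbedding.isInducing.specializes_iff.mp ?_
    rw [f.fiberι_asFiber]
    exact hzx
  refine flat_stalkMap_of_isUnivOpenAt_smooth_generic f (f x) w ?_ hwmax ?_ (hopen _ ⟨hzx, hfz, hzmax⟩)
  · rw [hfz]
    exact hy
  · exact ((@GrothLib.FibPd.isGeomReducedAt_iff (IsLocalRing.ResidueField (Y.presheaf.stalk (f x))) _ _
      (f.fiberToSpecResidueField (f x)) (MorphismProperty.pullback_snd f _ inferInstance) (f.asFiber x)).mp hred).1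
        w hwx (ringKrullDim_stalk_le_zero_of_maximal w hwmax)

theorem isFibreGenericPt_fiberι (f : X ⟶ Y) {x z : X} (hz : IsFibreGenericPt f x z) :
    ∃ w : ↥(f.fiber (f x)), f.fiberι (f x) w = z ∧ f.asFiber x ∈ closure {w} ∧
      ∀ w', w ∈ closure {w'} → w' = w := by
  obtain ⟨hzx, hfz, hzmax⟩ := hz
  obtain ⟨w, rfl⟩ := (f.range_fiberι (f x)).ge (show z ∈ f ⁻¹' {f x} from hfz)
  refine ⟨w, rfl, ?_, fun w' hw' => (f.fiberι (f x)).isEmbedding.injective
    (hzmax _ ((specializes_iff_mem_closure.mpr hw').map (f.fiberι (f x)).continuous) ((f.range_fiberι (f x)).le ⟨w', rfl⟩))⟩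
  refine specializes_iff_mem_closure.mp ((f.fiberι (f x)).isEmbedding.isInducing.specializes_iff.mp ?_)
  rw [f.fiberι_asFiber]
  exact hzx

end GrothLib.Chev28
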