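import Groth.Prelude.Def_MoreMor
import Groth.Prelude.Def_CurvBase
import Groth.Agent.Lib.GeomComp6.BaseChange
import Groth.Agent.Lib.Weight.GeomPoints
import Mathlib.AlgebraicGeometry.AlgClosed.Basic

universe u

open CategoryTheory Limits AlgebraicGeometry

noncomputable section

attribute [local instance] Curv2.resAlgebra

namespace GrothLib.Chev28

variable (k : Type u) [Field k] (S : Scheme.{u}) [S.Over (Spec (CommRingCat.of k))]

theorem fromSpecResidueField_over (s : S) :
    S.fromSpecResidueField s ≫ (S ↘ Spec (CommRingCat.of k)) =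
      Spec.map (CommRingCat.ofHom (Curv2.resMap k S s)) := by
  set f := S ↘ Spec (CommRingCat.of k)
  have hf : f = S.toSpecΓ ≫ Spec.map ((Scheme.ΓSpecIso (CommRingCat.of k)).inv ≫ f.appTop) := by
    rw [Spec.map_comp, ← Scheme.toSpecΓ_naturality_assoc, ← SpecMap_ΓSpecIso_hom,
      ← Spec.map_comp, Iso.inv_hom_id, Spec.map_id, Category.comp_id]
  have hres : CommRingCat.ofHom (Curv2.resMap k S s) =
      ((Scheme.ΓSpecIso (CommRingCat.of k)).inv ≫ f.appTop) ≫ S.presheaf.germ ⊤ s trivial ≫
        S.residue s := rfl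
  rw [hres, Spec.map_comp, Spec.map_comp, Scheme.fromSpecResidueField, Category.assoc,
    Category.assoc]
  congr 1
  rw [← Scheme.fromSpecStalk_toSpecΓ, Category.assoc, ← hf]

variable [IsFinite (S ↘ Spec (CommRingCat.of k))] (L : Type u) [Field L] [Algebra k L] [IsAlgClosed L]

/-- The structure point. -/
abbrev algPt : Spec (CommRingCat.of L) ⟶ Spec (CommRingCat.of k) :=
  Spec.map (CommRingCat.ofHom (algebraMap k L))

theorem card_geomPts_at (s : S) :
    Finite {q : Weight.GeomPts (S ↘ Spec (CommRingCat.of k)) (algPt k L) // Weight.pt q.1 = s} ∧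
    Nat.card {q : Weight.GeomPts (S ↘ Spec (CommRingCat.of k)) (algPt k L) // Weight.pt q.1 = s} =
      Field.finSepDegree k (S.residueField s) := by
  set f := S ↘ Spec (CommRingCat.of k)
  have key : ∀ ψ : S.residueField s ⟶ CommRingCat.of L,
      (Spec.map ψ ≫ S.fromSpecResidueField s) ≫ f = algPt k L ↔
        CommRingCat.ofHom (Curv2.resMap k S s) ≫ ψ = CommRingCat.ofHom (algebraMap k L) := fun ψ ↦ by
    rw [Category.assoc, fromSpecResidueField_over, ← Spec.map_comp]
    exact ⟨fun h ↦ Spec.map_inj.mp h, fun h ↦ by rw [h]⟩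
  have : Module.Finite k (S.residueField s) := by
    have h1 : IsFinite (S.fromSpecResidueField s ≫ f) := by
      have hcl : IsClosed {s} := by
        have : DiscreteTopology S := by
          refine isDiscrete_univ_iff.mp ?_
          convert f.isDiscrete_preimage_singleton (IsLocalRing.closedPoint k) using 1
          exact (Set.eq_univ_of_forall fun x => Subsingleton.elim (α := PrimeSpectrum k) _ _).symm
        exact isClosed_discrete _
      rw [isClosed_singleton_iff_isClosedImmersion] at hcl
      infer_instance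
    rw [fromSpecResidueField_over, IsFinite.SpecMap_iff] at h1
    exact h1
  let F : (S.residueField s →ₐ[k] L) →
      {q : Weight.GeomPts f (algPt k L) // Weight.pt q.1 = s} := fun σ ↦
    ⟨⟨Spec.map (CommRingCat.ofHom σ.toRingHom) ≫ S.fromSpecResidueField s,
      (key _).mpr (CommRingCat.hom_ext (RingHom.ext σ.commutes))⟩, Weight.pt_mk s _⟩
  have hF : Function.Bijective F := by
    constructor
    · intro σ τ h
      have h' := congrArg (fun q ↦ q.1.1) h
      simp only [F, cancel_mono] at h'
      exact AlgHom.coe_ringHom_injective (CommRingCat.hom_ext_iff.mp (Spec.map_injective h'))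
    · rintro ⟨⟨q, hq⟩, hqu⟩
      obtain ⟨⟨y, ψ⟩, rfl⟩ := (S.SpecToEquivOfField L).symm.surjective q
      obtain rfl : y = s := (Weight.pt_mk y ψ).symm.trans hqu
      exact ⟨⟨ψ.hom, fun a ↦ congrArg (fun χ ↦ χ.hom a) ((key ψ).mp hq)⟩, rfl⟩
  refine ⟨Finite.of_surjective F hF.2, ?_⟩
  rw [← Nat.card_congr (Equiv.ofBijective F hF)]
  exact (Field.finSepDegree_eq_of_isAlgClosed _ _ _).symm

theorem nGeomConnComp_finite (pt : ↥(Spec (CommRingCat.of k))) :
    MoreMor.nGeomConnComp (S ↘ Spec (CommRingCat.of k)) pt =
      ((∑ᶠ s : S, Field.finSepDegree k (S.residueField s) : ℕ) : ℕ∞) := by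
  classical
  let L := AlgebraicClosure k
  set f := S ↘ Spec (CommRingCat.of k)
  have h := congrArg Prod.snd (GeomComp6.count_geomFiber_eq f (algPt k L) (y := pt)
    (Subsingleton.elim (α := PrimeSpectrum k) _ _))
  dsimp only [GeomComp6.count] at h
  rw [h]
  let P := pullback f (algPt k L)
  let g : P ⟶ Spec (CommRingCat.of L) := pullback.snd f (algPt k L)
  haveI : IsFinite g := MorphismProperty.pullback_snd _ _ inferInstance
  haveI : DiscreteTopology P := by
    refine isDiscrete_univ_iff.mp ?_
    convert g.isDiscrete_preimage_singleton (IsLocalRing.closedPoint L) using 1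
    exact (Set.eq_univ_of_forall fun x => Subsingleton.elim (α := PrimeSpectrum L) _ _).symm
  have hall : ∀ z : P, z ∈ closedPoints P := fun z => isClosed_discrete _
  let e1 : _root_.ConnectedComponents P ≃ P :=
    (Equiv.ofBijective ConnectedComponents.mk
      ⟨fun a b hab => by
        have := ConnectedComponents.coe_eq_coe'.1 hab
        simpa using this, ConnectedComponents.surjective_coe⟩).symm
  let e2 : P ≃ {p : Spec (CommRingCat.of L) ⟶ P // p ≫ g = 𝟙 _} :=
    (Equiv.subtypeUnivEquiv hall).symm.trans (pointEquivClosedPoint g).symm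
  let e3 : {p : Spec (CommRingCat.of L) ⟶ P // p ≫ g = 𝟙 _} ≃ Weight.GeomPts f (algPt k L) :=
    { toFun := fun p => ⟨p.1 ≫ pullback.fst _ _, by
        rw [Category.assoc, pullback.condition, ← Category.assoc]
        exact (congrArg (· ≫ algPt k L) p.2).trans (Category.id_comp _)⟩
      invFun := fun q => ⟨pullback.lift q.1 (𝟙 _) (by rw [q.2, Category.id_comp]),
        pullback.lift_snd _ _ _⟩
      left_inv := fun p => Subtype.ext (pullback.hom_ext (pullback.lift_fst _ _ _)
        ((pullback.lift_snd _ _ _).trans p.2.symm))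
      right_inv := fun q => Subtype.ext (pullback.lift_fst _ _ _) }
  refine (ENat.card_congr (e1.trans (e2.trans e3))).trans ?_
  haveI : Finite S := by
    refine Set.finite_univ_iff.mp ?_
    convert f.finite_preimage_singleton (IsLocalRing.closedPoint k) using 1
    exact (Set.eq_univ_of_forall fun x => Subsingleton.elim (α := PrimeSpectrum k) _ _).symm
  letI := Fintype.ofFinite S
  haveI : ∀ s : S, Finite {q : Weight.GeomPts f (algPt k L) // Weight.pt q.1 = s} :=
    fun s => (card_geomPts_at k S L s).1
  haveI : Finite (Weight.GeomPts f (algPt k L)) :=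
    Finite.of_equiv _ (Equiv.sigmaFiberEquiv fun q : Weight.GeomPts f (algPt k L) => Weight.pt q.1)
  rw [ENat.card_eq_coe_natCard, finsum_eq_sum_of_fintype,
    ← Nat.card_congr (Equiv.sigmaFiberEquiv fun q : Weight.GeomPts f (algPt k L) => Weight.pt q.1),
    Nat.card_sigma]
  norm_cast
  exact Finset.sum_congr rfl fun s _ => (card_geomPts_at k S L s).2

end GrothLib.Chev28
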