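import Groth.Agent.Lib.AlgMisc.GeomRedAt
import Groth.Agent.Lib.FibPd.GeomOpen
import Groth.Prelude.Def_FDesc

universe u

open CategoryTheory Limits AlgebraicGeometry

namespace GrothLib.Chev28

theorem geometricallyReduced_iff_forall_isGeomReducedAt {k : Type u} [Field k] {Z : Scheme.{u}}
    (q : Z ⟶ Spec (CommRingCat.of k)) :
    GeometricallyReduced q ↔ ∀ z : Z, FBase.IsGeomReducedAt q z := by
  letI : Z.Over (Spec (CommRingCat.of k)) := ⟨q⟩
  constructor
  · intro h z
    haveI : GeometricallyReduced (Z ↘ Spec (CommRingCat.of k)) := h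
    exact Groth.Agent.Lib.AlgMisc.GeomRedAt.isGeomReducedAt_of_geometricallyReduced (k := k) z
  · intro h
    exact Groth.Agent.Lib.AlgMisc.GeomRedAt.geometricallyReduced_of_forall (k := k) (X := Z) fun z =>
      Groth.Agent.Lib.AlgMisc.GeomRedAt.isGeometricallyReduced_stalk (k := k) z (h z)

theorem isOpen_geometricallyReduced_fibre {X Y : Scheme.{u}} (f : X ⟶ Y) [Flat f] [IsProper f]
    [LocallyOfFinitePresentation f] :
    IsOpen {y : ↑Y | GeometricallyReduced (f.fiberToSpecResidueField y)} := by
  let G := {x : X | (f.stalkMap x).hom.Flat ∧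
    FBase.IsGeomReducedAt (f.fiberToSpecResidueField (f.base x)) (f.asFiber x)}
  have hG : IsOpen G := GrothLib.FibPd.isOpen_flat_geomReduced f
  have : {y : ↑Y | GeometricallyReduced (f.fiberToSpecResidueField y)} = (f '' Gᶜ)ᶜ := by
    ext y
    simp only [Set.mem_setOf_eq, Set.mem_compl_iff, Set.mem_image, not_exists, not_and]
    refine (geometricallyReduced_iff_forall_isGeomReducedAt (k := IsLocalRing.ResidueField (Y.presheaf.stalk y)) (f.fiberToSpecResidueField y)).trans ?_
    constructor
    · rintro h x hx rfl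
      exact hx ⟨Flat.stalkMap f x, h (f.asFiber x)⟩
    · intro h z
      have hz : f (f.fiberι y z) = y := (f.range_fiberι y).le ⟨z, rfl⟩
      have hg : f.fiberι y z ∈ G := by
        by_contra hc
        exact h _ hc hz
      generalize hx : f.fiberι y z = x at hz hg
      subst hz
      obtain ⟨-, hred⟩ := hg
      convert hred using 1
      exact (f.fiberι _).isEmbedding.injective (hx.trans (f.fiberι_asFiber _).symm)
  rw [this]
  exact (f.isClosedMap _ hG.isClosed_compl).isOpen_compl

end GrothLib.Chev28
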