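import Groth.Agent.Lib.QSec28.Ring
import Groth.Prelude.Def_CAlg2
import Mathlib.RingTheory.Flat.FaithfullyFlat.Basic
import Mathlib.RingTheory.Ideal.GoingDown

/-!
Lifting generizations through a map quasi-finite over affine space over a unibranch local ring
(EGA IV 14.4.1).
-/

universe u

open TensorProduct MvPolynomial IsLocalRing

noncomputable section

namespace GrothLib.Chev28

variable {A B : Type u} [CommRing A] [CommRing B] [Algebra A B]

/-- Going down at a point over the closed point, with a local normalization. -/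
theorem exists_prime_le_of_normal [IsDomain A] [IsLocalRing A] [IsDomain B] [Algebra.FiniteType A B]
    {d : ℕ} (b : Fin d → B) (Qx : Ideal B) [Qx.IsPrime]
    (hQx : Qx.comap (algebraMap A B) = maximalIdeal A)
    (hqf : letI : Algebra (MvPolynomial (Fin d) A) B := (aeval b).toRingHom.toAlgebra
      Algebra.QuasiFiniteAt (MvPolynomial (Fin d) A) Qx)
    (hind : AlgebraicIndependent A b)
    (N : Type u) [CommRing N] [IsDomain N] [IsIntegrallyClosed N] [IsLocalRing N] [Algebra A N]
    [Algebra.IsIntegral A N] [FaithfulSMul A N]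
    (L : Type u) [Field L] [Algebra A L] [Algebra B L] [IsScalarTower A B L] [Algebra N L] [IsScalarTower A N L]
    (hBL : Function.Injective (algebraMap B L)) (hNL : Function.Injective (algebraMap N L))
    (p' : Ideal A) [p'.IsPrime] :
    ∃ Q : Ideal B, Q.IsPrime ∧ Q ≤ Qx ∧ Q.comap (algebraMap A B) = p' := by
  let χ : N →ₐ[A] L := IsScalarTower.toAlgHom A N L
  let Ψ : N ⊗[A] B →ₐ[A] L :=
    Algebra.TensorProduct.lift χ (IsScalarTower.toAlgHom A B L) fun _ _ => .all _ _
  let Q₀ : Ideal (N ⊗[A] B) := RingHom.ker Ψ.toRingHom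
  haveI : Q₀.IsPrime := RingHom.ker_isPrime _
  let D := (N ⊗[A] B) ⧸ Q₀
  let ι : B →ₐ[A] D := ((Ideal.Quotient.mkₐ N Q₀).restrictScalars A).comp Algebra.TensorProduct.includeRight
  have hι : Function.Injective ι := by
    refine (injective_iff_map_eq_zero _).mpr fun c hc => ?_
    have h1 : Ψ (1 ⊗ₜ c) = 0 := Ideal.Quotient.eq_zero_iff_mem.mp hc
    simp only [Ψ, Algebra.TensorProduct.lift_tmul, map_one, one_mul, IsScalarTower.coe_toAlgHom'] at h1
    exact (map_eq_zero_iff _ hBL).mp h1
  have hint : ι.toRingHom.IsIntegral := by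
    refine RingHom.IsIntegral.trans (Algebra.TensorProduct.includeRight : B →ₐ[A] N ⊗[A] B).toRingHom
      (Ideal.Quotient.mk Q₀) ?_ (RingHom.isIntegral_of_surjective _ Ideal.Quotient.mk_surjective)
    intro z
    induction z using TensorProduct.induction_on with
    | zero => exact RingHom.isIntegralElem_zero _
    | tmul n c =>
      have h : (n ⊗ₜ[A] c) = (n ⊗ₜ 1) * (1 ⊗ₜ c) := by simp
      rw [h]
      refine RingHom.IsIntegralElem.mul _ ?_ (RingHom.isIntegralElem_map _)
      obtain ⟨P, hP, hP0⟩ := Algebra.IsIntegral.isIntegral (R := A) n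
      refine ⟨P.map (algebraMap A B), hP.map _, ?_⟩
      rw [Polynomial.eval₂_map, show (Algebra.TensorProduct.includeRight : B →ₐ[A] N ⊗[A] B).toRingHom.comp
        (algebraMap A B) = algebraMap A (N ⊗[A] B) from
          RingHom.ext fun r => (Algebra.TensorProduct.includeRight : B →ₐ[A] N ⊗[A] B).commutes r]
      have h2 := congrArg (Algebra.TensorProduct.includeLeft : N →ₐ[A] N ⊗[A] B) hP0
      rw [map_zero, ← Polynomial.aeval_def, ← Polynomial.aeval_algHom_apply] at h2
      exact h2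
    | add x y hx hy => exact RingHom.IsIntegralElem.add _ hx hy
  obtain ⟨qD, hqD⟩ : ∃ qD : PrimeSpectrum D, PrimeSpectrum.comap ι.toRingHom qD = ⟨Qx, inferInstance⟩ :=
    hint.comap_surjective hι ⟨Qx, inferInstance⟩
  have hqD' : qD.asIdeal.comap ι.toRingHom = Qx := congrArg PrimeSpectrum.asIdeal hqD
  let T := MvPolynomial (Fin d) N
  let g : T →ₐ[N] N ⊗[A] B := aeval fun i => (1 : N) ⊗ₜ[A] b i
  have hgX : ∀ i, g (X i) = (1 : N) ⊗ₜ[A] b i := fun i => aeval_X _ i
  have hgC : ∀ v : N, g (C v) = v ⊗ₜ[A] (1 : B) := fun v => aeval_C _ v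
  letI : Algebra (MvPolynomial (Fin d) A) B := (aeval b).toRingHom.toAlgebra
  haveI := hqf
  letI : Algebra T (N ⊗[A] B) := g.toRingHom.toAlgebra
  haveI : IsScalarTower N T (N ⊗[A] B) := IsScalarTower.of_algebraMap_eq fun a => (g.commutes a).symm
  haveI : Algebra.FiniteType T (N ⊗[A] B) :=
    Algebra.FiniteType.of_restrictScalars_finiteType N T (N ⊗[A] B)
  letI : Algebra (MvPolynomial (Fin d) A) T := (MvPolynomial.map (algebraMap A N)).toAlgebra
  letI : Algebra (MvPolynomial (Fin d) A) (N ⊗[A] B) :=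
    (g.toRingHom.comp (MvPolynomial.map (algebraMap A N))).toAlgebra
  haveI : IsScalarTower (MvPolynomial (Fin d) A) T (N ⊗[A] B) := IsScalarTower.of_algebraMap_eq fun a => rfl
  let iB : B →ₐ[MvPolynomial (Fin d) A] N ⊗[A] B :=
    { (Algebra.TensorProduct.includeRight : B →ₐ[A] N ⊗[A] B).toRingHom with
      commutes' := fun a => by
        change (Algebra.TensorProduct.includeRight : B →ₐ[A] N ⊗[A] B) (aeval b a) =
          g (MvPolynomial.map (algebraMap A N) a)
        induction a using MvPolynomial.induction_on with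
        | C r =>
          rw [map_C, hgC, aeval_C, AlgHom.commutes]
          exact (IsScalarTower.algebraMap_apply A N (N ⊗[A] B) r)
        | add a c ha hc => simp only [map_add, ha, hc]
        | mul_X a i ha =>
          rw [map_mul, map_mul, map_mul, map_mul, ha, map_X, hgX, aeval_X, Algebra.TensorProduct.includeRight_apply] }
  let F : T ⊗[MvPolynomial (Fin d) A] B →ₐ[T] N ⊗[A] B :=
    Algebra.TensorProduct.lift (Algebra.ofId _ _) iB fun _ _ => .all _ _
  have hF : Function.Surjective F := fun z => by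
    induction z using TensorProduct.induction_on with
    | zero => exact ⟨0, map_zero _⟩
    | tmul v c =>
      refine ⟨C v ⊗ₜ c, ?_⟩
      change g (C v) * ((1 : N) ⊗ₜ[A] c) = v ⊗ₜ c
      rw [hgC]
      simp
    | add a c ha hc =>
      obtain ⟨a, rfl⟩ := ha; obtain ⟨c, rfl⟩ := hc
      exact ⟨a + c, map_add _ _ _⟩
  let qx : Ideal (N ⊗[A] B) := qD.asIdeal.comap (Ideal.Quotient.mk Q₀)
  haveI : qx.IsPrime := Ideal.comap_isPrime _ _
  haveI : Algebra.QuasiFiniteAt T (qx.comap F.toRingHom) := by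
    refine Algebra.QuasiFiniteAt.baseChange Qx (qx.comap F.toRingHom) ?_
    rw [← hqD']
    ext c
    change Ideal.Quotient.mk Q₀ ((1 : N) ⊗ₜ[A] c) ∈ qD.asIdeal ↔ Ideal.Quotient.mk Q₀ (F (1 ⊗ₜ c)) ∈ qD.asIdeal
    simp [F, iB]
  haveI : Algebra.QuasiFiniteAt T qx :=
    Algebra.QuasiFiniteAt.of_surjectiveOnStalks (qx.comap F.toRingHom) F
      (RingHom.surjectiveOnStalks_of_surjective hF) qx rfl
  haveI := qD.isPrime
  haveI : Algebra.QuasiFiniteAt T qD.asIdeal :=
    Algebra.QuasiFiniteAt.of_surjectiveOnStalks qx (Ideal.Quotient.mkₐ T Q₀)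
      (RingHom.surjectiveOnStalks_of_surjective Ideal.Quotient.mk_surjective) qD.asIdeal rfl
  haveI : Algebra.FiniteType T D :=
    Algebra.FiniteType.of_surjective (Ideal.Quotient.mkₐ T Q₀) Ideal.Quotient.mk_surjective
  haveI : IsIntegrallyClosed T := GrothLib.SubtrLim.isIntegrallyClosed_mvPolynomial N d
  have hindN : AlgebraicIndependent N (fun i => algebraMap B L (b i)) := by
    haveI : FaithfulSMul N L := (faithfulSMul_iff_algebraMap_injective _ _).mpr hNL
    exact (hind.map' (f := IsScalarTower.toAlgHom A B L) hBL).extendScalars_of_isIntegral N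
  let ΨN : N ⊗[A] B →ₐ[N] L :=
    Algebra.TensorProduct.lift (Algebra.ofId N L) (IsScalarTower.toAlgHom A B L) fun _ _ => .all _ _
  have hΨ : ∀ z, ΨN z = Ψ z := fun z => rfl
  have hgD : Function.Injective (algebraMap T D) := by
    refine (injective_iff_map_eq_zero _).mpr fun P hP => ?_
    have h1 : Ψ (g P) = 0 := Ideal.Quotient.eq_zero_iff_mem.mp hP
    rw [← hΨ, comp_aeval_apply] at h1
    refine (injective_iff_map_eq_zero _).mp hindN P ?_
    rw [← h1]
    congr 2
    funext i
    simp [ΨN]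
  -- a prime of the normalization over `p'`, below the point
  obtain ⟨n', hn'⟩ : ∃ n' : PrimeSpectrum N, PrimeSpectrum.comap (algebraMap A N) n' = ⟨p', inferInstance⟩ :=
    (algebraMap_isIntegral_iff.mpr inferInstance : (algebraMap A N).IsIntegral).comap_surjective
      (FaithfulSMul.algebraMap_injective A N) ⟨p', inferInstance⟩
  let qT : Ideal T := qD.asIdeal.comap (algebraMap T D)
  let n0 : Ideal N := qT.comap (algebraMap N T)
  have hn0A : n0.comap (algebraMap A N) = maximalIdeal A := by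
    rw [← hQx, ← hqD', Ideal.comap_comap, Ideal.comap_comap, Ideal.comap_comap]
    congr 1
    ext a
    change Ideal.Quotient.mk Q₀ (g (C (algebraMap A N a))) = ι (algebraMap A B a)
    rw [hgC, AlgHom.commutes]
    rfl
  have hn0 : n0 = maximalIdeal N := by
    haveI : n0.IsMaximal := Ideal.isMaximal_of_isIntegral_of_isMaximal_comap n0
      (hn0A ▸ IsLocalRing.maximalIdeal.isMaximal A)
    exact IsLocalRing.eq_maximalIdeal inferInstance
  obtain ⟨P, hPle, hPp, hPn⟩ : ∃ P : Ideal T, P ≤ qT ∧ P.IsPrime ∧ P.comap (algebraMap N T) = n'.asIdeal := by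
    haveI : qT.LiesOver n0 := ⟨rfl⟩
    obtain ⟨P, hPle, hPp, hPo⟩ := Ideal.exists_ideal_le_liesOver_of_le (p := n'.asIdeal) (q := n0) qT
      (hn0 ▸ IsLocalRing.le_maximalIdeal n'.isPrime.ne_top)
    exact ⟨P, hPle, hPp, hPo.over.symm⟩
  haveI := hPp
  obtain ⟨Q'', hQ''p, hQ''le, hQ''P⟩ := GrothLib.QuasiSec.exists_le_of_quasiFiniteAt hgD qD.asIdeal P hPle
  refine ⟨Q''.comap ι.toRingHom, Ideal.comap_isPrime _ _, hqD' ▸ Ideal.comap_mono hQ''le, ?_⟩
  have hn'A : n'.asIdeal.comap (algebraMap A N) = p' := congrArg PrimeSpectrum.asIdeal hn'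
  rw [← hn'A, ← hPn, ← hQ''P, Ideal.comap_comap, Ideal.comap_comap, Ideal.comap_comap]
  congr 1
  ext a
  change ι (algebraMap A B a) = Ideal.Quotient.mk Q₀ (g (C (algebraMap A N a)))
  rw [hgC, AlgHom.commutes]
  rfl

end GrothLib.Chev28
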