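import Groth.Agent.Lib.SecDim14.Basic

/-!
The dimension of the closure, in the fibres, of images of universally open schemes over the base.
-/

set_option autoImplicit false
set_option backward.isDefEq.respectTransparency false
universe u

open CategoryTheory Limits AlgebraicGeometry TopologicalSpace

noncomputable section

namespace GrothLib.Chev28

open GrothLib.SecDim14

variable {X S : Scheme.{u}}

/-- Dimensions can only grow under generization for the closures of images of universally open schemes. -/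
theorem dim_closure_images_le (f : X ⟶ S) [LocallyOfFiniteType f] {ι : Type u} (Y : ι → Scheme.{u})
    (g : ∀ i, Y i ⟶ S) [∀ i, UniversallyOpen (g i)] (v : ∀ i, Y i ⟶ X) (hv : ∀ i, v i ≫ f = g i)
    {s₀ s₁ : S} (h : s₁ ⤳ s₀) :
    topologicalKrullDim ↥(f ⁻¹' {s₀} ∩ closure ((⋃ i, Set.range (v i)) ∩ f ⁻¹' {s₀})) ≤
      topologicalKrullDim ↥(f ⁻¹' {s₁} ∩ closure ((⋃ i, Set.range (v i)) ∩ f ⁻¹' {s₁})) := by
  obtain ⟨W, _, _, b, hη, h0⟩ := GrothLib.HTop.exists_valuationRing_map h
  let X' := pullback f b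
  let f' : X' ⟶ Spec W := pullback.snd f b
  let p : X' ⟶ X := pullback.fst f b
  let v' : ∀ i, pullback (g i) b ⟶ X' := fun i =>
    pullback.lift (pullback.fst (g i) b ≫ v i) (pullback.snd (g i) b)
      (by rw [Category.assoc, hv i, pullback.condition])
  have hvf : ∀ i, v' i ≫ f' = pullback.snd (g i) b := fun i => pullback.lift_snd _ _ _
  have hvp : ∀ i, v' i ≫ p = pullback.fst (g i) b ≫ v i := fun i => pullback.lift_fst _ _ _
  haveI : LocallyOfFiniteType f' := MorphismProperty.pullback_snd f b inferInstance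
  let C₁ : Closeds X := ⟨closure ((⋃ i, Set.range (v i)) ∩ f ⁻¹' {s₁}), isClosed_closure⟩
  let C₀ : Closeds X := ⟨closure ((⋃ i, Set.range (v i)) ∩ f ⁻¹' {s₀}), isClosed_closure⟩
  let G : Set X' := (⋃ i, Set.range (v' i)) ∩ f' ⁻¹' {GrothLib.HTop.gen W}
  let E : Closeds X' := ⟨closure G, isClosed_closure⟩
  haveI : IsReduced (red E) := GrothLib.RedSub.isReduced_subscheme_vanishingIdeal E
  have hE1 : (E : Set X') ⊆ p ⁻¹' (C₁ : Set X) := by
    refine closure_minimal (fun y hy => ?_) (C₁.2.preimage p.continuous)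
    obtain ⟨hy, hyg⟩ := hy
    simp only [Set.mem_iUnion, Set.mem_range] at hy
    obtain ⟨i, a, rfl⟩ := hy
    refine subset_closure ⟨Set.mem_iUnion.2 ⟨i, pullback.fst (g i) b a, ?_⟩, ?_⟩
    · rw [← Scheme.Hom.comp_apply, ← hvp i, Scheme.Hom.comp_apply]
    · show f (p (v' i a)) = s₁
      rw [← Scheme.Hom.comp_apply, pullback.condition, Scheme.Hom.comp_apply,
        show pullback.snd f b (v' i a) = GrothLib.HTop.gen W from hyg, hη]
  have hdense : Dense ((redι E ≫ f') ⁻¹' {GrothLib.HTop.gen W}) := by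
    intro z
    rw [(redι E).isClosedEmbedding.isEmbedding.isInducing.closure_eq_preimage_closure_image]
    have hz : redι E z ∈ (E : Set X') := range_redι E ▸ ⟨z, rfl⟩
    refine closure_mono ?_ hz
    rintro y hy
    obtain ⟨w, rfl⟩ : y ∈ Set.range (redι E) := by rw [range_redι]; exact subset_closure hy
    exact ⟨w, hy.2, rfl⟩
  have key := dim_special_le_generic_of_dense (redι E ≫ f') hdense
  rw [dim_fiber_comp_isClosedImmersion, dim_fiber_comp_isClosedImmersion, range_redι] at key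
  have hE0 : f' ⁻¹' {GrothLib.HTop.closed W} ∩ p ⁻¹' (C₀ : Set X) ⊆ (E : Set X') := by
    rintro y ⟨hy, hy0⟩
    refine mem_closure_iff.2 fun O hO hyO => ?_
    obtain ⟨e, he, hec⟩ := GrothLib.FibreBC.exists_isPullback_fiber (IsPullback.of_hasPullback f b)
      (GrothLib.HTop.closed W)
    haveI : UniversallyOpen (Spec.map (b.residueFieldMap (GrothLib.HTop.closed W))) := inferInstance
    haveI : UniversallyOpen e := MorphismProperty.of_isPullback hec.flip inferInstance
    obtain ⟨z, hz⟩ := (f'.range_fiberι (GrothLib.HTop.closed W)).superset hy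
    have himg : IsOpen (e '' ((f'.fiberι (GrothLib.HTop.closed W)) ⁻¹' O)) :=
      e.isOpenMap _ (hO.preimage (f'.fiberι _).continuous)
    obtain ⟨O₂, hO₂, hO₂e⟩ := (f.fiberι (b (GrothLib.HTop.closed W))).isEmbedding.isInducing.isOpen_iff.1 himg
    have hpy : p y ∈ O₂ := by
      have hmem : e z ∈ (f.fiberι (b (GrothLib.HTop.closed W))) ⁻¹' O₂ := by
        rw [hO₂e]; exact ⟨z, by simpa [hz] using hyO, rfl⟩
      rw [Set.mem_preimage, ← Scheme.Hom.comp_apply, he, Scheme.Hom.comp_apply, hz] at hmem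
      exact hmem
    obtain ⟨q, hq, hq', hqs⟩ := mem_closure_iff.1 hy0 O₂ hO₂ hpy
    simp only [Set.mem_iUnion, Set.mem_range] at hq'
    obtain ⟨i, a, rfl⟩ := hq'
    obtain ⟨w, hw⟩ := (f.range_fiberι (b (GrothLib.HTop.closed W))).superset
      (show v i a ∈ f ⁻¹' {b (GrothLib.HTop.closed W)} by rw [h0]; exact hqs)
    have hmem : w ∈ e '' ((f'.fiberι (GrothLib.HTop.closed W)) ⁻¹' O) := by
      rw [← hO₂e, Set.mem_preimage, hw]; exact hq
    obtain ⟨z', hz', rfl⟩ := hmem
    have hy' : p (f'.fiberι (GrothLib.HTop.closed W) z') = v i a := by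
      rw [← Scheme.Hom.comp_apply, ← he, Scheme.Hom.comp_apply, hw]
    have hsec : IsPullback (v' i) (pullback.fst (g i) b) p (v i) := by
      refine (IsPullback.of_bot ?_ ?_ (IsPullback.of_hasPullback f b)).flip
      · rw [hvf i, hv i]
        exact IsPullback.of_hasPullback (g i) b
      · exact (hvp i).symm
    obtain ⟨t, ht1, -⟩ := Scheme.exists_preimage_of_isPullback hsec
      (f'.fiberι (GrothLib.HTop.closed W) z') a hy'
    have hgt : pullback.snd (g i) b t = GrothLib.HTop.closed W := by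
      rw [← hvf i, Scheme.Hom.comp_apply, ht1]
      exact (f'.range_fiberι (GrothLib.HTop.closed W)).subset ⟨z', rfl⟩
    have hopen : IsOpen (pullback.snd (g i) b '' (v' i ⁻¹' O)) :=
      (pullback.snd (g i) b).isOpenMap _ (hO.preimage (v' i).continuous)
    have hsp : GrothLib.HTop.gen W ⤳ GrothLib.HTop.closed W := IsLocalRing.specializes_closedPoint (R := W) _
    obtain ⟨t', ht', ht''⟩ := hsp.mem_open hopen ⟨t, show v' i t ∈ O by rw [ht1]; exact hz', hgt⟩
    refine ⟨v' i t', ht', Set.mem_iUnion.2 ⟨i, t', rfl⟩, ?_⟩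
    show f' (v' i t') = GrothLib.HTop.gen W
    rw [← Scheme.Hom.comp_apply, hvf i, ht'']
  calc topologicalKrullDim ↥(f ⁻¹' {s₀} ∩ (C₀ : Set X))
      = topologicalKrullDim ↥(f' ⁻¹' {GrothLib.HTop.closed W} ∩ p ⁻¹' (C₀ : Set X)) := by
        rw [dim_preimage_inter_fiber (IsPullback.of_hasPullback f b), h0]
    _ ≤ topologicalKrullDim ↥(f' ⁻¹' {GrothLib.HTop.closed W} ∩ (E : Set X')) :=
        dim_mono fun y hy => ⟨hy.1, hE0 hy⟩
    _ ≤ topologicalKrullDim ↥(f' ⁻¹' {GrothLib.HTop.gen W} ∩ (E : Set X')) := key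
    _ ≤ topologicalKrullDim ↥(f' ⁻¹' {GrothLib.HTop.gen W} ∩ p ⁻¹' (C₁ : Set X)) :=
        dim_mono fun y hy => ⟨hy.1, hE1 hy.2⟩
    _ = topologicalKrullDim ↥(f ⁻¹' {s₁} ∩ (C₁ : Set X)) := by
        rw [dim_preimage_inter_fiber (IsPullback.of_hasPullback f b), hη]

end GrothLib.Chev28
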