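import Groth.Agent.Lib.Chev28.Lift
import Groth.Agent.Lib.GeomUnib.Polynomial
import Groth.Agent.Lib.QuasiSec.Finite
import Groth.Agent.Lib.UnivOpen.LinearForm
import Groth.Prelude.Def_EGA43
import Mathlib.RingTheory.Spectrum.Prime.Chevalley

/-!
Universal openness on affines at a point with an independent cut over a geometrically unibranch point.
-/

universe u

open TensorProduct MvPolynomial TopologicalSpace Topology

noncomputable section

namespace GrothLib.Chev28

variable {A B : Type u} [CommRing A] [CommRing B] [Algebra A B]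

theorem isOpenAt_comap_of_forall_exists_le [IsNoetherianRing A] [Algebra.FiniteType A B] (Q : PrimeSpectrum B)
    (h : ∀ p' : Ideal A, p'.IsPrime → p' ≤ Q.asIdeal.comap (algebraMap A B) →
      ∃ Q' : Ideal B, Q'.IsPrime ∧ Q' ≤ Q.asIdeal ∧ Q'.comap (algebraMap A B) = p') :
    EGA43.IsOpenAt (PrimeSpectrum.comap (algebraMap A B)) Q := by
  intro U hU
  obtain ⟨V, hVU, hVo, hQV⟩ := mem_nhds_iff.mp hU
  obtain ⟨_, ⟨g, rfl⟩, hgQ, hgV⟩ :=
    PrimeSpectrum.isTopologicalBasis_basic_opens.exists_subset_of_mem_open hQV hVo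
  refine Filter.mem_of_superset ?_ (Set.image_mono (hgV.trans hVU))
  haveI : Algebra.FinitePresentation A B := Algebra.FinitePresentation.of_finiteType.mp inferInstance
  have hc : IsConstructible (PrimeSpectrum.comap (algebraMap A B) '' (PrimeSpectrum.basicOpen g : Set (PrimeSpectrum B))) :=
    PrimeSpectrum.isConstructible_comap_image (RingHom.finitePresentation_algebraMap.mpr inferInstance)
      PrimeSpectrum.isConstructible_basicOpen
  refine GrothLib.QuasiSec.mem_nhds_of_isConstructible hc _ fun q hq => ?_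
  obtain ⟨Q', hQ', hle, heq⟩ := h q.asIdeal q.isPrime ((PrimeSpectrum.le_iff_specializes _ _).mpr hq)
  exact ⟨⟨Q', hQ'⟩, fun hgQ' => hgQ (hle hgQ'), PrimeSpectrum.ext heq⟩

theorem isOpenAt_comap_mvPolynomial [IsNoetherianRing A] [Algebra.FiniteType A B] (Q : Ideal B) [Q.IsPrime]
    (hu : CAlg2.IsGeomUnibranch (Localization.AtPrime (Q.comap (algebraMap A B))))
    (h : HasIndepCut A Q) (n : ℕ) (q : PrimeSpectrum (MvPolynomial (Fin n) A ⊗[A] B))
    (hq : q.asIdeal.comap (Algebra.TensorProduct.includeRight :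
      B →ₐ[A] MvPolynomial (Fin n) A ⊗[A] B).toRingHom = Q) :
    EGA43.IsOpenAt (PrimeSpectrum.comap (algebraMap (MvPolynomial (Fin n) A) (MvPolynomial (Fin n) A ⊗[A] B))) q := by
  refine isOpenAt_comap_of_forall_exists_le q fun p' hp' hle => ?_
  refine @exists_prime_le_of_isUnibranch _ _ _ _ _ _ q.asIdeal q.isPrime ?_
    (hasIndepCut_mvPolynomial n Q h q.asIdeal hq) p' hp' hle
  refine (GrothLib.GeomUnib.isGeomUnibranch_mvPolynomial n _ ?_).1
  have hp : (q.asIdeal.comap (algebraMap (MvPolynomial (Fin n) A) (MvPolynomial (Fin n) A ⊗[A] B))).comap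
      (C : A →+* MvPolynomial (Fin n) A) = Q.comap (algebraMap A B) := by
    rw [← hq, Ideal.comap_comap, Ideal.comap_comap]
    congr 1
    ext a
    change algebraMap (MvPolynomial (Fin n) A) (MvPolynomial (Fin n) A ⊗[A] B)
      (algebraMap A (MvPolynomial (Fin n) A) a) = _
    rw [← IsScalarTower.algebraMap_apply]
    exact ((Algebra.TensorProduct.includeRight : B →ₐ[A] MvPolynomial (Fin n) A ⊗[A] B).commutes a).symm
  have key : ∀ (p₁ p₂ : Ideal A) [p₁.IsPrime] [p₂.IsPrime], p₁ = p₂ →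
      CAlg2.IsGeomUnibranch (Localization.AtPrime p₂) → CAlg2.IsGeomUnibranch (Localization.AtPrime p₁) := by
    intro p₁ p₂ _ _ e h'; subst e; exact h'
  exact key _ _ hp hu

/-- Openness after an arbitrary base change. -/
theorem isOpenAt_comap_baseChange [IsNoetherianRing A] [Algebra.FiniteType A B] (Q : Ideal B) [Q.IsPrime]
    (hu : CAlg2.IsGeomUnibranch (Localization.AtPrime (Q.comap (algebraMap A B))))
    (h : HasIndepCut A Q) (R : Type u) [CommRing R] [Algebra A R] (Qr : PrimeSpectrum (R ⊗[A] B))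
    (hQr : Qr.asIdeal.comap (Algebra.TensorProduct.includeRight : B →ₐ[A] R ⊗[A] B).toRingHom = Q) :
    EGA43.IsOpenAt (PrimeSpectrum.comap (algebraMap R (R ⊗[A] B))) Qr := by
  classical
  intro U hU
  obtain ⟨V, hVU, hVo, hQV⟩ := mem_nhds_iff.mp hU
  obtain ⟨_, ⟨z, rfl⟩, hzQ, hzV⟩ :=
    PrimeSpectrum.isTopologicalBasis_basic_opens.exists_subset_of_mem_open hQV hVo
  refine Filter.mem_of_superset ?_ (Set.image_mono (hzV.trans hVU))
  obtain ⟨t, rfl⟩ := TensorProduct.exists_finset z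
  let S := MvPolynomial (Fin t.card) A
  let r : Fin t.card → R := fun i => (t.equivFin.symm i).1.1
  let ψ : S →ₐ[A] R := aeval r
  let Φ : S ⊗[A] B →ₐ[A] R ⊗[A] B := Algebra.TensorProduct.map ψ (AlgHom.id A B)
  let z₀ : S ⊗[A] B := ∑ i, X i ⊗ₜ[A] (t.equivFin.symm i).1.2
  have hz₀ : Φ z₀ = ∑ p ∈ t, p.1 ⊗ₜ[A] p.2 := by
    rw [← Finset.sum_coe_sort t, ← t.equivFin.symm.sum_comp, map_sum]
    refine Finset.sum_congr rfl fun i _ => ?_
    rw [Algebra.TensorProduct.map_tmul, AlgHom.id_apply]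
    congr 1
    exact aeval_X r i
  let q₀ : PrimeSpectrum (S ⊗[A] B) := PrimeSpectrum.comap Φ.toRingHom Qr
  have hq₀ : q₀.asIdeal.comap (Algebra.TensorProduct.includeRight : B →ₐ[A] S ⊗[A] B).toRingHom = Q := by
    rw [← hQr]
    ext c
    change Φ (1 ⊗ₜ c) ∈ Qr.asIdeal ↔ (1 : R) ⊗ₜ[A] c ∈ Qr.asIdeal
    simp [Φ]
  have hzq₀ : q₀ ∈ PrimeSpectrum.basicOpen z₀ := fun h => hzQ (hz₀ ▸ h)
  have hW := isOpenAt_comap_mvPolynomial Q hu h t.card q₀ hq₀ _
    ((PrimeSpectrum.basicOpen z₀).2.mem_nhds hzq₀)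
  have hψ : PrimeSpectrum.comap ψ.toRingHom (PrimeSpectrum.comap (algebraMap R (R ⊗[A] B)) Qr) =
      PrimeSpectrum.comap (algebraMap S (S ⊗[A] B)) q₀ := by
    refine PrimeSpectrum.ext (Ideal.ext fun s => ?_)
    change (ψ s) ⊗ₜ[A] (1 : B) ∈ Qr.asIdeal ↔ Φ (s ⊗ₜ 1) ∈ Qr.asIdeal
    simp [Φ]
  rw [← hψ] at hW
  refine Filter.mem_of_superset ((PrimeSpectrum.continuous_comap ψ.toRingHom).continuousAt.preimage_mem_nhds hW) ?_
  rintro P ⟨q, hq, hPq⟩
  obtain ⟨Ω, _, e₁, e₂, he₁, he₂, hcomm⟩ :=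
    GrothLib.UnivOpen.exists_common_field ψ.toRingHom (algebraMap S (S ⊗[A] B)) P q hPq
  letI : Algebra A Ω := (e₁.comp (algebraMap A R)).toAlgebra
  let e₁' : R →ₐ[A] Ω := { e₁ with commutes' := fun _ => rfl }
  let e₂' : B →ₐ[A] Ω :=
    { e₂.comp (Algebra.TensorProduct.includeRight : B →ₐ[A] S ⊗[A] B).toRingHom with
      commutes' := fun a => by
        change e₂ ((Algebra.TensorProduct.includeRight : B →ₐ[A] S ⊗[A] B) (algebraMap A B a)) = e₁ (algebraMap A R a)
        rw [AlgHom.commutes, IsScalarTower.algebraMap_apply A S (S ⊗[A] B)]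
        refine (RingHom.congr_fun hcomm (algebraMap A S a)).symm.trans ?_
        exact congrArg e₁ (ψ.commutes a) }
  let e : R ⊗[A] B →ₐ[A] Ω := Algebra.TensorProduct.lift e₁' e₂' fun _ _ => .all _ _
  have heΦ : ∀ w, e (Φ w) = e₂ w := by
    intro w
    induction w using TensorProduct.induction_on with
    | zero => simp
    | tmul s c =>
      rw [Algebra.TensorProduct.map_tmul, AlgHom.id_apply, Algebra.TensorProduct.lift_tmul]
      change e₁ (ψ s) * e₂ ((1 : S) ⊗ₜ c) = e₂ (s ⊗ₜ c)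
      rw [show e₁ (ψ s) = e₂ (s ⊗ₜ 1) from RingHom.congr_fun hcomm s, ← map_mul]
      simp
    | add x y hx hy => simp only [map_add, hx, hy]
  refine ⟨⟨RingHom.ker e.toRingHom, RingHom.ker_isPrime _⟩, fun hz => hq ?_, PrimeSpectrum.ext (Ideal.ext fun x => ?_)⟩
  · rw [← he₂, RingHom.mem_ker, ← heΦ, hz₀]
    exact hz
  · change e (x ⊗ₜ 1) = 0 ↔ x ∈ P.asIdeal
    rw [← he₁, RingHom.mem_ker, Algebra.TensorProduct.lift_tmul, map_one, mul_one]
    rfl

end GrothLib.Chev28
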