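import Groth.Agent.Lib.Chev28.DimCat
import Groth.Agent.Lib.CycDiv.Flat

/-!
The dimension formula on an irreducible closed subscheme.
-/

universe u

open CategoryTheory CategoryTheory.Limits AlgebraicGeometry TopologicalSpace Topology

noncomputable section

namespace GrothLib.Chev28

variable {X Y : Scheme.{u}}

theorem ker_specMap_generic [IsIntegral X] [IsLocallyNoetherian X] (x : X) {ξ : X} (h : ξ ⤳ x)
    (hξ : ξ = genericPoint X) : RingHom.ker (Cyc.specMap x ξ h) = ⊥ := by
  subst hξ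
  have h0 : (⊥ : Ideal (X.presheaf.stalk x)) ∈ minimalPrimes (X.presheaf.stalk x) :=
    ⟨⟨Ideal.isPrime_bot, le_rfl⟩, fun _ _ _ => bot_le⟩
  obtain ⟨ζ, hζ, hmax, he⟩ := exists_eq_ker_of_mem_minimalPrimes x ⊥ h0
  obtain rfl : genericPoint X = ζ := hmax _ (genericPoint_specializes ζ)
  exact he.symm

theorem dim_locQuot_closedImmersion {Ys : Scheme.{u}} [IsIntegral Ys] [IsLocallyNoetherian Ys] (j : Ys ⟶ Y)
    [IsClosedImmersion j] (v : Ys) {y η : Y} (hv : j v = y) (hη : j (genericPoint Ys) = η) (h : η ⤳ y) :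
    ringKrullDim (Cyc.LocQuot y η h) = ringKrullDim (Ys.presheaf.stalk v) := by
  subst hv hη
  have hker : RingHom.ker (Cyc.specMap (j v) (j (genericPoint Ys)) h) = RingHom.ker (j.stalkMap v).hom := by
    refine (GrothLib.CycDiv.comap_primeOf j (genericPoint_specializes v)).symm.trans ?_
    show (RingHom.ker (Cyc.specMap v (genericPoint Ys) (genericPoint_specializes v))).comap _ = _
    rw [ker_specMap_generic v _ rfl, ← RingHom.ker_eq_comap_bot]
  exact ringKrullDim_eq_of_ringEquiv ((Ideal.quotEquivOfEq hker).trans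
    (RingHom.quotientKerEquivOfSurjective (j.stalkMap_surjective v)))

/-- The dimension of an irreducible closed subscheme at a point is maximal iff base, fibre and
equidimensionality conditions hold. -/
theorem dim_sub_eq_iff [IsLocallyNoetherian Y] (f : X ⟶ Y) [LocallyOfFiniteType f]
    {Zs : Scheme.{u}} [IsIntegral Zs] (ι : Zs ⟶ X) [IsClosedImmersion ι] (w : Zs) (x : X) (hw : ι w = x)
    {Ys : Scheme.{u}} [IsIntegral Ys] (j : Ys ⟶ Y) [IsClosedImmersion j] (v : Ys) (hv : j v = f x)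
    (hgen : j (genericPoint Ys) = f (ι (genericPoint Zs))) (t : ℕ)
    (ht : Dual3.resTrdeg f (ι (genericPoint Zs)) = t) :
    ringKrullDim (Zs.presheaf.stalk w) =
        ringKrullDim (Y.presheaf.stalk (f x)) + ringKrullDim ((f.fiber (f x)).presheaf.stalk (f.asFiber x)) ↔
      ringKrullDim (Ys.presheaf.stalk v) = ringKrullDim (Y.presheaf.stalk (f x)) ∧
        ringKrullDim (((ι ≫ f).fiber ((ι ≫ f) w)).presheaf.stalk ((ι ≫ f).asFiber w)) =
          ringKrullDim ((f.fiber (f x)).presheaf.stalk (f.asFiber x)) ∧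
        FlatMor.fibreDimAt (ι ≫ f) w = (t : WithBot ℕ∞) ∧
        ringKrullDim (Zs.presheaf.stalk w) = ringKrullDim (Ys.presheaf.stalk v) +
          ringKrullDim (((ι ≫ f).fiber ((ι ≫ f) w)).presheaf.stalk ((ι ≫ f).asFiber w)) := by
  haveI := LocallyOfFiniteType.isLocallyNoetherian (ι ≫ f)
  haveI := LocallyOfFiniteType.isLocallyNoetherian j
  refine ⟨fun h => ?_, fun ⟨h1, h2, _, h4⟩ => by rw [h4, h1, h2]⟩
  have hsp := genericPoint_specializes w
  obtain ⟨t', s', a, b, ht', hs', ha, hb, hab, -⟩ := GrothLib.Altitude.dim_locQuot_add_trdeg (ι ≫ f) hsp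
  have hb' : ringKrullDim (Ys.presheaf.stalk v) = b := by
    rw [← hb]
    symm
    exact dim_locQuot_closedImmersion j v (hv.trans (congrArg f hw).symm) hgen _
  have ha' : ringKrullDim (Zs.presheaf.stalk w) = a := by
    rw [← ha]
    refine (ringKrullDim_eq_of_ringEquiv ?_).symm
    exact (Ideal.quotEquivOfEq (ker_specMap_generic w hsp rfl)).trans (RingEquiv.quotientBot _)
  have htt : t' = t := by
    have : Dual3.resTrdeg (ι ≫ f) (genericPoint Zs) = t' := ht'
    rw [GrothLib.AlgSp.resTrdeg_comp, GrothLib.AlgSp.resTrdeg_eq_zero_of_lqf ι, add_zero, ht] at this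
    exact_mod_cast this.symm
  obtain ⟨k', sw, hsw, hk', hD'⟩ := exists_dim_fibre_stalk (ι ≫ f) w
  obtain ⟨k, s, hs, hk, hD⟩ := exists_dim_fibre_stalk f x
  obtain ⟨c, hc, -⟩ := exists_nat_dim_stalk (f x)
  have hss : sw = s' := by exact_mod_cast (hsw.symm.trans hs' :)
  have hsx : sw = s := by
    rw [GrothLib.AlgSp.resTrdeg_comp, GrothLib.AlgSp.resTrdeg_eq_zero_of_lqf ι, add_zero, hw, hs] at hsw
    exact_mod_cast hsw.symm
  have hkk : k' + sw ≤ k + s := by
    have h1 := GrothLib.AbsApprox.fibreDimAt_le_of_isClosedImmersion ι f (ι ≫ f) rfl w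
    rw [hw, hD', hD] at h1
    exact_mod_cast h1
  have htD : t ≤ k' + sw := by
    have h1 := GrothLib.Equidim6.generic_le_fibreDimAt (ι ≫ f) w
    obtain ⟨n, hn, hn'⟩ := GrothLib.Equidim6.resTrdeg_eq_fibreDimAt_of_maximal (ι ≫ f) (genericPoint Zs)
      fun z hz => (hz.antisymm (genericPoint_specializes z)).eq
    have hnt : n = t := by rw [← htt]; exact_mod_cast (hn.symm.trans ht' :)
    rw [hn', hD', hnt] at h1
    exact_mod_cast h1
  have hbc : b ≤ c := by
    have h1 : ringKrullDim (Y.presheaf.stalk ((ι ≫ f) w)) = c := by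
      rw [Scheme.Hom.comp_apply, hw]; exact hc
    exact (dim_locQuot_le_stalk _ b c hb h1).1
  rw [ha', hc, hk] at h
  have hac : a = c + k := by exact_mod_cast h
  rw [ha', hb', hc, hk, hk', hD']
  refine ⟨?_, ?_, ?_, ?_⟩
  · exact_mod_cast (show b = c by omega)
  · exact_mod_cast (show k' = k by omega)
  · exact_mod_cast (show k' + sw = t by omega)
  · exact_mod_cast (show a = b + k' by omega)

end GrothLib.Chev28
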