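import Groth.Agent.Lib.Chev28.DimCat
import Groth.Agent.Lib.Chev28.SubDim
import Groth.Agent.Lib.Altitude.Chains
import Mathlib.AlgebraicGeometry.Morphisms.Finite

/-!
Dimensions over Jacobson universally catenary schemes with equidimensional components.
-/

universe u

open CategoryTheory CategoryTheory.Limits AlgebraicGeometry TopologicalSpace Topology

noncomputable section

namespace GrothLib.Chev28

variable {X S : Scheme.{u}}

/-- Closed immersions do not change the local rings of closures of points. -/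
theorem dim_locQuot_image {Z : Scheme.{u}} (j : Z ⟶ X) [IsClosedImmersion j] {w ξ : Z} (h : ξ ⤳ w) {x ζ : X}
    (hx : j w = x) (hζ : j ξ = ζ) (h' : ζ ⤳ x) :
    ringKrullDim (Cyc.LocQuot x ζ h') = ringKrullDim (Cyc.LocQuot w ξ h) := by
  subst hx hζ
  have hker : RingHom.ker (Cyc.specMap (j w) (j ξ) h') =
      RingHom.ker ((Ideal.Quotient.mk (RingHom.ker (Cyc.specMap w ξ h))).comp (j.stalkMap w).hom) := by
    rw [← RingHom.comap_ker, Ideal.mk_ker]
    exact (GrothLib.CycDiv.comap_primeOf j h).symm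
  exact ringKrullDim_eq_of_ringEquiv ((Ideal.quotEquivOfEq hker).trans
    (RingHom.quotientKerEquivOfSurjective (Ideal.Quotient.mk_surjective.comp (j.stalkMap_surjective w))))

/-- In a catenary integral scheme dimensions of local rings add up along specializations. -/
theorem dim_stalk_eq_add [IsIntegral S] [IsLocallyNoetherian S] {σ s : S} (h : σ ⤳ s)
    (hcat : CAlg.IsUniversallyCatenary (S.presheaf.stalk s)) :
    ringKrullDim (S.presheaf.stalk s) = ringKrullDim (S.presheaf.stalk σ) + ringKrullDim (Cyc.LocQuot s σ h) := by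
  let Q := RingHom.ker (Cyc.specMap s σ h)
  haveI : Q.IsPrime := RingHom.ker_isPrime _
  have hQm : Q ≤ IsLocalRing.maximalIdeal (S.presheaf.stalk s) :=
    IsLocalRing.le_maximalIdeal (Ideal.IsPrime.ne_top (I := Q) inferInstance)
  have h1 := GrothLib.Altitude.height_eq_add_of_isCatenary (hcat.2 (S.presheaf.stalk s) inferInstance) Q
    (IsLocalRing.maximalIdeal (S.presheaf.stalk s)) hQm
  haveI : IsLocalRing (S.presheaf.stalk s ⧸ Q) := IsLocalRing.of_surjective' _ Ideal.Quotient.mk_surjective
  rw [show (IsLocalRing.maximalIdeal (S.presheaf.stalk s)).map (Ideal.Quotient.mk Q) =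
      IsLocalRing.maximalIdeal (S.presheaf.stalk s ⧸ Q) from
    IsLocalRing.map_maximalIdeal_of_surjective _ Ideal.Quotient.mk_surjective] at h1
  letI := (S.presheaf.stalkSpecializes h).hom.toAlgebra
  haveI := GrothLib.CycDiv.isLocalization_stalkSpecializes h
  rw [show ringKrullDim (S.presheaf.stalk σ) = Q.height from
      IsLocalization.AtPrime.ringKrullDim_eq_height (GrothLib.CycDiv.primeOf h) (S.presheaf.stalk σ),
    show ringKrullDim (Cyc.LocQuot s σ h) = (IsLocalRing.maximalIdeal (S.presheaf.stalk s ⧸ Q)).height from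
      IsLocalRing.maximalIdeal_height_eq_ringKrullDim.symm,
    ← IsLocalRing.maximalIdeal_height_eq_ringKrullDim, ← WithBot.coe_add, h1]

/-- Every irreducible closed subset has the same dimension at each of its closed points. -/
theorem dim_locQuot_const [IsLocallyNoetherian S]
    (hcat : ∀ s : S, CAlg.IsUniversallyCatenary (S.presheaf.stalk s))
    (h3 : ∀ S' ∈ irreducibleComponents (S : Type u), ∀ s ∈ S', IsClosed ({s} : Set S) →
      topologicalKrullDim (↥S' : Type u) = topologicalKrullDim ↥{t : S | t ∈ S' ∧ t ⤳ s})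
    {σ s₁ s₂ : S} (h₁ : σ ⤳ s₁) (h₂ : σ ⤳ s₂) (hs₁ : IsClosed ({s₁} : Set S)) (hs₂ : IsClosed ({s₂} : Set S)) :
    ringKrullDim (Cyc.LocQuot s₁ σ h₁) = ringKrullDim (Cyc.LocQuot s₂ σ h₂) := by
  obtain ⟨σ', hσ', hmax⟩ := GrothLib.AffDom.exists_maximal_point σ
  obtain ⟨Ss, j, _, _, hrange, hgen⟩ := exists_integral_closure σ'
  haveI := LocallyOfFiniteType.isLocallyNoetherian j
  obtain ⟨w, hw⟩ := hrange.ge hσ'.mem_closure
  have hS' := GrothLib.Equidim6.closure_mem_components hmax
  have key : ∀ (s : S) (h : σ ⤳ s), IsClosed ({s} : Set S) →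
      topologicalKrullDim ↥(closure ({σ'} : Set S)) =
        ringKrullDim (Ss.presheaf.stalk w) + ringKrullDim (Cyc.LocQuot s σ h) := by
    intro s h hs
    obtain ⟨v, hv⟩ := hrange.ge (hσ'.trans h).mem_closure
    have hwv : w ⤳ v := j.isEmbedding.isInducing.specializes_iff.mp (by rw [hw, hv]; exact h)
    have hcv : CAlg.IsUniversallyCatenary (Ss.presheaf.stalk v) :=
      GrothLib.Altitude.isUniversallyCatenary_of_surjective (j.stalkMap v).hom (j.stalkMap_surjective v)
        (hcat _)
    rw [dim_locQuot_image j hwv hv hw h, ← dim_stalk_eq_add hwv hcv,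
      h3 _ hS' s (hσ'.trans h).mem_closure hs]
    rw [← PrimeSpectrum.topologicalKrullDim_eq_ringKrullDim (Ss.presheaf.stalk v)]
    symm
    refine GrothLib.Dim.IsEmbedding.topologicalKrullDim_eq (f := fun q => j (Ss.fromSpecStalk v q))
      (j.isEmbedding.comp (Ss.fromSpecStalk v).isEmbedding) ?_
    ext t
    constructor
    · rintro ⟨q, rfl⟩
      exact ⟨hrange.le ⟨_, rfl⟩, hv ▸
        (show Ss.fromSpecStalk v q ⤳ v from (Scheme.range_fromSpecStalk (x := v)).le ⟨q, rfl⟩).map j.continuous⟩
    · rintro ⟨ht, hts⟩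
      obtain ⟨t', rfl⟩ := hrange.ge ht
      obtain ⟨q, hq⟩ := (Scheme.range_fromSpecStalk (x := v)).ge
        (show t' ∈ {y | y ⤳ v} from j.isEmbedding.isInducing.specializes_iff.mp (by rw [hv]; exact hts))
      exact ⟨q, congrArg j hq⟩
  obtain ⟨i, hi, -⟩ := exists_nat_dim_stalk (Y := Ss) w
  have h12 := (key s₁ h₁ hs₁).symm.trans (key s₂ h₂ hs₂)
  rw [hi] at h12
  obtain ⟨a, ha, -⟩ := exists_nat_dim_stalk (Y := S) s₁
  obtain ⟨b, hb, -⟩ := exists_nat_dim_stalk (Y := S) s₂
  have fin : ∀ (s : S) (h : σ ⤳ s) (c : ℕ), ringKrullDim (S.presheaf.stalk s) = c →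
      ∃ k : ℕ, ringKrullDim (Cyc.LocQuot s σ h) = k := fun s h c hc => by
    obtain ⟨v, hv⟩ := hrange.ge (hσ'.trans h).mem_closure
    haveI : (RingHom.ker (Cyc.specMap s σ h)).IsPrime := RingHom.ker_isPrime _
    haveI : IsLocalRing (Cyc.LocQuot s σ h) := IsLocalRing.of_surjective' _ Ideal.Quotient.mk_surjective
    obtain ⟨k, hk⟩ := ENat.ne_top_iff_exists.1
      (Ideal.height_ne_top (I := IsLocalRing.maximalIdeal (Cyc.LocQuot s σ h)) Ideal.IsPrime.ne_top')
    exact ⟨k, by rw [← IsLocalRing.maximalIdeal_height_eq_ringKrullDim, ← hk]; rfl⟩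
  obtain ⟨k₁, hk₁⟩ := fin s₁ h₁ a ha
  obtain ⟨k₂, hk₂⟩ := fin s₂ h₂ b hb
  rw [hk₁, hk₂] at h12
  have : i + k₁ = i + k₂ := by exact_mod_cast h12
  rw [hk₁, hk₂, show k₁ = k₂ by omega]

/-- Every point specializes to a closed point of a Jacobson space. -/
theorem exists_closed_specialization [JacobsonSpace S] (z : S) : ∃ s, z ⤳ s ∧ IsClosed ({s} : Set S) := by
  obtain ⟨s, hs, hsc⟩ := nonempty_inter_closedPoints (X := S) (Z := closure {z})
    ⟨z, subset_closure rfl⟩ isClosed_closure.isLocallyClosed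
  exact ⟨s, specializes_iff_mem_closure.mpr hs, hsc⟩

/-- The dimension of an irreducible scheme locally of finite type over such a base. -/
theorem dim_eq_of_irreducible [IsLocallyNoetherian S] [JacobsonSpace S]
    (hcat : ∀ s : S, CAlg.IsUniversallyCatenary (S.presheaf.stalk s))
    (p : X ⟶ S) [LocallyOfFiniteType p] [IrreducibleSpace X] (b : ℕ)
    (hb : ∀ (s : S) (h : p (genericPoint X) ⤳ s), IsClosed ({s} : Set S) →
      ringKrullDim (Cyc.LocQuot s (p (genericPoint X)) h) = b) :
    ∃ t : ℕ, Dual3.resTrdeg p (genericPoint X) = t ∧ topologicalKrullDim (X : Type u) = ((b + t : ℕ) : WithBot ℕ∞) := by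
  haveI := LocallyOfFiniteType.isLocallyNoetherian p
  haveI : JacobsonSpace X := LocallyOfFiniteType.jacobsonSpace p
  obtain ⟨t, ht, -⟩ := GrothLib.Altitude.exists_trdeg_eq_dim_closure p (genericPoint X)
  refine ⟨t, ht, ?_⟩
  have hclosed : ∀ x : X, IsClosed ({x} : Set X) → ringKrullDim (X.presheaf.stalk x) = ((b + t : ℕ) : WithBot ℕ∞) := by
    intro x hx
    have hsp : genericPoint X ⤳ x := genericPoint_specializes x
    obtain ⟨ξ, hξ, hmax, hd⟩ := exists_component_dim_stalk x
    obtain rfl : genericPoint X = ξ := hmax _ (genericPoint_specializes ξ)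
    obtain ⟨t', s', a, b', ht', hs', ha, hb', -, heq⟩ := GrothLib.Altitude.dim_locQuot_add_trdeg p hξ
    have hts : t' = t := by exact_mod_cast (ht'.symm.trans ht :)
    have hpx : IsClosed ({p x} : Set S) := p.closePoints_subset_preimage_closedPoints hx
    have hbb : b' = b := by exact_mod_cast hb'.symm.trans (hb _ (hξ.map p.continuous) hpx)
    obtain ⟨s'', hs'', hsd⟩ := GrothLib.Altitude.exists_trdeg_eq_dim_closure p x
    have hs0 : s'' = 0 := by
      have hc : IsClosed ({p.asFiber x} : Set (p.fiber (p x))) := by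
        have := hx.preimage (p.fiberι (p x)).continuous
        convert this using 1
        ext a
        exact ⟨fun h => by rw [Set.mem_singleton_iff.mp h]; exact p.fiberι_asFiber x,
          fun h => (p.fiberι (p x)).isEmbedding.injective
            ((Set.mem_singleton_iff.mp h).trans (p.fiberι_asFiber x).symm)⟩
      rw [hc.closure_eq] at hsd
      have h0 : topologicalKrullDim ↥({p.asFiber x} : Set (p.fiber (p x))) ≤ 0 :=
        topologicalKrullDim_zero_of_discreteTopology _
      rw [hsd] at h0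
      exact Nat.le_zero.mp (by exact_mod_cast h0)
    have hss : s' = s'' := by exact_mod_cast (hs'.symm.trans hs'' :)
    have := heq (hcat _)
    rw [← hd, ha, show a = b + t by omega]
  have hdim : topologicalKrullDim (X : Type u) = ⨆ z : X, ringKrullDim (X.presheaf.stalk z) := by
    rw [← CurvePoints.krullDim_points_eq X]
    exact (Order.krullDim_eq_iSup_coheight (α := X)).trans
      (iSup_congr fun z => (ringKrullDim_stalk_eq_coheight z).symm)
  rw [hdim]
  refine le_antisymm (iSup_le fun z => ?_) ?_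
  · obtain ⟨x, hzx, hx⟩ := exists_closed_specialization z
    rw [← hclosed x hx, ringKrullDim_stalk_eq_coheight, ringKrullDim_stalk_eq_coheight]
    exact_mod_cast Order.coheight_anti (Scheme.le_iff_specializes.2 hzx)
  · obtain ⟨x, -, hx⟩ := exists_closed_specialization (genericPoint X)
    exact (hclosed x hx).ge.trans (le_iSup (fun z : X => ringKrullDim (X.presheaf.stalk z)) x)

end GrothLib.Chev28
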