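import Groth.Agent.Lib.Chev28.Going
import Mathlib.RingTheory.MvPolynomial.Ideal
import Mathlib.Algebra.MvPolynomial.Equiv
import Mathlib.RingTheory.TensorProduct.MvPolynomial

/-!
Lifting generizations: localization and polynomial extension of the base.
-/

universe u

open TensorProduct MvPolynomial IsLocalRing

noncomputable section

namespace GrothLib.Chev28

variable {A B : Type u} [CommRing A] [CommRing B] [Algebra A B]

/-- `Q` lies on a component dominating a component of the base and is quasi-finite over the affine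
space of coordinates independent on that component. -/
def HasIndepCut (A : Type u) [CommRing A] {B : Type u} [CommRing B] [Algebra A B] (Q : Ideal B) [Q.IsPrime] :
    Prop :=
  ∃ P₀ : Ideal B, P₀.IsPrime ∧ P₀ ≤ Q ∧ P₀.comap (algebraMap A B) ∈ minimalPrimes A ∧
    ∃ (d : ℕ) (b : Fin d → B),
      (∀ P : MvPolynomial (Fin d) A, aeval b P ∈ P₀ → ∀ m, P.coeff m ∈ P₀.comap (algebraMap A B)) ∧
      (letI : Algebra (MvPolynomial (Fin d) A) B := (aeval b).toRingHom.toAlgebra;
        Algebra.QuasiFiniteAt (MvPolynomial (Fin d) A) Q)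

theorem exists_prime_le_of_isUnibranch_local [IsLocalRing A] (hu : CAlg2.IsUnibranch A)
    [Algebra.FiniteType A B] (Q : Ideal B) [Q.IsPrime] (hQ : Q.comap (algebraMap A B) = maximalIdeal A)
    (h : HasIndepCut A Q) (p' : Ideal A) [p'.IsPrime] :
    ∃ Q' : Ideal B, Q'.IsPrime ∧ Q' ≤ Q ∧ Q'.comap (algebraMap A B) = p' := by
  obtain ⟨P₀, hP₀, hle, hmin, d, b, hind, hqf⟩ := h
  haveI := hu.1
  haveI hnil : (nilradical A).IsPrime := (Ideal.Quotient.isDomain_iff_prime _).mp hu.1
  have hp₀ : P₀.comap (algebraMap A B) = nilradical A :=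
    le_antisymm (hmin.2 ⟨hnil, bot_le⟩ (nilradical_le_prime _)) (nilradical_le_prime _)
  haveI : P₀.LiesOver (nilradical A) := ⟨hp₀.symm⟩
  let A' := CAlg2.red A
  let B' := B ⧸ P₀
  haveI : FaithfulSMul A' B' := (faithfulSMul_iff_algebraMap_injective _ _).mpr <| by
    refine (injective_iff_map_eq_zero _).mpr fun a ha => ?_
    obtain ⟨r, rfl⟩ := Ideal.Quotient.mk_surjective a
    rw [Ideal.Quotient.eq_zero_iff_mem, Ideal.mem_of_liesOver P₀ (nilradical A) r]
    exact Ideal.Quotient.eq_zero_iff_mem.mp ha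
  haveI : Algebra.FiniteType A' B' := Algebra.FiniteType.of_restrictScalars_finiteType A A' B'
  haveI : IsLocalRing A' := IsLocalRing.of_surjective' (Ideal.Quotient.mk _) Ideal.Quotient.mk_surjective
  let mk₀ := Ideal.Quotient.mk P₀
  let b₀ : Fin d → B' := fun i => mk₀ (b i)
  have hst : ∀ P : MvPolynomial (Fin d) A,
      mk₀ (aeval b P) = aeval b₀ (MvPolynomial.map (algebraMap A A') P) := fun P => by
    rw [MvPolynomial.aeval_map_algebraMap]
    exact comp_aeval_apply b (Ideal.Quotient.mkₐ A P₀) P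
  let y₀ : Ideal B' := Q.map mk₀
  haveI : y₀.IsPrime := Ideal.map_isPrime_of_surjective Ideal.Quotient.mk_surjective (by rwa [Ideal.mk_ker])
  have hqf₀ : letI : Algebra (MvPolynomial (Fin d) A') B' := (aeval b₀).toRingHom.toAlgebra
      Algebra.QuasiFiniteAt (MvPolynomial (Fin d) A') y₀ := by
    letI : Algebra (MvPolynomial (Fin d) A) B := (aeval b).toRingHom.toAlgebra
    letI iA : Algebra (MvPolynomial (Fin d) A') B' := (aeval b₀).toRingHom.toAlgebra
    letI iR : Algebra (MvPolynomial (Fin d) A) B' := (mk₀.comp (aeval b).toRingHom).toAlgebra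
    letI iRA : Algebra (MvPolynomial (Fin d) A) (MvPolynomial (Fin d) A') :=
      (MvPolynomial.map (algebraMap A A')).toAlgebra
    haveI := hqf
    let φ : B →ₐ[MvPolynomial (Fin d) A] B' := { mk₀ with commutes' := fun _ => rfl }
    haveI : Algebra.QuasiFiniteAt (MvPolynomial (Fin d) A) y₀ :=
      Algebra.QuasiFiniteAt.of_surjectiveOnStalks Q φ
        (RingHom.surjectiveOnStalks_of_surjective Ideal.Quotient.mk_surjective) y₀
        (Ideal.ext fun w => (Ideal.mem_quotient_iff_mem hle).symm)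
    let L := Localization.AtPrime y₀
    haveI htower : @IsScalarTower (MvPolynomial (Fin d) A) (MvPolynomial (Fin d) A') L iRA.toSMul _ _ := by
      refine @IsScalarTower.of_algebraMap_eq _ _ _ _ _ _ iRA _ _ fun P => ?_
      rw [IsScalarTower.algebraMap_apply (MvPolynomial (Fin d) A) B' L,
        IsScalarTower.algebraMap_apply (MvPolynomial (Fin d) A') B' L]
      exact congrArg (algebraMap B' L) (hst P)
    exact @Algebra.QuasiFinite.of_restrictScalars (MvPolynomial (Fin d) A) (MvPolynomial (Fin d) A') L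
      _ _ _ iRA _ _ htower _
  have hind₀ : AlgebraicIndependent A' b₀ := by
    refine (injective_iff_map_eq_zero _).mpr fun P hP => ?_
    obtain ⟨P', rfl⟩ := MvPolynomial.map_surjective (Ideal.Quotient.mk (nilradical A)) Ideal.Quotient.mk_surjective P
    have h1 : mk₀ (aeval b P') = 0 := (hst P').trans hP
    ext m
    rw [MvPolynomial.coeff_map, MvPolynomial.coeff_zero, Ideal.Quotient.eq_zero_iff_mem, ← hp₀]
    exact hind P' (Ideal.Quotient.eq_zero_iff_mem.mp h1) m
  haveI := hu.2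
  let K := FractionRing A'
  let L := FractionRing B'
  haveI : FaithfulSMul A' L := (faithfulSMul_iff_algebraMap_injective _ _).mpr <| by
    rw [IsScalarTower.algebraMap_eq A' B' L]
    exact (IsFractionRing.injective B' L).comp (FaithfulSMul.algebraMap_injective A' B')
  letI : Algebra K L := FractionRing.liftAlgebra A' L
  haveI : IsScalarTower A' K L := FractionRing.isScalarTower_liftAlgebra A' L
  haveI : IsFractionRing (integralClosure A' K) K := integralClosure.isFractionRing_of_finite_extension K K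
  haveI : IsIntegrallyClosed (integralClosure A' K) :=
    (isIntegrallyClosed_iff K).mpr fun {x} hx => ⟨⟨x, isIntegral_trans x hx⟩, rfl⟩
  haveI : FaithfulSMul A' (integralClosure A' K) :=
    (faithfulSMul_iff_algebraMap_injective _ _).mpr fun a c h =>
      IsFractionRing.injective A' K (congrArg Subtype.val h :)
  have hy₀ : y₀.comap (algebraMap A' B') = maximalIdeal A' := by
    refine le_antisymm (IsLocalRing.le_maximalIdeal (Ideal.comap_isPrime _ _).ne_top) fun a ha => ?_
    obtain ⟨r, rfl⟩ := Ideal.Quotient.mk_surjective a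
    rw [Ideal.mem_comap]
    change mk₀ (algebraMap A B r) ∈ y₀
    refine Ideal.mem_map_of_mem _ ?_
    rw [← Ideal.mem_comap, hQ, IsLocalRing.mem_maximalIdeal]
    exact fun h => (IsLocalRing.mem_maximalIdeal _).mp ha (h.map _)
  haveI : (p'.map (Ideal.Quotient.mk (nilradical A))).IsPrime :=
    Ideal.map_isPrime_of_surjective Ideal.Quotient.mk_surjective (by rw [Ideal.mk_ker]; exact nilradical_le_prime p')
  obtain ⟨Q', hQ', hQ'le, hQ'p⟩ := exists_prime_le_of_normal b₀ y₀ hy₀ hqf₀ hind₀ (integralClosure A' K) L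
    (IsFractionRing.injective B' L) ((algebraMap K L).injective.comp Subtype.val_injective)
    (p'.map (Ideal.Quotient.mk (nilradical A)))
  refine ⟨Q'.comap mk₀, Ideal.comap_isPrime _ _,
    fun w hw => (Ideal.mem_quotient_iff_mem hle).mp (hQ'le hw), ?_⟩
  ext r
  change algebraMap A' B' (Ideal.Quotient.mk _ r) ∈ Q' ↔ r ∈ p'
  rw [← Ideal.mem_comap, hQ'p]
  exact Ideal.mem_quotient_iff_mem (nilradical_le_prime p')

/-- Quasi-finiteness over affine space is stable under base change. -/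
theorem quasiFiniteAt_baseChange (R : Type u) [CommRing R] [Algebra A R] {d : ℕ} (b : Fin d → B)
    (Q : Ideal B) [Q.IsPrime] (Q' : Ideal (R ⊗[A] B)) [Q'.IsPrime]
    (hQ' : Q'.comap (Algebra.TensorProduct.includeRight : B →ₐ[A] R ⊗[A] B).toRingHom = Q)
    (hqf : letI : Algebra (MvPolynomial (Fin d) A) B := (aeval b).toRingHom.toAlgebra
      Algebra.QuasiFiniteAt (MvPolynomial (Fin d) A) Q) :
    letI : Algebra (MvPolynomial (Fin d) R) (R ⊗[A] B) :=
      (aeval fun i => (1 : R) ⊗ₜ[A] b i).toRingHom.toAlgebra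
    Algebra.QuasiFiniteAt (MvPolynomial (Fin d) R) Q' := by
  let T := MvPolynomial (Fin d) R
  let g : T →ₐ[R] R ⊗[A] B := aeval fun i => (1 : R) ⊗ₜ[A] b i
  have hgX : ∀ i, g (X i) = (1 : R) ⊗ₜ[A] b i := fun i => aeval_X _ i
  have hgC : ∀ v : R, g (C v) = v ⊗ₜ[A] (1 : B) := fun v => aeval_C _ v
  letI : Algebra (MvPolynomial (Fin d) A) B := (aeval b).toRingHom.toAlgebra
  haveI := hqf
  letI : Algebra T (R ⊗[A] B) := g.toRingHom.toAlgebra
  letI : Algebra (MvPolynomial (Fin d) A) T := (MvPolynomial.map (algebraMap A R)).toAlgebra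
  letI : Algebra (MvPolynomial (Fin d) A) (R ⊗[A] B) :=
    (g.toRingHom.comp (MvPolynomial.map (algebraMap A R))).toAlgebra
  haveI : IsScalarTower (MvPolynomial (Fin d) A) T (R ⊗[A] B) := IsScalarTower.of_algebraMap_eq fun a => rfl
  let iB : B →ₐ[MvPolynomial (Fin d) A] R ⊗[A] B :=
    { (Algebra.TensorProduct.includeRight : B →ₐ[A] R ⊗[A] B).toRingHom with
      commutes' := fun a => by
        change (Algebra.TensorProduct.includeRight : B →ₐ[A] R ⊗[A] B) (aeval b a) =
          g (MvPolynomial.map (algebraMap A R) a)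
        induction a using MvPolynomial.induction_on with
        | C r =>
          rw [map_C, hgC, aeval_C, AlgHom.commutes]
          exact (IsScalarTower.algebraMap_apply A R (R ⊗[A] B) r)
        | add a c ha hc => simp only [map_add, ha, hc]
        | mul_X a i ha =>
          rw [map_mul, map_mul, map_mul, map_mul, ha, map_X, hgX, aeval_X, Algebra.TensorProduct.includeRight_apply] }
  let F : T ⊗[MvPolynomial (Fin d) A] B →ₐ[T] R ⊗[A] B :=
    Algebra.TensorProduct.lift (Algebra.ofId _ _) iB fun _ _ => .all _ _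
  have hF : Function.Surjective F := fun z => by
    induction z using TensorProduct.induction_on with
    | zero => exact ⟨0, map_zero _⟩
    | tmul v c =>
      refine ⟨C v ⊗ₜ c, ?_⟩
      change g (C v) * ((1 : R) ⊗ₜ[A] c) = v ⊗ₜ c
      rw [hgC]
      simp
    | add a c ha hc =>
      obtain ⟨a, rfl⟩ := ha; obtain ⟨c, rfl⟩ := hc
      exact ⟨a + c, map_add _ _ _⟩
  haveI : Algebra.QuasiFiniteAt T (Q'.comap F.toRingHom) := by
    refine Algebra.QuasiFiniteAt.baseChange Q (Q'.comap F.toRingHom) ?_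
    rw [← hQ']
    ext c
    change (1 : R) ⊗ₜ[A] c ∈ Q' ↔ F (1 ⊗ₜ c) ∈ Q'
    simp [F, iB]
  exact Algebra.QuasiFiniteAt.of_surjectiveOnStalks (Q'.comap F.toRingHom) F
      (RingHom.surjectiveOnStalks_of_surjective hF) Q' rfl

theorem exists_smul_eq_one_tmul (M : Submonoid A) (R : Type u) [CommRing R] [Algebra A R] [IsLocalization M R]
    (z : R ⊗[A] B) : ∃ s ∈ M, ∃ c : B, algebraMap A (R ⊗[A] B) s * z = 1 ⊗ₜ[A] c := by
  induction z using TensorProduct.induction_on with
  | zero => exact ⟨1, M.one_mem, 0, by simp⟩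
  | tmul r c =>
    obtain ⟨⟨a, s⟩, hs⟩ := IsLocalization.surj M r
    refine ⟨s, s.2, a • c, ?_⟩
    rw [IsScalarTower.algebraMap_apply A R (R ⊗[A] B), Algebra.TensorProduct.algebraMap_apply,
      Algebra.algebraMap_self, RingHom.id_apply, Algebra.TensorProduct.tmul_mul_tmul, one_mul, mul_comm, hs,
      Algebra.algebraMap_eq_smul_one, TensorProduct.smul_tmul]
  | add x y hx hy =>
    obtain ⟨s, hs, c, hc⟩ := hx
    obtain ⟨t, ht, e, he⟩ := hy
    refine ⟨s * t, M.mul_mem hs ht, t • c + s • e, ?_⟩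
    rw [map_mul, mul_add, mul_assoc, mul_assoc, mul_left_comm (algebraMap A _ s) _ x, hc, he, TensorProduct.tmul_add,
      TensorProduct.tmul_smul, TensorProduct.tmul_smul, Algebra.smul_def, Algebra.smul_def]

theorem exists_C_mul_eq_map (M : Submonoid A) (R : Type u) [CommRing R] [Algebra A R] [IsLocalization M R]
    {d : ℕ} (P : MvPolynomial (Fin d) R) :
    ∃ s ∈ M, ∃ P₁ : MvPolynomial (Fin d) A, C (algebraMap A R s) * P = MvPolynomial.map (algebraMap A R) P₁ := by
  induction P using MvPolynomial.induction_on with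
  | C r =>
    obtain ⟨⟨a, s⟩, hs⟩ := IsLocalization.surj M r
    exact ⟨s, s.2, C a, by rw [← map_mul, mul_comm, hs, map_C]⟩
  | add x y hx hy =>
    obtain ⟨s, hs, c, hc⟩ := hx
    obtain ⟨t, ht, e, he⟩ := hy
    refine ⟨s * t, M.mul_mem hs ht, C t * c + C s * e, ?_⟩
    rw [map_mul, map_mul, map_add, map_mul, map_mul, map_C, map_C, ← hc, ← he]
    ring
  | mul_X x i hx =>
    obtain ⟨s, hs, c, hc⟩ := hx
    exact ⟨s, hs, c * X i, by rw [map_mul, map_X, ← hc, mul_assoc]⟩

/-- Generizations lift at a point with an independent cut over a unibranch point. -/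
theorem exists_prime_le_of_isUnibranch [Algebra.FiniteType A B] (Q : Ideal B) [Q.IsPrime]
    (hu : CAlg2.IsUnibranch (Localization.AtPrime (Q.comap (algebraMap A B))))
    (h : HasIndepCut A Q) (p' : Ideal A) [p'.IsPrime] (hp' : p' ≤ Q.comap (algebraMap A B)) :
    ∃ Q' : Ideal B, Q'.IsPrime ∧ Q' ≤ Q ∧ Q'.comap (algebraMap A B) = p' := by
  obtain ⟨P₀, hP₀, hle, hmin, d, b, hind, hqf⟩ := h
  let p := Q.comap (algebraMap A B)
  let R := Localization.AtPrime p
  let B₁ := R ⊗[A] B
  let ι : B →ₐ[A] B₁ := Algebra.TensorProduct.includeRight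
  have hext : ∀ (P : Ideal B) [P.IsPrime], P ≤ Q → ∃ P' : Ideal B₁, P'.IsPrime ∧ P'.comap ι.toRingHom = P := by
    intro P _ hPQ
    let χ : R →ₐ[A] P.ResidueField := IsLocalization.liftAlgHom (M := p.primeCompl)
      (f := Algebra.ofId A P.ResidueField) fun s => by
        rw [Algebra.ofId_apply, isUnit_iff_ne_zero, IsScalarTower.algebraMap_apply A B P.ResidueField, Ne,
          Ideal.algebraMap_residueField_eq_zero]
        exact fun h => s.2 (hPQ h)
    refine ⟨RingHom.ker (Algebra.TensorProduct.lift χ (IsScalarTower.toAlgHom A B P.ResidueField)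
      fun _ _ => .all _ _).toRingHom, RingHom.ker_isPrime _, ?_⟩
    ext c
    change Algebra.TensorProduct.lift χ (IsScalarTower.toAlgHom A B P.ResidueField) (fun _ _ => .all _ _)
      ((1 : R) ⊗ₜ[A] c) = 0 ↔ _
    rw [Algebra.TensorProduct.lift_tmul, map_one, one_mul, IsScalarTower.coe_toAlgHom']
    exact Ideal.algebraMap_residueField_eq_zero
  have hmem : ∀ (P : Ideal B₁), P.IsPrime → P.comap ι.toRingHom ≤ Q →
      ∀ z, ∀ s ∉ p, ∀ c, algebraMap A B₁ s * z = ι c → (z ∈ P ↔ c ∈ P.comap ι.toRingHom) := by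
    intro P hP hPQ z s hs c he
    rw [Ideal.mem_comap]
    change _ ↔ ι c ∈ P
    rw [← he]
    refine ⟨fun hz => P.mul_mem_left _ hz, fun hz => (hP.mem_or_mem hz).resolve_left fun h => hs (hPQ ?_)⟩
    show ι (algebraMap A B s) ∈ P
    rwa [AlgHom.commutes]
  have hcomapA : ∀ P : Ideal B₁, (P.comap (algebraMap R B₁)).comap (algebraMap A R) =
      (P.comap ι.toRingHom).comap (algebraMap A B) := fun P => by
    ext a
    simp only [Ideal.mem_comap]
    rw [← IsScalarTower.algebraMap_apply]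
    exact iff_of_eq (congrArg (· ∈ P) (ι.commutes a).symm)
  obtain ⟨Q₁, hQ₁, hQ₁Q⟩ := hext Q le_rfl
  obtain ⟨P₁, hP₁, hP₁P⟩ := hext P₀ hle
  have hle₁ : P₁ ≤ Q₁ := fun z hz => by
    obtain ⟨s, hs, c, hc⟩ := exists_smul_eq_one_tmul p.primeCompl R z
    rw [hmem Q₁ hQ₁ hQ₁Q.le z s hs c hc, hQ₁Q]
    exact hle (hP₁P ▸ (hmem P₁ hP₁ (hP₁P.le.trans hle) z s hs c hc).mp hz)
  have hR : ∀ n n' : Ideal R, n.comap (algebraMap A R) ≤ n'.comap (algebraMap A R) → n ≤ n' := fun n n' h => by
    rw [← IsLocalization.map_under p.primeCompl R n, ← IsLocalization.map_under p.primeCompl R n']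
    exact Ideal.map_mono h
  have hmax : Q₁.comap (algebraMap R B₁) = maximalIdeal R := by
    refine le_antisymm (IsLocalRing.le_maximalIdeal (Ideal.comap_isPrime _ _).ne_top) (hR _ _ ?_)
    rw [hcomapA, hQ₁Q]
    exact (Localization.AtPrime.comap_maximalIdeal (I := p)).le
  have hmin₁ : P₁.comap (algebraMap R B₁) ∈ minimalPrimes R := by
    refine ⟨⟨Ideal.comap_isPrime _ _, bot_le⟩, fun n hn hnle => hR _ _ ?_⟩
    haveI := hn.1
    rw [hcomapA, hP₁P]
    refine hmin.2 ⟨Ideal.comap_isPrime _ _, bot_le⟩ ?_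
    rw [← hP₁P, ← hcomapA]
    exact Ideal.comap_mono hnle
  have hind₁ : ∀ P : MvPolynomial (Fin d) R, aeval (fun i => (1 : R) ⊗ₜ[A] b i) P ∈ P₁ →
      ∀ m, P.coeff m ∈ P₁.comap (algebraMap R B₁) := by
    intro P hP m
    obtain ⟨s, hs, P', hP'⟩ := exists_C_mul_eq_map p.primeCompl R P
    have h1 : ι (aeval b P') ∈ P₁ := by
      rw [comp_aeval_apply, ← MvPolynomial.aeval_map_algebraMap R (fun i => ι (b i)) P', ← hP', map_mul]
      exact P₁.mul_mem_left _ hP
    have h2 := hind P' (hP₁P ▸ h1) m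
    rw [← hP₁P, ← hcomapA, Ideal.mem_comap, ← MvPolynomial.coeff_map, ← hP', MvPolynomial.coeff_C_mul] at h2
    refine ((Ideal.comap_isPrime _ _).mem_or_mem h2).resolve_left fun h3 => hs ?_
    have h4 : s ∈ (P₁.comap ι.toRingHom).comap (algebraMap A B) := by rw [← hcomapA]; exact h3
    rw [hP₁P] at h4
    exact hle h4
  haveI : (p'.map (algebraMap A R)).IsPrime := IsLocalization.isPrime_of_isPrime_disjoint p.primeCompl R p'
    inferInstance (Set.disjoint_left.mpr fun a ha ha' => ha (hp' ha'))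
  obtain ⟨Q', hQ', hQ'le, hQ'p⟩ := exists_prime_le_of_isUnibranch_local hu Q₁ hmax
    ⟨P₁, hP₁, hle₁, hmin₁, d, fun i => (1 : R) ⊗ₜ[A] b i, hind₁,
      quasiFiniteAt_baseChange R b Q Q₁ hQ₁Q hqf⟩ (p'.map (algebraMap A R))
  refine ⟨Q'.comap ι.toRingHom, Ideal.comap_isPrime _ _, (Ideal.comap_mono hQ'le).trans hQ₁Q.le, ?_⟩
  rw [← hcomapA, hQ'p]
  exact IsLocalization.under_map_of_isPrime_disjoint p.primeCompl R inferInstance
    (Set.disjoint_left.mpr fun a ha ha' => ha (hp' ha'))

/-- An independent cut persists after adjoining variables to the base. -/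
theorem hasIndepCut_mvPolynomial (n : ℕ) (Q : Ideal B) [Q.IsPrime] (h : HasIndepCut A Q)
    (q : Ideal (MvPolynomial (Fin n) A ⊗[A] B)) [q.IsPrime]
    (hq : q.comap (Algebra.TensorProduct.includeRight : B →ₐ[A] MvPolynomial (Fin n) A ⊗[A] B).toRingHom = Q) :
    HasIndepCut (MvPolynomial (Fin n) A) q := by
  obtain ⟨P₀, hP₀, hle, hmin, d, b, hind, hqf⟩ := h
  let S := MvPolynomial (Fin n) A
  let p₀ := P₀.comap (algebraMap A B)
  let mk₀ := Ideal.Quotient.mk P₀
  let D := MvPolynomial (Fin n) (B ⧸ P₀)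
  let eS : S →ₐ[A] D := MvPolynomial.mapAlgHom (Algebra.ofId A (B ⧸ P₀))
  let eB : B →ₐ[A] D := (IsScalarTower.toAlgHom A (B ⧸ P₀) D).comp (Ideal.Quotient.mkₐ A P₀)
  let φ : S ⊗[A] B →ₐ[A] D := Algebra.TensorProduct.lift eS eB fun _ _ => .all _ _
  have hφX : ∀ s : S, φ (s ⊗ₜ 1) = MvPolynomial.map (algebraMap A (B ⧸ P₀)) s := fun s => by
    simp only [φ, Algebra.TensorProduct.lift_tmul, map_one, mul_one]
    rfl
  have hφB : ∀ c : B, φ (1 ⊗ₜ c) = C (mk₀ c) := fun c => by
    simp only [φ, Algebra.TensorProduct.lift_tmul, map_one, one_mul]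
    rfl
  let E : S ⊗[A] B ≃+* MvPolynomial (Fin n) B :=
    (Algebra.TensorProduct.comm A S B).toRingEquiv.trans (MvPolynomial.algebraTensorAlgEquiv A B (σ := Fin n)).toRingEquiv
  have hEB : ∀ c : B, E ((1 : S) ⊗ₜ[A] c) = C c := fun c => by
    change MvPolynomial.algebraTensorAlgEquiv A B (σ := Fin n) (c ⊗ₜ[A] (1 : S)) = C c
    rw [algebraTensorAlgEquiv_tmul, map_one, MvPolynomial.smul_eq_C_mul, mul_one]
  have hEX : ∀ s : S, E (s ⊗ₜ[A] (1 : B)) = MvPolynomial.map (algebraMap A B) s := fun s => by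
    change MvPolynomial.algebraTensorAlgEquiv A B (σ := Fin n) ((1 : B) ⊗ₜ[A] s) = _
    rw [algebraTensorAlgEquiv_tmul, one_smul]
  have hEφ : ∀ z, φ z = MvPolynomial.map mk₀ (E z) := fun z => by
    induction z using TensorProduct.induction_on with
    | zero => simp
    | tmul s c =>
      have h1 : (s ⊗ₜ[A] c : S ⊗[A] B) = (s ⊗ₜ[A] (1 : B)) * ((1 : S) ⊗ₜ[A] c) := by simp
      rw [h1, map_mul, map_mul, map_mul, hφX, hφB, hEB, hEX, map_C, MvPolynomial.map_map]
      rfl
    | add x y hx hy => simp only [map_add, hx, hy]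
  let P' : Ideal (S ⊗[A] B) := RingHom.ker φ.toRingHom
  have hker : P' ≤ q := fun z hz => by
    have h1 : MvPolynomial.map mk₀ (E z) = 0 := (hEφ z).symm.trans hz
    have h2 : E z ∈ P₀.map (C : B →+* MvPolynomial (Fin n) B) := by
      rw [mem_map_C_iff]
      intro m
      rw [← Ideal.Quotient.eq_zero_iff_mem, ← MvPolynomial.coeff_map]
      exact (congrArg (coeff m) h1).trans (coeff_zero m)
    have h3 : E.symm (E z) ∈ (P₀.map (C : B →+* MvPolynomial (Fin n) B)).map E.symm.toRingHom :=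
      Ideal.mem_map_of_mem _ h2
    rw [E.symm_apply_apply, Ideal.map_map] at h3
    refine (Ideal.map_le_iff_le_comap.mpr fun c hc => ?_) h3
    rw [Ideal.mem_comap, RingHom.comp_apply, ← hEB]
    change E.symm (E ((1 : S) ⊗ₜ[A] c)) ∈ q
    rw [E.symm_apply_apply]
    exact hq.ge (hle hc)
  have hP'S : ∀ s : S, s ∈ P'.comap (algebraMap S (S ⊗[A] B)) ↔ ∀ m, s.coeff m ∈ p₀ := fun s => by
    change φ (s ⊗ₜ 1) = 0 ↔ _
    rw [hφX, MvPolynomial.ext_iff]
    refine forall_congr' fun m => ?_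
    rw [MvPolynomial.coeff_map, coeff_zero]
    exact Ideal.Quotient.eq_zero_iff_mem
  haveI : P'.IsPrime := RingHom.ker_isPrime _
  refine ⟨P', inferInstance, hker, ⟨⟨Ideal.comap_isPrime _ _, bot_le⟩, fun N hN hNle => ?_⟩,
    d, fun i => (1 : S) ⊗ₜ[A] b i, fun P hP => ?_, quasiFiniteAt_baseChange S b Q q hq hqf⟩
  · haveI := hN.1
    intro s hs
    rw [hP'S] at hs
    have h1 : p₀ ≤ N.comap (C : A →+* S) := hmin.2 ⟨Ideal.comap_isPrime _ _, bot_le⟩ fun a ha => by
      have h := (hP'S (C a)).mp (hNle ha) 0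
      rwa [coeff_C, if_pos rfl] at h
    exact Ideal.map_le_iff_le_comap.mpr h1 (mem_map_C_iff.mpr hs)
  · let G : MvPolynomial (Fin d) S ≃ₐ[A] MvPolynomial (Fin n) (MvPolynomial (Fin d) A) :=
      MvPolynomial.commAlgEquiv A (Fin d) (Fin n)
    let β : MvPolynomial (Fin d) A →+* B ⧸ P₀ := mk₀.comp (aeval b).toRingHom
    have hG : ∀ P, φ (aeval (fun i => (1 : S) ⊗ₜ[A] b i) P) = MvPolynomial.map β (G P) := by
      intro P
      induction P using MvPolynomial.induction_on with
      | C s =>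
        rw [aeval_C, show G (C s) = MvPolynomial.map C s from commAlgEquiv_C .., MvPolynomial.map_map]
        refine (hφX s).trans (congrArg (fun r => MvPolynomial.map r s) (RingHom.ext fun a => ?_))
        simp [β]
        rfl
      | add x y hx hy => simp only [map_add, hx, hy]
      | mul_X x i hx =>
        rw [map_mul, map_mul, map_mul, map_mul, hx, aeval_X, hφB,
          show G (X i) = C (X i) from commAlgEquiv_X .., map_C]
        simp [β]
    have h1 : MvPolynomial.map β (G P) = 0 := (hG P).symm.trans hP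
    have h2 : G P ∈ (p₀.map (C : A →+* MvPolynomial (Fin d) A)).map
        (C : MvPolynomial (Fin d) A →+* MvPolynomial (Fin n) (MvPolynomial (Fin d) A)) := by
      rw [mem_map_C_iff]
      intro k
      rw [mem_map_C_iff]
      intro l
      refine hind _ ?_ l
      rw [← Ideal.Quotient.eq_zero_iff_mem]
      exact (MvPolynomial.coeff_map β (G P) k).symm.trans ((congrArg (coeff k) h1).trans (coeff_zero k))
    have h3 : G.symm (G P) ∈ ((p₀.map (C : A →+* MvPolynomial (Fin d) A)).map
        (C : MvPolynomial (Fin d) A →+* MvPolynomial (Fin n) (MvPolynomial (Fin d) A))).map G.symm.toRingEquiv.toRingHom :=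
      Ideal.mem_map_of_mem _ h2
    rw [G.symm_apply_apply, Ideal.map_map, Ideal.map_map] at h3
    have h4 : P ∈ (p₀.map (C : A →+* S)).map (C : S →+* MvPolynomial (Fin d) S) := by
      rw [Ideal.map_map]
      convert h3 using 2
      refine RingHom.ext fun a => ?_
      change C (C a) = G.symm (C (C a))
      rw [eq_comm, AlgEquiv.symm_apply_eq, show G (C (C a)) = MvPolynomial.map C (C a) from commAlgEquiv_C ..,
        map_C]
    intro m
    rw [hP'S]
    exact mem_map_C_iff.mp (mem_map_C_iff.mp h4 m)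

end GrothLib.Chev28
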