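import Groth.Agent.Lib.WildQuot.Coprod
import Mathlib

universe u

open CategoryTheory AlgebraicGeometry IsLocalRing

namespace GrothLib.Chev28

/-- **Miracle flatness**, finite semi-local form. -/
theorem free_of_regular_finite_semilocal (R A : Type u) [CommRing R] [IsRegularLocalRing R] [CommRing A]
    [IsRegularRing A] [Algebra R A] [Module.Finite R A]
    (hmin : ∀ p ∈ minimalPrimes A, p.under R = ⊥) : Module.Free R A := by
  rcases subsingleton_or_nontrivial A with hA | hA
  · infer_instance
  haveI := GrothLib.CMFree.isDomain_of_isRegularLocalRing R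
  haveI := GrothLib.RegUFD.ufd_of_isRegularLocalRing R
  obtain ⟨d, hd, -⟩ := GrothLib.RegLoc.exists_dim_eq (R := R)
  refine GrothLib.HB26.free_of_depth_ge_dim R A d hd ?_
  rw [← GrothLib.Depth.idealDepth_map_eq (B := A) (maximalIdeal R) A]
  set I := (maximalIdeal R).map (algebraMap R A)
  by_contra hlt
  rw [not_le] at hlt
  obtain ⟨n, hn⟩ := ENat.ne_top_iff_exists.1 (ne_top_of_lt hlt)
  obtain ⟨P, hP, hdep⟩ := GrothLib.Depth.exists_depth_localization_le (M := A) I n hn.symm
  haveI := IsRegularRing.isRegularLocalRing_localization P.asIdeal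
  obtain ⟨e, he, hht⟩ := GrothLib.Faltings.exists_ringKrullDim_atPrime P.asIdeal
  rw [GrothLib.Depth.depth_localization_self] at hdep
  obtain ⟨rs, hreg, hmem, hlen⟩ :=
    GrothLib.CMFree.exists_weaklyRegular_of_isRegularLocalRing (Localization.AtPrime P.asIdeal)
  have h1 : ((rs.length : ℕ) : ℕ∞) ≤ LocCoh.depth (Localization.AtPrime P.asIdeal) (Localization.AtPrime P.asIdeal) :=
    (GrothLib.Depth.le_idealDepth_iff_exists _ (GrothLib.Depth.smul_top_ne_top
      (maximalIdeal.isMaximal _).ne_top) _).2 ⟨rs, rfl, hmem, hreg⟩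
  have hlen' : rs.length = e := by rw [he] at hlen; exact_mod_cast hlen
  rw [hlen'] at h1
  obtain ⟨p, hp, hpP⟩ := Ideal.exists_minimalPrimes_le (J := P.asIdeal) (bot_le : (⊥ : Ideal A) ≤ _)
  haveI := hp.1.1
  haveI : FaithfulSMul R (A ⧸ p) := (faithfulSMul_iff_algebraMap_injective _ _).mpr <| by
    rw [RingHom.injective_iff_ker_eq_bot, IsScalarTower.algebraMap_eq R A (A ⧸ p),
      Ideal.Quotient.algebraMap_eq, ← RingHom.comap_ker, Ideal.mk_ker]
    exact hmin p hp
  let P' : Ideal (A ⧸ p) := P.asIdeal.map (Ideal.Quotient.mk p)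
  haveI : P'.IsPrime := Ideal.map_isPrime_of_surjective Ideal.Quotient.mk_surjective
    (by rwa [Ideal.mk_ker])
  have hP' : P'.comap (Ideal.Quotient.mk p) = P.asIdeal := by
    rw [Ideal.comap_map_of_surjective _ Ideal.Quotient.mk_surjective, ← RingHom.ker_eq_comap_bot,
      Ideal.mk_ker, sup_eq_left]
    exact hpP
  haveI : P'.LiesOver (maximalIdeal R) :=
    ⟨(maximalIdeal.isMaximal R).eq_of_le Ideal.IsPrime.ne_top' (by
      rw [Ideal.under, IsScalarTower.algebraMap_eq R A (A ⧸ p), ← Ideal.comap_comap,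
        Ideal.Quotient.algebraMap_eq, hP']
      exact Ideal.map_le_iff_le_comap.mp hP)⟩
  have h2 := Ideal.height_eq_height_add_of_liesOver_of_hasGoingDown (maximalIdeal R) P'
  have h3 := IsLocalRing.maximalIdeal_height_eq_ringKrullDim (R := R)
  rw [hd] at h3
  have h5 : P'.height ≤ P.asIdeal.height := by
    have h := Order.height_le_height_apply_of_strictMono
      (fun q : PrimeSpectrum (A ⧸ p) => (⟨q.asIdeal.comap (Ideal.Quotient.mk p), Ideal.comap_isPrime _ _⟩ :
        PrimeSpectrum A))
      (fun q q' (hqq : q < q') => lt_of_le_of_ne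
        (show q.asIdeal.comap (Ideal.Quotient.mk p) ≤ q'.asIdeal.comap (Ideal.Quotient.mk p) from
          Ideal.comap_mono hqq.le) fun he => hqq.ne (PrimeSpectrum.ext
            (Ideal.comap_injective_of_surjective _ Ideal.Quotient.mk_surjective
              (congrArg PrimeSpectrum.asIdeal he))))
      ⟨P', inferInstance⟩
    rw [← PrimeSpectrum.height_eq_orderHeight, ← PrimeSpectrum.height_eq_orderHeight] at h
    simpa [hP'] using h
  have h4 : (d : ℕ∞) ≤ P.asIdeal.height := by
    refine le_trans ?_ h5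
    rw [h2]
    exact le_trans (WithBot.coe_inj.mp h3).ge le_self_add
  rw [← hn] at hlt
  exact absurd ((h4.trans hht.le).trans (h1.trans hdep)) (not_le.2 hlt)

theorem flat_of_regular_finite (A B : Type u) [CommRing A] [CommRing B] [Algebra A B] [Module.Finite A B]
    [IsRegularRing A] [IsRegularRing B] (hmin : ∀ p ∈ minimalPrimes B, p.under A ∈ minimalPrimes A) :
    Module.Flat A B := by
  refine Module.flat_of_localized_maximal B fun m hm => ?_
  let M := Algebra.algebraMapSubmonoid B m.primeCompl
  let A' := Localization.AtPrime m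
  let B' := Localization M
  haveI : Module.Finite A' B' := Module.Finite.of_isLocalizedModule m.primeCompl
    (IsScalarTower.toAlgHom A B B').toLinearMap
  haveI : IsNoetherianRing B' := IsLocalization.isNoetherianRing M B' inferInstance
  haveI : IsRegularLocalRing A' := IsRegularRing.isRegularLocalRing_localization m
  haveI : IsRegularRing B' := isRegularRing_iff.mpr fun q _ => by
    haveI := IsLocalization.isLocalization_isLocalization_atPrime_isLocalization M (Localization.AtPrime q) q
    exact IsRegularLocalRing.of_ringEquiv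
      (IsLocalization.algEquiv (q.comap (algebraMap B B')).primeCompl (Localization.AtPrime (q.comap (algebraMap B B')))
        (Localization.AtPrime q)).toRingEquiv
  haveI := GrothLib.CMFree.isDomain_of_isRegularLocalRing A'
  have h := free_of_regular_finite_semilocal A' B' (fun q hq => by
    haveI := hq.1.1
    have hqB : q.comap (algebraMap B B') ∈ minimalPrimes B := by
      have hq0 : q ∈ ((⊥ : Ideal B).map (algebraMap B B')).minimalPrimes := by
        rw [Ideal.map_bot]; exact hq
      rw [IsLocalization.minimalPrimes_map M B' (⊥ : Ideal B)] at hq0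
      exact hq0
    have h1 := hmin _ hqB
    haveI : (q.under A').IsPrime := Ideal.comap_isPrime _ _
    have h2 : (q.under A').comap (algebraMap A A') = (q.comap (algebraMap B B')).under A := by
      rw [Ideal.under, Ideal.under, Ideal.comap_comap, Ideal.comap_comap,
        ← IsScalarTower.algebraMap_eq, ← IsScalarTower.algebraMap_eq]
    have h3 : q.under A' ∈ ((⊥ : Ideal A).map (algebraMap A A')).minimalPrimes := by
      rw [IsLocalization.minimalPrimes_map m.primeCompl A' (⊥ : Ideal A)]
      show (q.under A').comap (algebraMap A A') ∈ minimalPrimes A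
      rw [h2]; exact h1
    rw [Ideal.map_bot, Ideal.minimalPrimes_eq_subsingleton_self] at h3
    exact h3)
  haveI : Module.Flat A B' := Module.Flat.trans A A' B'
  haveI : IsLocalizedModule m.primeCompl (IsScalarTower.toAlgHom A B B').toLinearMap := inferInstance
  exact Module.Flat.of_linearEquiv
    (IsLocalizedModule.iso m.primeCompl (IsScalarTower.toAlgHom A B B').toLinearMap)

variable {X Y : Scheme.{u}}

theorem isRegularRing_section [IsLocallyNoetherian X] (hX : ∀ x : X, IsRegularLocalRing (X.presheaf.stalk x))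
    {U : X.Opens} (hU : IsAffineOpen U) : IsRegularRing Γ(X, U) := by
  haveI : IsNoetherianRing Γ(X, U) := IsLocallyNoetherian.component_noetherian ⟨U, hU⟩
  refine isRegularRing_iff.mpr fun q hq => ?_
  let y : PrimeSpectrum Γ(X, U) := ⟨q, hq⟩
  have hy : hU.fromSpec y ∈ U := by
    have : hU.fromSpec y ∈ Set.range hU.fromSpec := ⟨y, rfl⟩
    rwa [hU.range_fromSpec] at this
  haveI := hX (hU.fromSpec y)
  letI := TopCat.Presheaf.algebra_section_stalk X.presheaf (U := U) ⟨hU.fromSpec y, hy⟩
  have hl : IsLocalization.AtPrime (X.presheaf.stalk (hU.fromSpec y)) y.asIdeal := hU.isLocalization_stalk' y hy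
  exact IsRegularLocalRing.of_ringEquiv (@IsLocalization.algEquiv _ _ q.primeCompl
    (X.presheaf.stalk (hU.fromSpec y)) _ _ hl (Localization.AtPrime q) _ _ _).toRingEquiv

theorem mem_minimalPrimes_iff_maximal {U : X.Opens} (hU : IsAffineOpen U) (p : PrimeSpectrum Γ(X, U)) :
    p.asIdeal ∈ minimalPrimes Γ(X, U) ↔ ∀ z : X, z ⤳ hU.fromSpec p → z = hU.fromSpec p := by
  constructor
  · intro hp z hz
    have hzU : z ∈ U := hz.mem_open U.2 (hU.range_fromSpec ▸ ⟨p, rfl⟩)
    obtain ⟨q, rfl⟩ : z ∈ Set.range hU.fromSpec := by rw [hU.range_fromSpec]; exact hzU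
    have hqp : q.asIdeal ≤ p.asIdeal := (PrimeSpectrum.le_iff_specializes q p).mpr
      (hU.fromSpec.isEmbedding.isInducing.specializes_iff.mp hz)
    congr 1
    exact PrimeSpectrum.ext (le_antisymm hqp (hp.2 ⟨q.2, bot_le⟩ hqp))
  · intro h
    refine ⟨⟨p.2, bot_le⟩, fun I hI hle => ?_⟩
    let q : PrimeSpectrum Γ(X, U) := ⟨I, hI.1⟩
    have := h (hU.fromSpec q) (((PrimeSpectrum.le_iff_specializes q p).mp hle).map hU.fromSpec.continuous)
    have := hU.fromSpec.isEmbedding.injective this
    exact (congrArg PrimeSpectrum.asIdeal this).ge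

/-- **Miracle flatness**, finite morphisms of regular schemes. -/
theorem flat_of_finite_regular (f : X ⟶ Y) [IsFinite f] [IsLocallyNoetherian X] [IsLocallyNoetherian Y]
    (hX : ∀ x : X, IsRegularLocalRing (X.presheaf.stalk x))
    (hY : ∀ y : Y, IsRegularLocalRing (Y.presheaf.stalk y))
    (hdom : ∀ Z ∈ irreducibleComponents (X : Type u), closure (f.base '' Z) ∈ irreducibleComponents (Y : Type u)) :
    Flat f := by
  refine (HasRingHomProperty.iff_appLE (P := @Flat)).mpr fun V U e => ?_
  have hfU : IsAffineOpen (f ⁻¹ᵁ (V : Y.Opens)) := V.2.preimage f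
  have hfin : (f.app (V : Y.Opens)).hom.Finite := f.finite_app _ V.2
  have h1 : (f.app (V : Y.Opens)).hom.Flat := by
    haveI := isRegularRing_section hX hfU
    haveI := isRegularRing_section hY V.2
    letI := (f.app (V : Y.Opens)).hom.toAlgebra
    haveI : Module.Finite Γ(Y, V) Γ(X, f ⁻¹ᵁ (V : Y.Opens)) := hfin
    show Module.Flat Γ(Y, V) Γ(X, f ⁻¹ᵁ (V : Y.Opens))
    refine flat_of_regular_finite _ _ fun p hp => ?_
    haveI := hp.1.1
    let P : PrimeSpectrum Γ(X, f ⁻¹ᵁ (V : Y.Opens)) := ⟨p, hp.1.1⟩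
    let z := hfU.fromSpec P
    have hmax := (mem_minimalPrimes_iff_maximal hfU P).mp hp
    have hZ : closure {z} ∈ irreducibleComponents (X : Type u) := by
      obtain ⟨Z, hZ, hzZ⟩ : ∃ Z ∈ irreducibleComponents (X : Type u), closure {z} ⊆ Z :=
        exists_mem_irreducibleComponents_subset_of_isIrreducible _ isIrreducible_singleton.closure
      obtain ⟨ζ, hζ⟩ : ∃ ζ, IsGenericPoint ζ Z :=
        ⟨_, hZ.1.isGenericPoint_genericPoint (isClosed_of_mem_irreducibleComponents Z hZ)⟩
      have := hmax ζ (hζ.specializes (hzZ (subset_closure rfl)))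
      rw [← hζ.def, this] at hZ
      exact hZ
    have hY' := hdom _ hZ
    rw [closure_image_closure f.continuous, Set.image_singleton] at hY'
    have hmaxY : ∀ w : Y, w ⤳ f z → w = f z := fun w hw => by
      have h2 : closure {w} ⊆ closure {f z} := hY'.2 isIrreducible_singleton.closure
        (closure_minimal (Set.singleton_subset_iff.mpr hw.mem_closure) isClosed_closure)
      exact (hw.antisymm (specializes_iff_mem_closure.mpr (h2 (subset_closure rfl)))).eq
    have hfz : V.2.fromSpec (PrimeSpectrum.comap (f.app (V : Y.Opens)).hom P) = f z := by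
      have h3 := IsAffineOpen.SpecMap_appLE_fromSpec f V.2 hfU (le_refl _)
      rw [← Scheme.Hom.app_eq_appLE] at h3
      exact congrArg (fun φ => φ.base P) h3
    exact (mem_minimalPrimes_iff_maximal V.2 (PrimeSpectrum.comap (f.app (V : Y.Opens)).hom P)).mpr
      (by rw [hfz]; exact hmaxY)
  have h2 : ((𝟙 X : X ⟶ X).appLE (f ⁻¹ᵁ (V : Y.Opens)) U e).hom.Flat :=
    HasRingHomProperty.appLE @Flat (𝟙 X) inferInstance ⟨_, hfU⟩ U e
  have he : f.appLE V U e = f.app V ≫ (𝟙 X : X ⟶ X).appLE (f ⁻¹ᵁ (V : Y.Opens)) U e := by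
    simp [Scheme.Hom.appLE]
    exact congrArg _ (Category.id_comp _).symm
  rw [he, CommRingCat.hom_comp]
  exact h1.comp h2

end GrothLib.Chev28
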