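import Groth.Agent.Lib.Chev28.Lift
import Groth.Agent.Lib.GeomUnib.Polynomial
import Groth.Prelude.Def_EGA43
import Mathlib.RingTheory.IntegralClosure.GoingDown
import Mathlib.RingTheory.ZariskisMainTheorem
import Mathlib.RingTheory.Spectrum.Prime.Polynomial

/-!
Openness over rings all of whose local rings are geometrically unibranch, without Noetherian hypotheses
(EGA IV 14.4.1).
-/

universe u

open MvPolynomial TopologicalSpace Topology

noncomputable section

namespace GrothLib.Chev28

/-- An integral extension of a normal domain by a domain has open spectrum map. -/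
theorem isOpenMap_comap_of_isIntegrallyClosed {N C : Type u} [CommRing N] [IsDomain N] [IsIntegrallyClosed N]
    [CommRing C] [IsDomain C] [Algebra N C] [FaithfulSMul N C] [Algebra.IsIntegral N C] :
    IsOpenMap (PrimeSpectrum.comap (algebraMap N C)) := by
  refine PrimeSpectrum.isTopologicalBasis_basic_opens.isOpenMap_iff.mpr ?_
  rintro _ ⟨g, rfl⟩
  have hg : IsIntegral N g := Algebra.IsIntegral.isIntegral g
  suffices h : PrimeSpectrum.comap (algebraMap N C) '' (PrimeSpectrum.basicOpen g : Set (PrimeSpectrum C)) =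
      ⋃ i ∈ Finset.range (minpoly N g).natDegree,
        (PrimeSpectrum.basicOpen ((minpoly N g).coeff i) : Set (PrimeSpectrum N)) by
    rw [h]
    exact isOpen_biUnion fun i _ => (PrimeSpectrum.basicOpen _).2
  ext p
  simp only [Set.mem_iUnion, Finset.mem_range]
  constructor
  · rintro ⟨P, hgP, rfl⟩
    by_contra! H
    refine hgP ?_
    change g ∈ P.asIdeal
    refine P.isPrime.mem_of_pow_mem (minpoly N g).natDegree ?_
    have h0 := minpoly.aeval N g
    rw [Polynomial.aeval_eq_sum_range, Finset.sum_range_succ, (minpoly.monic hg).coeff_natDegree,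
      one_smul] at h0
    rw [eq_neg_of_add_eq_zero_right h0]
    refine neg_mem (Ideal.sum_mem _ fun i hi => ?_)
    rw [Algebra.smul_def]
    refine P.asIdeal.mul_mem_right _ ?_
    have h1 := H i (Finset.mem_range.mp hi)
    exact not_not.mp h1
  · rintro ⟨i, hi, hip⟩
    by_contra hp
    have hmem : g ∈ (p.asIdeal.map (algebraMap N C)).radical := by
      rw [Ideal.radical_eq_sInf, Ideal.mem_sInf]
      rintro P ⟨hP, hPp⟩
      obtain ⟨P', hP'le, hP'p, hP'o⟩ : ∃ P' ≤ P, P'.IsPrime ∧ P'.LiesOver p.asIdeal := by
        haveI := hPp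
        haveI : P.LiesOver (P.comap (algebraMap N C)) := ⟨rfl⟩
        exact Ideal.exists_ideal_le_liesOver_of_le (p := p.asIdeal) (q := P.comap (algebraMap N C)) P
          (Ideal.map_le_iff_le_comap.mp hP)
      refine hP'le ?_
      by_contra hgP'
      exact hp ⟨⟨P', hP'p⟩, hgP', PrimeSpectrum.ext hP'o.over.symm⟩
    obtain ⟨m, hm⟩ := hmem
    obtain ⟨f, hfm, hfa, hf⟩ := Polynomial.exists_monic_aeval_eq_zero_forall_mem_of_mem_map hm
    rcases Nat.eq_zero_or_pos m with rfl | hmpos
    · rw [pow_zero] at hm
      obtain ⟨P, hP, hPo⟩ : ∃ P : PrimeSpectrum C, p.asIdeal.map (algebraMap N C) ≤ P.asIdeal ∧ True := by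
        obtain ⟨P, hP⟩ := (algebraMap_isIntegral_iff.mpr inferInstance : (algebraMap N C).IsIntegral).comap_surjective
          (FaithfulSMul.algebraMap_injective N C) p
        exact ⟨P, Ideal.map_le_iff_le_comap.mpr (congrArg PrimeSpectrum.asIdeal hP).ge, trivial⟩
      exact P.isPrime.ne_top ((Ideal.eq_top_iff_one _).mpr (hP hm))
    have hF : Polynomial.aeval g (Polynomial.expand N m f) = 0 := by
      rw [Polynomial.expand_aeval, hfa]
    have hdvd := minpoly.isIntegrallyClosed_dvd hg hF
    have hrad := Polynomial.coeff_mem_radical_span_coeff_of_dvd _ _ (hfm.expand hmpos) (minpoly.monic hg) hdvd i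
      hi.ne
    refine hip ((Ideal.radical_mono ?_).trans p.isPrime.radical.le hrad)
    rw [Ideal.span_le]
    rintro _ ⟨j, hj, rfl⟩
    rw [Polynomial.natDegree_expand] at hj
    change Polynomial.coeff _ j ∈ p.asIdeal
    rw [Polynomial.coeff_expand hmpos]
    split
    · rename_i hdiv
      refine hf _ (ne_of_lt ?_)
      exact Nat.div_lt_of_lt_mul (by rwa [mul_comm])
    · exact zero_mem _

/-- An integral extension by a domain has open spectrum map over a geometrically unibranch base. -/
theorem isOpenMap_comap_of_geomUnibranch {A C : Type u} [CommRing A] [CommRing C] [IsDomain C] [Algebra A C]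
    [Algebra.IsIntegral A C] (hker : RingHom.ker (algebraMap A C) = nilradical A)
    (hu : ∀ (p : Ideal A) [p.IsPrime], CAlg2.IsGeomUnibranch (Localization.AtPrime p)) :
    IsOpenMap (PrimeSpectrum.comap (algebraMap A C)) := by
  haveI hnil : (nilradical A).IsPrime := hker ▸ RingHom.ker_isPrime _
  let A' := A ⧸ nilradical A
  let K := FractionRing A'
  let L := FractionRing C
  letI : Algebra A' C := (Ideal.Quotient.lift (nilradical A) (algebraMap A C) fun a ha => hker.ge ha).toAlgebra
  haveI : IsScalarTower A A' C := IsScalarTower.of_algebraMap_eq fun a => rfl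
  haveI : Algebra.IsIntegral A' C := Algebra.IsIntegral.tower_top (R := A)
  haveI : FaithfulSMul A' C := (faithfulSMul_iff_algebraMap_injective _ _).mpr
    (RingHom.lift_injective_of_ker_le_ideal _ _ hker.le)
  haveI : FaithfulSMul A' L := (faithfulSMul_iff_algebraMap_injective _ _).mpr <| by
    rw [IsScalarTower.algebraMap_eq A' C L]
    exact (IsFractionRing.injective C L).comp (FaithfulSMul.algebraMap_injective A' C)
  letI : Algebra K L := FractionRing.liftAlgebra A' L
  haveI : IsScalarTower A' K L := FractionRing.isScalarTower_liftAlgebra A' L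
  let N := integralClosure A' K
  haveI : IsFractionRing N K := integralClosure.isFractionRing_of_finite_extension K K
  haveI : IsIntegrallyClosed N :=
    (isIntegrallyClosed_iff K).mpr fun {x} hx => ⟨⟨x, isIntegral_trans x hx⟩, rfl⟩
  haveI : FaithfulSMul A' N :=
    (faithfulSMul_iff_algebraMap_injective _ _).mpr fun a c h =>
      IsFractionRing.injective A' K (congrArg Subtype.val h :)
  let φ : A →+* N := (algebraMap A' N).comp (Ideal.Quotient.mk (nilradical A))
  have hφker : RingHom.ker φ = nilradical A := by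
    rw [RingHom.ker_comp_of_injective _ (FaithfulSMul.algebraMap_injective A' N), Ideal.mk_ker]
  have hφint : φ.IsIntegral :=
    RingHom.IsIntegral.trans _ _ (RingHom.isIntegral_of_surjective _ Ideal.Quotient.mk_surjective)
      (algebraMap_isIntegral_iff.mpr inferInstance)
  have hbir : ∀ t : N, ∃ a b, φ b ≠ 0 ∧ t * φ b = φ a := fun t => by
    obtain ⟨⟨a, b⟩, hab⟩ := IsLocalization.surj (nonZeroDivisors A') (t : K)
    obtain ⟨a₀, rfl⟩ := Ideal.Quotient.mk_surjective a
    obtain ⟨b₀, hb₀⟩ := Ideal.Quotient.mk_surjective (b : A')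
    refine ⟨a₀, b₀, ?_, Subtype.ext ?_⟩
    · show algebraMap A' N (Ideal.Quotient.mk (nilradical A) b₀) ≠ 0
      rw [hb₀]
      exact (map_ne_zero_iff _ (FaithfulSMul.algebraMap_injective A' N)).mpr (nonZeroDivisors.coe_ne_zero b)
    · show (t : K) * algebraMap A' K (Ideal.Quotient.mk (nilradical A) b₀) = _
      rw [hb₀]
      exact hab
  have hinj : Function.Injective (PrimeSpectrum.comap φ) := fun P P' h => PrimeSpectrum.ext
    (((GrothLib.GeomUnib.isGeomUnibranch_localization_iff φ hφker hφint hbir _).mp (hu _)).1 _ _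
      P.isPrime P'.isPrime rfl (congrArg PrimeSpectrum.asIdeal h).symm)
  have hsurj : Function.Surjective (PrimeSpectrum.comap φ) := by
    intro p
    obtain ⟨P, hP⟩ := (algebraMap_isIntegral_iff.mpr inferInstance : (algebraMap A' N).IsIntegral).comap_surjective
      (FaithfulSMul.algebraMap_injective A' N)
      ⟨p.asIdeal.map (Ideal.Quotient.mk (nilradical A)),
        Ideal.map_isPrime_of_surjective Ideal.Quotient.mk_surjective (by rw [Ideal.mk_ker]; exact nilradical_le_prime _)⟩
    refine ⟨P, PrimeSpectrum.ext ?_⟩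
    have h1 := congrArg (fun q => (PrimeSpectrum.asIdeal q).comap (Ideal.Quotient.mk (nilradical A))) hP
    refine Eq.trans ?_ (h1.trans ?_)
    · rfl
    · rw [Ideal.comap_map_of_surjective _ Ideal.Quotient.mk_surjective, ← RingHom.ker_eq_comap_bot,
        Ideal.mk_ker, sup_eq_left.mpr (nilradical_le_prime _)]
  have hhomeo : IsHomeomorph (PrimeSpectrum.comap φ) :=
    isHomeomorph_iff_continuous_isClosedMap_bijective.mpr
      ⟨PrimeSpectrum.continuous_comap φ, PrimeSpectrum.isClosedMap_comap_of_isIntegral φ hφint, hinj, hsurj⟩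
  let C' := integralClosure A' L
  let h : N →+* C' := ((algebraMap K L).comp N.val.toRingHom).codRestrict C'.toSubsemiring
    fun v => v.2.map (IsScalarTower.toAlgHom A' K L)
  letI : Algebra N C' := h.toAlgebra
  haveI : IsScalarTower A' N C' := IsScalarTower.of_algebraMap_eq fun a =>
    Subtype.ext (IsScalarTower.algebraMap_apply A' K L a)
  haveI : Algebra.IsIntegral N C' := Algebra.IsIntegral.tower_top (R := A')
  haveI : FaithfulSMul N C' := (faithfulSMul_iff_algebraMap_injective _ _).mpr fun a c he =>
    Subtype.ext ((algebraMap K L).injective (congrArg Subtype.val he :))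
  let g : C →+* C' := (algebraMap C L).codRestrict C'.toSubsemiring
    fun b => (Algebra.IsIntegral.isIntegral (R := A') b).map (IsScalarTower.toAlgHom A' C L)
  have hgA : g.comp (algebraMap A' C) = algebraMap A' C' :=
    RingHom.ext fun a => Subtype.ext (IsScalarTower.algebraMap_apply A' C L a).symm
  have hgi : Function.Injective g := fun a c he => IsFractionRing.injective C L (congrArg Subtype.val he :)
  have hg : g.IsIntegral := RingHom.IsIntegral.tower_top (algebraMap A' C) g
    (by rw [hgA]; exact algebraMap_isIntegral_iff.mpr inferInstance)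
  have hcomm : g.comp (algebraMap A C) = (algebraMap N C').comp φ := by
    rw [IsScalarTower.algebraMap_eq A A' C, ← RingHom.comp_assoc, hgA, IsScalarTower.algebraMap_eq A' N C',
      RingHom.comp_assoc]
    rfl
  intro O hO
  have himg : PrimeSpectrum.comap (algebraMap A C) '' O =
      PrimeSpectrum.comap φ '' (PrimeSpectrum.comap (algebraMap N C') '' (PrimeSpectrum.comap g ⁻¹' O)) := by
    conv_lhs => rw [← Set.image_preimage_eq O (hg.comap_surjective hgi)]
    rw [Set.image_image, Set.image_image]
    refine Set.image_congr fun q _ => ?_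
    rw [← PrimeSpectrum.comap_comp_apply, ← PrimeSpectrum.comap_comp_apply, hcomm]
  rw [himg]
  exact hhomeo.isOpenMap _ (isOpenMap_comap_of_isIntegrallyClosed _ (hO.preimage (PrimeSpectrum.continuous_comap g)))

/-- The spectrum map of a domain of finite type is open where it is quasi-finite, over a geometrically
unibranch base. -/
theorem isOpenAt_comap_of_quasiFiniteAt {T B : Type u} [CommRing T] [CommRing B] [IsDomain B] [Algebra T B]
    [Algebra.FiniteType T B] (hker : RingHom.ker (algebraMap T B) = nilradical T)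
    (hu : ∀ (p : Ideal T) [p.IsPrime], CAlg2.IsGeomUnibranch (Localization.AtPrime p))
    (Q : PrimeSpectrum B) [Algebra.QuasiFiniteAt T Q.asIdeal] :
    EGA43.IsOpenAt (PrimeSpectrum.comap (algebraMap T B)) Q := by
  obtain ⟨S, hS, r, hr, hbij⟩ :=
    Algebra.QuasiFiniteAt.exists_fg_and_exists_notMem_and_awayMap_bijective (R := T) Q.asIdeal
  haveI : Module.Finite T S := Module.Finite.iff_fg.mpr hS
  haveI : Algebra.IsIntegral T S := Algebra.IsIntegral.of_finite T S
  have hkerS : RingHom.ker (algebraMap T S) = nilradical T := by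
    rw [← hker]
    ext t
    simp only [RingHom.mem_ker]
    exact Subtype.ext_iff
  have hopen := isOpenMap_comap_of_geomUnibranch (A := T) (C := S) hkerS hu
  let val : S →+* B := S.val.toRingHom
  let ψ := Localization.awayMap val r
  let e := RingEquiv.ofBijective ψ hbij
  have hsq : ∀ c : S, ψ (algebraMap S _ c) = algebraMap B _ (c : B) := fun c => by
    exact IsLocalization.map_eq _ c
  intro U hU
  obtain ⟨V, hVU, hVo, hQV⟩ := mem_nhds_iff.mp hU
  obtain ⟨_, ⟨g, rfl⟩, hgQ, hgV⟩ :=
    PrimeSpectrum.isTopologicalBasis_basic_opens.exists_subset_of_mem_open hQV hVo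
  refine Filter.mem_of_superset ?_ (Set.image_mono (hgV.trans hVU))
  obtain ⟨c, ⟨_, k, rfl⟩, hc⟩ := IsLocalization.exists_mk'_eq (Submonoid.powers r)
    (e.symm (algebraMap B (Localization.Away (val r)) g))
  have hgc : g * (r : B) ^ k = (c : B) := by
    have hr0 : val r ≠ 0 := fun h => hr (show (r : B) ∈ Q.asIdeal by
      rw [show (r : B) = 0 from h]; exact zero_mem _)
    refine IsLocalization.injective (Localization.Away (val r))
      (powers_le_nonZeroDivisors_of_noZeroDivisors hr0) ?_
    rw [← hsq c, map_mul, ← e.apply_symm_apply (algebraMap B (Localization.Away (val r)) g), ← hc,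
      map_pow, ← hsq r, ← map_pow]
    change ψ _ * _ = _
    rw [← map_mul]
    congr 1
    rw [← map_pow]
    exact IsLocalization.mk'_spec _ c (⟨r ^ k, pow_mem (Submonoid.mem_powers r) k⟩ : Submonoid.powers r)
  have hsub : PrimeSpectrum.comap (algebraMap T S) '' (PrimeSpectrum.basicOpen (c * r) : Set (PrimeSpectrum S)) ⊆
      PrimeSpectrum.comap (algebraMap T B) '' (PrimeSpectrum.basicOpen g : Set (PrimeSpectrum B)) := by
    rintro _ ⟨P, hP, rfl⟩
    have hcr : c * r ∉ P.asIdeal := hP
    have hrP : r ∉ P.asIdeal := fun h => hcr (P.asIdeal.mul_mem_left _ h)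
    have hdisj : Disjoint (Submonoid.powers r : Set S) (P.asIdeal : Set S) :=
      Set.disjoint_left.mpr fun _ ⟨n, hn⟩ hz => hrP (P.isPrime.mem_of_pow_mem n (show r ^ n ∈ P.asIdeal by rw [show r ^ n = _ from hn]; exact hz))
    haveI := IsLocalization.isPrime_of_isPrime_disjoint (Submonoid.powers r) (Localization.Away r) P.asIdeal
      P.isPrime hdisj
    let Pr := P.asIdeal.map (algebraMap S (Localization.Away r))
    haveI : (Pr.comap e.symm.toRingHom).IsPrime := Ideal.comap_isPrime _ _
    let PB : PrimeSpectrum B :=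
      PrimeSpectrum.comap (algebraMap B (Localization.Away (val r))) ⟨Pr.comap e.symm.toRingHom, inferInstance⟩
    have hPB : PrimeSpectrum.comap val PB = P := by
      refine PrimeSpectrum.ext (Ideal.ext fun a => ?_)
      change e.symm (algebraMap B _ (a : B)) ∈ Pr ↔ a ∈ P.asIdeal
      rw [← hsq, show e.symm (ψ (algebraMap S _ a)) = algebraMap S _ a from e.symm_apply_apply _,
        ← Ideal.mem_comap]
      rw [show Pr.comap (algebraMap S (Localization.Away r)) = P.asIdeal from
        IsLocalization.under_map_of_isPrime_disjoint (Submonoid.powers r) (Localization.Away r) P.isPrime hdisj]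
    refine ⟨PB, fun hg => hcr (P.asIdeal.mul_mem_right _ ?_), ?_⟩
    · rw [← hPB]
      change (c : B) ∈ PB.asIdeal
      rw [← hgc]
      exact PB.asIdeal.mul_mem_right _ hg
    · rw [← hPB, ← PrimeSpectrum.comap_comp_apply]
      rfl
  refine Filter.mem_of_superset ?_ hsub
  rw [show PrimeSpectrum.comap (algebraMap T B) Q =
    PrimeSpectrum.comap (algebraMap T S) (PrimeSpectrum.comap val Q) from rfl]
  refine hopen.image_mem_nhds ((PrimeSpectrum.basicOpen (c * r)).2.mem_nhds ?_)
  change ((c * r : S) : B) ∉ Q.asIdeal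
  intro h
  rcases Q.isPrime.mem_or_mem h with h | h
  · rw [← hgc] at h
    rcases Q.isPrime.mem_or_mem h with h | h
    · exact hgQ h
    · exact hr (Q.isPrime.mem_of_pow_mem k h)
  · exact hr h

/-- Openness at a point with an independent cut, over an irreducible geometrically unibranch base. -/
theorem isOpenAt_comap_of_hasIndepCut {A B : Type u} [CommRing A] [CommRing B] [Algebra A B]
    [Algebra.FiniteType A B] [hnil : (nilradical A).IsPrime]
    (hu : ∀ (p : Ideal A) [p.IsPrime], CAlg2.IsGeomUnibranch (Localization.AtPrime p))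
    (Q : PrimeSpectrum B) (h : HasIndepCut A Q.asIdeal) :
    EGA43.IsOpenAt (PrimeSpectrum.comap (algebraMap A B)) Q := by
  obtain ⟨P₀, hP₀, hle, hmin, d, b, hind, hqf⟩ := h
  haveI := hP₀
  have hp₀ : P₀.comap (algebraMap A B) = nilradical A :=
    le_antisymm (hmin.2 ⟨hnil, bot_le⟩ (nilradical_le_prime _)) (nilradical_le_prime _)
  let T := MvPolynomial (Fin d) A
  let B' := B ⧸ P₀
  let mk₀ := Ideal.Quotient.mk P₀
  let y₀ : PrimeSpectrum B' := ⟨Q.asIdeal.map mk₀,
    Ideal.map_isPrime_of_surjective Ideal.Quotient.mk_surjective (by rwa [Ideal.mk_ker])⟩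
  have hy₀ : PrimeSpectrum.comap mk₀ y₀ = Q :=
    PrimeSpectrum.ext (Ideal.ext fun w => Ideal.mem_quotient_iff_mem hle)
  letI iT : Algebra T B := (aeval b).toRingHom.toAlgebra
  haveI : IsScalarTower A T B := IsScalarTower.of_algebraMap_eq fun a => ((aeval b).commutes a).symm
  haveI := hqf
  haveI := y₀.isPrime
  let ψ : B →ₐ[T] B' := { mk₀ with commutes' := fun _ => rfl }
  haveI : Algebra.QuasiFiniteAt T y₀.asIdeal :=
    Algebra.QuasiFiniteAt.of_surjectiveOnStalks Q.asIdeal ψ
      (RingHom.surjectiveOnStalks_of_surjective Ideal.Quotient.mk_surjective) y₀.asIdeal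
      (congrArg PrimeSpectrum.asIdeal hy₀).symm
  haveI : IsScalarTower A T B' := inferInstance
  haveI : Algebra.FiniteType T B' := Algebra.FiniteType.of_restrictScalars_finiteType A T B'
  have hker : RingHom.ker (algebraMap T B') = nilradical T := by
    refine le_antisymm (fun P hP => ?_) (fun P hP => ((mem_nilradical.mp hP).map (algebraMap T B')).eq_zero)
    rw [mem_nilradical, MvPolynomial.isNilpotent_iff]
    intro m
    rw [← mem_nilradical, ← hp₀]
    exact hind P (Ideal.Quotient.eq_zero_iff_mem.mp hP) m
  have hopen := isOpenAt_comap_of_quasiFiniteAt hker (fun q _ => GrothLib.GeomUnib.isGeomUnibranch_mvPolynomial d q (hu _)) y₀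
  intro U hU
  have h1 := hopen _ ((PrimeSpectrum.continuous_comap mk₀).continuousAt.preimage_mem_nhds (hy₀.symm ▸ hU))
  have h2 := (MvPolynomial.isOpenMap_comap_C (R := A) (σ := Fin d)).image_mem_nhds h1
  have hcomp : ∀ q : PrimeSpectrum B', PrimeSpectrum.comap (C : A →+* T) (PrimeSpectrum.comap (algebraMap T B') q) =
      PrimeSpectrum.comap (algebraMap A B) (PrimeSpectrum.comap mk₀ q) := fun q => by
    rw [← PrimeSpectrum.comap_comp_apply, ← PrimeSpectrum.comap_comp_apply]
    refine congrArg (fun φ : A →+* B' => PrimeSpectrum.comap φ q) (RingHom.ext fun a => ?_)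
    change mk₀ (aeval b (C a)) = _
    rw [aeval_C]
    rfl
  rw [hcomp, hy₀] at h2
  refine Filter.mem_of_superset h2 ?_
  rintro _ ⟨_, ⟨q, hq, rfl⟩, rfl⟩
  exact ⟨_, hq, (hcomp q).symm⟩

/-- Adjoining variables keeps the nilradical prime. -/
theorem isPrime_nilradical_mvPolynomial {A : Type u} [CommRing A] [(nilradical A).IsPrime] (n : ℕ) :
    (nilradical (MvPolynomial (Fin n) A)).IsPrime := by
  have : RingHom.ker (MvPolynomial.map (σ := Fin n) (Ideal.Quotient.mk (nilradical A))) =
      nilradical (MvPolynomial (Fin n) A) := by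
    ext P
    rw [RingHom.mem_ker, mem_nilradical, MvPolynomial.isNilpotent_iff, MvPolynomial.ext_iff]
    refine forall_congr' fun m => ?_
    rw [MvPolynomial.coeff_map, MvPolynomial.coeff_zero, Ideal.Quotient.eq_zero_iff_mem, mem_nilradical]
  rw [← this]
  exact RingHom.ker_isPrime _

/-- Openness after adjoining variables to an irreducible geometrically unibranch base. -/
theorem isOpenAt_comap_mvPolynomial' {A B : Type u} [CommRing A] [CommRing B] [Algebra A B]
    [Algebra.FiniteType A B] [(nilradical A).IsPrime]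
    (hu : ∀ (p : Ideal A) [p.IsPrime], CAlg2.IsGeomUnibranch (Localization.AtPrime p))
    (Q : Ideal B) [Q.IsPrime] (h : HasIndepCut A Q) (n : ℕ)
    (q : PrimeSpectrum (TensorProduct A (MvPolynomial (Fin n) A) B))
    (hq : q.asIdeal.comap (Algebra.TensorProduct.includeRight :
      B →ₐ[A] TensorProduct A (MvPolynomial (Fin n) A) B).toRingHom = Q) :
    EGA43.IsOpenAt (PrimeSpectrum.comap (algebraMap (MvPolynomial (Fin n) A)
      (TensorProduct A (MvPolynomial (Fin n) A) B))) q := by
  haveI := isPrime_nilradical_mvPolynomial (A := A) n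
  exact isOpenAt_comap_of_hasIndepCut
    (fun p _ => GrothLib.GeomUnib.isGeomUnibranch_mvPolynomial n p (hu _)) q
    (hasIndepCut_mvPolynomial n Q h q.asIdeal hq)

end GrothLib.Chev28
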