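import Groth.Agent.Lib.Altitude.Basic
import Mathlib.RingTheory.KrullDimension.Polynomial

/-!
Heights of primes in a polynomial ring in one variable.
-/

universe u

open Polynomial

namespace GrothLib.Chev28

variable {A : Type u} [CommRing A] [IsNoetherianRing A]

theorem exists_height_add_trdeg (p : Ideal A) [p.IsPrime] (q : Ideal A[X]) [q.IsPrime] [q.LiesOver p] :
    ∃ s : ℕ, Algebra.trdeg (A ⧸ p) (A[X] ⧸ q) = s ∧ q.height + s = p.height + 1 := by
  let e := (MvPolynomial.uniqueAlgEquiv A (Fin 1))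
  let P : Ideal (MvPolynomial (Fin 1) A) := q.comap e.toRingEquiv.toRingHom
  haveI : P.IsPrime := Ideal.comap_isPrime _ _
  haveI : P.LiesOver p := ⟨by
    rw [Ideal.LiesOver.over (P := q) (p := p)]
    ext a
    show algebraMap A A[X] a ∈ q ↔ e (algebraMap A (MvPolynomial (Fin 1) A) a) ∈ q
    rw [e.commutes]⟩
  obtain ⟨s, hs, hh⟩ := GrothLib.Altitude.height_add_trdeg_mvPolynomial p P
  have hmap : P.map e.toRingEquiv = q := Ideal.map_comap_of_surjective _ e.surjective q
  refine ⟨s, ?_, ?_⟩
  · rw [← hs]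
    refine (GrothLib.Altitude.trdeg_eq_of_ringEquiv
      (Ideal.quotientEquiv P q e.toRingEquiv hmap.symm) fun a => ?_).symm
    obtain ⟨a, rfl⟩ := Ideal.Quotient.mk_surjective a
    show Ideal.Quotient.mk q (e (algebraMap A (MvPolynomial (Fin 1) A) a)) = Ideal.Quotient.mk q (algebraMap A A[X] a)
    rw [e.commutes]
  · rw [← hmap, RingEquiv.height_map, hh, Nat.cast_one]

theorem height_map_C_prime (p : Ideal A) [p.IsPrime] : (p.map (C : A →+* A[X])).height = p.height := by
  haveI : (p.map (C : A →+* A[X])).LiesOver p := ⟨by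
    ext a
    show a ∈ p ↔ C a ∈ p.map C
    refine ⟨Ideal.mem_map_of_mem _, fun h => ?_⟩
    simpa using Ideal.mem_map_C_iff.mp h 0⟩
  simp [Ideal.height_eq_height_add_of_liesOver_of_hasGoingDown p]

theorem height_eq_add_one_of_ne (p : Ideal A) [p.IsPrime] (q : Ideal A[X]) [q.IsPrime] [q.LiesOver p]
    (hne : q ≠ p.map (C : A →+* A[X])) : q.height = p.height + 1 := by
  obtain ⟨s, -, hh⟩ := exists_height_add_trdeg p q
  have hle : p.map (C : A →+* A[X]) ≤ q := by
    rw [Ideal.map_le_iff_le_comap]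
    exact (Ideal.LiesOver.over (P := q) (p := p)).le
  have hlt : (p.map (C : A →+* A[X])).height < q.height := by
    exact Ideal.height_strict_mono_of_isPrime_of_isPrime (lt_of_le_of_ne hle (Ne.symm hne))
  rw [height_map_C_prime] at hlt
  refine le_antisymm ?_ (Order.add_one_le_of_lt hlt)
  rw [← hh]
  exact le_self_add

end GrothLib.Chev28
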