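import Groth.Agent.Lib.Chev28.ConnValuation
import Groth.Agent.Lib.NoethTop.Spectral
import Groth.Agent.Lib.Constr.Basic
import Mathlib.AlgebraicGeometry.IdealSheaf.Subscheme

/-!
EGA IV 15.7: connectedness over valuation rings and the topology of properness near a point.
-/

universe u

open CategoryTheory CategoryTheory.Limits AlgebraicGeometry TopologicalSpace Topology IsLocalRing

noncomputable section

namespace GrothLib.Chev28

/-- Over a henselian local ring the closure of a preconnected subset of a proper scheme meets the closed fibre in a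
preconnected set. -/
theorem isPreconnected_closure_inter_closedFibre {A : Type u} [CommRing A] [HenselianLocalRing A] {P : Scheme.{u}}
    (g : P ⟶ Spec (CommRingCat.of A)) [IsProper g] {S : Set P} (hS : _root_.IsPreconnected S) :
    _root_.IsPreconnected (closure S ∩ g ⁻¹' {(IsLocalRing.closedPoint A : ↥(Spec (CommRingCat.of A)))}) := by
  let I := Scheme.IdealSheafData.vanishingIdeal ⟨closure S, isClosed_closure⟩
  let i := I.subschemeι
  let g' := i ≫ g
  haveI : IsProper g' := inferInstance
  let c : ↥(Spec (CommRingCat.of A)) := IsLocalRing.closedPoint A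
  have hrange : Set.range i = closure S :=
    I.range_subschemeι.trans (Scheme.IdealSheafData.coe_support_vanishingIdeal _)
  haveI : PreconnectedSpace ↥I.subscheme := by
    refine ⟨?_⟩
    rw [← i.isEmbedding.isInducing.isPreconnected_image, Set.image_univ, hrange]
    exact hS.closure
  haveI : Subsingleton (_root_.ConnectedComponents ↥(g'.fiber c)) :=
    (Groth.Agent.S8533.result A g').1.subsingleton
  haveI : PreconnectedSpace ↥(g'.fiber c) := by
    rw [preconnectedSpace_iff_connectedComponent]
    exact fun x => Set.eq_univ_of_forall fun z => ConnectedComponents.coe_eq_coe'.mp (Subsingleton.elim _ _)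
  have h := isPreconnected_range ((g'.fiberι c ≫ i).continuous)
  convert h using 1
  ext z
  constructor
  · rintro ⟨hz, hzc⟩
    obtain ⟨w, rfl⟩ := hrange.ge hz
    obtain ⟨v, rfl⟩ := (g'.range_fiberι c).ge (show g' w = c by rw [Scheme.Hom.comp_apply]; exact hzc)
    exact ⟨v, Scheme.Hom.comp_apply _ _ _⟩
  · rintro ⟨v, rfl⟩
    rw [Scheme.Hom.comp_apply]
    refine ⟨hrange.le ⟨_, rfl⟩, ?_⟩
    show g (i (g'.fiberι c v)) = c
    rw [← Scheme.Hom.comp_apply]
    exact GrothLib.FibreFlat.fiberι_comp_apply g' c v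

/-- The connected set of limits, in a proper scheme, of a geometrically connected subset of a fibre along a
valuation. -/
theorem exists_preconnected_over {P Y : Scheme.{u}} (p : P ⟶ Y) [IsProper p] {Ω : Type u} [Field Ω]
    [IsAlgClosed Ω] (V : ValuationSubring Ω) (u : Spec (CommRingCat.of V) ⟶ Y) (Z : Set P)
    (hS : _root_.IsPreconnected
      (pullback.fst p (Spec.map (CommRingCat.ofHom (algebraMap V Ω)) ≫ u) ⁻¹' Z)) :
    ∃ B : Set P, _root_.IsPreconnected B ∧
      B ⊆ p ⁻¹' {u (IsLocalRing.closedPoint V)} ∩ closure Z ∧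
      ∀ z z' : ↥(pullback p u), z' ⤳ z → pullback.snd p u z = IsLocalRing.closedPoint V →
        pullback.snd p u z' = genericPoint (Spec (CommRingCat.of V)) → pullback.fst p u z' ∈ Z →
        pullback.fst p u z ∈ B := by
  haveI := henselianLocalRing_valuationSubring V
  let ι := Spec.map (CommRingCat.ofHom (algebraMap V Ω))
  let k : pullback p (ι ≫ u) ⟶ pullback p u :=
    pullback.lift (pullback.fst _ _) (pullback.snd _ _ ≫ ι) (by rw [pullback.condition, Category.assoc])
  have sq : IsPullback k (pullback.snd p (ι ≫ u)) (pullback.snd p u) ι := by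
    refine IsPullback.of_right ?_ (pullback.lift_snd _ _ _) (IsPullback.of_hasPullback p u)
    rw [pullback.lift_fst]
    exact IsPullback.of_hasPullback p _
  have hk : ∀ w, pullback.fst p u (k w) = pullback.fst p (ι ≫ u) w := fun w => by
    rw [← Scheme.Hom.comp_apply, pullback.lift_fst]
  let S := k '' (pullback.fst p (ι ≫ u) ⁻¹' Z)
  haveI : IsProper (pullback.snd p u) := MorphismProperty.pullback_snd p u ‹_›
  have hc := isPreconnected_closure_inter_closedFibre (pullback.snd p u) (hS.image k k.continuous.continuousOn)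
  refine ⟨_, hc.image _ (pullback.fst p u).continuous.continuousOn, ?_, ?_⟩
  · rintro _ ⟨z, ⟨hz, hzc⟩, rfl⟩
    refine ⟨?_, ?_⟩
    · show p (pullback.fst p u z) = _
      rw [← Scheme.Hom.comp_apply, pullback.condition, Scheme.Hom.comp_apply]
      exact congrArg u hzc
    · have h1 := image_closure_subset_closure_image (pullback.fst p u).continuous (Set.mem_image_of_mem _ hz)
      refine closure_mono ?_ h1
      rintro _ ⟨_, ⟨w, hw, rfl⟩, rfl⟩
      rw [hk]
      exact hw
  · intro z z' hzz' hz hz' hzZ
    obtain ⟨w, hw, -⟩ := Scheme.exists_preimage_of_isPullback sq z' (IsLocalRing.closedPoint Ω)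
      (hz'.trans (GrothLib.DvrPts6.pt_fractionRing V Ω).symm)
    refine ⟨z, ⟨hzz'.mem_closed isClosed_closure (subset_closure ⟨w, ?_, hw⟩), hz⟩, rfl⟩
    show pullback.fst p (ι ≫ u) w ∈ Z
    rw [← hk, hw]
    exact hzZ

/-- Lifts of the valuation ring give specializing pairs in the base change. -/
theorem exists_pair_of_lift {P Y : Scheme.{u}} (p : P ⟶ Y) {V : Type u} [CommRing V] [IsDomain V] [IsLocalRing V]
    (u : Spec (CommRingCat.of V) ⟶ Y) (l : Spec (CommRingCat.of V) ⟶ P) (hl : l ≫ p = u) :
    ∃ z z' : ↥(pullback p u), z' ⤳ z ∧ pullback.snd p u z = IsLocalRing.closedPoint V ∧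
      pullback.snd p u z' = genericPoint (Spec (CommRingCat.of V)) ∧
      pullback.fst p u z = l (IsLocalRing.closedPoint V) ∧
      pullback.fst p u z' = l (genericPoint (Spec (CommRingCat.of V))) := by
  let σ : Spec (CommRingCat.of V) ⟶ pullback p u := pullback.lift l (𝟙 _) (by rw [hl, Category.id_comp])
  refine ⟨σ (IsLocalRing.closedPoint V), σ (genericPoint (Spec (CommRingCat.of V))),
    (genericPoint_specializes _).map σ.continuous, ?_, ?_, ?_, ?_⟩
  · rw [← Scheme.Hom.comp_apply, pullback.lift_snd]; rfl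
  · rw [← Scheme.Hom.comp_apply, pullback.lift_snd]; rfl
  · rw [← Scheme.Hom.comp_apply, pullback.lift_fst]
  · rw [← Scheme.Hom.comp_apply, pullback.lift_fst]

/-- A preconnected subset of a space covered near it by an open and the complement of a closed set agreeing with the
open on it. -/
theorem subset_of_isPreconnected_inter {T : Type*} [TopologicalSpace T] {B S G F C : Set T}
    (hB : _root_.IsPreconnected B) (hBS : B ⊆ S) (hG : IsOpen G) (hF : IsClosed F) (hGS : G ∩ S = C)
    (hFS : F ∩ S = C) (hne : (B ∩ C).Nonempty) : B ⊆ C := by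
  intro b hb
  by_contra hbC
  obtain ⟨a, ha, haC⟩ := hne
  obtain ⟨w, hw, hwG, hwF⟩ := hB G Fᶜ hG hF.isOpen_compl
    (fun x hx => (em (x ∈ F)).imp (fun h => (hGS.ge (hFS.le ⟨h, hBS hx⟩)).1) id)
    ⟨a, ha, (hGS.ge haC).1⟩ ⟨b, hb, fun h => hbC (hFS.le ⟨h, hBS hb⟩)⟩
  exact hwF (hFS.ge (hGS.le ⟨hwG, hBS hw⟩)).1

/-- A constructible set containing all its specializations over generizations of a point is closed near it. -/
theorem exists_opens_closure_subset {P W : Scheme.{u}} (p : P ⟶ W) [QuasiCompact p] [QuasiSeparated p] [IsAffine W]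
    {C : Set P} (hC : IsConstructible C) (y : W) (hcl : ∀ c ∈ C, ∀ q, c ⤳ q → p q ⤳ y → q ∈ C) :
    ∃ U : W.Opens, y ∈ U ∧ closure C ∩ p ⁻¹' U ⊆ C := by
  haveI : CompactSpace ↥P := QuasiCompact.compactSpace_of_compactSpace p
  haveI : QuasiSeparatedSpace ↥P := quasiSeparatedSpace_of_quasiSeparated p
  haveI : SpectralSpace P := {}
  by_contra hne
  push Not at hne
  let ι := Option {U : W.Opens // IsAffineOpen U ∧ y ∈ U}
  let A : ι → Set P := fun o => o.elim (closure C ∩ Cᶜ) fun U => p ⁻¹' (U.1 : Set W)
  obtain ⟨t, ht⟩ := GrothLib.SpecSp.exists_mem_of_fip A (fun o => by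
      cases o with
      | none =>
        exact @IsClosed.inter P _ _ (constructibleTopology P)
          (GrothLib.SpecSp.isClosed_cons_of_isClosed isClosed_closure)
          (GrothLib.Constr.isClosed_constructibleTopology_of_isConstructible hC.compl)
      | some U =>
        exact (GrothLib.SpecSp.isClopen_cons (U.1.isOpen.preimage p.continuous)
          (p.isCompact_preimage U.2.1.isCompact)).1)
    (fun s => by
      classical
      obtain ⟨_, ⟨(U : W.Opens), hU, rfl⟩, hyU, hUs⟩ := W.isBasis_affineOpens.exists_subset_of_mem_open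
        (show y ∈ ⋂ V ∈ s.eraseNone, (V.1 : Set W) from Set.mem_iInter₂.2 fun V _ => V.2.2)
        (isOpen_biInter_finset fun V _ => V.1.2)
      obtain ⟨q, ⟨hq, hqU⟩, hqC⟩ := Set.not_subset.mp (hne U hyU)
      refine ⟨q, Set.mem_iInter₂.2 fun o ho => ?_⟩
      cases o with
      | none => exact ⟨hq, hqC⟩
      | some V => exact Set.mem_iInter₂.1 (hUs hqU) V (Finset.mem_eraseNone.2 ho))
  obtain ⟨c, hc, hct⟩ := GrothLib.SpecSp.exists_specializes_of_mem_closure
    (GrothLib.Constr.isClosed_constructibleTopology_of_isConstructible hC) (ht none).1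
  refine (ht none).2 (hcl c hc t hct (specializes_iff_forall_open.2 fun O hO hyO => ?_))
  obtain ⟨_, ⟨(U : W.Opens), hU, rfl⟩, hyU, hUO⟩ := W.isBasis_affineOpens.exists_subset_of_mem_open hyO hO
  exact hUO (ht (some ⟨U, hU, hyU⟩))

end GrothLib.Chev28
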