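import Groth.Agent.Lib.Chev28.PropMain

/-!
EGA IV 15.7: properness over the locus of proper fibres, with a section after a proper or flat cover.
-/

universe u

open CategoryTheory CategoryTheory.Limits AlgebraicGeometry TopologicalSpace Topology IsLocalRing

noncomputable section

namespace GrothLib.Chev28

variable {X Y : Scheme.{u}}

theorem one_le_nGeomConnComp (f : X ⟶ Y) [Surjective f] (y : Y) : 1 ≤ MoreMor.nGeomConnComp f y := by
  show 1 ≤ ENat.card (_root_.ConnectedComponents ↥(MoreMor.geomFiber f y))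
  rw [ENat.one_le_card_iff_nonempty]
  obtain ⟨x, rfl⟩ := f.surjective y
  obtain ⟨w, -⟩ := (pullback.fst (f.fiberToSpecResidueField (f x)) (Spec.map (CommRingCat.ofHom
    (algebraMap (Y.residueField (f x)) (SeparableClosure (Y.residueField (f x))))))).surjective (f.asFiber x)
  exact ⟨ConnectedComponents.mk w⟩

/-- The count of geometric components is that of the fibre. -/
theorem nGeomConnComp_fiber (f : X ⟶ Y) (y : Y) (q : Spec (Y.residueField y)) :
    MoreMor.nGeomConnComp (f.fiberToSpecResidueField y) q = MoreMor.nGeomConnComp f y := by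
  refine (congrArg Prod.snd (GrothLib.GeomComp6.count_baseChange f (f.fiberToSpecResidueField y) (f.fiberι y)
    (Y.fromSpecResidueField y) (IsPullback.of_hasPullback _ _) q)).trans ?_
  rw [Y.fromSpecResidueField_apply]

theorem isPreconnected_preimage_univ (f : X ⟶ Y) {K : Type u} [Field K] (t : Spec (CommRingCat.of K) ⟶ Y)
    (h : GeometricallyConnected (f.fiberToSpecResidueField (t (IsLocalRing.closedPoint K)))) :
    _root_.IsPreconnected (pullback.fst f t ⁻¹' (Set.univ : Set X)) := by
  obtain ⟨σ, hσ⟩ := GeomRed6.exists_factor t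
  let e := ((IsPullback.of_hasPullback (f.fiberToSpecResidueField (t (IsLocalRing.closedPoint K))) σ).paste_horiz
    (IsPullback.of_hasPullback f (Y.fromSpecResidueField _))).isoPullback
  haveI : ConnectedSpace ↥(pullback (f.fiberToSpecResidueField (t (IsLocalRing.closedPoint K))) σ) :=
    h.geometrically_connectedSpace _ _ _ (IsPullback.of_hasPullback _ σ)
  let e' : pullback (f.fiberToSpecResidueField (t (IsLocalRing.closedPoint K))) σ ⟶ pullback f t :=
    e.hom ≫ (pullback.congrHom rfl hσ).hom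
  rw [Set.preimage_univ, ← e'.surjective.range_eq]
  exact isPreconnected_range e'.continuous

/-- Limits for a morphism with geometrically connected fibres having a section after a proper or flat cover. -/
theorem exists_limits_cover (f : X ⟶ Y) {W : Y.Opens} {P : Scheme.{u}} (j : (f ⁻¹ᵁ W).toScheme ⟶ P) (p : P ⟶ W)
    [IsProper p] [IsOpenImmersion j] (hjp : j ≫ p = f ∣_ W) {Y' : Scheme.{u}} (g : Y' ⟶ Y) [Surjective g]
    (hg : IsProper g ∨ Flat g) (σ : Y' ⟶ X) (hσ : σ ≫ f = g)
    (hconn : ∀ y : Y, GeometricallyConnected (f.fiberToSpecResidueField y))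
    (c : P) (hc : c ∈ compImage f W j (Set.univ : Set X)) (q : P) (hcq : c ⤳ q) :
    ∃ B : Set P, _root_.IsPreconnected B ∧ q ∈ B ∧ B ⊆ p ⁻¹' {p q} ∩ closure (compImage f W j (Set.univ : Set X)) ∧
      (B ∩ compImage f W j (Set.univ : Set X)).Nonempty := by
  obtain ⟨Ω, _, _, V, l, hlc, hlη⟩ := GrothLib.DvrPts6.exists_valuationSubring_of_specializes hcq
  subst hlc
  subst hlη
  obtain ⟨B, hB, hqB, hBsub, hmem⟩ := exists_limit_set f j p hjp _ V l
    (isPreconnected_preimage_univ f _ (hconn _)) hc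
  obtain ⟨m, hm, hmC⟩ := exists_map_pullback f j p hjp (l ≫ p)
  let u := (l ≫ p) ≫ W.ι
  let k : pullback g u ⟶ pullback f u :=
    pullback.lift (pullback.fst g u ≫ σ) (pullback.snd g u) (by rw [Category.assoc, hσ, pullback.condition])
  obtain ⟨z, z', hz', hzc, hzη⟩ : ∃ z z' : ↥(pullback g u), z' ⤳ z ∧
      pullback.snd g u z = IsLocalRing.closedPoint V ∧
      pullback.snd g u z' = genericPoint (Spec (CommRingCat.of V)) := by
    haveI : Surjective (pullback.snd g u) := MorphismProperty.pullback_snd g u ‹_›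
    rcases hg with hP | hF
    · haveI : IsProper (pullback.snd g u) := MorphismProperty.pullback_snd g u hP
      obtain ⟨z', hz'⟩ := (pullback.snd g u).surjective (genericPoint (Spec (CommRingCat.of V)))
      obtain ⟨z, hz, hzc⟩ := (genericPoint_specializes (IsLocalRing.closedPoint V : ↥(Spec (CommRingCat.of V)))).mem_closed
        ((pullback.snd g u).isClosedMap _ (isClosed_closure (s := {z'}))) ⟨z', subset_closure rfl, hz'⟩
      exact ⟨z, z', specializes_iff_mem_closure.mpr hz, hzc, hz'⟩
    · haveI : Flat (pullback.snd g u) := MorphismProperty.pullback_snd g u hF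
      obtain ⟨z, hzc⟩ := (pullback.snd g u).surjective (IsLocalRing.closedPoint V : ↥(Spec (CommRingCat.of V)))
      obtain ⟨z', hz', hzη⟩ := Flat.generalizingMap (pullback.snd g u)
        (genericPoint_specializes (pullback.snd g u z))
      exact ⟨z, z', hz', hzc, hzη⟩
  have hk : ∀ w, pullback.snd f u (k w) = pullback.snd g u w := fun w => by
    rw [← Scheme.Hom.comp_apply, pullback.lift_snd]
  exact ⟨B, hB, hqB, hBsub, _, hmem (m (k z)) (m (k z')) ((hz'.map k.continuous).map m.continuous)
    (((hm _).trans (hk z)).trans hzc) (((hm _).trans (hk z')).trans hzη) (hmC _ _ (Set.mem_univ _)),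
    hmC _ _ (Set.mem_univ _)⟩

/-- EGA IV 15.7.9. -/
theorem exists_opens_proper_fibres (f : X ⟶ Y) [IsSeparated f] [LocallyOfFiniteType f] [QuasiCompact f]
    {Y' : Scheme.{u}} (g : Y' ⟶ Y) [Surjective g] (hg : IsProper g ∨ Flat g) (σ : Y' ⟶ X) (hσ : σ ≫ f = g)
    (hconn : ∀ y : Y, MoreMor.nGeomConnComp f y ≤ 1) :
    ∃ U : Y.Opens, (U : Set Y) = {y : Y | IsProper (f.fiberToSpecResidueField y)} ∧ IsProper (f ∣_ U) := by
  haveI : Surjective f := by
    haveI : Surjective (σ ≫ f) := by rw [hσ]; infer_instance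
    exact Surjective.of_comp σ f
  have hgc : ∀ y : Y, GeometricallyConnected (f.fiberToSpecResidueField y) := fun y =>
    (GrothLib.GeomComp6.geometricallyConnected_iff_count _).mpr fun q =>
      (nGeomConnComp_fiber f y q).trans (le_antisymm (hconn y) (one_le_nGeomConnComp f y))
  have hloc : ∀ y : {y : Y // IsProper (f.fiberToSpecResidueField y)}, ∃ U : Y.Opens,
      y.1 ∈ U ∧ IsProper (f ∣_ U) := fun ⟨y, hy⟩ => by
    obtain ⟨U, hU, hC, hP⟩ := exists_nhd_isProper_of_limits f (Set.univ : Set X)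
      IsConstructible.univ.isLocallyConstructible y (isOpen_univ.preimage (f.fiberι y).continuous)
      (isProper_univ_opens f y hy _) (fun _ _ _ => Set.subset_univ _)
      (fun W _ _ P j p _ _ _ hjp c hc q hcq _ _ => exists_limits_cover f j p hjp g hg σ hσ hgc c hc q hcq)
    exact ⟨U, hU, isProper_restrict_of_univ f hP⟩
  choose U hU hP using hloc
  have hfib : ∀ (V : Y.Opens), IsProper (f ∣_ V) → ∀ y ∈ V, IsProper (f.fiberToSpecResidueField y) := by
    intro V hV y hy
    let t : Spec (Y.residueField y) ⟶ V.toScheme := IsOpenImmersion.lift V.ι (Y.fromSpecResidueField y) (by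
      rw [Scheme.range_fromSpecResidueField, V.range_ι]
      exact Set.singleton_subset_iff.mpr hy)
    have ht : t ≫ V.ι = Y.fromSpecResidueField y := IsOpenImmersion.lift_fac _ _ _
    let l : f.fiber y ⟶ (f ⁻¹ᵁ V).toScheme := IsOpenImmersion.lift (f ⁻¹ᵁ V).ι (f.fiberι y) (by
      rw [(f ⁻¹ᵁ V).range_ι, f.range_fiberι]
      exact fun x hx => show f x ∈ V from (show f x = y from hx).symm ▸ hy)
    have hl : l ≫ (f ⁻¹ᵁ V).ι = f.fiberι y := IsOpenImmersion.lift_fac _ _ _
    have sq : IsPullback l (f.fiberToSpecResidueField y) (f ∣_ V) t := by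
      refine IsPullback.of_right ?_ ?_ (isPullback_morphismRestrict f V).flip
      · rw [hl, ht]
        exact IsPullback.of_hasPullback _ _
      · rw [← cancel_mono V.ι, Category.assoc, Category.assoc, morphismRestrict_ι, ht, ← Category.assoc, hl]
        exact pullback.condition
    exact MorphismProperty.of_isPullback sq hV
  refine ⟨⨆ y, U y, Set.ext fun y => ⟨fun hy => ?_, fun hy => Opens.mem_iSup.mpr ⟨⟨y, hy⟩, hU ⟨y, hy⟩⟩⟩, ?_⟩
  · obtain ⟨i, hi⟩ := Opens.mem_iSup.mp hy
    exact hfib (U i) (hP i) y hi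
  · exact isProper_restrict_iSup f U hP
where
  isProper_restrict_iSup {ι : Type u} {X Y : Scheme.{u}} (f : X ⟶ Y) (U : ι → Y.Opens)
      (h : ∀ i, IsProper (f ∣_ U i)) : IsProper (f ∣_ (⨆ i, U i)) := by
    refine IsZariskiLocalAtTarget.of_iSup_eq_top (P := @IsProper) (fun i => (⨆ i, U i).ι ⁻¹ᵁ U i) ?_ fun i => ?_
    · refine top_unique fun s _ => ?_
      obtain ⟨i, hi⟩ := Opens.mem_iSup.mp s.2
      exact Opens.mem_iSup.mpr ⟨i, hi⟩
    · have e : (⨆ i, U i).ι ''ᵁ ((⨆ i, U i).ι ⁻¹ᵁ U i) = U i := by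
        rw [Scheme.Hom.image_preimage_eq_opensRange_inf, Scheme.Opens.opensRange_ι]
        exact inf_eq_right.mpr (le_iSup U i)
      rw [MorphismProperty.arrow_mk_iso_iff @IsProper (morphismRestrictRestrict f _ _)]
      rw [e]
      exact h i

end GrothLib.Chev28
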