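import Groth.Agent.Lib.Chev28.PropSpread
import Groth.Agent.Lib.SecComp6.BaseChange
import Groth.Agent.Lib.SecComp6.Constr
import Groth.Agent.Lib.SubtrLim.Submersive
import Groth.Prelude.Def_MoreMor
import Mathlib.RingTheory.Flat.TorsionFree
import Mathlib.RingTheory.Algebraic.Integral

/-!
EGA IV 15.7: limits along valuations of the connected components of the fibres.
-/

universe u

open CategoryTheory CategoryTheory.Limits AlgebraicGeometry TopologicalSpace Topology IsLocalRing

noncomputable section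

namespace GrothLib.Chev28

variable {X Y : Scheme.{u}}

/-- Geometric connectedness over a field point in terms of the base changes of the fibre. -/
theorem isPreconnected_preimage_of_fibre (f : X ⟶ Y) (C : Set X) {y : Y}
    (h : ∀ (K : Type u) [Field K] [Algebra (IsLocalRing.ResidueField (Y.presheaf.stalk y)) K],
      _root_.IsPreconnected ((FBase.bcπ (f.fiberToSpecResidueField y) K ≫ f.fiberι y).base ⁻¹' C))
    {K : Type u} [Field K] (t : Spec (CommRingCat.of K) ⟶ Y) (ht : t (IsLocalRing.closedPoint K) = y) :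
    _root_.IsPreconnected (pullback.fst f t ⁻¹' C) := by
  obtain ⟨σ, hσ⟩ : ∃ σ, σ ≫ Y.fromSpecResidueField y = t := by
    rw [← ht]; exact GeomRed6.exists_factor t
  subst hσ
  obtain ⟨φ, rfl⟩ := Spec.map_surjective σ
  letI : Algebra (IsLocalRing.ResidueField (Y.presheaf.stalk y)) K := φ.hom.toAlgebra
  have sq : IsPullback (FBase.bcπ (f.fiberToSpecResidueField y) K ≫ f.fiberι y)
      (FBase.bcStr (f.fiberToSpecResidueField y) K) f (Spec.map φ ≫ Y.fromSpecResidueField y) :=
    (IsPullback.of_hasPullback _ _).paste_horiz (IsPullback.of_hasPullback f _)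
  let e := sq.isoPullback
  convert (h K).image e.hom e.hom.continuous.continuousOn using 1
  have he : ∀ v, pullback.fst f (Spec.map φ ≫ Y.fromSpecResidueField y) (e.hom v) =
      (FBase.bcπ (f.fiberToSpecResidueField y) K ≫ f.fiberι y) v := fun v => by
    rw [← Scheme.Hom.comp_apply, sq.isoPullback_hom_fst]
  ext z
  constructor
  · intro hz
    have hez : e.hom (e.inv z) = z := by
      rw [← Scheme.Hom.comp_apply, e.inv_hom_id]; rfl
    refine ⟨e.inv z, ?_, hez⟩
    show (FBase.bcπ (f.fiberToSpecResidueField y) K ≫ f.fiberι y) (e.inv z) ∈ C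
    rw [← he, hez]
    exact hz
  · rintro ⟨v, hv, rfl⟩
    show pullback.fst f _ (e.hom v) ∈ C
    rw [he]
    exact hv

/-- The component of a section is geometrically connected. -/
theorem isPreconnected_preimage_sectionComponents (f : X ⟶ Y) (g : Y ⟶ X) (hg : g ≫ f = 𝟙 Y) {K : Type u} [Field K]
    (t : Spec (CommRingCat.of K) ⟶ Y) :
    _root_.IsPreconnected (pullback.fst f t ⁻¹' MoreMor.sectionComponents f g) := by
  let s' : Spec (CommRingCat.of K) ⟶ pullback f t :=
    pullback.lift (t ≫ g) (𝟙 _) (by rw [Category.assoc, hg, Category.comp_id, Category.id_comp])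
  rw [← GrothLib.SecComp6.sectionComponents_baseChange f g hg (pullback.snd f t) (pullback.fst f t) t
    (IsPullback.of_hasPullback f t) s' (pullback.lift_snd _ _ _) (pullback.lift_fst _ _ _)]
  haveI : Subsingleton (Spec (CommRingCat.of K)) := inferInstanceAs (Subsingleton (PrimeSpectrum K))
  convert isPreconnected_connectedComponentIn (F := (pullback.snd f t) ⁻¹' {IsLocalRing.closedPoint K})
    (x := s' (IsLocalRing.closedPoint K)) using 1
  ext x
  show x ∈ connectedComponentIn (pullback.snd f t ⁻¹' {pullback.snd f t x}) (s' (pullback.snd f t x)) ↔ _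
  rw [Subsingleton.elim (pullback.snd f t x) (IsLocalRing.closedPoint K)]
  exact Iff.rfl

variable (f : X ⟶ Y) {W : Y.Opens} {P : Scheme.{u}} (j : (f ⁻¹ᵁ W).toScheme ⟶ P) (p : P ⟶ W)

/-- Base changes of `f` map into those of a compactification. -/
theorem exists_map_pullback (hjp : j ≫ p = f ∣_ W) {T : Scheme.{u}} (τ : T ⟶ W.toScheme) :
    ∃ m : pullback f (τ ≫ W.ι) ⟶ pullback p τ, (∀ z, pullback.snd p τ (m z) = pullback.snd f (τ ≫ W.ι) z) ∧
      ∀ (C : Set X) z, pullback.fst f (τ ≫ W.ι) z ∈ C → pullback.fst p τ (m z) ∈ compImage f W j C := by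
  let l : pullback f (τ ≫ W.ι) ⟶ (f ⁻¹ᵁ W).toScheme :=
    IsOpenImmersion.lift (f ⁻¹ᵁ W).ι (pullback.fst f (τ ≫ W.ι)) (by
      rintro _ ⟨z, rfl⟩
      rw [(f ⁻¹ᵁ W).range_ι]
      show f (pullback.fst f (τ ≫ W.ι) z) ∈ W
      rw [← Scheme.Hom.comp_apply, pullback.condition, Scheme.Hom.comp_apply, Scheme.Hom.comp_apply]
      exact (τ (pullback.snd f (τ ≫ W.ι) z)).2)
  have hl : l ≫ (f ⁻¹ᵁ W).ι = pullback.fst f (τ ≫ W.ι) := IsOpenImmersion.lift_fac _ _ _
  let m : pullback f (τ ≫ W.ι) ⟶ pullback p τ := pullback.lift (l ≫ j) (pullback.snd _ _) (by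
    rw [← cancel_mono W.ι]
    simp only [Category.assoc]
    rw [reassoc_of% hjp, morphismRestrict_ι, reassoc_of% hl, pullback.condition])
  refine ⟨m, fun z => ?_, fun C z hz => ?_⟩
  · rw [← Scheme.Hom.comp_apply, pullback.lift_snd]
  · rw [← Scheme.Hom.comp_apply, pullback.lift_fst, Scheme.Hom.comp_apply]
    refine ⟨l z, ?_, rfl⟩
    show (f ⁻¹ᵁ W).ι (l z) ∈ C
    rwa [← Scheme.Hom.comp_apply, hl]

/-- The connected set of limits in a compactification of a family of geometrically connected sets. -/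
theorem exists_limit_set [IsProper p] [IsOpenImmersion j] (hjp : j ≫ p = f ∣_ W) (C : Set X) {Ω : Type u} [Field Ω]
    [IsAlgClosed Ω] (V : ValuationSubring Ω) (l : Spec (CommRingCat.of V) ⟶ P)
    (hconn : _root_.IsPreconnected
      (pullback.fst f ((Spec.map (CommRingCat.ofHom (algebraMap V Ω)) ≫ l ≫ p) ≫ W.ι) ⁻¹' C))
    (hl : l (genericPoint (Spec (CommRingCat.of V))) ∈ compImage f W j C) :
    ∃ B : Set P, _root_.IsPreconnected B ∧ l (IsLocalRing.closedPoint V) ∈ B ∧
      B ⊆ p ⁻¹' {p (l (IsLocalRing.closedPoint V))} ∩ closure (compImage f W j C) ∧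
      ∀ z z' : ↥(pullback p (l ≫ p)), z' ⤳ z → pullback.snd p (l ≫ p) z = IsLocalRing.closedPoint V →
        pullback.snd p (l ≫ p) z' = genericPoint (Spec (CommRingCat.of V)) →
        pullback.fst p (l ≫ p) z' ∈ compImage f W j C → pullback.fst p (l ≫ p) z ∈ B := by
  obtain ⟨B, hB, hBsub, hmem⟩ := exists_preconnected_over p V (l ≫ p) (compImage f W j C)
    (isPreconnected_preimage_compImage f j p hjp _ C hconn)
  refine ⟨B, hB, ?_, ?_, hmem⟩
  · obtain ⟨z, z', hzz', hz, hz', hfz, hfz'⟩ := exists_pair_of_lift p (l ≫ p) l rfl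
    rw [← hfz]
    exact hmem z z' hzz' hz hz' (hfz'.symm ▸ hl)
  · intro b hb
    exact ⟨(hBsub hb).1.trans (Scheme.Hom.comp_apply _ _ _), (hBsub hb).2⟩

theorem limit_point_over {Ω : Type u} [Field Ω] (V : ValuationSubring Ω) (l : Spec (CommRingCat.of V) ⟶ P) :
    ((Spec.map (CommRingCat.ofHom (algebraMap V Ω)) ≫ l ≫ p) ≫ W.ι) (IsLocalRing.closedPoint Ω) =
      W.ι (p (l (genericPoint (Spec (CommRingCat.of V))))) := by
  rw [← GrothLib.DvrPts6.pt_fractionRing V Ω, Scheme.Hom.comp_apply, Scheme.Hom.comp_apply, Scheme.Hom.comp_apply]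

/-- Limits for the components of a section. -/
theorem exists_limits_section (g : Y ⟶ X) (hg : g ≫ f = 𝟙 Y) [IsProper p] [IsOpenImmersion j]
    (hjp : j ≫ p = f ∣_ W) (c : P) (hc : c ∈ compImage f W j (MoreMor.sectionComponents f g)) (q : P) (hcq : c ⤳ q) :
    ∃ B : Set P, _root_.IsPreconnected B ∧ q ∈ B ∧
      B ⊆ p ⁻¹' {p q} ∩ closure (compImage f W j (MoreMor.sectionComponents f g)) ∧
      (B ∩ compImage f W j (MoreMor.sectionComponents f g)).Nonempty := by
  obtain ⟨Ω, _, _, V, l, hlc, hlη⟩ := GrothLib.DvrPts6.exists_valuationSubring_of_specializes hcq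
  subst hlc
  subst hlη
  obtain ⟨B, hB, hqB, hBsub, hmem⟩ := exists_limit_set f j p hjp _ V l
    (isPreconnected_preimage_sectionComponents f g hg _) hc
  obtain ⟨m, hm, hmC⟩ := exists_map_pullback f j p hjp (l ≫ p)
  let σ : Spec (CommRingCat.of V) ⟶ pullback f ((l ≫ p) ≫ W.ι) :=
    pullback.lift (((l ≫ p) ≫ W.ι) ≫ g) (𝟙 _) (by rw [Category.assoc, hg, Category.comp_id, Category.id_comp])
  have hσ : ∀ v, pullback.fst f ((l ≫ p) ≫ W.ι) (σ v) ∈ MoreMor.sectionComponents f g := fun v => by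
    rw [← Scheme.Hom.comp_apply, pullback.lift_fst, Scheme.Hom.comp_apply]
    generalize ((l ≫ p) ≫ W.ι) v = y
    have hgy : f (g y) = y := congrArg (fun m : Y ⟶ Y => m y) hg
    show g y ∈ connectedComponentIn (f ⁻¹' {f (g y)}) (g (f (g y)))
    rw [hgy]
    exact mem_connectedComponentIn hgy
  have hσs : ∀ v, pullback.snd f ((l ≫ p) ≫ W.ι) (σ v) = v := fun v => by
    rw [← Scheme.Hom.comp_apply, pullback.lift_snd]; rfl
  refine ⟨B, hB, hqB, hBsub, _, hmem (m (σ (IsLocalRing.closedPoint V))) (m (σ (genericPoint (Spec (CommRingCat.of V)))))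
    (((genericPoint_specializes _).map σ.continuous).map m.continuous) ((hm _).trans (hσs _)) ((hm _).trans (hσs _))
    (hmC _ _ (hσ _)), hmC _ _ (hσ _)⟩

/-- Limits for flat morphisms with geometrically connected fibres at maximal points. -/
theorem exists_limits_flat [Flat f] [IsProper p] [IsOpenImmersion j]
    (hjp : j ≫ p = f ∣_ W) (y : Y) [Nonempty ↥(f.fiber y)]
    (hgen : ∀ η : Y, (∀ η' : Y, η' ⤳ η → η' = η) → Nonempty ↥(f.fiber η) →
      GeometricallyConnected (f.fiberToSpecResidueField η))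
    (c : P) (hc : c ∈ compImage f W j (Set.univ : Set X)) (q : P) (hcq : c ⤳ q)
    (hor : W.ι (p q) = y ∨ q ∈ Set.range j) :
    ∃ B : Set P, _root_.IsPreconnected B ∧ q ∈ B ∧
      B ⊆ p ⁻¹' {p q} ∩ closure (compImage f W j (Set.univ : Set X)) ∧
      (B ∩ compImage f W j (Set.univ : Set X)).Nonempty := by
  obtain ⟨x, -, rfl⟩ := hc
  let T := irreducibleComponent x
  obtain ⟨x₀, hx₀⟩ : ∃ x₀, IsGenericPoint x₀ T :=
    QuasiSober.sober isIrreducible_irreducibleComponent isClosed_irreducibleComponent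
  have hx₀x : x₀ ⤳ x := hx₀.specializes mem_irreducibleComponent
  have hmax : ∀ x' : X, x' ⤳ (f ⁻¹ᵁ W).ι x₀ → x' = (f ⁻¹ᵁ W).ι x₀ := fun x' hx' => by
    obtain ⟨x'', rfl⟩ := (f ⁻¹ᵁ W).range_ι.ge (hx'.mem_open (f ⁻¹ᵁ W).isOpen x₀.2)
    have h1 : x'' ⤳ x₀ := (f ⁻¹ᵁ W).ι.isEmbedding.isInducing.specializes_iff.mp hx'
    have h2 : closure {x''} ⊆ T :=
      (eq_irreducibleComponent isIrreducible_singleton.closure.isPreirreducible (by
        show T ⊆ closure {x''}
        rw [← hx₀.def]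
        exact closure_minimal (Set.singleton_subset_iff.mpr h1.mem_closure) isClosed_closure)).le
    exact congrArg _ ((hx₀.specializes (h2 (subset_closure rfl))).antisymm h1).eq.symm
  obtain ⟨Ω, _, _, V, l, hlc, hlη⟩ :=
    GrothLib.DvrPts6.exists_valuationSubring_of_specializes ((hx₀x.map j.continuous).trans hcq)
  let η₀ := f ((f ⁻¹ᵁ W).ι x₀)
  haveI : GeometricallyConnected (f.fiberToSpecResidueField η₀) := hgen η₀ (fun η' hη' => by
      obtain ⟨x', hx', hfx'⟩ := Flat.generalizingMap f hη'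
      rw [← hfx', hmax x' hx'])
    ⟨f.asFiber _⟩
  have hconn : _root_.IsPreconnected
      (pullback.fst f ((Spec.map (CommRingCat.ofHom (algebraMap V Ω)) ≫ l ≫ p) ≫ W.ι) ⁻¹' (Set.univ : Set X)) := by
    obtain ⟨σ, hσ⟩ : ∃ σ, σ ≫ Y.fromSpecResidueField η₀ =
        (Spec.map (CommRingCat.ofHom (algebraMap V Ω)) ≫ l ≫ p) ≫ W.ι := by
      rw [show η₀ = ((Spec.map (CommRingCat.ofHom (algebraMap V Ω)) ≫ l ≫ p) ≫ W.ι) (IsLocalRing.closedPoint Ω) by
        rw [limit_point_over p V l, hlη, ι_comp_apply f j p hjp]]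
      exact GeomRed6.exists_factor _
    rw [← hσ, Set.preimage_univ]
    let e := ((IsPullback.of_hasPullback (f.fiberToSpecResidueField η₀) σ).paste_horiz
      (IsPullback.of_hasPullback f (Y.fromSpecResidueField η₀))).isoPullback
    haveI : ConnectedSpace ↥(pullback (f.fiberToSpecResidueField η₀) σ) :=
      GeometricallyConnected.geometrically_connectedSpace _ _ _ (IsPullback.of_hasPullback _ σ)
    rw [← e.hom.homeomorph.surjective.range_eq]
    exact isPreconnected_range e.hom.homeomorph.continuous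
  obtain ⟨B, hB, hqB, hBsub, hmem⟩ := exists_limit_set f j p hjp _ V l hconn (by
    rw [hlη]; exact ⟨x₀, Set.mem_univ _, rfl⟩)
  rw [hlc] at hqB hBsub
  refine ⟨B, hB, hqB, hBsub, ?_⟩
  rcases hor with hy | ⟨x', hx'⟩
  · obtain ⟨a₀⟩ := ‹Nonempty ↥(f.fiber y)›
    obtain ⟨m, hm, hmC⟩ := exists_map_pullback f j p hjp (l ≫ p)
    obtain ⟨z, hz₁, hz₂⟩ := Scheme.Pullback.exists_preimage_pullback (f := f) (g := (l ≫ p) ≫ W.ι)
      (f.fiberι y a₀) (IsLocalRing.closedPoint V) (by
        rw [GrothLib.FibreFlat.fiberι_comp_apply f y a₀, Scheme.Hom.comp_apply, Scheme.Hom.comp_apply, hlc, hy])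
    haveI : Flat (pullback.snd f ((l ≫ p) ≫ W.ι)) := MorphismProperty.pullback_snd f _ ‹_›
    obtain ⟨z', hz', hz'η⟩ := Flat.generalizingMap (pullback.snd f ((l ≫ p) ≫ W.ι))
      (genericPoint_specializes (pullback.snd f ((l ≫ p) ≫ W.ι) z))
    exact ⟨_, hmem (m z) (m z') (hz'.map m.continuous) ((hm z).trans hz₂) ((hm z').trans hz'η)
      (hmC _ _ (Set.mem_univ _)), hmC _ _ (Set.mem_univ _)⟩
  · exact ⟨q, hqB, hx' ▸ ⟨x', Set.mem_univ _, rfl⟩⟩

/-- Limits for geometrically connected families whose images satisfy submersiveness. -/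
theorem exists_limits_submersive [IsLocallyNoetherian Y] [LocallyOfFiniteType f] [IsSeparated f] [QuasiCompact f]
    [IsProper p] [IsOpenImmersion j] [QuasiCompact j] (hjp : j ≫ p = f ∣_ W) (hW : IsAffineOpen W) (C : Set X)
    (hC : IsLocallyConstructible C) (y : Y)
    (h1 : ∀ y' : Y, y' ⤳ y → y' ∈ f.base '' C ∧
      ∀ (K : Type u) [Field K] [Algebra (IsLocalRing.ResidueField (Y.presheaf.stalk y')) K],
        _root_.IsPreconnected ((FBase.bcπ (f.fiberToSpecResidueField y') K ≫ f.fiberι y').base ⁻¹' C))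
    (h3 : ∀ (Y' : Scheme.{u}) (h : Y' ⟶ Y) (E : Set Y'), E ⊆ h.base ⁻¹' (f.base '' C) →
      (∃ W : Set ↥(pullback f h), IsOpen W ∧
        W ∩ (pullback.fst f h).base ⁻¹' C = (pullback.snd f h).base ⁻¹' E ∩ (pullback.fst f h).base ⁻¹' C) →
      ∃ V : Set Y', IsOpen V ∧ V ∩ h.base ⁻¹' (f.base '' C) = E)
    (c : P) (hc : c ∈ compImage f W j C) (q : P) (hcq : c ⤳ q) (hq : W.ι (p q) ⤳ y) :
    ∃ B : Set P, _root_.IsPreconnected B ∧ q ∈ B ∧ B ⊆ p ⁻¹' {p q} ∩ closure (compImage f W j C) ∧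
      (B ∩ compImage f W j C).Nonempty := by
  haveI : IsAffine W := hW
  haveI : IsLocallyNoetherian P := LocallyOfFiniteType.isLocallyNoetherian p
  obtain ⟨D, _, _, _, lD, hDη, hDc⟩ := GrothLib.SubtrLim.exists_dvr_map hcq
  let Ω := AlgebraicClosure (FractionRing D)
  obtain ⟨V, hV, hloc⟩ := IsLocalRing.exists_factor_valuationRing (algebraMap D Ω)
  let θ : D →+* V := (algebraMap D Ω).codRestrict V.toSubring hV
  haveI : IsLocalHom θ := hloc
  have hDΩ : Function.Injective (algebraMap D Ω) := by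
    rw [IsScalarTower.algebraMap_eq D (FractionRing D) Ω]
    exact (algebraMap (FractionRing D) Ω).injective.comp (IsFractionRing.injective D _)
  have hθ : Function.Injective θ := fun a b h => hDΩ (congrArg Subtype.val h)
  let l : Spec (CommRingCat.of V) ⟶ P := Spec.map (CommRingCat.ofHom θ) ≫ lD
  have hlη : l (genericPoint (Spec (CommRingCat.of V))) = c := by
    rw [genericPoint_eq_bot_of_affine, Scheme.Hom.comp_apply]
    exact (congrArg lD (GrothLib.HTop.specMap_gen (R := CommRingCat.of D) (φ := CommRingCat.ofHom θ) hθ)).trans hDη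
  have hlc : l (IsLocalRing.closedPoint V) = q := by
    rw [Scheme.Hom.comp_apply]
    exact (congrArg lD (IsLocalRing.comap_closedPoint θ)).trans hDc
  have hy' : W.ι (p c) ⤳ y := ((hcq.map p.continuous).map W.ι.continuous).trans hq
  obtain ⟨B, hB, hqB, hBsub, hmem⟩ := exists_limit_set f j p hjp C V l
    (isPreconnected_preimage_of_fibre f C (h1 _ hy').2 _ (by rw [limit_point_over p V l, hlη]))
    (hlη.symm ▸ hc)
  rw [hlc] at hqB hBsub
  refine ⟨B, hB, hqB, hBsub, ?_⟩
  let uD := lD ≫ p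
  let ηD : Spec (CommRingCat.of D) := GrothLib.HTop.gen (CommRingCat.of D)
  let cD : Spec (CommRingCat.of D) := IsLocalRing.closedPoint D
  have hne : ηD ≠ cD := fun h => IsDiscreteValuationRing.not_a_field D (congrArg PrimeSpectrum.asIdeal h).symm
  have htwo : ∀ v : Spec (CommRingCat.of D), v = ηD ∨ v = cD := fun v => by
    by_cases hv : v.asIdeal = ⊥
    · exact Or.inl (PrimeSpectrum.ext hv)
    · exact Or.inr (PrimeSpectrum.ext (IsLocalRing.eq_maximalIdeal (Ideal.IsPrime.isMaximal v.isPrime hv)))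
  have hηopen : IsOpen ({ηD} : Set (Spec (CommRingCat.of D))) := by
    have h : IsClosed ({cD} : Set (Spec (CommRingCat.of D))) := IsLocalRing.isClosed_singleton_closedPoint D
    convert h.isOpen_compl using 1
    ext v
    exact ⟨fun hv => by rw [Set.mem_singleton_iff.mp hv]; exact hne,
      fun hv => (htwo v).resolve_right hv⟩
  haveI : IsProper (pullback.snd p uD) := MorphismProperty.pullback_snd p uD ‹_›
  haveI : CompactSpace ↥(pullback p uD) := QuasiCompact.compactSpace_of_compactSpace (pullback.snd p uD)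
  haveI : QuasiSeparatedSpace ↥(pullback p uD) := quasiSeparatedSpace_of_quasiSeparated (pullback.snd p uD)
  haveI : SpectralSpace ↥(pullback p uD) := {}
  let CD := pullback.fst p uD ⁻¹' compImage f W j C
  let SD := CD ∩ pullback.snd p uD ⁻¹' {ηD}
  have hSD : IsClosed[constructibleTopology ↥(pullback p uD)] SD :=
    GrothLib.Constr.isClosed_constructibleTopology_of_isConstructible
      (((pullback.fst p uD).isConstructible_preimage (isConstructible_compImage f j p hW hC)).inter
        (((pullback.snd p uD).isCompact_preimage (U := ⟨{ηD}, hηopen⟩) isCompact_singleton).isConstructible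
          (hηopen.preimage (pullback.snd p uD).continuous)))
  obtain ⟨a, ⟨haC, hac⟩, haS⟩ : ∃ a ∈ CD ∩ pullback.snd p uD ⁻¹' {cD}, a ∈ closure SD := by
    by_contra hnone
    push Not at hnone
    obtain ⟨m, hm, hmC⟩ := exists_map_pullback f j p hjp uD
    obtain ⟨V', hV', hV'E⟩ := h3 _ (uD ≫ W.ι) {cD} (by
      rintro _ rfl
      show (uD ≫ W.ι) cD ∈ f.base '' C
      rw [Scheme.Hom.comp_apply, show uD cD = p q by rw [Scheme.Hom.comp_apply]; exact congrArg p hDc]
      exact (h1 _ hq).1) ⟨m ⁻¹' (closure SD)ᶜ, isClosed_closure.isOpen_compl.preimage m.continuous, by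
      ext z
      refine and_congr_left fun hz => ?_
      have hzC := hmC C z hz
      show m z ∈ (closure SD)ᶜ ↔ pullback.snd f (uD ≫ W.ι) z = cD
      rcases htwo (pullback.snd f (uD ≫ W.ι) z) with h | h <;> rw [h]
      · exact iff_of_false (fun hz' => hz' (subset_closure ⟨hzC, (hm z).trans h⟩)) hne
      · exact iff_of_true (hnone _ ⟨hzC, (hm z).trans h⟩) rfl⟩
    have hηV : ηD ∈ V' ∩ (uD ≫ W.ι).base ⁻¹' (f.base '' C) := by
      refine ⟨(GrothLib.HTop.gen_specializes (R := CommRingCat.of D) cD).mem_open hV' (hV'E.ge rfl).1, ?_⟩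
      show (uD ≫ W.ι) ηD ∈ f.base '' C
      rw [Scheme.Hom.comp_apply, show uD ηD = p c by rw [Scheme.Hom.comp_apply]; exact congrArg p hDη]
      exact (h1 _ hy').1
    exact hne (hV'E.le hηV)
  obtain ⟨a', ⟨ha'C, ha'η⟩, ha'a⟩ := GrothLib.SpecSp.exists_specializes_of_mem_closure hSD haS
  letI : Algebra D V := θ.toAlgebra
  haveI : Module.IsTorsionFree D V := Module.isTorsionFree_iff_algebraMap_injective.mpr hθ
  haveI : Flat (Spec.map (CommRingCat.ofHom θ)) := (HasRingHomProperty.Spec_iff (P := @Flat)).mpr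
    (RingHom.flat_algebraMap_iff.mpr (inferInstance : Module.Flat D V))
  let π : pullback p (l ≫ p) ⟶ pullback p uD :=
    pullback.lift (pullback.fst _ _) (pullback.snd _ _ ≫ Spec.map (CommRingCat.ofHom θ))
      (by rw [pullback.condition, Category.assoc, Category.assoc])
  have sq : IsPullback π (pullback.snd p (l ≫ p)) (pullback.snd p uD) (Spec.map (CommRingCat.ofHom θ)) := by
    refine IsPullback.of_right ?_ (pullback.lift_snd _ _ _) (IsPullback.of_hasPullback p uD)
    rw [pullback.lift_fst, ← Category.assoc]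
    exact IsPullback.of_hasPullback p _
  haveI : Flat π := MorphismProperty.of_isPullback sq.flip ‹Flat (Spec.map (CommRingCat.ofHom θ))›
  obtain ⟨z, hzπ, hzc⟩ := Scheme.exists_preimage_of_isPullback sq a (IsLocalRing.closedPoint V)
    (hac.trans (IsLocalRing.comap_closedPoint θ).symm)
  obtain ⟨z', hz', hz'π⟩ := Flat.generalizingMap π (show a' ⤳ π z from hzπ ▸ ha'a)
  have hz'η : pullback.snd p (l ≫ p) z' = genericPoint (Spec (CommRingCat.of V)) := by
    rw [genericPoint_eq_bot_of_affine]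
    refine PrimeSpectrum.ext ?_
    show (pullback.snd p (l ≫ p) z').asIdeal = ⊥
    have hcomap : (pullback.snd p (l ≫ p) z').asIdeal.comap θ = ⊥ :=
      congrArg PrimeSpectrum.asIdeal (show Spec.map (CommRingCat.ofHom θ) (pullback.snd p (l ≫ p) z') = ηD by
        rw [← Scheme.Hom.comp_apply,
          show pullback.snd p (l ≫ p) ≫ Spec.map (CommRingCat.ofHom θ) = π ≫ pullback.snd p uD from sq.w.symm,
          Scheme.Hom.comp_apply, hz'π]
        exact ha'η)
    rw [eq_bot_iff]
    intro v hv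
    rw [Ideal.mem_bot]
    by_contra hv0
    haveI : Algebra.IsAlgebraic D Ω :=
      (IsFractionRing.comap_isAlgebraic_iff (K := FractionRing D)).mpr inferInstance
    letI : IsScalarTower D V Ω := IsScalarTower.of_algebraMap_eq fun _ => rfl
    have halg : IsAlgebraic D v :=
      (isAlgebraic_algebraMap_iff (A := Ω) Subtype.val_injective).mp (Algebra.IsAlgebraic.isAlgebraic _)
    obtain ⟨d, hd, hvd⟩ := halg.exists_nonzero_dvd (mem_nonZeroDivisors_of_ne_zero hv0)
    have : d ∈ (pullback.snd p (l ≫ p) z').asIdeal.comap θ :=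
      Ideal.mem_comap.mpr (Ideal.mem_of_dvd _ hvd hv)
    exact hd (by rwa [hcomap, Ideal.mem_bot] at this)
  have hfst : ∀ w, pullback.fst p (l ≫ p) w = pullback.fst p uD (π w) := fun w => by
    rw [← Scheme.Hom.comp_apply, pullback.lift_fst]
  refine ⟨_, hmem z z' hz' hzc hz'η ?_, ?_⟩
  · rw [hfst, hz'π]
    exact ha'C
  · rw [hfst, hzπ]
    exact haC

end GrothLib.Chev28
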