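import Groth.Agent.Lib.Chev28.SpecDim
import Groth.Agent.Lib.Chev28.FibreDims
import Groth.Agent.Lib.Equidim6.RelDim
import Groth.Agent.Lib.Equidim6.CondTOpen
import Groth.Agent.Lib.FibreDimAt6.GenericScheme
import Mathlib.Topology.Connected.Basic

/-!
Dimensions of connected components of fibres through a section (EGA IV 15.6).
-/

universe u

open CategoryTheory CategoryTheory.Limits AlgebraicGeometry TopologicalSpace Topology Set

noncomputable section

namespace GrothLib.Chev28

variable {X Y : Scheme.{u}}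

theorem fibClosure_eq_image (f : X ⟶ Y) (z : X) :
    closure {z} ∩ f ⁻¹' {f z} = (f.fiberι (f z)) '' closure {f.asFiber z} := by
  rw [(f.fiberι (f z)).isEmbedding.isInducing.closure_eq_preimage_closure_image, Set.image_singleton,
    Scheme.Hom.fiberι_asFiber, Set.image_preimage_eq_inter_range, Scheme.Hom.range_fiberι]

theorem isIrreducible_fibClosure (f : X ⟶ Y) (z : X) : IsIrreducible (closure {z} ∩ f ⁻¹' {f z}) := by
  rw [fibClosure_eq_image]
  exact isIrreducible_singleton.closure.image _ (f.fiberι (f z)).continuous.continuousOn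

theorem exists_dim_fibClosure (f : X ⟶ Y) [LocallyOfFiniteType f] (z : X) :
    ∃ d : ℕ, Dual3.resTrdeg f z = d ∧ topologicalKrullDim ↥(closure {z} ∩ f ⁻¹' {f z}) = (d : WithBot ℕ∞) := by
  obtain ⟨d, hd, hd'⟩ := GrothLib.Altitude.exists_trdeg_eq_dim_closure f z
  refine ⟨d, hd, ?_⟩
  rw [← hd', fibClosure_eq_image]
  exact (IsHomeomorph.topologicalKrullDim_eq _
    ((f.fiberι (f z)).isEmbedding.homeomorphImage (closure {f.asFiber z})).isHomeomorph).symm

theorem eq_of_specializes_of_le_resTrdeg (f : X ⟶ Y) [LocallyOfFiniteType f] {z z' : X} (h : z ⤳ z')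
    (hf : f z' = f z) {d d' : ℕ} (hd : Dual3.resTrdeg f z = d) (hd' : Dual3.resTrdeg f z' = d')
    (hle : d ≤ d') : z = z' := by
  haveI : LocallyOfFiniteType (f.fiberToSpecResidueField (f z)) := MorphismProperty.pullback_snd f _ inferInstance
  obtain ⟨a, ha, hadim⟩ := exists_dim_fibClosure f z
  obtain ⟨b, hb, hbdim⟩ := exists_dim_fibClosure f z'
  obtain rfl : a = d := by exact_mod_cast (ha.symm.trans hd :)
  obtain rfl : b = d' := by exact_mod_cast (hb.symm.trans hd' :)
  obtain ⟨w, hw⟩ := (f.range_fiberι (f z)).ge (show z' ∈ f ⁻¹' {f z} from hf)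
  have hsp : f.asFiber z ⤳ w := by
    rw [← (f.fiberι (f z)).isEmbedding.isInducing.specializes_iff, hw]
    exact (specializes_of_eq (f.fiberι_asFiber z)).trans h
  have hwdim : GrothLib.AffDom.ptDim w = (b : WithBot ℕ∞) := by
    rw [← hbdim]
    have : (f.fiberι (f z)) '' closure {w} = closure {z'} ∩ f ⁻¹' {f z'} := by
      rw [(f.fiberι (f z)).isEmbedding.isInducing.closure_eq_preimage_closure_image, Set.image_singleton,
        hw, Set.image_preimage_eq_inter_range, Scheme.Hom.range_fiberι, hf]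
    rw [← this]
    exact IsHomeomorph.topologicalKrullDim_eq _
      ((f.fiberι (f z)).isEmbedding.homeomorphImage (closure {w})).isHomeomorph
  have hzdim : GrothLib.AffDom.ptDim (f.asFiber z) = (a : WithBot ℕ∞) := by
    rw [← hadim, fibClosure_eq_image]
    exact IsHomeomorph.topologicalKrullDim_eq _
      ((f.fiberι (f z)).isEmbedding.homeomorphImage (closure {f.asFiber z})).isHomeomorph
  have := GrothLib.AffDom.eq_of_specializes_of_ptDim_le (K := Y.residueField (f z))
    (f.fiberToSpecResidueField (f z)) hsp (by rw [hzdim, hwdim]; exact_mod_cast hle)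
  rw [← hw, ← this, Scheme.Hom.fiberι_asFiber]

/-- A generization of a point gives, in the fibre of the point, a generization of it over which the
residue transcendence degree does not drop (EGA IV 13.1.3). -/
theorem exists_specializing_resTrdeg (f : X ⟶ Y) [LocallyOfFiniteType f] {ξ x : X} (h : ξ ⤳ x)
    {d : ℕ} (hd : Dual3.resTrdeg f ξ = d) :
    ∃ (z : X) (d' : ℕ), f z = f x ∧ ξ ⤳ z ∧ z ⤳ x ∧ Dual3.resTrdeg f z = d' ∧ d ≤ d' := by
  obtain ⟨Zs, ι, _, _, hrange, hgen⟩ := exists_integral_closure ξ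
  obtain ⟨w, rfl⟩ := hrange.ge h.mem_closure
  obtain ⟨w₀, hw₀, hw₀sp, hmax, hdim⟩ := GrothLib.Equidim6.exists_fibre_maximal (ι ≫ f) w
  obtain ⟨d', hd', hD'⟩ := GrothLib.Equidim6.fibreDimAt_eq_resTrdeg (ι ≫ f) w₀
    fun z hz => hmax z (hz.trans hw₀)
  obtain ⟨n, hn, hN⟩ := GrothLib.Equidim6.resTrdeg_eq_fibreDimAt_of_maximal (ι ≫ f) (genericPoint Zs)
    fun z hz => (hz.antisymm (genericPoint_specializes z)).eq
  have hle := GrothLib.Equidim6.generic_le_fibreDimAt (ι ≫ f) w
  rw [hN, hdim, hD'] at hle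
  have hres : ∀ z : Zs, Dual3.resTrdeg (ι ≫ f) z = Dual3.resTrdeg f (ι z) := fun z => by
    rw [GrothLib.AlgSp.resTrdeg_comp, GrothLib.AlgSp.resTrdeg_eq_zero_of_lqf ι, add_zero]
  rw [hres] at hd' hn
  rw [hgen, hd] at hn
  have hnd : d = n := by exact_mod_cast hn
  refine ⟨ι w₀, d', hw₀, hgen ▸ (genericPoint_specializes w₀).map ι.continuous, hw₀sp.map ι.continuous, hd', ?_⟩
  rw [hnd]
  exact_mod_cast hle

theorem fibClosure_subset_connectedComponentIn (f : X ⟶ Y) {z x : X} {y : Y} (hz : f z = y) (hx : f x = y)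
    (h : z ⤳ x) : closure {z} ∩ f ⁻¹' {y} ⊆ connectedComponentIn (f ⁻¹' {y}) x := by
  subst hz
  exact (isIrreducible_fibClosure f z).isConnected.isPreconnected.subset_connectedComponentIn
    ⟨h.mem_closure, hx⟩ inter_subset_right

/-- An irreducible subset of a fibre has a generic point in the fibre. -/
theorem exists_generic_in_fibre (f : X ⟶ Y) {y : Y} {S : Set X} (hS : IsIrreducible S)
    (hSy : S ⊆ f ⁻¹' {y}) : ∃ ξ : X, f ξ = y ∧ closure S = closure {ξ} := by
  have hg := hS.isGenericPoint_genericPoint_closure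
  refine ⟨hS.genericPoint, ?_, hg.def.symm⟩
  obtain ⟨s, hs⟩ := hS.nonempty
  have h1 : f hS.genericPoint ⤳ y := (hSy hs : f s = y) ▸ (hg.specializes (subset_closure hs)).map f.continuous
  have h2 : y ⤳ f hS.genericPoint := by
    rw [specializes_iff_mem_closure]
    exact map_mem_closure f.continuous hg.mem fun a ha => (hSy ha : f a = y)
  exact (h1.antisymm h2).eq

/-- An irreducible component of a fibre is the trace of the closure of its generic point. -/
theorem component_eq_fibClosure (f : X ⟶ Y) {y : Y} {Z : Set X} (hZy : Z ⊆ f ⁻¹' {y}) (hZ : IsIrreducible Z)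
    (hmax : ∀ Z' : Set X, IsIrreducible Z' → Z' ⊆ f ⁻¹' {y} → Z ⊆ Z' → Z' = Z) :
    ∃ ξ : X, f ξ = y ∧ Z = closure {ξ} ∩ f ⁻¹' {y} := by
  obtain ⟨ξ, hξ, hcl⟩ := exists_generic_in_fibre f hZ hZy
  subst hξ
  exact ⟨ξ, rfl, (hmax _ (isIrreducible_fibClosure f ξ) inter_subset_right
    (subset_inter (hcl ▸ subset_closure) hZy)).symm⟩

/-- A connected component of a fibre which is irreducible is the trace of the closure of a point. -/
theorem sectComp_eq_fibClosure (f : X ⟶ Y) {y : Y} {x : X}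
    (hirr : IsIrreducible (connectedComponentIn (f ⁻¹' {y}) x)) :
    ∃ ξ : X, f ξ = y ∧ connectedComponentIn (f ⁻¹' {y}) x = closure {ξ} ∩ f ⁻¹' {y} :=
  component_eq_fibClosure f (connectedComponentIn_subset _ _) hirr fun Z' hZ' hy hle =>
    Set.Subset.antisymm (hZ'.isConnected.isPreconnected.subset_connectedComponentIn
      (hle (mem_connectedComponentIn (by
        by_contra hx
        exact hirr.nonempty.ne_empty (connectedComponentIn_eq_empty hx)))) hy) hle

theorem dim_le_of_subset {T : Type*} [TopologicalSpace T] {s t : Set T} (h : s ⊆ t) :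
    topologicalKrullDim ↥s ≤ topologicalKrullDim ↥t :=
  (IsEmbedding.inclusion h).isInducing.topologicalKrullDim_le

/-- Fibre dimension along a section with irreducible components. -/
theorem fibreDimAt_eq_dim_sectComp (f : X ⟶ Y) [LocallyOfFiniteType f] {y : Y} {x : X} (hx : f x = y)
    (hirr : IsIrreducible (connectedComponentIn (f ⁻¹' {y}) x)) :
    FlatMor.fibreDimAt f x = topologicalKrullDim ↥(connectedComponentIn (f ⁻¹' {y}) x) := by
  obtain ⟨ξ, hξ, hC⟩ := sectComp_eq_fibClosure f hirr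
  subst hx
  obtain ⟨z, hz, hzx, hmax, hdim⟩ := GrothLib.Equidim6.exists_fibre_maximal f x
  obtain ⟨n, hn, hN⟩ := GrothLib.Equidim6.fibreDimAt_eq_resTrdeg f z fun t ht => hmax t (ht.trans hz)
  have hzC : z ∈ connectedComponentIn (f ⁻¹' {f x}) x :=
    fibClosure_subset_connectedComponentIn f hz rfl hzx ⟨subset_closure rfl, hz⟩
  rw [hC] at hzC ⊢
  obtain rfl : ξ = z := hmax ξ hξ (specializes_iff_mem_closure.2 hzC.1)
  obtain ⟨d, hd, hd'⟩ := exists_dim_fibClosure f ξ
  rw [hdim, hN, show n = d by exact_mod_cast (hn.symm.trans hd :), ← hd', hξ]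

/-- EGA IV 15.6.1. -/
theorem dim_sectComp_ge (f : X ⟶ Y) [LocallyOfFiniteType f] (g : Y ⟶ X) (hg : g ≫ f = 𝟙 Y) {y y' : Y}
    (hy : y' ⤳ y) {ξ : X} (hξ : f ξ = y') (hgy' : ξ ⤳ g y')
    (hdim : topologicalKrullDim ↥(closure {ξ} ∩ f ⁻¹' {y'}) =
      topologicalKrullDim ↥(connectedComponentIn (f ⁻¹' {y'}) (g y'))) :
    topologicalKrullDim ↥(connectedComponentIn (f ⁻¹' {y'}) (g y')) ≤
        topologicalKrullDim ↥(connectedComponentIn (f ⁻¹' {y}) (g y)) ∧
      (IsIrreducible (connectedComponentIn (f ⁻¹' {y}) (g y)) →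
        topologicalKrullDim ↥(connectedComponentIn (f ⁻¹' {y}) (g y)) =
          topologicalKrullDim ↥(connectedComponentIn (f ⁻¹' {y'}) (g y')) →
        connectedComponentIn (f ⁻¹' {y}) (g y) ⊆ closure (connectedComponentIn (f ⁻¹' {y'}) (g y'))) := by
  have hfg : ∀ t, f (g t) = t := fun t => congrArg (fun m : Y ⟶ Y => m.base t) hg
  subst hξ
  obtain ⟨d, hd, hd'⟩ := exists_dim_fibClosure f ξ
  obtain ⟨z, d', hz, hξz, hzx, hdz, hle⟩ :=
    exists_specializing_resTrdeg f (hgy'.trans (hy.map g.continuous)) hd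
  rw [hfg] at hz
  subst hz
  obtain ⟨d'', hd1, hd2⟩ := exists_dim_fibClosure f z
  obtain rfl : d' = d'' := by exact_mod_cast (hdz.symm.trans hd1 :)
  have hsub := fibClosure_subset_connectedComponentIn f rfl (hfg (f z)) hzx
  constructor
  · rw [← hdim, hd']
    refine le_trans ?_ (dim_le_of_subset hsub)
    rw [hd2]
    exact_mod_cast hle
  · intro hirr heq
    obtain ⟨ξ₀, hξ₀, hC⟩ := sectComp_eq_fibClosure f hirr
    obtain ⟨e, he, he'⟩ := exists_dim_fibClosure f ξ₀
    rw [hC, ← hdim, hd'] at heq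
    rw [hξ₀] at he'
    rw [he'] at heq
    have hed : e = d := by exact_mod_cast heq
    have hzC : z ∈ connectedComponentIn (f ⁻¹' {f z}) (g (f z)) := hsub ⟨subset_closure rfl, rfl⟩
    rw [hC] at hzC ⊢
    obtain rfl : ξ₀ = z :=
      eq_of_specializes_of_le_resTrdeg f (specializes_iff_mem_closure.2 hzC.1) hξ₀.symm he hdz (hed ▸ hle)
    refine fun t ht => closure_minimal ?_ isClosed_closure
      (closure_minimal (Set.singleton_subset_iff.2 hξz.mem_closure) isClosed_closure ht.1)
    rintro _ rfl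
    exact subset_closure (fibClosure_subset_connectedComponentIn f rfl (hfg _) hgy' ⟨subset_closure rfl, rfl⟩)

end GrothLib.Chev28
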