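import Groth.Agent.Lib.Chev28.PropLimits
import Groth.Agent.Lib.Chev28.SectComp
import Groth.Agent.Lib.Chev28.ConnOpen
import Groth.Agent.Lib.SecComp6.Smooth
import Mathlib.AlgebraicGeometry.Morphisms.SmoothFiber

/-!
EGA IV 15.7: properness near a proper fibre component.
-/

universe u

open CategoryTheory CategoryTheory.Limits AlgebraicGeometry TopologicalSpace Topology IsLocalRing

noncomputable section

namespace GrothLib.Chev28

variable {X Y : Scheme.{u}}

theorem isProper_opens_congr {Z T : Scheme.{u}} {O O' : Z.Opens} (h : O = O') (q : Z ⟶ T)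
    (hp : IsProper (O.ι ≫ q)) : IsProper (O'.ι ≫ q) := h ▸ hp

theorem preimage_sectionComponents_fibre (f : X ⟶ Y) (g : Y ⟶ X) (y : Y) :
    (f.fiberι y).base ⁻¹' MoreMor.sectionComponents f g =
      (f.fiberι y).base ⁻¹' connectedComponentIn (f.base ⁻¹' {y}) (g.base y) := by
  ext w
  show f.fiberι y w ∈ connectedComponentIn (f ⁻¹' {f (f.fiberι y w)}) (g (f (f.fiberι y w))) ↔ _
  rw [GrothLib.FibreFlat.fiberι_comp_apply f y w]
  exact Iff.rfl

/-- EGA IV 15.7.11: properness of the section components near a point with proper component. -/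
theorem sectionComponents_proper_at (f : X ⟶ Y) [IsSeparated f] [LocallyOfFinitePresentation f] [QuasiCompact f]
    (g : Y ⟶ X) (hg : g ≫ f = 𝟙 Y) (y : Y)
    (hop : IsOpen ((f.fiberι y).base ⁻¹' connectedComponentIn (f.base ⁻¹' {y}) (g.base y)))
    (hprop : IsProper (Scheme.Opens.ι (⟨(f.fiberι y).base ⁻¹' connectedComponentIn (f.base ⁻¹' {y}) (g.base y), hop⟩ : (f.fiber y).Opens) ≫
      f.fiberToSpecResidueField y)) :
    ∃ U : Y.Opens, y ∈ U ∧ ∃ hC : IsClosed ((f ⁻¹ᵁ U).ι.base ⁻¹' MoreMor.sectionComponents f g),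
      IsProper ((Scheme.IdealSheafData.vanishingIdeal
        (⟨(f ⁻¹ᵁ U).ι.base ⁻¹' MoreMor.sectionComponents f g, hC⟩ : TopologicalSpace.Closeds ↥(f ⁻¹ᵁ U))).subschemeι ≫
        (f ∣_ U)) :=
  exists_nhd_isProper_of_limits f _ (GrothLib.SecComp6.isLocallyConstructible_sectionComponents f g hg) y
    (preimage_sectionComponents_fibre f g y ▸ hop)
    (isProper_opens_congr (Opens.ext (preimage_sectionComponents_fibre f g y).symm) _ hprop)
    (fun x hx _ z hz => by
      have hzx : f z = f x := connectedComponentIn_subset (f ⁻¹' {f x}) x hz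
      show z ∈ connectedComponentIn (f ⁻¹' {f z}) (g (f z))
      rw [hzx, connectedComponentIn_eq (show x ∈ connectedComponentIn (f ⁻¹' {f x}) (g (f x)) from hx)]
      exact hz)
    (fun W _ _ P j p _ _ _ hjp c hc q hcq _ _ => exists_limits_section f j p g hg hjp c hc q hcq)

/-- EGA IV 15.7.11: the dimension of the components of a section at generizations of a point with proper
component. -/
theorem dim_sectComp_le_of_proper (f : X ⟶ Y) [IsSeparated f] [LocallyOfFinitePresentation f] [QuasiCompact f]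
    (g : Y ⟶ X) (hg : g ≫ f = 𝟙 Y) (y : Y)
    (hop : IsOpen ((f.fiberι y).base ⁻¹' connectedComponentIn (f.base ⁻¹' {y}) (g.base y)))
    (hprop : IsProper (Scheme.Opens.ι (⟨(f.fiberι y).base ⁻¹' connectedComponentIn (f.base ⁻¹' {y}) (g.base y), hop⟩ : (f.fiber y).Opens) ≫
      f.fiberToSpecResidueField y)) {y' : Y} (hy' : y' ⤳ y) :
    topologicalKrullDim ↥(connectedComponentIn (f.base ⁻¹' {y'}) (g.base y')) ≤
      topologicalKrullDim ↥(connectedComponentIn (f.base ⁻¹' {y}) (g.base y)) := by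
  obtain ⟨U, hyU, hC, hP⟩ := sectionComponents_proper_at f g hg y hop hprop
  let I := Scheme.IdealSheafData.vanishingIdeal (X := (f ⁻¹ᵁ U).toScheme)
    (⟨(f ⁻¹ᵁ U).ι.base ⁻¹' MoreMor.sectionComponents f g, hC⟩ : TopologicalSpace.Closeds ↥(f ⁻¹ᵁ U))
  let q := I.subschemeι ≫ (f ∣_ U)
  have hrange : Set.range I.subschemeι = (f ⁻¹ᵁ U).ι.base ⁻¹' MoreMor.sectionComponents f g :=
    I.range_subschemeι.trans (Scheme.IdealSheafData.coe_support_vanishingIdeal _)
  have hq : ∀ w, U.ι (q w) = f ((f ⁻¹ᵁ U).ι (I.subschemeι w)) := fun w => by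
    rw [← Scheme.Hom.comp_apply, Category.assoc, morphismRestrict_ι, Scheme.Hom.comp_apply, Scheme.Hom.comp_apply]
  have key : ∀ x ∈ connectedComponentIn (f ⁻¹' {y'}) (g y'),
      topologicalKrullDim ↥(closure {x} ∩ f ⁻¹' {f x}) ≤
        topologicalKrullDim ↥(connectedComponentIn (f ⁻¹' {y}) (g y)) := by
    intro x hx
    have hfx : f x = y' := connectedComponentIn_subset (f ⁻¹' {y'}) _ hx
    have hxU : x ∈ f ⁻¹ᵁ U := show f x ∈ U from hfx ▸ hy'.mem_open U.isOpen hyU
    obtain ⟨w, hw⟩ := hrange.ge (show (⟨x, hxU⟩ : (f ⁻¹ᵁ U).toScheme) ∈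
      (f ⁻¹ᵁ U).ι.base ⁻¹' MoreMor.sectionComponents f g from
      show x ∈ connectedComponentIn (f ⁻¹' {f x}) (g (f x)) from hfx.symm ▸ hx)
    have hwy : q w ⤳ ⟨y, hyU⟩ := U.ι.isEmbedding.isInducing.specializes_iff.mp (by
      rw [hq, hw]
      exact (specializes_of_eq hfx).trans hy')
    haveI : IsProper q := hP
    obtain ⟨r, hr, hry⟩ := hwy.mem_closed (q.isClosedMap _ (isClosed_closure (s := {w})))
      ⟨w, subset_closure rfl, rfl⟩
    let r' := (f ⁻¹ᵁ U).ι (I.subschemeι r)
    have hxr : x ⤳ r' := by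
      have h := ((specializes_iff_mem_closure.mpr hr).map I.subschemeι.continuous).map (f ⁻¹ᵁ U).ι.continuous
      rwa [hw] at h
    have hfr : f r' = y := by rw [← hq, hry]; rfl
    have hrC : r' ∈ connectedComponentIn (f ⁻¹' {y}) (g y) := by
      have h : r' ∈ MoreMor.sectionComponents f g := hrange.le ⟨r, rfl⟩
      change r' ∈ connectedComponentIn (f ⁻¹' {f r'}) (g (f r')) at h
      rwa [hfr] at h
    obtain ⟨d, hd, hd'⟩ := exists_dim_fibClosure f x
    obtain ⟨z, d', hz, -, hzr, hdz, hle⟩ := exists_specializing_resTrdeg f hxr hd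
    obtain ⟨d'', hd1, hd2⟩ := exists_dim_fibClosure f z
    obtain rfl : d' = d'' := by exact_mod_cast (hdz.symm.trans hd1 :)
    rw [hd']
    refine le_trans (le_of_le_of_eq (by exact_mod_cast hle) hd2.symm) (dim_le_of_subset ?_)
    rw [hz, hfr, connectedComponentIn_eq hrC]
    exact fibClosure_subset_connectedComponentIn f (hz.trans hfr) hfr hzr
  obtain ⟨a, ha⟩ := (f.range_fiberι y').ge
    (show f (g y') = y' from congrArg (fun m : Y ⟶ Y => m y') hg)
  have hemb := (f.fiberι y').isEmbedding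
  show topologicalKrullDim ↥(connectedComponentIn (f ⁻¹' {y'}) (g y')) ≤ _
  rw [← ha, ← f.range_fiberι y', GrothLib.SecComp6.connectedComponentIn_range hemb,
    ← IsHomeomorph.topologicalKrullDim_eq _ (hemb.homeomorphImage (connectedComponent a)).isHomeomorph]
  haveI : QuasiSober ↥(connectedComponent a : Set ↥(f.fiber y')) :=
    isClosed_connectedComponent.isClosedEmbedding_subtypeVal.quasiSober
  rw [GrothLib.AffDom.topologicalKrullDim_eq_iSup]
  refine iSup_le fun b => ?_
  have hbC : f.fiberι y' b.1 ∈ connectedComponentIn (f ⁻¹' {y'}) (g y') := by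
    rw [← ha, ← f.range_fiberι y', GrothLib.SecComp6.connectedComponentIn_range hemb]
    exact Set.mem_image_of_mem _ b.2
  refine le_trans ?_ (key _ hbC)
  have hmaps : Set.MapsTo (fun t : ↥(connectedComponent a : Set ↥(f.fiber y')) => f.fiberι y' t.1)
      (closure {b}) (closure {f.fiberι y' b.1} ∩ f ⁻¹' {f (f.fiberι y' b.1)}) := fun t ht => by
    refine ⟨?_, ?_⟩
    · have h1 := map_mem_closure ((f.fiberι y').continuous.comp continuous_subtype_val) ht
        (t := {f.fiberι y' b.1}) (fun s hs => by rw [Set.mem_singleton_iff.mp hs]; rfl)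
      exact h1
    · show f (f.fiberι y' t.1) = f (f.fiberι y' b.1)
      rw [GrothLib.FibreFlat.fiberι_comp_apply, GrothLib.FibreFlat.fiberι_comp_apply]
  refine IsInducing.topologicalKrullDim_le (f := hmaps.restrict _ _ _) ?_
  exact IsInducing.of_comp (((f.fiberι y').continuous.comp continuous_subtype_val).restrict hmaps)
    continuous_subtype_val ((hemb.comp IsEmbedding.subtypeVal).isInducing.comp IsInducing.subtypeVal)

/-- EGA IV 15.7.10: properness near a point of a locally constructible family of components. -/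
theorem proper_at_of_components [IsLocallyNoetherian Y] (y : Y) (f : X ⟶ Y) [IsSeparated f] [LocallyOfFiniteType f]
    [QuasiCompact f] (Z : Set X) (hZ : IsLocallyConstructible Z)
    (h1 : ∀ y' : Y, y' ⤳ y → (∃ x ∈ Z, f.base x = y' ∧ Z ∩ f.base ⁻¹' {y'} = connectedComponentIn (f.base ⁻¹' {y'}) x) ∧
      ∀ (K : Type u) [Field K] [Algebra (IsLocalRing.ResidueField (Y.presheaf.stalk y')) K],
        _root_.IsPreconnected ((FBase.bcπ (f.fiberToSpecResidueField y') K ≫ f.fiberι y').base ⁻¹' Z))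
    (hop : IsOpen ((f.fiberι y).base ⁻¹' Z))
    (h2 : IsProper (Scheme.Opens.ι (⟨(f.fiberι y).base ⁻¹' Z, hop⟩ : (f.fiber y).Opens) ≫ f.fiberToSpecResidueField y))
    (h3 : ∀ (Y' : Scheme.{u}) (h : Y' ⟶ Y) (E : Set Y'), E ⊆ h.base ⁻¹' (f.base '' Z) →
      (∃ W : Set ↥(pullback f h), IsOpen W ∧
        W ∩ (pullback.fst f h).base ⁻¹' Z = (pullback.snd f h).base ⁻¹' E ∩ (pullback.fst f h).base ⁻¹' Z) →
      ∃ V : Set Y', IsOpen V ∧ V ∩ h.base ⁻¹' (f.base '' Z) = E) :
    ∃ U : Y.Opens, y ∈ U ∧ ∃ hC : IsClosed ((f ⁻¹ᵁ U).ι.base ⁻¹' Z),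
      IsProper ((Scheme.IdealSheafData.vanishingIdeal
        (⟨(f ⁻¹ᵁ U).ι.base ⁻¹' Z, hC⟩ : TopologicalSpace.Closeds ↥(f ⁻¹ᵁ U))).subschemeι ≫ (f ∣_ U)) :=
  exists_nhd_isProper_of_limits f Z hZ y hop h2
    (fun x hx hxy z hz => by
      obtain ⟨⟨x₀, -, -, heq⟩, -⟩ := h1 (f x) hxy
      have hx₀ : x ∈ connectedComponentIn (f ⁻¹' {f x}) x₀ := heq.le ⟨hx, rfl⟩
      rw [← connectedComponentIn_eq hx₀] at hz
      exact (heq.ge hz).1)
    (fun W hW _ P j p _ _ _ hjp c hc q hcq hq _ => exists_limits_submersive f j p hjp hW Z hZ y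
      (fun y' hy' => ⟨(by obtain ⟨⟨x, hx, hxy, -⟩, -⟩ := h1 y' hy'; exact ⟨x, hx, hxy⟩), (h1 y' hy').2⟩)
      h3 c hc q hcq hq)

theorem isProper_restrict_of_univ (f : X ⟶ Y) [IsSeparated f] [LocallyOfFiniteType f] [QuasiCompact f] {U : Y.Opens}
    {hC : IsClosed ((f ⁻¹ᵁ U).ι.base ⁻¹' (Set.univ : Set X))}
    (h : IsProper ((Scheme.IdealSheafData.vanishingIdeal
        (⟨(f ⁻¹ᵁ U).ι.base ⁻¹' (Set.univ : Set X), hC⟩ : TopologicalSpace.Closeds ↥(f ⁻¹ᵁ U))).subschemeι ≫ (f ∣_ U))) :
    IsProper (f ∣_ U) := by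
  let I := Scheme.IdealSheafData.vanishingIdeal (X := (f ⁻¹ᵁ U).toScheme)
    (⟨(f ⁻¹ᵁ U).ι.base ⁻¹' (Set.univ : Set X), hC⟩ : TopologicalSpace.Closeds ↥(f ⁻¹ᵁ U))
  haveI : Surjective I.subschemeι := ⟨fun w => (I.range_subschemeι.trans
    (Scheme.IdealSheafData.coe_support_vanishingIdeal _)).ge (Set.mem_univ _)⟩
  haveI : IsProper (I.subschemeι ≫ (f ∣_ U)) := h
  haveI : UniversallyClosed (f ∣_ U) := UniversallyClosed.of_comp_surjective I.subschemeι _
  haveI : LocallyOfFiniteType (f ∣_ U) := IsZariskiLocalAtTarget.restrict ‹_› U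
  exact ⟨⟩

theorem isProper_univ_opens (f : X ⟶ Y) (y : Y) (h : IsProper (f.fiberToSpecResidueField y))
    (hop : IsOpen ((f.fiberι y).base ⁻¹' (Set.univ : Set X))) :
    IsProper (Scheme.Opens.ι (⟨(f.fiberι y).base ⁻¹' (Set.univ : Set X), hop⟩ : (f.fiber y).Opens) ≫
      f.fiberToSpecResidueField y) := by
  refine isProper_opens_congr (O := ⊤) (Opens.ext (Set.preimage_univ (f := ⇑(f.fiberι y))).symm) _ ?_
  haveI := h
  haveI : IsIso (⊤ : (f.fiber y).Opens).ι := (f.fiber y).topIso.isIso_hom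
  infer_instance

/-- EGA IV 15.7.10: properness near a proper fibre of a flat morphism with geometrically connected generic
fibres. -/
theorem isProper_nhd_of_flat (f : X ⟶ Y) [Flat f] [IsSeparated f] [LocallyOfFiniteType f] [QuasiCompact f]
    (hgen : ∀ η : Y, (∀ η' : Y, η' ⤳ η → η' = η) → Nonempty ↥(f.fiber η) →
      GeometricallyConnected (f.fiberToSpecResidueField η))
    (s : Y) [Nonempty ↥(f.fiber s)] (hs : IsProper (f.fiberToSpecResidueField s)) :
    ∃ U : Y.Opens, s ∈ U ∧ IsProper (f ∣_ U) := by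
  obtain ⟨U, hU, hC, hP⟩ := exists_nhd_isProper_of_limits f (Set.univ : Set X)
    IsConstructible.univ.isLocallyConstructible s (isOpen_univ.preimage (f.fiberι s).continuous)
    (isProper_univ_opens f s hs _) (fun _ _ _ => Set.subset_univ _)
    (fun W _ _ P j p _ _ _ hjp c hc q hcq _ hor => exists_limits_flat f j p hjp s hgen c hc q hcq hor)
  exact ⟨U, hU, isProper_restrict_of_univ f hP⟩

/-- EGA IV 15.7.11: properness near a proper fibre of a universally submersive morphism with geometrically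
connected fibres. -/
theorem isProper_nhd_of_submersive [IsLocallyNoetherian Y] (f : X ⟶ Y)
    [IsSeparated f] [LocallyOfFiniteType f] [QuasiCompact f]
    (hsub : MorphismProperty.universally (topologically fun g => Topology.IsQuotientMap g) f)
    (hconn : ∀ y : Y, GeometricallyConnected (f.fiberToSpecResidueField y))
    (y : Y) (hy : IsProper (f.fiberToSpecResidueField y)) :
    ∃ U : Y.Opens, y ∈ U ∧ IsProper (f ∣_ U) := by
  have hfib : ∀ z : Y, ConnectedSpace ↥(f.fiber z) := fun z => by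
    haveI := hconn z
    haveI : Subsingleton ↥(Spec (Y.residueField z)) := inferInstanceAs (Subsingleton (PrimeSpectrum _))
    haveI : Nonempty ↥(Spec (Y.residueField z)) := inferInstanceAs (Nonempty (PrimeSpectrum _))
    exact GeometricallyConnected.connectedSpace_of_subsingleton (f.fiberToSpecResidueField z)
  have hsurj : ∀ z : Y, z ∈ f.base '' (Set.univ : Set X) := fun z => by
    haveI := hfib z
    obtain ⟨w⟩ := (inferInstance : Nonempty ↥(f.fiber z))
    exact ⟨f.fiberι z w, trivial, GrothLib.FibreFlat.fiberι_comp_apply f z w⟩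
  obtain ⟨U, hU, hC, hP⟩ := proper_at_of_components y f (Set.univ : Set X)
    IsConstructible.univ.isLocallyConstructible (fun y' _ => ⟨by
      obtain ⟨x, -, hx⟩ := hsurj y'
      refine ⟨x, trivial, hx, ?_⟩
      rw [Set.univ_inter]
      refine Set.Subset.antisymm (IsPreconnected.subset_connectedComponentIn ?_ hx subset_rfl)
        (connectedComponentIn_subset _ _)
      haveI := hfib y'
      show _root_.IsPreconnected (f ⁻¹' {y'})
      rw [← f.range_fiberι y']
      exact isPreconnected_range (f.fiberι y').continuous,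
      fun K _ _ => by
        rw [Set.preimage_univ]
        haveI : ConnectedSpace ↥(FBase.bc (f.fiberToSpecResidueField y') K) :=
          (hconn y').geometrically_connectedSpace _ _ _ (IsPullback.of_hasPullback _ _)
        exact isPreconnected_univ⟩)
    (isOpen_univ.preimage (f.fiberι y).continuous) (isProper_univ_opens f y hy _)
    (fun Y' h E _ ⟨W, hW, hWE⟩ => by
      rw [Set.preimage_univ, Set.inter_univ, Set.inter_univ] at hWE
      have hq : Topology.IsQuotientMap (pullback.snd f h).base :=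
        hsub _ _ _ (IsPullback.of_hasPullback f h).flip
      refine ⟨E, hq.isOpen_preimage.mp (hWE ▸ hW), Set.inter_eq_left.mpr fun z _ => hsurj (h z)⟩)
  exact ⟨U, hU, isProper_restrict_of_univ f hP⟩

/-- EGA IV 15.7.12: fibrewise smooth and proper with geometrically connected generic fibres. -/
theorem isProper_smooth_of_fibres [IsLocallyNoetherian Y] (f : X ⟶ Y) [Surjective f] [Flat f] [IsSeparated f]
    [LocallyOfFinitePresentation f] [QuasiCompact f]
    (hsm : ∀ s : Y, Smooth (f.fiberToSpecResidueField s))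
    (hpr : ∀ s : Y, IsProper (f.fiberToSpecResidueField s))
    (hgen : ∀ η : Y, (∀ η' : Y, η' ⤳ η → η' = η) → GeometricallyConnected (f.fiberToSpecResidueField η)) :
    IsProper f ∧ Smooth f ∧ GeometricallyConnected f := by
  have hne : ∀ s : Y, Nonempty ↥(f.fiber s) := fun s => by
    obtain ⟨x, rfl⟩ := f.surjective s
    exact ⟨f.asFiber x⟩
  have hloc : ∀ s : Y, ∃ U : Y.Opens, s ∈ U ∧ IsProper (f ∣_ U) := fun s =>
    haveI := hne s
    isProper_nhd_of_flat f (fun η hη _ => hgen η hη) s (hpr s)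
  choose U hU hP using hloc
  haveI hproper : IsProper f := IsZariskiLocalAtTarget.of_iSup_eq_top (P := @IsProper) U
    (top_unique fun s _ => Opens.mem_iSup.mpr ⟨s, hU s⟩) hP
  refine ⟨hproper, Smooth.of_smooth_fiberToSpecResidueField f hsm, ?_⟩
  rw [GrothLib.GeomComp6.geometricallyConnected_iff_count]
  intro y
  obtain ⟨η, hη⟩ : ∃ η, IsGenericPoint η (irreducibleComponent y) :=
    QuasiSober.sober isIrreducible_irreducibleComponent isClosed_irreducibleComponent
  have hmax : ∀ η' : Y, η' ⤳ η → η' = η := fun η' h => by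
    have h2 : closure {η'} ⊆ irreducibleComponent y :=
      (eq_irreducibleComponent isIrreducible_singleton.closure.isPreirreducible (by
        rw [← hη.def]
        exact closure_minimal (Set.singleton_subset_iff.mpr h.mem_closure) isClosed_closure)).le
    exact ((hη.specializes (h2 (subset_closure rfl))).antisymm h).eq.symm
  haveI := hsm y
  have hred : GeometricallyReduced (f.fiberToSpecResidueField y) :=
    GrothLib.SecComp6.geometricallyReduced_of_smooth _
  rw [((nGeomConnComp_of_specializes f (hη.specializes mem_irreducibleComponent)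
    fun x _ => isUnivOpenAt_of_flat f x).2 hred).1]
  have h1 := (GrothLib.GeomComp6.geometricallyConnected_iff_count _).mp (hgen η hmax)
    (IsLocalRing.closedPoint (Y.residueField η))
  refine Eq.trans ?_ h1
  have h2 := congrArg Prod.snd (GrothLib.GeomComp6.count_baseChange f (f.fiberToSpecResidueField η) (f.fiberι η)
      (Y.fromSpecResidueField η) (IsPullback.of_hasPullback _ _) (IsLocalRing.closedPoint (Y.residueField η)))
  rw [Y.fromSpecResidueField_apply] at h2
  exact h2.symm

end GrothLib.Chev28
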