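import Groth.Agent.Lib.Nagata6.Absolute
import Groth.Agent.Lib.DVRDom.Scheme
import Groth.Agent.Lib.AlgSp.CodimOneQF
import Mathlib.AlgebraicGeometry.ValuativeCriterion
import Mathlib.AlgebraicGeometry.IdealSheaf.Subscheme

/-!
Properness near a point of the base from lifts of discrete valuation rings (EGA IV 15.7).
-/

universe u

open CategoryTheory CategoryTheory.Limits AlgebraicGeometry TopologicalSpace IsLocalRing Topology

noncomputable section

namespace GrothLib.Chev28

variable {X Y : Scheme.{u}}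

/-- A point with values in a field factors through any preimmersion containing its image. -/
theorem exists_lift_of_isPreimmersion {P Q : Scheme.{u}} (c : P ⟶ Q) [IsPreimmersion c]
    {K : Type u} [Field K] (σ : Spec (.of K) ⟶ Q) (h : σ.base (closedPoint K) ∈ Set.range c.base) :
    ∃ σ' : Spec (.of K) ⟶ P, σ' ≫ c = σ := by
  obtain ⟨p, hp⟩ := h
  have hσ : ∃ θ : Q.residueField (σ.base (closedPoint K)) ⟶ .of K,
      Spec.map θ ≫ Q.fromSpecResidueField _ = σ :=
    ⟨_, Q.descResidueField_stalkClosedPointTo_fromSpecResidueField K σ⟩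
  rw [← hp] at hσ
  obtain ⟨θ, hθ⟩ := hσ
  have hb : Function.Bijective (c.residueFieldMap p).hom := by
    refine ⟨RingHom.injective _, fun z => ?_⟩
    obtain ⟨s, rfl⟩ := P.residue_surjective p z
    obtain ⟨t, rfl⟩ := c.stalkMap_surjective p s
    exact ⟨Q.residue _ t, rfl⟩
  haveI : IsIso (c.residueFieldMap p) := (ConcreteCategory.isIso_iff_bijective _).2 hb
  refine ⟨Spec.map (inv (c.residueFieldMap p) ≫ θ) ≫ P.fromSpecResidueField p, ?_⟩
  rw [Category.assoc, ← Scheme.Hom.SpecMap_residueFieldMap_fromSpecResidueField,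
    ← Spec.map_comp_assoc, IsIso.hom_inv_id_assoc, hθ]

/-- Two points with values in a field at the same point, over which the residue field extension is
trivial, agree as soon as they agree below. -/
theorem eq_of_surjective_residueFieldMap {P Q : Scheme.{u}} (π : P ⟶ Q) {K : Type u} [Field K]
    (σ τ : Spec (.of K) ⟶ P) (hp : σ.base (closedPoint K) = τ.base (closedPoint K))
    (hs : Function.Surjective (π.residueFieldMap (σ.base (closedPoint K))).hom)
    (h : σ ≫ π = τ ≫ π) : σ = τ := by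
  have h1 : ∃ θ : P.residueField (σ.base (closedPoint K)) ⟶ .of K,
      Spec.map θ ≫ P.fromSpecResidueField _ = σ :=
    ⟨_, P.descResidueField_stalkClosedPointTo_fromSpecResidueField K σ⟩
  have h2 : ∃ θ : P.residueField (σ.base (closedPoint K)) ⟶ .of K,
      Spec.map θ ≫ P.fromSpecResidueField _ = τ := by
    rw [hp]
    exact ⟨_, P.descResidueField_stalkClosedPointTo_fromSpecResidueField K τ⟩
  obtain ⟨θ₁, hθ₁⟩ := h1
  obtain ⟨θ₂, hθ₂⟩ := h2
  rw [← hθ₁, ← hθ₂, Category.assoc, Category.assoc,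
    ← Scheme.Hom.SpecMap_residueFieldMap_fromSpecResidueField, ← Spec.map_comp_assoc,
    ← Spec.map_comp_assoc, cancel_mono, Spec.map_inj] at h
  have : θ₁ = θ₂ := by
    ext z
    obtain ⟨w, rfl⟩ := hs z
    exact ConcreteCategory.congr_hom h w
  rw [← hθ₁, ← hθ₂, this]

/-- A closed subset of a noetherian scheme is covered by the closures of finitely many of its
maximal points. -/
theorem exists_finite_maximal [IsNoetherian X] {T : Set X} (hT : IsClosed T) :
    ∃ G : Set X, G.Finite ∧ (∀ η ∈ G, η ∈ T ∧ ∀ t ∈ T, t ⤳ η → t = η) ∧ T ⊆ ⋃ η ∈ G, closure {η} := by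
  haveI : QuasiSober ↥T := hT.isClosedEmbedding_subtypeVal.quasiSober
  let C := irreducibleComponents ↥T
  have hC : C.Finite := NoetherianSpace.finite_irreducibleComponents
  haveI : Finite C := hC.to_subtype
  let γ : C → ↥T := fun W => (W.2.1).genericPoint
  have hγ : ∀ W : C, closure {γ W} = W.1 := fun W => by
    have := (W.2.1).isGenericPoint_genericPoint_closure
    rwa [(isClosed_of_mem_irreducibleComponents _ W.2).closure_eq] at this
  refine ⟨Set.range fun W => (γ W).1, Set.finite_range _, ?_, ?_⟩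
  · rintro _ ⟨W, rfl⟩
    refine ⟨(γ W).2, fun t ht h => ?_⟩
    have h' : (⟨t, ht⟩ : ↥T) ⤳ γ W := (subtype_specializes_iff _ _).2 h
    have hle : W.1 ⊆ closure {(⟨t, ht⟩ : ↥T)} := by
      rw [← hγ W]
      exact closure_minimal (Set.singleton_subset_iff.2 h'.mem_closure) isClosed_closure
    have hge := W.2.le_of_ge isIrreducible_singleton.closure hle
    have : γ W ⤳ (⟨t, ht⟩ : ↥T) :=
      specializes_iff_mem_closure.2 ((hγ W).ge (hge (subset_closure rfl)))
    exact congrArg Subtype.val (h'.antisymm this).eq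
  · intro t ht
    let W : C := ⟨_, irreducibleComponent_mem_irreducibleComponents (⟨t, ht⟩ : ↥T)⟩
    refine Set.mem_iUnion₂.2 ⟨_, ⟨W, rfl⟩, ?_⟩
    have : (⟨t, ht⟩ : ↥T) ∈ closure {γ W} := (hγ W).ge mem_irreducibleComponent
    exact ((subtype_specializes_iff _ _).1 (specializes_iff_mem_closure.2 this)).mem_closure

/-- **Properness near a point** from lifts of discrete valuation rings at maximal points. -/
theorem exists_nhd_proper_of_lifts [IsNoetherian Y] (f : X ⟶ Y) [IsSeparated f]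
    [LocallyOfFiniteType f] [QuasiCompact f] {T : Set X} (hT : IsClosed T) (y : Y)
    (H : ∀ u ∈ T, (∀ t ∈ T, t ⤳ u → t = u) → ∀ A : ValuationSubring (X.residueField u),
      IsDiscreteValuationRing A → ∀ g : Spec (.of A) ⟶ Y, g.base (closedPoint A) = y →
      Spec.map (CommRingCat.ofHom A.subtype) ≫ g = X.fromSpecResidueField u ≫ f →
      ∃ l : Spec (.of A) ⟶ X, l ≫ f = g ∧
        Spec.map (CommRingCat.ofHom A.subtype) ≫ l = X.fromSpecResidueField u) :
    ∃ U : Y.Opens, y ∈ U ∧ ∀ (P : Scheme.{u}) (c : P ⟶ (f ⁻¹ᵁ U).toScheme), IsClosedImmersion c →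
      Set.range c.base = (f ⁻¹ᵁ U).ι.base ⁻¹' T → IsProper (c ≫ (f ∣_ U)) := by
  obtain ⟨W, j, p, hj, hjq, hp, hjp⟩ := GrothLib.Nagata6.exists_compactification f
  haveI : IsLocallyNoetherian W := LocallyOfFiniteType.isLocallyNoetherian p
  haveI : IsLocallyNoetherian X := LocallyOfFiniteType.isLocallyNoetherian f
  haveI : CompactSpace X := QuasiCompact.compactSpace_of_compactSpace f
  haveI : IsNoetherian X := {}
  obtain ⟨G, hGfin, hG, hTG⟩ := exists_finite_maximal hT
  let S : Set W := closure (j.base '' T)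
  have hS : S ⊆ ⋃ η ∈ G, closure {j.base η} := by
    refine closure_minimal ?_ (hGfin.isClosed_biUnion fun _ _ => isClosed_closure)
    rintro _ ⟨t, ht, rfl⟩
    obtain ⟨η, hη, hηt⟩ := Set.mem_iUnion₂.1 (hTG ht)
    exact Set.mem_iUnion₂.2
      ⟨η, hη, ((specializes_iff_mem_closure.2 hηt).map j.continuous).mem_closure⟩
  have hgood : ∀ z ∈ S, p.base z = y → z ∈ Set.range j.base := by
    intro z hz hzy
    by_contra hzj
    obtain ⟨η, hη, hηz⟩ := Set.mem_iUnion₂.1 (hS hz)
    obtain ⟨A, h, hA, hh, hcomp⟩ := GrothLib.DVRDom.exists_dvr_over j η z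
      (specializes_iff_mem_closure.2 hηz) (fun he => hzj ⟨η, he.symm⟩)
    obtain ⟨l, hl₁, hl₂⟩ := H η (hG η hη).1 (hG η hη).2 A hA (h ≫ p)
      ((congrArg p.base hh).trans hzy) (by rw [reassoc_of% hcomp, hjp])
    have : l ≫ j = h := GrothLib.DVRDom.eq_of_isSeparated (R := A) (K := X.residueField η) p _ _
      (by rw [Category.assoc, hjp, hl₁])
      (by
        show Spec.map (CommRingCat.ofHom A.subtype) ≫ l ≫ j = Spec.map (CommRingCat.ofHom A.subtype) ≫ h
        rw [reassoc_of% hl₂, hcomp])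
    exact hzj ⟨l.base (closedPoint A), by rw [← hh, ← this]; rfl⟩
  let bad : Set Y := p.base '' (S ∩ (Set.range j.base)ᶜ)
  have hbad : IsClosed bad :=
    p.isClosedMap _ (isClosed_closure.inter j.isOpenEmbedding.isOpen_range.isClosed_compl)
  refine ⟨⟨badᶜ, hbad.isOpen_compl⟩, ?_, ?_⟩
  · rintro ⟨z, ⟨hz, hzj⟩, hzy⟩
    exact hzj (hgood z hz hzy)
  intro P c hc hrange
  let U : Y.Opens := ⟨badᶜ, hbad.isOpen_compl⟩
  let j' : (f ⁻¹ᵁ U).toScheme ⟶ (p ⁻¹ᵁ U).toScheme :=
    j.resLE (p ⁻¹ᵁ U) (f ⁻¹ᵁ U) (le_of_eq (by rw [← Scheme.Hom.comp_preimage, hjp]))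
  have hj'ι : j' ≫ (p ⁻¹ᵁ U).ι = (f ⁻¹ᵁ U).ι ≫ j := Scheme.Hom.resLE_comp_ι _ _
  haveI : IsOpenImmersion j' := by
    haveI : IsOpenImmersion (j' ≫ (p ⁻¹ᵁ U).ι) := by rw [hj'ι]; infer_instance
    exact IsOpenImmersion.of_comp j' (p ⁻¹ᵁ U).ι
  have hfac : j' ≫ (p ∣_ U) = f ∣_ U := by
    rw [← cancel_mono U.ι, Category.assoc, morphismRestrict_ι, morphismRestrict_ι, reassoc_of% hj'ι, hjp]
  have hemb := j.isOpenEmbedding.isEmbedding
  have hclosed : Set.range (c ≫ j').base = (p ⁻¹ᵁ U).ι.base ⁻¹' S := by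
    ext z
    constructor
    · rintro ⟨a, rfl⟩
      have ha : (f ⁻¹ᵁ U).ι.base (c.base a) ∈ T := hrange.le ⟨a, rfl⟩
      exact subset_closure ⟨_, ha, (congrArg (fun m => m.base (c.base a)) hj'ι).symm⟩
    · intro hz
      have hzU : p.base ((p ⁻¹ᵁ U).ι.base z) ∈ U := z.2
      have : (p ⁻¹ᵁ U).ι.base z ∈ Set.range j.base := by
        by_contra hn
        exact hzU ⟨_, ⟨hz, hn⟩, rfl⟩
      obtain ⟨x, hx⟩ := this
      have hxT : x ∈ T := by
        rw [← hT.closure_eq, hemb.isInducing.closure_eq_preimage_closure_image]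
        show j.base x ∈ S
        rw [hx]; exact hz
      have hxU : x ∈ f ⁻¹ᵁ U := by
        show f.base x ∈ U
        rw [← hjp]
        show p.base (j.base x) ∈ U
        rw [hx]; exact hzU
      obtain ⟨a, ha⟩ := hrange.ge (show (⟨x, hxU⟩ : f ⁻¹ᵁ U) ∈ (f ⁻¹ᵁ U).ι.base ⁻¹' T from hxT)
      refine ⟨a, (p ⁻¹ᵁ U).ι.isOpenEmbedding.injective ?_⟩
      rw [← hx]
      show (p ⁻¹ᵁ U).ι.base (j'.base (c.base a)) = j.base x
      rw [ha]
      exact congrArg (fun m => m.base (⟨x, hxU⟩ : f ⁻¹ᵁ U)) hj'ι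
  haveI : IsClosedImmersion (c ≫ j') := IsClosedImmersion.of_isPreimmersion _
    (hclosed ▸ isClosed_closure.preimage (p ⁻¹ᵁ U).ι.continuous)
  haveI : IsProper (p ∣_ U) := MorphismProperty.of_isPullback (isPullback_morphismRestrict p U).flip hp
  rw [← hfac, ← Category.assoc]
  infer_instance

/-- The case of the whole scheme. -/
theorem exists_nhd_isProper_of_lifts [IsNoetherian Y] (f : X ⟶ Y) [IsSeparated f]
    [LocallyOfFiniteType f] [QuasiCompact f] (y : Y)
    (H : ∀ u : X, (∀ t : X, t ⤳ u → t = u) → ∀ A : ValuationSubring (X.residueField u),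
      IsDiscreteValuationRing A → ∀ g : Spec (.of A) ⟶ Y, g.base (closedPoint A) = y →
      Spec.map (CommRingCat.ofHom A.subtype) ≫ g = X.fromSpecResidueField u ≫ f →
      ∃ l : Spec (.of A) ⟶ X, l ≫ f = g ∧
        Spec.map (CommRingCat.ofHom A.subtype) ≫ l = X.fromSpecResidueField u) :
    ∃ U : Y.Opens, y ∈ U ∧ IsProper (f ∣_ U) := by
  obtain ⟨U, hy, hU⟩ := exists_nhd_proper_of_lifts f isClosed_univ y
    (fun u _ hu => H u fun t => hu t trivial)
  refine ⟨U, hy, ?_⟩
  have := hU _ (𝟙 _) inferInstance (by simp)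
  rwa [Category.id_comp] at this

/-- A locally noetherian base: properness near a point is tested over a noetherian neighbourhood. -/
theorem exists_nhd_isProper_of_lifts_restrict [IsLocallyNoetherian Y] (f : X ⟶ Y) [IsSeparated f]
    [LocallyOfFiniteType f] [QuasiCompact f] (y : Y)
    (H : ∀ (V : Y.Opens) (_ : y ∈ V) (u : (f ⁻¹ᵁ V).toScheme), (∀ t, t ⤳ u → t = u) →
      ∀ A : ValuationSubring ((f ⁻¹ᵁ V).toScheme.residueField u), IsDiscreteValuationRing A →
      ∀ g : Spec (.of A) ⟶ Y, g.base (closedPoint A) = y →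
      Spec.map (CommRingCat.ofHom A.subtype) ≫ g =
        ((f ⁻¹ᵁ V).toScheme.fromSpecResidueField u ≫ (f ⁻¹ᵁ V).ι) ≫ f →
      ∃ l : Spec (.of A) ⟶ X, l ≫ f = g ∧ Spec.map (CommRingCat.ofHom A.subtype) ≫ l =
        (f ⁻¹ᵁ V).toScheme.fromSpecResidueField u ≫ (f ⁻¹ᵁ V).ι) :
    ∃ U : Y.Opens, y ∈ U ∧ IsProper (f ∣_ U) := by
  obtain ⟨V, hV, hyV⟩ : ∃ V : Y.Opens, IsAffineOpen V ∧ y ∈ V := by
    obtain ⟨_, ⟨V, hV, rfl⟩, hyV, -⟩ :=
      Y.isBasis_affineOpens.exists_subset_of_mem_open (Set.mem_univ y) isOpen_univ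
    exact ⟨V, hV, hyV⟩
  haveI : IsAffine V.toScheme := hV
  haveI : IsNoetherian V.toScheme := {}
  obtain ⟨U', hyU', hU'⟩ := exists_nhd_isProper_of_lifts (f ∣_ V) ⟨y, hyV⟩ (by
    intro u hu A hA g hg hcomp
    obtain ⟨l, hl₁, hl₂⟩ := H V hyV u hu A hA (g ≫ V.ι)
      (by show V.ι.base (g.base (closedPoint A)) = y; rw [hg]; rfl)
      (by rw [reassoc_of% hcomp, morphismRestrict_ι, Category.assoc])
    refine ⟨(isPullback_morphismRestrict f V).lift g l hl₁.symm, IsPullback.lift_fst _ _ _ _, ?_⟩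
    rw [← cancel_mono (f ⁻¹ᵁ V).ι, Category.assoc, IsPullback.lift_snd, hl₂])
  refine ⟨V.ι ''ᵁ U', ⟨⟨y, hyV⟩, hyU', rfl⟩, ?_⟩
  exact (MorphismProperty.arrow_mk_iso_iff @IsProper (morphismRestrictRestrict f V U')).1 hU'

/-- A morphism from the spectrum of a local ring to an open containing the image of its closed
point factors through it. -/
theorem exists_lift_opens {A : Type u} [CommRing A] [IsLocalRing A] (g : Spec (.of A) ⟶ Y)
    (U : Y.Opens) (h : g.base (closedPoint A) ∈ U) : ∃ g' : Spec (.of A) ⟶ U.toScheme, g' ≫ U.ι = g := by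
  refine ⟨IsOpenImmersion.lift U.ι g ?_, IsOpenImmersion.lift_fac _ _ _⟩
  rintro _ ⟨z, rfl⟩
  exact U.range_ι.ge (GrothLib.DVRDom.mem_of_closedPoint_mem g h z)

/-- Lifts along a subscheme which is proper over an open neighbourhood. -/
theorem exists_lift_of_proper_nhd {A K : Type u} [CommRing A] [IsDomain A] [ValuationRing A] [Field K]
    [Algebra A K] [IsFractionRing A K] (f : X ⟶ Y) (U : Y.Opens) {P : Scheme.{u}}
    (c : P ⟶ (f ⁻¹ᵁ U).toScheme) [IsPreimmersion c] (hc : IsProper (c ≫ (f ∣_ U)))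
    (g : Spec (.of A) ⟶ Y) (hg : g.base (closedPoint A) ∈ U)
    (σ : Spec (.of K) ⟶ X) (w : σ ≫ f = Spec.map (CommRingCat.ofHom (algebraMap A K)) ≫ g)
    (hσ : σ.base (closedPoint K) ∈ (f ⁻¹ᵁ U).ι.base '' Set.range c.base) :
    ∃ l : Spec (.of A) ⟶ X, l ≫ f = g ∧ Spec.map (CommRingCat.ofHom (algebraMap A K)) ≫ l = σ := by
  obtain ⟨σ', hσ'⟩ := exists_lift_of_isPreimmersion (c ≫ (f ⁻¹ᵁ U).ι) σ (by
    obtain ⟨_, ⟨a, rfl⟩, ha⟩ := hσ
    exact ⟨a, ha⟩)
  obtain ⟨g', hg'⟩ := exists_lift_opens g U hg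
  have hE : ValuativeCriterion.Existence (c ≫ (f ∣_ U)) := by
    haveI := hc
    have h : UniversallyClosed (c ≫ (f ∣_ U)) := inferInstance
    rw [UniversallyClosed.eq_valuativeCriterion] at h
    exact h.1
  obtain ⟨l, hl₁, hl₂⟩ := GrothLib.DVRDom.exists_lift_of_existence hE σ' g' (by
    rw [← cancel_mono U.ι, Category.assoc, Category.assoc, morphismRestrict_ι, Category.assoc, hg', ← w,
      ← hσ', Category.assoc, Category.assoc])
  refine ⟨l ≫ c ≫ (f ⁻¹ᵁ U).ι, ?_, ?_⟩
  · rw [← hg', ← hl₁]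
    simp only [Category.assoc, morphismRestrict_ι]
  · rw [reassoc_of% hl₂, hσ']

/-- Transfer of the image of the closed point of a field spectrum. -/
theorem range_base_field {K : Type u} [Field K] {P : Scheme.{u}} (σ : Spec (.of K) ⟶ P)
    (t : Spec (.of K)) : σ.base t = σ.base (closedPoint K) :=
  congrArg σ.base (Subsingleton.elim (α := PrimeSpectrum K) t _)

/-- The generic point is the image of the fraction field. -/
theorem specMap_closedPoint_eq_genericPoint {A K : Type u} [CommRing A] [IsDomain A] [Field K]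
    (i : A →+* K) (hi : Function.Injective i) :
    (Spec.map (CommRingCat.ofHom i)).base (closedPoint K) = genericPoint (Spec (CommRingCat.of A)) := by
  rw [genericPoint_eq_bot_of_affine]
  refine PrimeSpectrum.ext ?_
  show Ideal.comap i (maximalIdeal K) = ⊥
  rw [IsLocalRing.isField_iff_maximalIdeal_eq.1 (Field.toIsField K), ← RingHom.ker,
    (RingHom.injective_iff_ker_eq_bot i).1 hi]

/-- A rational point over the generic point gives a point with values in the fraction field. -/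
theorem exists_point_of_bijective_residueFieldMap {A K : Type u} [CommRing A] [IsDomain A] [Field K]
    (i : A →+* K) (hi : Function.Injective i) {P : Scheme.{u}} (π : P ⟶ Spec (.of A)) (x : P)
    (hx : π.base x = genericPoint (Spec (CommRingCat.of A)))
    (hb : Function.Bijective (π.residueFieldMap x).hom) :
    ∃ σ : Spec (.of K) ⟶ P, σ ≫ π = Spec.map (CommRingCat.ofHom i) ∧ σ.base (closedPoint K) = x := by
  haveI : IsIso (π.residueFieldMap x) := (ConcreteCategory.isIso_iff_bijective _).2 hb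
  have h1 : ∃ θ : (Spec (CommRingCat.of A)).residueField
      ((Spec.map (CommRingCat.ofHom i)).base (closedPoint K)) ⟶ .of K,
      Spec.map θ ≫ (Spec (CommRingCat.of A)).fromSpecResidueField _ = Spec.map (CommRingCat.ofHom i) :=
    ⟨_, Scheme.descResidueField_stalkClosedPointTo_fromSpecResidueField K _ _⟩
  rw [specMap_closedPoint_eq_genericPoint i hi, ← hx] at h1
  obtain ⟨θ, hθ⟩ := h1
  refine ⟨Spec.map (inv (π.residueFieldMap x) ≫ θ) ≫ P.fromSpecResidueField x, ?_, ?_⟩
  · rw [Category.assoc, ← Scheme.Hom.SpecMap_residueFieldMap_fromSpecResidueField,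
      ← Spec.map_comp_assoc, IsIso.hom_inv_id_assoc, hθ]
  · exact Scheme.fromSpecResidueField_apply x _

/-- A point with values in the fraction field is rational over the generic point. -/
theorem surjective_residueFieldMap_of_point {A K : Type u} [CommRing A] [IsDomain A] [Field K]
    [Algebra A K] [IsFractionRing A K] {P : Scheme.{u}} (π : P ⟶ Spec (.of A))
    (σ : Spec (.of K) ⟶ P) (hσ : σ ≫ π = Spec.map (CommRingCat.ofHom (algebraMap A K))) :
    Function.Bijective (π.residueFieldMap (σ.base (closedPoint K))).hom := by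
  refine ⟨RingHom.injective _, fun z => ?_⟩
  let θ : P.residueField (σ.base (closedPoint K)) ⟶ .of K :=
    P.descResidueField (Scheme.stalkClosedPointTo σ)
  have hθ : Spec.map θ ≫ P.fromSpecResidueField _ = σ :=
    P.descResidueField_stalkClosedPointTo_fromSpecResidueField K σ
  let ψ := Spec.preimage ((Spec (CommRingCat.of A)).fromSpecResidueField (π.base (σ.base (closedPoint K))))
  have hψ : ψ ≫ π.residueFieldMap _ ≫ θ = CommRingCat.ofHom (algebraMap A K) := by
    refine Spec.map_injective ?_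
    rw [Spec.map_comp, Spec.map_comp, Spec.map_preimage, Category.assoc,
      Scheme.Hom.SpecMap_residueFieldMap_fromSpecResidueField, ← Category.assoc, hθ, hσ]
  obtain ⟨a, b, hb, hab⟩ := IsFractionRing.div_surjective (A := A) (θ.hom z)
  refine ⟨ψ.hom a / ψ.hom b, θ.hom.injective ?_⟩
  rw [map_div₀, map_div₀, ← hab]
  exact congrArg₂ (· / ·) (ConcreteCategory.congr_hom hψ a) (ConcreteCategory.congr_hom hψ b)

end GrothLib.Chev28
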