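import Groth.Agent.Lib.Chev28.PropConn
import Groth.Agent.Lib.Nagata6.Absolute
import Groth.Prelude.Def_FDesc

/-!
EGA IV 15.7: properness near a point of a fibrewise family of connected components.
-/

universe u

open CategoryTheory CategoryTheory.Limits AlgebraicGeometry TopologicalSpace Topology IsLocalRing

noncomputable section

namespace GrothLib.Chev28

variable {X Y : Scheme.{u}}

/-- The image of the part of `C` over an open of the base in a compactification over it. -/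
def compImage (f : X ⟶ Y) (W : Y.Opens) {P : Scheme.{u}} (j : (f ⁻¹ᵁ W).toScheme ⟶ P) (C : Set X) : Set P :=
  j '' ((f ⁻¹ᵁ W).ι ⁻¹' C)

variable (f : X ⟶ Y) {W : Y.Opens} {P : Scheme.{u}} (j : (f ⁻¹ᵁ W).toScheme ⟶ P) (p : P ⟶ W)

theorem ι_comp_apply (hjp : j ≫ p = f ∣_ W) (x : (f ⁻¹ᵁ W).toScheme) :
    W.ι (p (j x)) = f ((f ⁻¹ᵁ W).ι x) := by
  rw [← Scheme.Hom.comp_apply, ← Scheme.Hom.comp_apply, ← Scheme.Hom.comp_apply]
  congr 1
  rw [← Category.assoc, hjp, morphismRestrict_ι]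

theorem isConstructible_compImage [LocallyOfFiniteType f] [IsSeparated f] [QuasiCompact f] (hW : IsAffineOpen W)
    [IsOpenImmersion j] [QuasiCompact j] [IsProper p] {C : Set X} (hC : IsLocallyConstructible C) :
    IsConstructible (compImage f W j C) := by
  haveI : IsAffine W := hW
  haveI : CompactSpace ↥P := QuasiCompact.compactSpace_of_compactSpace p
  haveI : QuasiSeparatedSpace ↥P := quasiSeparatedSpace_of_quasiSeparated p
  haveI : CompactSpace ↥(f ⁻¹ᵁ W).toScheme := QuasiCompact.compactSpace_of_compactSpace j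
  haveI : QuasiSeparatedSpace ↥(f ⁻¹ᵁ W).toScheme := quasiSeparatedSpace_of_quasiSeparated j
  exact j.isConstructible_image (hC.preimage_of_isOpenEmbedding (f ⁻¹ᵁ W).ι.isOpenEmbedding).isConstructible

/-- Over the point with proper component the part of `C` is open and closed in the fibre of the compactification. -/
theorem exists_open_closed_fibre [IsProper p] [IsOpenImmersion j] (hjp : j ≫ p = f ∣_ W) (C : Set X) (y : Y)
    (hy : y ∈ W) (hop : IsOpen ((f.fiberι y).base ⁻¹' C))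
    (hprop : IsProper (Scheme.Opens.ι (⟨(f.fiberι y).base ⁻¹' C, hop⟩ : (f.fiber y).Opens) ≫
      f.fiberToSpecResidueField y)) :
    ∃ G F : Set P, IsOpen G ∧ IsClosed F ∧
      G ∩ p ⁻¹' {⟨y, hy⟩} = compImage f W j C ∩ p ⁻¹' {⟨y, hy⟩} ∧
      F ∩ p ⁻¹' {⟨y, hy⟩} = compImage f W j C ∩ p ⁻¹' {⟨y, hy⟩} := by
  let O : (f.fiber y).Opens := ⟨(f.fiberι y).base ⁻¹' C, hop⟩
  let XW := f ⁻¹ᵁ W
  have hmem : ∀ x : XW.toScheme, p (j x) = ⟨y, hy⟩ ↔ f (XW.ι x) = y := fun x => by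
    rw [← ι_comp_apply f j p hjp x]
    exact ⟨fun h => congrArg (fun w : W.toScheme => W.ι w) h, fun h => W.ι.isEmbedding.injective h⟩
  obtain ⟨O', hO', hOO⟩ := (f.fiberι y).isEmbedding.isInducing.isOpen_iff.mp hop
  have hCO : ∀ x : X, f x = y → (x ∈ C ↔ x ∈ O') := fun x hx => by
    obtain ⟨w, rfl⟩ := (f.range_fiberι y).ge hx
    exact (Set.ext_iff.mp hOO w).symm
  let t : Spec (Y.residueField y) ⟶ W.toScheme := IsOpenImmersion.lift W.ι (Y.fromSpecResidueField y) (by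
    rw [Scheme.range_fromSpecResidueField, W.range_ι]
    exact Set.singleton_subset_iff.mpr hy)
  have ht : t ≫ W.ι = Y.fromSpecResidueField y := IsOpenImmersion.lift_fac _ _ _
  haveI : IsPreimmersion t := by
    haveI : IsPreimmersion (t ≫ W.ι) := by rw [ht]; infer_instance
    exact IsPreimmersion.of_comp t W.ι
  have htrange : Set.range t = {⟨y, hy⟩} := by
    refine W.ι.isEmbedding.injective.image_injective ?_
    rw [← Set.range_comp, Set.image_singleton]
    show Set.range (fun s => W.ι (t s)) = {y}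
    simp only [← Scheme.Hom.comp_apply, ht]
    exact Scheme.range_fromSpecResidueField y
  let l : O.toScheme ⟶ XW.toScheme := IsOpenImmersion.lift XW.ι (O.ι ≫ f.fiberι y) (by
    rintro _ ⟨o, rfl⟩
    rw [XW.range_ι]
    show f ((O.ι ≫ f.fiberι y) o) ∈ W
    rw [Scheme.Hom.comp_apply, GrothLib.FibreFlat.fiberι_comp_apply f y]
    exact hy)
  have hl : l ≫ XW.ι = O.ι ≫ f.fiberι y := IsOpenImmersion.lift_fac _ _ _
  let k : O.toScheme ⟶ pullback p t := pullback.lift (l ≫ j) (O.ι ≫ f.fiberToSpecResidueField y) (by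
    rw [← cancel_mono W.ι]
    simp only [Category.assoc]
    rw [ht, ← Category.assoc j, hjp, morphismRestrict_ι, ← Category.assoc, hl, Category.assoc]
    exact congrArg (O.ι ≫ ·) pullback.condition)
  haveI : IsProper (pullback.snd p t) := MorphismProperty.pullback_snd p t ‹_›
  haveI : IsProper (k ≫ pullback.snd p t) := by
    rw [pullback.lift_snd]
    exact hprop
  haveI : IsProper k := IsProper.of_comp k (pullback.snd p t)
  have hkclosed : IsClosed (Set.range k) := by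
    rw [← Set.image_univ]
    exact k.isClosedMap _ isClosed_univ
  have hemb : IsEmbedding (pullback.fst p t) := by
    haveI : IsPreimmersion (pullback.fst p t) := MorphismProperty.pullback_fst p t ‹_›
    exact (pullback.fst p t).isEmbedding
  obtain ⟨F, hF, hFk⟩ := hemb.isInducing.isClosed_iff.mp hkclosed
  have hrange : Set.range (pullback.fst p t) = p ⁻¹' {⟨y, hy⟩} := by
    rw [Scheme.Pullback.range_fst, htrange]
  refine ⟨j '' (XW.ι ⁻¹' O'), F, j.isOpenEmbedding.isOpenMap _ (hO'.preimage XW.ι.continuous), hF, ?_, ?_⟩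
  · ext q
    constructor
    · rintro ⟨⟨x, hx, rfl⟩, hq⟩
      exact ⟨⟨x, (hCO _ ((hmem x).mp hq)).mpr hx, rfl⟩, hq⟩
    · rintro ⟨⟨x, hx, rfl⟩, hq⟩
      exact ⟨⟨x, (hCO _ ((hmem x).mp hq)).mp hx, rfl⟩, hq⟩
  · have h1 : F ∩ p ⁻¹' {⟨y, hy⟩} = pullback.fst p t '' Set.range k := by
      rw [← hrange, ← hFk, Set.image_preimage_eq_inter_range]
    rw [h1, ← Set.range_comp]
    ext q
    constructor
    · rintro ⟨o, rfl⟩
      show pullback.fst p t (k o) ∈ _
      rw [← Scheme.Hom.comp_apply, pullback.lift_fst, Scheme.Hom.comp_apply]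
      have ho : XW.ι (l o) = f.fiberι y (O.ι o) := by
        rw [← Scheme.Hom.comp_apply, hl, Scheme.Hom.comp_apply]
      refine ⟨⟨l o, ?_, rfl⟩, (hmem (l o)).mpr ?_⟩
      · show XW.ι (l o) ∈ C
        rw [ho]
        exact o.2
      · rw [ho]
        exact GrothLib.FibreFlat.fiberι_comp_apply f y _
    · rintro ⟨⟨x, hx, rfl⟩, hq⟩
      obtain ⟨w, hw⟩ := (f.range_fiberι y).ge (show f (XW.ι x) = y from (hmem x).mp hq)
      have hwO : w ∈ O := by
        show f.fiberι y w ∈ C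
        rw [hw]
        exact hx
      refine ⟨⟨w, hwO⟩, ?_⟩
      show pullback.fst p t (k ⟨w, hwO⟩) = j x
      rw [← Scheme.Hom.comp_apply, pullback.lift_fst, Scheme.Hom.comp_apply]
      refine congrArg j (XW.ι.isEmbedding.injective ?_)
      rw [← Scheme.Hom.comp_apply, hl, Scheme.Hom.comp_apply]
      exact hw

/-- A geometrically connected part of a fibre stays so in a compactification. -/
theorem isPreconnected_preimage_compImage [IsOpenImmersion j] (hjp : j ≫ p = f ∣_ W) {T : Scheme.{u}}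
    (τ : T ⟶ W.toScheme) (C : Set X)
    (h : _root_.IsPreconnected (pullback.fst f (τ ≫ W.ι) ⁻¹' C)) :
    _root_.IsPreconnected (pullback.fst p τ ⁻¹' compImage f W j C) := by
  let XW := f ⁻¹ᵁ W
  have sq := (IsPullback.of_hasPullback (f ∣_ W) τ).paste_horiz (isPullback_morphismRestrict f W).flip
  let m : pullback (f ∣_ W) τ ⟶ pullback p τ :=
    pullback.map (f ∣_ W) τ p τ j (𝟙 _) (𝟙 _) (by rw [Category.comp_id, hjp]) (by simp)
  let e := sq.isoPullback
  have he : ∀ w, XW.ι (pullback.fst (f ∣_ W) τ (e.inv w)) = pullback.fst f (τ ≫ W.ι) w := fun w => by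
    rw [← Scheme.Hom.comp_apply, ← Scheme.Hom.comp_apply, IsPullback.isoPullback_inv_fst]
  convert h.image (e.inv ≫ m) (e.inv ≫ m).continuous.continuousOn using 1
  have hm : ∀ v, pullback.fst p τ (m v) = j (pullback.fst (f ∣_ W) τ v) := fun v => by
    rw [← Scheme.Hom.comp_apply, pullback.lift_fst, Scheme.Hom.comp_apply]
  ext z
  constructor
  · rintro ⟨x, hx, hxz⟩
    obtain ⟨v, rfl⟩ : z ∈ Set.range m := by
      rw [Scheme.Pullback.range_map]
      exact ⟨⟨x, hxz⟩, ⟨pullback.snd p τ z, rfl⟩⟩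
    refine ⟨e.hom v, ?_, ?_⟩
    · show pullback.fst f (τ ≫ W.ι) (e.hom v) ∈ C
      rw [← he, show e.inv (e.hom v) = v by rw [← Scheme.Hom.comp_apply, e.hom_inv_id]; rfl]
      show XW.ι (pullback.fst (f ∣_ W) τ v) ∈ C
      rw [← j.isEmbedding.injective (hxz.trans (hm v))]
      exact hx
    · rw [← Scheme.Hom.comp_apply, Iso.hom_inv_id_assoc]
  · rintro ⟨w, hw, rfl⟩
    refine ⟨pullback.fst (f ∣_ W) τ (e.inv w), ?_, ?_⟩
    · show XW.ι _ ∈ C
      rw [he]
      exact hw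
    · rw [Scheme.Hom.comp_apply, hm]

/-- Properness near `y` of a family of fibrewise components with a proper member over `y`. -/
theorem exists_nhd_isProper_of_limits [IsSeparated f] [LocallyOfFiniteType f] [QuasiCompact f] (C : Set X)
    (hC : IsLocallyConstructible C) (y : Y) (hop : IsOpen ((f.fiberι y).base ⁻¹' C))
    (hprop : IsProper (Scheme.Opens.ι (⟨(f.fiberι y).base ⁻¹' C, hop⟩ : (f.fiber y).Opens) ≫
      f.fiberToSpecResidueField y))
    (hcomp : ∀ x ∈ C, f x ⤳ y → connectedComponentIn (f ⁻¹' {f x}) x ⊆ C)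
    (hB : ∀ (W : Y.Opens) (_ : IsAffineOpen W), y ∈ W → ∀ (P : Scheme.{u}) (j : (f ⁻¹ᵁ W).toScheme ⟶ P)
      (p : P ⟶ W) [IsOpenImmersion j] [QuasiCompact j] [IsProper p], j ≫ p = f ∣_ W →
      ∀ c ∈ compImage f W j C, ∀ q, c ⤳ q → W.ι (p q) ⤳ y → (W.ι (p q) = y ∨ q ∈ Set.range j) →
      ∃ B : Set P, _root_.IsPreconnected B ∧ q ∈ B ∧ B ⊆ p ⁻¹' {p q} ∩ closure (compImage f W j C) ∧
        (B ∩ compImage f W j C).Nonempty) :
    ∃ U : Y.Opens, y ∈ U ∧ ∃ hC : IsClosed ((f ⁻¹ᵁ U).ι.base ⁻¹' C),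
      IsProper ((Scheme.IdealSheafData.vanishingIdeal
        (⟨(f ⁻¹ᵁ U).ι.base ⁻¹' C, hC⟩ : TopologicalSpace.Closeds ↥(f ⁻¹ᵁ U))).subschemeι ≫ (f ∣_ U)) := by
  obtain ⟨_, ⟨(W : Y.Opens), hW, rfl⟩, hy, -⟩ :=
    Y.isBasis_affineOpens.exists_subset_of_mem_open (Set.mem_univ y) isOpen_univ
  haveI : IsAffine W := hW
  obtain ⟨P, j, p, hj, hjc, hp, hjp⟩ := GrothLib.Nagata6.exists_compactification (f ∣_ W)
  let CP := compImage f W j C
  have hCP := isConstructible_compImage f j p hW hC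
  haveI : CompactSpace ↥P := QuasiCompact.compactSpace_of_compactSpace p
  haveI : QuasiSeparatedSpace ↥P := quasiSeparatedSpace_of_quasiSeparated p
  haveI : SpectralSpace P := {}
  let yW : W.toScheme := ⟨y, hy⟩
  obtain ⟨G, F, hG, hF, hGy, hFy⟩ := exists_open_closed_fibre f j p hjp C y hy hop hprop
  have step1 : ∀ c ∈ CP, ∀ q, c ⤳ q → p q = yW → q ∈ CP := fun c hc q hcq hq => by
    obtain ⟨B, hB1, hqB, hB2, ⟨b, hb, hbC⟩⟩ := hB W hW hy P j p hjp c hc q hcq
      (by rw [hq]; exact specializes_rfl) (Or.inl (by rw [hq]; rfl))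
    exact (subset_of_isPreconnected_inter hB1
      (fun x hx => show p x = yW from (show p x = p q from (hB2 hx).1).trans hq) hG hF hGy hFy
      ⟨b, hb, hbC, (show p b = yW from (show p b = p q from (hB2 hb).1).trans hq)⟩ hqB).1
  have hrange : ∀ c ∈ CP, ∀ q, c ⤳ q → p q ⤳ yW → q ∈ Set.range j := fun c hc q hcq hq => by
    obtain ⟨r, hr, hry⟩ := hq.mem_closed (p.isClosedMap _ (isClosed_closure (s := {q})))
      ⟨q, subset_closure rfl, rfl⟩
    have hqr : q ⤳ r := specializes_iff_mem_closure.mpr hr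
    obtain ⟨x, -, hx⟩ := step1 c hc r (hcq.trans hqr) hry
    exact hqr.mem_open j.isOpenEmbedding.isOpen_range ⟨x, hx⟩
  have hcl : ∀ c ∈ CP, ∀ q, c ⤳ q → p q ⤳ yW → q ∈ CP := fun c hc q hcq hq => by
    obtain ⟨x, rfl⟩ := hrange c hc q hcq hq
    obtain ⟨B, hB1, hqB, hB2, ⟨_, hb, ⟨a, ha, rfl⟩⟩⟩ := hB W hW hy P j p hjp c hc _ hcq
      (hq.map W.ι.continuous) (Or.inr (Set.mem_range_self x))
    have hBj : B ⊆ Set.range j := fun b hb => by
      obtain ⟨c', hc', hc'b⟩ := GrothLib.SpecSp.exists_specializes_of_mem_closure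
        (GrothLib.Constr.isClosed_constructibleTopology_of_isConstructible hCP) (hB2 hb).2
      exact hrange c' hc' b hc'b ((show p b = p (j x) from (hB2 hb).1) ▸ hq)
    have hpre : _root_.IsPreconnected ((f ⁻¹ᵁ W).ι '' (j ⁻¹' B)) := by
      refine IsPreconnected.image ?_ _ (f ⁻¹ᵁ W).ι.continuous.continuousOn
      rw [← j.isEmbedding.isInducing.isPreconnected_image, Set.image_preimage_eq_of_subset hBj]
      exact hB1
    have hfib : (f ⁻¹ᵁ W).ι '' (j ⁻¹' B) ⊆ f ⁻¹' {f ((f ⁻¹ᵁ W).ι a)} := by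
      rintro _ ⟨b, hb', rfl⟩
      show f ((f ⁻¹ᵁ W).ι b) = f ((f ⁻¹ᵁ W).ι a)
      rw [← ι_comp_apply f j p hjp, ← ι_comp_apply f j p hjp, show p (j b) = p (j x) from (hB2 hb').1,
        show p (j a) = p (j x) from (hB2 hb).1]
    have hay : f ((f ⁻¹ᵁ W).ι a) ⤳ y := by
      rw [← ι_comp_apply f j p hjp, show p (j a) = p (j x) from (hB2 hb).1]
      exact hq.map W.ι.continuous
    exact ⟨x, hcomp _ ha hay (hpre.subset_connectedComponentIn ⟨a, hb, rfl⟩ hfib ⟨x, hqB, rfl⟩), rfl⟩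
  obtain ⟨U, hyU, hU⟩ := exists_opens_closure_subset p hCP yW hcl
  let U' : Y.Opens := W.ι ''ᵁ U
  have hU'W : U' ≤ W := W.ι_image_le U
  let XU := f ⁻¹ᵁ U'
  let k₀ : XU.toScheme ⟶ (f ⁻¹ᵁ W).toScheme := X.homOfLE (fun x hx => hU'W hx)
  have hk₀ : k₀ ≫ (f ⁻¹ᵁ W).ι = XU.ι := X.homOfLE_ι _
  have hk₀r : Set.range (k₀ ≫ j) ⊆ p ⁻¹' (U : Set W.toScheme) := by
    rintro _ ⟨x, rfl⟩
    obtain ⟨w, hw, hwx⟩ : f (XU.ι x) ∈ U' := x.2
    show p ((k₀ ≫ j) x) ∈ U
    rw [Scheme.Hom.comp_apply]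
    rw [show p (j (k₀ x)) = w from W.ι.isEmbedding.injective (by
      rw [ι_comp_apply f j p hjp, ← Scheme.Hom.comp_apply k₀, hk₀]
      exact hwx.symm)]
    exact hw
  let k : XU.toScheme ⟶ (p ⁻¹ᵁ U).toScheme := IsOpenImmersion.lift (p ⁻¹ᵁ U).ι (k₀ ≫ j) (by
    rw [(p ⁻¹ᵁ U).range_ι]; exact hk₀r)
  have hk : k ≫ (p ⁻¹ᵁ U).ι = k₀ ≫ j := IsOpenImmersion.lift_fac _ _ _
  have himage : ∀ x : XU.toScheme, (p ⁻¹ᵁ U).ι (k x) ∈ CP ↔ XU.ι x ∈ C := fun x => by
    rw [← Scheme.Hom.comp_apply, hk, Scheme.Hom.comp_apply]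
    refine (j.isEmbedding.injective.mem_set_image).trans ?_
    show (f ⁻¹ᵁ W).ι (k₀ x) ∈ C ↔ _
    rw [← Scheme.Hom.comp_apply, hk₀]
  have hclosedP : IsClosed ((p ⁻¹ᵁ U).ι ⁻¹' CP) := by
    convert isClosed_closure.preimage (p ⁻¹ᵁ U).ι.continuous (t := closure CP) using 1
    exact Set.Subset.antisymm (Set.preimage_mono subset_closure) fun z hz => hU ⟨hz, z.2⟩
  have hclosed : IsClosed (XU.ι.base ⁻¹' C) := by
    convert hclosedP.preimage k.continuous using 1
    ext x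
    exact (himage x).symm
  refine ⟨U', ⟨yW, hyU, rfl⟩, hclosed, ?_⟩
  let I := Scheme.IdealSheafData.vanishingIdeal (X := XU.toScheme)
    (⟨XU.ι.base ⁻¹' C, hclosed⟩ : TopologicalSpace.Closeds ↥XU)
  have hIrange : Set.range I.subschemeι = XU.ι.base ⁻¹' C :=
    I.range_subschemeι.trans (Scheme.IdealSheafData.coe_support_vanishingIdeal _)
  haveI : IsOpenImmersion k := by
    haveI : IsOpenImmersion (k ≫ (p ⁻¹ᵁ U).ι) := by rw [hk]; infer_instance
    exact IsOpenImmersion.of_comp k (p ⁻¹ᵁ U).ι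
  haveI : IsClosedImmersion (I.subschemeι ≫ k) := by
    refine IsClosedImmersion.of_isPreimmersion _ ?_
    convert hclosedP using 1
    ext z
    constructor
    · rintro ⟨w, rfl⟩
      show (p ⁻¹ᵁ U).ι ((I.subschemeι ≫ k) w) ∈ CP
      rw [Scheme.Hom.comp_apply]
      exact (himage _).mpr (hIrange.le ⟨w, rfl⟩)
    · rintro hz
      obtain ⟨x, hx, hxz⟩ := hz
      have hxU : (f ⁻¹ᵁ W).ι x ∈ XU := by
        refine ⟨p ((p ⁻¹ᵁ U).ι z), z.2, ?_⟩
        rw [← hxz]
        exact ι_comp_apply f j p hjp x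
      let x' : XU.toScheme := ⟨(f ⁻¹ᵁ W).ι x, hxU⟩
      obtain ⟨w, hw⟩ := hIrange.ge (show x' ∈ XU.ι.base ⁻¹' C from hx)
      refine ⟨w, (p ⁻¹ᵁ U).ι.isEmbedding.injective ?_⟩
      rw [Scheme.Hom.comp_apply, hw, ← Scheme.Hom.comp_apply, hk, Scheme.Hom.comp_apply, ← hxz]
      refine congrArg j ((f ⁻¹ᵁ W).ι.isEmbedding.injective ?_)
      rw [← Scheme.Hom.comp_apply, hk₀]
      rfl
  have heq : Set.range (U.ι ≫ W.ι) = Set.range U'.ι := by
    rw [U'.range_ι]
    ext z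
    simp only [Scheme.Hom.comp_base, TopCat.coe_comp, Set.range_comp, Scheme.Opens.range_ι]
    rfl
  let e : U.toScheme ≅ U'.toScheme := IsOpenImmersion.isoOfRangeEq (U.ι ≫ W.ι) U'.ι heq
  have hfac : I.subschemeι ≫ (f ∣_ U') = (I.subschemeι ≫ k) ≫ (p ∣_ U) ≫ e.hom := by
    rw [← cancel_mono U'.ι]
    simp only [Category.assoc, IsOpenImmersion.isoOfRangeEq_hom_fac, e, morphismRestrict_ι]
    rw [morphismRestrict_ι_assoc, reassoc_of% hk, reassoc_of% hjp, morphismRestrict_ι, reassoc_of% hk₀]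
  haveI : IsProper (p ∣_ U) := IsZariskiLocalAtTarget.restrict ‹_› U
  change IsProper (I.subschemeι ≫ (f ∣_ U'))
  rw [hfac]
  infer_instance

end GrothLib.Chev28
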