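import Groth.Agent.Lib.Chev28.PtIntDomain
import Groth.Agent.Lib.Chev28.UnivRed
import Groth.Agent.Lib.LocAcyc.GeomRed
import Groth.Agent.Lib.BrnchNhd.Equiv

/-!
EGA IV 15.3.1: a point with geometrically pointwise integral fibre over a geometrically unibranch point.
-/

universe u

open CategoryTheory CategoryTheory.Limits AlgebraicGeometry TopologicalSpace Topology IsLocalRing
open TensorProduct

noncomputable section

namespace GrothLib.Chev28

variable {X Y : Scheme.{u}}

theorem isReduced_tensor_localization {B C A T K : Type u} [CommRing B] [CommRing C] [CommRing A] [CommRing T]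
    [Field K] [Algebra B C] [Algebra B A] [Algebra B T] [Algebra B K] [Algebra C T] [IsScalarTower B C T]
    [Algebra A T] [IsScalarTower B A T] [Algebra A K] [IsScalarTower B A K]
    (M : Submonoid B) [IsLocalization M A] (N : Submonoid C) [IsLocalization N T]
    [_root_.IsReduced (K ⊗[B] C)] : _root_.IsReduced (K ⊗[A] T) := by
  let N' := N.map (Algebra.TensorProduct.includeRight (R := B) (A := K) (B := C))
  let e := IsLocalization.tensorProductEquivOfMapIncludeRight B K N T (Localization N')
  haveI : _root_.IsReduced (K ⊗[B] T) := isReduced_of_injective e e.injective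
  haveI := IsLocalization.tensorProduct_compatibleSMul M A K T
  let e' := (Algebra.TensorProduct.equivOfCompatibleSMul A B B K T).symm
  exact isReduced_of_injective e' e'.injective

/-- A stalk of a flat morphism of finite presentation with geometrically reduced fibres stays reduced after
base change to fields. -/
theorem isReduced_tensor_stalk_of_flat {X' : Scheme.{u}} (g : X' ⟶ Y) (x : X')
    (hsep : ∀ (K : Type u) [Field K] (k : Spec (CommRingCat.of K) ⟶ Y), AlgebraicGeometry.IsReduced (pullback g k))
    (K : Type u) [Field K] [Algebra (Y.presheaf.stalk (g x)) K] :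
    letI := (g.stalkMap x).hom.toAlgebra
    _root_.IsReduced (K ⊗[Y.presheaf.stalk (g x)] X'.presheaf.stalk x) := by
  obtain ⟨V, hV, hxV, -⟩ := exists_isAffineOpen_mem_and_subset (show g x ∈ (⊤ : Y.Opens) from trivial)
  obtain ⟨U, hU, hxU, hUV⟩ := exists_isAffineOpen_mem_and_subset (show x ∈ g ⁻¹ᵁ V from hxV)
  letI : Algebra Γ(Y, V) Γ(X', U) := (g.appLE V U hUV).hom.toAlgebra
  letI : Algebra Γ(Y, V) (Y.presheaf.stalk (g x)) := (Y.presheaf.germ V (g x) hxV).hom.toAlgebra
  letI : Algebra Γ(X', U) (X'.presheaf.stalk x) := (X'.presheaf.germ U x hxU).hom.toAlgebra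
  letI : Algebra (Y.presheaf.stalk (g x)) (X'.presheaf.stalk x) := (g.stalkMap x).hom.toAlgebra
  letI : Algebra Γ(Y, V) (X'.presheaf.stalk x) :=
    ((X'.presheaf.germ U x hxU).hom.comp (g.appLE V U hUV).hom).toAlgebra
  letI : Algebra Γ(Y, V) K :=
    ((algebraMap (Y.presheaf.stalk (g x)) K).comp (Y.presheaf.germ V (g x) hxV).hom).toAlgebra
  haveI : IsScalarTower Γ(Y, V) Γ(X', U) (X'.presheaf.stalk x) := IsScalarTower.of_algebraMap_eq' rfl
  haveI : IsScalarTower Γ(Y, V) (Y.presheaf.stalk (g x)) K := IsScalarTower.of_algebraMap_eq' rfl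
  haveI : IsScalarTower Γ(Y, V) (Y.presheaf.stalk (g x)) (X'.presheaf.stalk x) :=
    IsScalarTower.of_algebraMap_eq' (by
      show (X'.presheaf.germ U x hxU).hom.comp (g.appLE V U hUV).hom =
        (g.stalkMap x).hom.comp (Y.presheaf.germ V (g x) hxV).hom
      rw [← CommRingCat.hom_comp, ← CommRingCat.hom_comp, Scheme.Hom.germ_stalkMap, Scheme.Hom.appLE,
        Category.assoc, TopCat.Presheaf.germ_res])
  haveI : IsLocalization.AtPrime (Y.presheaf.stalk (g x)) (hV.primeIdealOf ⟨g x, hxV⟩).asIdeal :=
    hV.isLocalization_stalk ⟨g x, hxV⟩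
  haveI : IsLocalization.AtPrime (X'.presheaf.stalk x) (hU.primeIdealOf ⟨x, hxU⟩).asIdeal :=
    hU.isLocalization_stalk ⟨x, hxU⟩
  haveI := GrothLib.LocAcyc.isReduced_fibre_chart g hsep hV hU hUV rfl K
  exact isReduced_tensor_localization (hV.primeIdealOf ⟨g x, hxV⟩).asIdeal.primeCompl
    (hU.primeIdealOf ⟨x, hxU⟩).asIdeal.primeCompl (C := Γ(X', U))

/-- At a point of flatness with geometrically pointwise integral fibre over a geometrically unibranch local
domain the local ring is a domain. -/
theorem isDomain_stalk_of_flat_geomPtIntegralAt [IsLocallyNoetherian Y] (f : X ⟶ Y) [LocallyOfFiniteType f] (x : X)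
    [IsDomain (Y.presheaf.stalk (f x))] (hY : CAlg2.IsGeomUnibranch (Y.presheaf.stalk (f x)))
    (hflat : (f.stalkMap x).hom.Flat)
    (hint : FBase.IsGeomPtIntegralAt (f.fiberToSpecResidueField (f x)) (f.asFiber x)) :
    IsDomain (X.presheaf.stalk x) := by
  haveI := LocallyOfFiniteType.isLocallyNoetherian f
  haveI : LocallyOfFinitePresentation f := inferInstance
  have hred : FBase.IsGeomReducedAt (f.fiberToSpecResidueField (f x)) (f.asFiber x) := fun K _ _ x' hx' =>
    haveI := hint K x' hx'
    inferInstance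
  let O : X.Opens := ⟨_, GrothLib.FibPd.isOpen_flat_geomReduced f⟩
  have hxO : x ∈ O := ⟨hflat, hred⟩
  let g := O.ι ≫ f
  haveI : LocallyOfFinitePresentation g := inferInstance
  haveI : Flat g := (Flat.iff_flat_stalkMap _).mpr fun b => (flat_stalkMap_comp_iff_left O.ι f b).mpr b.2.1
  have hmap : ∀ (K : Type u) [Field K] (k : Spec (CommRingCat.of K) ⟶ Y), ∃ j : pullback g k ⟶ pullback f k,
      IsOpenImmersion j ∧ ∀ w, pullback.fst f k (j w) = O.ι (pullback.fst g k w) := fun K _ k => by
    refine ⟨pullback.map g k f k O.ι (𝟙 _) (𝟙 _) (by rw [Category.comp_id]) (by simp), inferInstance, fun w => ?_⟩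
    rw [← Scheme.Hom.comp_apply, pullback.lift_fst]
    rfl
  have hsep : ∀ (K : Type u) [Field K] (k : Spec (CommRingCat.of K) ⟶ Y),
      AlgebraicGeometry.IsReduced (pullback g k) := fun K _ k => by
    obtain ⟨j, _, hj⟩ := hmap K k
    haveI : ∀ w, _root_.IsReduced ((pullback g k).presheaf.stalk w) := fun w =>
      @GrothLib.SecComp6.isReduced_stalk_of_openImmersion _ _ j _ w
        (GrothLib.SecComp6.isReduced_stalk_of_geomReducedAt f k (j w) (hj w) (pullback.fst g k w).2.2)
    exact isReduced_of_isReduced_stalk _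
  have key : IsDomain ((O : Scheme.{u}).presheaf.stalk ⟨x, hxO⟩) := by
    let x' : (O : Scheme.{u}) := ⟨x, hxO⟩
    haveI : IsLocallyNoetherian (O : Scheme.{u}) := LocallyOfFiniteType.isLocallyNoetherian g
    have : IsDomain (Y.presheaf.stalk (g x')) := ‹_›
    letI : Algebra (Y.presheaf.stalk (g x')) ((O : Scheme.{u}).presheaf.stalk x') := (g.stalkMap x').hom.toAlgebra
    haveI : IsLocalHom (algebraMap (Y.presheaf.stalk (g x')) ((O : Scheme.{u}).presheaf.stalk x')) :=
      inferInstanceAs (IsLocalHom (g.stalkMap x').hom)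
    haveI : Module.Flat (Y.presheaf.stalk (g x')) ((O : Scheme.{u}).presheaf.stalk x') := Flat.stalkMap g x'
    haveI : _root_.IsReduced ((O : Scheme.{u}).presheaf.stalk x') :=
      @GrothLib.SecComp6.isReduced_stalk_of_openImmersion _ _ O.ι _ x'
        (isReduced_stalk_of_flat_of_geomReducedAt f x inferInstance hflat hred)
    have hY' : CAlg2.IsGeomUnibranch (Y.presheaf.stalk (g x')) := hY
    refine isDomain_of_geomUnibranch (A := Y.presheaf.stalk (g x')) hY' ?_ ?_
    · intro K _ _
      exact isReduced_tensor_stalk_of_flat g x' hsep K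
    intro Q _ hQ
    obtain ⟨z, hzdef⟩ : ∃ z, z = (O : Scheme.{u}).fromSpecStalk x' ⟨Q, inferInstance⟩ := ⟨_, rfl⟩
    have hzx : z ⤳ x' := hzdef ▸ (Scheme.range_fromSpecStalk (x := x')).le ⟨_, rfl⟩
    have hPz : GrothLib.CycDiv.primeOf hzx = Q := by
      subst hzdef
      exact GrothLib.CycDiv.primeOf_fromSpecStalk ⟨Q, inferInstance⟩ hzx
    subst hPz
    have hbot : GrothLib.CycDiv.primeOf (hzx.map g.continuous) = ⊥ :=
      (GrothLib.CycDiv.comap_primeOf g hzx).symm.trans hQ
    haveI := isDomain_stalk_generization g x' (fun K _ t w hw => by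
      obtain ⟨j, _, hj⟩ := hmap K t
      haveI := isDomain_stalk_of_geomPtIntegralAt f t (j w) (x := x) (by rw [hj, hw]; rfl) hint
      exact isDomain_stalk_of_openImmersion j w) hzx (by
        letI := (Y.presheaf.stalkSpecializes (hzx.map g.continuous)).hom.toAlgebra
        haveI := GrothLib.CycDiv.isLocalization_stalkSpecializes (hzx.map g.continuous)
        haveI : IsFractionRing (Y.presheaf.stalk (g x')) (Y.presheaf.stalk (g z)) := by
          have h := GrothLib.CycDiv.isLocalization_stalkSpecializes (hzx.map g.continuous)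
          unfold IsLocalization.AtPrime at h
          simp only [hbot, Ideal.primeCompl_bot] at h
          exact h
        exact (IsFractionRing.toField (Y.presheaf.stalk (g x'))).toIsField)
    letI := ((O : Scheme.{u}).presheaf.stalkSpecializes hzx).hom.toAlgebra
    haveI := GrothLib.CycDiv.isLocalization_stalkSpecializes hzx
    exact MulEquiv.isDomain _ (IsLocalization.algEquiv (GrothLib.CycDiv.primeOf hzx).primeCompl
      (Localization.AtPrime (GrothLib.CycDiv.primeOf hzx)) ((O : Scheme.{u}).presheaf.stalk z)).toMulEquiv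
  haveI := key
  exact MulEquiv.isDomain _ (asIso (O.ι.stalkMap ⟨x, hxO⟩)).commRingCatIsoToRingEquiv.toMulEquiv

/-- The local ring of a reduced scheme surjecting by a closed immersion is geometrically unibranch if that of
the target is. -/
theorem isGeomUnibranch_of_surjective_reduced {Yr : Scheme.{u}} [IsReduced Yr] (r : Yr ⟶ Y) [IsClosedImmersion r]
    [Surjective r] (y : Yr) (hY : CAlg2.IsGeomUnibranch (Y.presheaf.stalk (r y))) :
    IsDomain (Yr.presheaf.stalk y) ∧ CAlg2.IsGeomUnibranch (Yr.presheaf.stalk y) := by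
  let A := Y.presheaf.stalk (r y)
  have hsurj : Function.Surjective (r.stalkMap y).hom := r.stalkMap_surjective y
  have hker : RingHom.ker (r.stalkMap y).hom = nilradical A := by
    refine le_antisymm (fun a ha => ?_) fun a ha => ?_
    · rw [nilradical_eq_sInf]
      refine Submodule.mem_sInf.mpr fun (P : Ideal A) (hP : Ideal.IsPrime P) => ?_
      haveI := hP
      have hzy : Y.fromSpecStalk (r y) ⟨P, hP⟩ ⤳ r y := (Scheme.range_fromSpecStalk (x := r y)).le ⟨_, rfl⟩
      obtain ⟨w, hw⟩ := r.surjective (Y.fromSpecStalk (r y) ⟨P, hP⟩)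
      have hwy : w ⤳ y := r.isClosedEmbedding.isInducing.specializes_iff.mp (hw ▸ hzy)
      have h1 := GrothLib.CycDiv.comap_primeOf r hwy
      rw [GrothLib.CycDiv.primeOf_congr (hwy.map r.continuous) hzy hw,
        GrothLib.CycDiv.primeOf_fromSpecStalk ⟨P, hP⟩ hzy] at h1
      have h2 : a ∈ (GrothLib.CycDiv.primeOf hwy).comap (r.stalkMap y).hom := by
        rw [Ideal.mem_comap, RingHom.mem_ker.mp ha]
        exact zero_mem _
      exact h1.le h2
    · exact ((mem_nilradical.mp ha).map (r.stalkMap y).hom).eq_zero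
  let e : A ⧸ nilradical A ≃+* Yr.presheaf.stalk y :=
    (Ideal.quotEquivOfEq hker.symm).trans (RingHom.quotientKerEquivOfSurjective hsurj)
  haveI : IsDomain (A ⧸ nilradical A) := hY.1.1
  haveI : IsDomain (Yr.presheaf.stalk y) := MulEquiv.isDomain _ e.symm.toMulEquiv
  refine ⟨inferInstance, GrothLib.BrnchNhd.isGeomUnibranch_of_ringEquiv (A := A ⧸ nilradical A) e ?_⟩
  haveI : IsIntegrallyClosed (CAlg2.normRed A) :=
    integralClosure.isIntegrallyClosedOfFiniteExtension (FractionRing (CAlg2.red A))
  let φ : A →+* CAlg2.normRed A := (algebraMap (CAlg2.red A) (CAlg2.normRed A)).comp (Ideal.Quotient.mk _)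
  have hinj : Function.Injective (algebraMap (CAlg2.red A) (CAlg2.normRed A)) := fun u v h =>
    IsFractionRing.injective (CAlg2.red A) (FractionRing (CAlg2.red A)) (congrArg Subtype.val h)
  have hbir : ∀ t, ∃ a b, algebraMap (CAlg2.red A) (CAlg2.normRed A) b ≠ 0 ∧
      t * algebraMap (CAlg2.red A) (CAlg2.normRed A) b = algebraMap (CAlg2.red A) (CAlg2.normRed A) a := fun t => by
    obtain ⟨⟨a, b, hb⟩, h⟩ := IsLocalization.surj (nonZeroDivisors (CAlg2.red A)) (t : FractionRing (CAlg2.red A))
    exact ⟨a, b, fun h0 => nonZeroDivisors.ne_zero hb (hinj (h0.trans (map_zero _).symm)), Subtype.ext h⟩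
  rw [GrothLib.GeomUnib.isGeomUnibranch_iff_of_normal (algebraMap (A ⧸ nilradical A) (CAlg2.normRed A))
    (by rw [(RingHom.injective_iff_ker_eq_bot _).mp hinj]; exact (nilradical_eq_zero _).symm)
    (algebraMap_isIntegral_iff.mpr inferInstance) hbir]
  refine ⟨hY.1.2, fun P _ c => ?_⟩
  obtain ⟨n, a, ha⟩ := hY.2 P c
  exact ⟨n, Ideal.Quotient.mk _ a, ha⟩

/-- EGA IV 15.3.1: the point lies on a single component, and the local ring is a domain when that of the base is. -/
theorem existsUnique_component_of_geomPtIntegralAt [IsLocallyNoetherian Y] (f : X ⟶ Y) [LocallyOfFiniteType f] (x : X)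
    (hint : FBase.IsGeomPtIntegralAt (f.fiberToSpecResidueField (f x)) (f.asFiber x))
    (hopen : ∀ z, IsFibreGenericPt f x z → EGA43.IsUnivOpenAt f z)
    (hY : CAlg2.IsGeomUnibranch (Y.presheaf.stalk (f x))) :
    (∃! Z : Set X, Z ∈ irreducibleComponents (X : Type u) ∧ x ∈ Z) ∧
      (IsDomain (Y.presheaf.stalk (f x)) → IsDomain (X.presheaf.stalk x) ∧ (f.stalkMap x).hom.Flat) := by
  haveI : LocallyOfFinitePresentation f := inferInstance
  have hred : FBase.IsGeomReducedAt (f.fiberToSpecResidueField (f x)) (f.asFiber x) := fun K _ _ x' hx' =>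
    haveI := hint K x' hx'
    inferInstance
  refine ⟨?_, fun hd => ?_⟩
  · let I := Scheme.IdealSheafData.vanishingIdeal (X := Y) ⊤
    let r := I.subschemeι
    haveI : IsReduced I.subscheme := GrothLib.RedSub.isReduced_subscheme_vanishingIdeal ⊤
    haveI : Surjective r := ⟨Set.range_eq_univ.mp (by
      rw [GrothLib.RedSub.range_subschemeι_vanishingIdeal]
      rfl)⟩
    haveI : IsLocallyNoetherian I.subscheme := LocallyOfFiniteType.isLocallyNoetherian r
    let f' := pullback.snd f r
    let p := pullback.fst f r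
    haveI : IsClosedImmersion p := MorphismProperty.pullback_fst f r inferInstance
    haveI : Surjective p := MorphismProperty.pullback_fst f r inferInstance
    haveI : LocallyOfFiniteType f' := MorphismProperty.pullback_snd f r inferInstance
    haveI : LocallyOfFinitePresentation f' := MorphismProperty.pullback_snd f r inferInstance
    have hcond : ∀ a, r (f' a) = f (p a) := fun a =>
      (congrArg (fun n : pullback f r ⟶ Y => n a) pullback.condition).symm
    obtain ⟨x', rfl⟩ := p.surjective x
    have hY' : CAlg2.IsGeomUnibranch (Y.presheaf.stalk (r (f' x'))) := by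
      rw [hcond]
      exact hY
    obtain ⟨hd', hY''⟩ := isGeomUnibranch_of_surjective_reduced r (f' x') hY'
    haveI := hd'
    have hint' : FBase.IsGeomPtIntegralAt (f'.fiberToSpecResidueField (f' x')) (f'.asFiber x') :=
      fun K _ _ w hw => by
        let ψ := Spec.map (CommRingCat.ofHom (algebraMap (IsLocalRing.ResidueField (I.subscheme.presheaf.stalk (f' x'))) K))
        have sq : IsPullback (pullback.fst (f'.fiberToSpecResidueField (f' x')) ψ ≫ f'.fiberι (f' x') ≫ p)
            (pullback.snd (f'.fiberToSpecResidueField (f' x')) ψ) f (ψ ≫ I.subscheme.fromSpecResidueField (f' x') ≫ r) :=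
          (IsPullback.of_hasPullback _ _).paste_horiz
            ((IsPullback.of_hasPullback _ _).paste_horiz (IsPullback.of_hasPullback f r))
        haveI := isDomain_stalk_of_geomPtIntegralAt f _ (sq.isoPullback.hom w) (x := p x') (by
          rw [← Scheme.Hom.comp_apply, sq.isoPullback_hom_fst]
          show p (f'.fiberι (f' x') (FBase.bcπ (f'.fiberToSpecResidueField (f' x')) K w)) = _
          rw [show FBase.bcπ (f'.fiberToSpecResidueField (f' x')) K w = f'.asFiber x' from hw, f'.fiberι_asFiber]) hint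
        exact isDomain_stalk_of_openImmersion sq.isoPullback.hom w
    have hflat' : (f'.stalkMap x').hom.Flat :=
      flat_stalkMap_of_isUnivOpenAt_of_geomReducedAt f' x' inferInstance (isGeomReducedAt_baseChange f r x' hred)
        fun z ⟨hzx, hfz, hzmax⟩ => by
          refine GrothLib.OpenAt.univOpenAt_baseChange (hopen (p z) ⟨hzx.map p.continuous, ?_, fun w hw hfw => ?_⟩)
            (IsPullback.of_hasPullback f r) z rfl
          · rw [← hcond, ← hcond, hfz]
          · obtain ⟨w', rfl⟩ := p.surjective w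
            rw [hzmax w' (p.isClosedEmbedding.isInducing.specializes_iff.mp hw)
              (r.isClosedEmbedding.injective (by rw [hcond, hfw, ← hcond]))]
    haveI := isDomain_stalk_of_flat_geomPtIntegralAt f' x' hY'' hflat' hint'
    let ξ := p ((pullback f r).fromSpecStalk x' ⟨⊥, Ideal.isPrime_bot⟩)
    have hξ : ∀ z, z ⤳ p x' → ξ ⤳ z := fun z hz => by
      obtain ⟨z', rfl⟩ := p.surjective z
      obtain ⟨Q, hQ⟩ := (Scheme.range_fromSpecStalk (x := x')).ge
        (p.isClosedEmbedding.isInducing.specializes_iff.mp hz)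
      rw [← hQ]
      exact ((PrimeSpectrum.le_iff_specializes (⟨⊥, Ideal.isPrime_bot⟩ : PrimeSpectrum _) Q).mp
        (show (⊥ : Ideal _) ≤ Q.asIdeal from bot_le)).map ((pullback f r).fromSpecStalk x' ≫ p).continuous
    have hξx : ξ ⤳ p x' := ((Scheme.range_fromSpecStalk (x := x')).le ⟨_, rfl⟩ :
      (pullback f r).fromSpecStalk x' ⟨⊥, Ideal.isPrime_bot⟩ ⤳ x').map p.continuous
    have hmax : ∀ z, z ⤳ ξ → z = ξ := fun z hz => (hz.antisymm (hξ z (hz.trans hξx))).eq
    refine ⟨closure {ξ}, ⟨GrothLib.Equidim6.closure_mem_components hmax, hξx.mem_closure⟩, ?_⟩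
    rintro Z ⟨hZ, hxZ⟩
    obtain ⟨η, hηmax, hη⟩ : ∃ η, (∀ z, z ⤳ η → z = η) ∧ closure {η} = Z := by
      have hg := hZ.1.isGenericPoint_genericPoint (isClosed_of_mem_irreducibleComponents Z hZ)
      refine ⟨hZ.1.genericPoint, fun z hz => ?_, hg.def⟩
      have hsub : Z ⊆ closure {z} := hg.def ▸ closure_minimal (Set.singleton_subset_iff.2 hz.mem_closure) isClosed_closure
      exact ((show IsGenericPoint z Z from
        Set.Subset.antisymm (hZ.2 isIrreducible_singleton.closure hsub) hsub).eq hg)
    subst hη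
    rw [← hηmax ξ (hξ η (specializes_iff_mem_closure.mpr hxZ))]
  · haveI := hd
    have hflat := flat_stalkMap_of_isUnivOpenAt_of_geomReducedAt f x inferInstance hred hopen
    exact ⟨isDomain_stalk_of_flat_geomPtIntegralAt f x hY hflat hint, hflat⟩

end GrothLib.Chev28
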