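import Groth.Agent.Lib.Chev28.PtIntOpen
import Groth.Agent.S0414
import Groth.Agent.Lib.LimDescend.FgSub
import Mathlib.AlgebraicGeometry.Noetherian

/-!
EGA IV 12.1 / 9.7: the locus of geometric pointwise integrality of the fibres is locally constructible.
-/

universe u

open CategoryTheory CategoryTheory.Limits AlgebraicGeometry TopologicalSpace Topology IsLocalRing

noncomputable section

namespace GrothLib.Chev28

variable {X Y : Scheme.{u}}

/-- Geometric pointwise integrality in the fibre is invariant under base change. -/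
theorem isGeomPtIntegralAt_fiber_baseChange_iff {X' Y' : Scheme.{u}} {g' : X' ⟶ X} {f' : X' ⟶ Y'} {f : X ⟶ Y}
    {g : Y' ⟶ Y} (sq : IsPullback g' f' f g) (a : X') :
    FBase.IsGeomPtIntegralAt (f'.fiberToSpecResidueField (f' a)) (f'.asFiber a) ↔
      FBase.IsGeomPtIntegralAt (f.fiberToSpecResidueField (f (g' a))) (f.asFiber (g' a)) := by
  let κ := IsLocalRing.ResidueField (Y'.presheaf.stalk (f' a))
  let K := AlgebraicClosure κ
  let t : Spec (CommRingCat.of K) ⟶ Y' :=
    Spec.map (CommRingCat.ofHom (algebraMap κ K)) ≫ Y'.fromSpecResidueField (f' a)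
  obtain ⟨w, hw, -⟩ := Scheme.Pullback.exists_preimage_pullback (f := f') (g := t) a
    (IsLocalRing.closedPoint K) (Y'.fromSpecResidueField_apply (f' a) _).symm
  let k := ((IsPullback.of_hasPullback f' t).paste_horiz sq).isoPullback.hom
  have hk : pullback.fst f (t ≫ g) (k w) = g' a := by
    rw [← Scheme.Hom.comp_apply, IsPullback.isoPullback_hom_fst, Scheme.Hom.comp_apply, hw]
  constructor <;> intro h
  · haveI := isDomain_stalk_of_geomPtIntegralAt f' t w hw h
    exact isGeomPtIntegralAt_of_isDomain_pullback f (t ≫ g) (k w)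
      (MulEquiv.isDomain _ (asIso (k.stalkMap w)).commRingCatIsoToRingEquiv.toMulEquiv) hk
  · haveI := isDomain_stalk_of_geomPtIntegralAt f (t ≫ g) (k w) hk h
    exact isGeomPtIntegralAt_of_isDomain_pullback f' t w (isDomain_stalk_of_openImmersion k w) hw

/-- Around each of its points the locus contains a constructible set. -/
theorem exists_isConstructible_subset_ptInt [CompactSpace X] [QuasiSeparatedSpace X] [IsAffine Y] (f : X ⟶ Y)
    [LocallyOfFinitePresentation f] (z : X)
    (hz : FBase.IsGeomPtIntegralAt (f.fiberToSpecResidueField (f z)) (f.asFiber z)) :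
    ∃ C : Set X, IsConstructible C ∧ z ∈ C ∧
      C ⊆ {x : X | FBase.IsGeomPtIntegralAt (f.fiberToSpecResidueField (f x)) (f.asFiber x)} := by
  let P : ∀ y, ↥(f.fiber y) → Prop := fun y x => FBase.IsGeomPtIntegralAt (f.fiberToSpecResidueField y) x
  have hO : IsOpen {w : ↥(f.fiber (f z)) | P (f z) w} :=
    @GrothLib.FBase7.isOpen_isGeomPtIntegralAt (IsLocalRing.ResidueField (Y.presheaf.stalk (f z))) _ _
      (f.fiberToSpecResidueField (f z)) (MorphismProperty.pullback_snd f _ inferInstance)
  obtain ⟨O', hO', hOO⟩ := (f.fiberι (f z)).isEmbedding.isInducing.isOpen_iff.mp hO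
  have hzO : z ∈ O' := by
    rw [← f.fiberι_asFiber z]
    exact hOO.ge hz
  obtain ⟨_, ⟨(U : X.Opens), hU, rfl⟩, hzU, hUO⟩ := X.isBasis_affineOpens.exists_subset_of_mem_open hzO hO'
  haveI : IsAffine U := hU
  let g := U.ι ≫ f
  haveI : QuasiCompact g := inferInstance
  haveI : QuasiSeparated g := inferInstance
  let C := {y | ∀ w : ↥(g.fiber y), FBase.IsGeomPtIntegralAt (g.fiberToSpecResidueField y) w}
  have key : ∀ u : U, FBase.IsGeomPtIntegralAt (g.fiberToSpecResidueField (g u)) (g.asFiber u) ↔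
      P (f (U.ι u)) (f.asFiber (U.ι u)) :=
    fun u => isGeomPtIntegralAt_fiber_openImmersion_iff g f U.ι (𝟙 Y) (Category.comp_id _) u
  have hzC : f z ∈ C := by
    intro w
    rw [← GrothLib.FibPd.asFiber_iff g (fun y w => FBase.IsGeomPtIntegralAt (g.fiberToSpecResidueField y) w) (f z) w,
      key]
    obtain ⟨w', hw'⟩ : U.ι (g.fiberι (f z) w) ∈ Set.range (f.fiberι (f z)) := by
      rw [f.range_fiberι]
      exact GrothLib.FibreFlat.fiberι_comp_apply g (f z) w
    rw [← hw', GrothLib.FibPd.asFiber_iff f P]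
    refine hOO.le ?_
    show f.fiberι (f z) w' ∈ O'
    rw [hw']
    exact hUO (g.fiberι (f z) w).2
  exact ⟨(U : Set X) ∩ f ⁻¹' C, (hU.isCompact.isConstructible U.2).inter
    (f.isConstructible_preimage (isLocallyConstructible_forall_isGeomPtIntegralAt g).isConstructible),
    ⟨hzU, hzC⟩, fun x ⟨hxU, hxC⟩ => (key ⟨x, hxU⟩).mp (hxC (g.asFiber ⟨x, hxU⟩))⟩

/-- The noetherian case. -/
theorem isConstructible_ptInt_noetherian [IsAffine Y] [IsLocallyNoetherian Y] (f : X ⟶ Y) [LocallyOfFiniteType f]
    [QuasiCompact f] :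
    IsConstructible {x : X | FBase.IsGeomPtIntegralAt (f.fiberToSpecResidueField (f x)) (f.asFiber x)} := by
  let E : Set X := {x | FBase.IsGeomPtIntegralAt (f.fiberToSpecResidueField (f x)) (f.asFiber x)}
  haveI : LocallyOfFinitePresentation f := LocallyOfFinitePresentation.iff_locallyOfFiniteType.mpr inferInstance
  haveI : IsLocallyNoetherian X := LocallyOfFiniteType.isLocallyNoetherian f
  haveI : CompactSpace ↥X := QuasiCompact.compactSpace_of_compactSpace f
  haveI : IsNoetherian X := {}
  refine GrothLib.NoethTop.isConstructible_of_forall fun Z hZ hi hd => ?_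
  obtain ⟨z, hz⟩ := QuasiSober.sober hi hZ
  by_cases hzE : z ∈ E
  · obtain ⟨C, hC, hzC, hCE⟩ := exists_isConstructible_subset_ptInt f z hzE
    obtain ⟨U, hU, hne, hUC⟩ := (GrothLib.NoethTop.isConstructible_dense_iff hi hC).mp
      (hz.def.ge.trans (closure_mono (Set.singleton_subset_iff.mpr ⟨hzC, hz.mem⟩)))
    exact ⟨U, hU, hne, hUC.trans hCE⟩
  · exfalso
    let T : Closeds Y := ⟨closure {f z}, isClosed_closure⟩
    let I := Scheme.IdealSheafData.vanishingIdeal T
    let i := I.subschemeι
    have hrange : Set.range i = closure {f z} :=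
      I.range_subschemeι.trans (Scheme.IdealSheafData.coe_support_vanishingIdeal _)
    haveI : IsReduced I.subscheme := GrothLib.RedSub.isReduced_subscheme_vanishingIdeal _
    let f' := pullback.snd f i
    let g' := pullback.fst f i
    obtain ⟨U, hU, hflat, -⟩ := Groth.Agent.S0414.result f'
    haveI := hflat
    obtain ⟨a₀, ha₀⟩ := hrange.ge (subset_closure rfl : f z ∈ closure {f z})
    have hgen : ∀ b : I.subscheme, a₀ ⤳ b := fun b => by
      rw [← i.isEmbedding.isInducing.specializes_iff, ha₀]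
      exact specializes_iff_mem_closure.mpr (hrange.le ⟨b, rfl⟩)
    have ha₀U : a₀ ∈ U := by
      haveI : Nonempty I.subscheme := ⟨a₀⟩
      obtain ⟨b, hb⟩ := hU.nonempty
      exact (hgen b).mem_open U.2 hb
    obtain ⟨V, hV, hVU⟩ := i.isEmbedding.isInducing.isOpen_iff.mp U.2
    have hno : ∀ x ∈ Z, f x ∈ V → x ∉ E := by
      intro x hxZ hxV hxE
      have hzx : z ⤳ x := hz.specializes hxZ
      have hlift : ∀ v : X, f v ∈ closure {f z} → ∃ a, g' a = v := fun v hv => by
        have h : v ∈ Set.range g' := by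
          rw [Scheme.Pullback.range_fst]
          exact hrange.ge hv
        exact h
      obtain ⟨a, rfl⟩ := hlift x (hzx.map f.continuous).mem_closure
      obtain ⟨b, hb⟩ := hlift z (subset_closure rfl)
      haveI : IsPreimmersion g' := MorphismProperty.pullback_fst f i inferInstance
      have hba : b ⤳ a := g'.isEmbedding.isInducing.specializes_iff.mp (hb.symm ▸ hzx)
      have haU : f' a ∈ U := by
        show f' a ∈ (U : Set I.subscheme)
        refine (Set.ext_iff.mp hVU (f' a)).mp ?_
        show i (f' a) ∈ V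
        rwa [← Scheme.Hom.comp_apply, ← pullback.condition, Scheme.Hom.comp_apply]
      have hbU : b ∈ f' ⁻¹ᵁ U := (hba.map f'.continuous).mem_open U.2 haU
      let W := f' ⁻¹ᵁ U
      have key : ∀ w : W.toScheme,
          FBase.IsGeomPtIntegralAt ((f' ∣_ U).fiberToSpecResidueField ((f' ∣_ U) w)) ((f' ∣_ U).asFiber w) ↔
            g' (W.ι w) ∈ E := fun w =>
        (isGeomPtIntegralAt_fiber_openImmersion_iff (f' ∣_ U) f' W.ι U.ι (morphismRestrict_ι _ _) w).trans
          (isGeomPtIntegralAt_fiber_baseChange_iff (IsPullback.of_hasPullback f i) (W.ι w))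
      haveI : LocallyOfFinitePresentation f' := MorphismProperty.pullback_snd f i inferInstance
      have hsp : (⟨b, hbU⟩ : W.toScheme) ⤳ ⟨a, haU⟩ := W.ι.isEmbedding.isInducing.specializes_iff.mp hba
      have := (key ⟨b, hbU⟩).mp (isGeomPtIntegralAt_generization (f' ∣_ U) hsp ((key ⟨a, haU⟩).mpr hxE))
      exact hzE (hb ▸ this)
    have hzV : f z ∈ V := by
      rw [← ha₀]
      exact hVU.ge ha₀U
    obtain ⟨x, hxV, hxE, hxZ⟩ := mem_closure_iff.mp (hd hz.mem) _ (hV.preimage f.continuous) hzV
    exact hno x hxZ hxV hxE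

/-- The case of an affine source and base. -/
theorem isConstructible_ptInt_Spec {A : Type u} [CommRing A] (f : X ⟶ Spec (CommRingCat.of A))
    [LocallyOfFinitePresentation f] [QuasiCompact f] [QuasiSeparated f] :
    IsConstructible {x : X | FBase.IsGeomPtIntegralAt (f.fiberToSpecResidueField (f x)) (f.asFiber x)} := by
  let f₁ : X ⟶ (GrothLib.LimDescend.fgCone A).pt := f
  haveI : LocallyOfFinitePresentation f₁ := ‹LocallyOfFinitePresentation f›
  haveI : QuasiCompact f₁ := ‹QuasiCompact f›
  haveI : QuasiSeparated f₁ := ‹QuasiSeparated f›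
  obtain ⟨i, ⟨M⟩⟩ := GrothLib.LimDescend.exists_model (GrothLib.LimDescend.fgDiagram A)
    (GrothLib.LimDescend.fgCone A) (GrothLib.LimDescend.isLimitFgCone A) f₁
  haveI : Algebra.FiniteType ℤ i.unop.1 := i.unop.1.fg_iff_finiteType.mp i.unop.2
  haveI : IsNoetherianRing i.unop.1 := Algebra.FiniteType.isNoetherianRing ℤ i.unop.1
  let π : Spec (CommRingCat.of A) ⟶ (GrothLib.LimDescend.fgDiagram A).obj i :=
    (GrothLib.LimDescend.fgCone A).π.app i
  have hpb : IsPullback M.proj f M.hom π := M.isPullback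
  haveI : IsAffine ((GrothLib.LimDescend.fgDiagram A).obj i) :=
    inferInstanceAs (IsAffine (Spec (CommRingCat.of i.unop.1)))
  haveI : IsLocallyNoetherian ((GrothLib.LimDescend.fgDiagram A).obj i) :=
    inferInstanceAs (IsLocallyNoetherian (Spec (CommRingCat.of i.unop.1)))
  have hset : {x : X | FBase.IsGeomPtIntegralAt (f.fiberToSpecResidueField (f x)) (f.asFiber x)} =
      M.proj ⁻¹' {x | FBase.IsGeomPtIntegralAt (M.hom.fiberToSpecResidueField (M.hom x)) (M.hom.asFiber x)} :=
    Set.ext fun x => isGeomPtIntegralAt_fiber_baseChange_iff hpb x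
  rw [hset]
  exact M.proj.isConstructible_preimage (isConstructible_ptInt_noetherian M.hom)

/-- EGA IV 9.7.7 (iii) pointwise. -/
theorem isLocallyConstructible_ptInt (f : X ⟶ Y) [LocallyOfFinitePresentation f] :
    IsLocallyConstructible {x : X | FBase.IsGeomPtIntegralAt (f.fiberToSpecResidueField (f x)) (f.asFiber x)} := by
  intro x
  obtain ⟨_, ⟨(V : Y.Opens), hV, rfl⟩, hxV, -⟩ :=
    Y.isBasis_affineOpens.exists_subset_of_mem_open (Set.mem_univ (f x)) isOpen_univ
  obtain ⟨_, ⟨(U : X.Opens), hU, rfl⟩, hxU, hUV⟩ :=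
    X.isBasis_affineOpens.exists_subset_of_mem_open (show x ∈ f ⁻¹ᵁ V from hxV) (f ⁻¹ᵁ V).2
  haveI : IsAffine U := hU
  haveI : IsAffine V := hV
  let g : U.toScheme ⟶ V.toScheme := f.resLE V U hUV
  haveI : LocallyOfFinitePresentation g := IsZariskiLocalAtSource.resLE _ inferInstance
  let e := hV.isoSpec
  haveI : LocallyOfFinitePresentation (g ≫ e.hom) := inferInstance
  haveI : QuasiCompact (g ≫ e.hom) := inferInstance
  haveI : QuasiSeparated (g ≫ e.hom) := inferInstance
  refine ⟨(U : Set X), U.2.mem_nhds hxU, U.2, ?_⟩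
  show IsConstructible (X := U.toScheme)
    (U.ι ⁻¹' {x : X | FBase.IsGeomPtIntegralAt (f.fiberToSpecResidueField (f x)) (f.asFiber x)})
  convert isConstructible_ptInt_Spec (g ≫ e.hom) using 1
  ext u
  exact ((isGeomPtIntegralAt_fiber_openImmersion_iff g f U.ι V.ι (Scheme.Hom.resLE_comp_ι _ _) u).symm.trans
    (isGeomPtIntegralAt_fiber_openImmersion_iff g (g ≫ e.hom) (𝟙 _) e.hom (Category.id_comp _).symm u))

end GrothLib.Chev28
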