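import Groth.Agent.Lib.Chev28.FlatVal
import Groth.Agent.Lib.HTop.Val
import Groth.Agent.Lib.LocAcyc.KrullDivide
import Groth.Agent.Lib.N2.MoriNagata
import Groth.Agent.Lib.GeomUnib.Criterion
import Groth.Agent.Lib.SecComp6.Univ.Basic
import Mathlib.Algebra.CharP.Lemmas
import Mathlib.RingTheory.IntegralClosure.IsIntegralClosure.Basic
import Mathlib.RingTheory.Flat.Stability

/-!
EGA IV 15.3: local rings of flat schemes with geometrically pointwise integral fibre over a geometrically
unibranch base are domains.
-/

universe u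

open CategoryTheory CategoryTheory.Limits AlgebraicGeometry TopologicalSpace Topology IsLocalRing
open TensorProduct

noncomputable section

namespace GrothLib.Chev28

section Algebra

/-- A local algebra tensored with an integral extension with local total ring and purely inseparable residue
extension stays local. -/
theorem isLocalRing_tensor_of_purelyInseparable {A A' T : Type u} [CommRing A] [IsLocalRing A] [CommRing A']
    [IsLocalRing A'] [CommRing T] [IsLocalRing T] [Algebra A A'] [Algebra.IsIntegral A A']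
    [Algebra A T] [IsLocalHom (algebraMap A T)] [Nontrivial (A' ⊗[A] T)]
    (hins : ∀ c : A' ⧸ maximalIdeal A', ∃ n : ℕ, c ^ ringExpChar (A' ⧸ maximalIdeal A') ^ n ∈
      ((Ideal.Quotient.mk (maximalIdeal A')).comp (algebraMap A A')).range) :
    IsLocalRing (A' ⊗[A] T) := by
  letI : Algebra T (A' ⊗[A] T) := Algebra.TensorProduct.rightAlgebra
  let E := A' ⊗[A] T
  let m := maximalIdeal A'
  let q := ringExpChar (A' ⧸ m)
  let i : A' →+* E := Algebra.TensorProduct.includeLeftRingHom
  let j : T →+* E := (Algebra.TensorProduct.includeRight : T →ₐ[A] E).toRingHom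
  have hij : ∀ a : A, i (algebraMap A A' a) = j (algebraMap A T a) := fun a => by
    show algebraMap A A' a ⊗ₜ[A] (1 : T) = (1 : A') ⊗ₜ[A] algebraMap A T a
    rw [Algebra.algebraMap_eq_smul_one, smul_tmul, ← Algebra.algebraMap_eq_smul_one]
  haveI : Algebra.IsIntegral T E := by
    refine Algebra.IsIntegral.of_surjective (R := T) (A := T ⊗[A] A')
      ({ (Algebra.TensorProduct.comm A T A').toRingEquiv.toRingHom with
         commutes' := fun t => rfl } : T ⊗[A] A' →ₐ[T] E) (Algebra.TensorProduct.comm A T A').surjective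
  have hcomap : ∀ M : Ideal E, M.IsMaximal → M.comap j = maximalIdeal T ∧ M.comap i = m := by
    intro M hM
    have h1 : M.comap j = maximalIdeal T :=
      IsLocalRing.eq_maximalIdeal (Ideal.isMaximal_comap_of_isIntegral_of_isMaximal (R := T) M)
    refine ⟨h1, IsLocalRing.eq_maximalIdeal ?_⟩
    haveI : (M.comap i).IsPrime := Ideal.comap_isPrime i M
    refine Ideal.isMaximal_of_isIntegral_of_isMaximal_comap (R := A) _ ?_
    rw [Ideal.comap_comap, show i.comp (algebraMap A A') = j.comp (algebraMap A T) from RingHom.ext hij,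
      ← Ideal.comap_comap, h1, ((local_hom_TFAE (algebraMap A T)).out 0 4 rfl rfl).1 inferInstance]
    exact maximalIdeal.isMaximal A
  obtain ⟨M₀, hM₀⟩ := Ideal.exists_maximal E
  let Q := E ⧸ m.map i
  let κ : A' ⧸ m →+* Q := Ideal.Quotient.lift m ((Ideal.Quotient.mk _).comp i) fun a ha =>
    Ideal.Quotient.eq_zero_iff_mem.mpr (Ideal.mem_map_of_mem i ha)
  haveI : Nontrivial Q := Ideal.Quotient.nontrivial_iff.mpr fun h => hM₀.ne_top (eq_top_iff.mpr
    (h.ge.trans (Ideal.map_le_iff_le_comap.mpr (hcomap M₀ hM₀).2.ge)))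
  letI : Field (A' ⧸ m) := Ideal.Quotient.field m
  haveI : ExpChar Q q := expChar_of_injective_ringHom κ.injective q
  let ρ : T →+* Q := (Ideal.Quotient.mk _).comp j
  have key : ∀ ξ : E, ∃ n : ℕ, Ideal.Quotient.mk (m.map i) ξ ^ q ^ n ∈ ρ.range := by
    intro ξ
    induction ξ using TensorProduct.induction_on with
    | zero => exact ⟨0, ⟨0, by simp⟩⟩
    | tmul c t =>
      obtain ⟨n, a, ha⟩ := hins (Ideal.Quotient.mk m c)
      refine ⟨n, algebraMap A T a * t ^ q ^ n, ?_⟩
      have h1 : c ⊗ₜ[A] t = i c * j t := by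
        show c ⊗ₜ[A] t = (c ⊗ₜ[A] (1 : T)) * ((1 : A') ⊗ₜ[A] t)
        rw [Algebra.TensorProduct.tmul_mul_tmul, mul_one, one_mul]
      rw [h1, map_mul, map_mul, map_pow, mul_pow]
      congr 1
      show ρ (algebraMap A T a) = κ (Ideal.Quotient.mk m c) ^ q ^ n
      rw [← map_pow, ← ha]
      exact congrArg (Ideal.Quotient.mk _) (hij a).symm
    | add x y hx hy =>
      obtain ⟨n₁, t₁, h₁⟩ := hx
      obtain ⟨n₂, t₂, h₂⟩ := hy
      refine ⟨n₁ + n₂, t₁ ^ q ^ n₂ + t₂ ^ q ^ n₁, ?_⟩
      rw [map_add ρ, map_pow, map_pow, h₁, h₂, ← pow_mul, ← pow_mul, ← pow_add, ← pow_add, add_comm n₂ n₁,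
        map_add, add_pow_expChar_pow]
  refine IsLocalRing.of_unique_max_ideal ⟨M₀, hM₀, fun M hM => hM.eq_of_le hM₀.ne_top fun ξ hξ => ?_⟩
  obtain ⟨n, t, ht⟩ := key ξ
  have hsub : ∀ N : Ideal E, N.IsMaximal → (j t ∈ N ↔ ξ ^ q ^ n ∈ N) := fun N hN => by
    have hd : j t - ξ ^ q ^ n ∈ N :=
      (Ideal.map_le_iff_le_comap.mpr (hcomap N hN).2.ge) (Ideal.Quotient.eq.mp (ht.trans (map_pow _ _ _).symm))
    exact ⟨fun h => by simpa using N.sub_mem h hd, fun h => by simpa using N.add_mem hd h⟩
  have h1 : j t ∈ M := (hsub M hM).mpr (Ideal.pow_mem_of_mem M hξ _ (pow_pos (expChar_pos Q q) n))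
  have h2 : t ∈ M₀.comap j := by
    rw [(hcomap M₀ hM₀).1, ← (hcomap M hM).1]
    exact h1
  exact hM₀.isPrime.mem_of_pow_mem _ ((hsub M₀ hM₀).mp h2)

/-- Over a local domain with local normalization and purely inseparable residue extension, a flat local algebra
with reduced fibres has no nontrivial idempotent in its generic fibre. -/
theorem eq_zero_or_eq_of_mul_self {A A' T : Type u} [CommRing A] [IsLocalRing A] [CommRing A'] [IsDomain A']
    [IsLocalRing A'] [CommRing T] [IsLocalRing T] [Algebra A A'] [Algebra.IsIntegral A A'] [Algebra A T]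
    [IsLocalHom (algebraMap A T)] [Module.Flat A T] (hinj : Function.Injective (algebraMap A A'))
    {ι : Type u} (F : GrothLib.Krull.Family A' ι)
    (hred : ∀ (K : Type u) [Field K] [Algebra A K], _root_.IsReduced (K ⊗[A] T))
    (hins : ∀ c : A' ⧸ maximalIdeal A', ∃ n : ℕ, c ^ ringExpChar (A' ⧸ maximalIdeal A') ^ n ∈
      ((Ideal.Quotient.mk (maximalIdeal A')).comp (algebraMap A A')).range)
    {a : A} (ha : a ≠ 0) {t : T} (h : t * t = algebraMap A T a * t) :
    t = 0 ∨ t = algebraMap A T a := by
  let E := A' ⊗[A] T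
  let j : T →ₐ[A] E := Algebra.TensorProduct.includeRight
  have hj : Function.Injective j := Algebra.TensorProduct.includeRight_injective hinj
  haveI : Nontrivial E := hj.nontrivial
  haveI := isLocalRing_tensor_of_purelyInseparable (T := T) hins
  have ha' : algebraMap A A' a ≠ 0 := fun h0 => ha (hinj (h0.trans (map_zero _).symm))
  have hred' : ∀ (K : Type u) [Field K] [Algebra A' K], _root_.IsReduced (K ⊗[A'] E) := by
    intro K _ _
    letI : Algebra A K := ((algebraMap A' K).comp (algebraMap A A')).toAlgebra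
    haveI : IsScalarTower A A' K := IsScalarTower.of_algebraMap_eq fun _ => rfl
    haveI := hred K
    exact isReduced_of_injective (Algebra.TensorProduct.cancelBaseChange A A' A' K T)
      (Algebra.TensorProduct.cancelBaseChange A A' A' K T).injective
  have hja : j (algebraMap A T a) = algebraMap A' E (algebraMap A A' a) :=
    (j.commutes a).trans (IsScalarTower.algebraMap_apply A A' E a)
  have hb : j t * j t = algebraMap A A' a • j t := by
    rw [← map_mul, h, map_mul, hja, Algebra.smul_def]
  have hmem := GrothLib.LocAcyc.mem_span_of_family F hred' ha' hb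
  rw [Ideal.map_span, Set.image_singleton, Ideal.mem_span_singleton] at hmem
  obtain ⟨e, he⟩ := hmem
  rw [← Algebra.smul_def] at he
  have hee : e * e = e := by
    refine sub_eq_zero.mp (GrothLib.LocAcyc.smul_eq_zero_of_flat (mul_ne_zero ha' ha') ?_)
    rw [smul_sub, sub_eq_zero, mul_smul, mul_smul]
    conv_rhs => rw [← he, ← hb, he, smul_mul_smul_comm, ← smul_smul]
  rcases IsLocalRing.isUnit_or_isUnit_one_sub_self e with hu | hu
  · refine Or.inr (hj ?_)
    rw [hja, he, show e = 1 from hu.mul_left_cancel (hee.trans (mul_one e).symm), ← Algebra.algebraMap_eq_smul_one]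
  · refine Or.inl (hj ?_)
    rw [map_zero, he, show e = 0 from hu.mul_right_eq_zero.mp (by rw [sub_mul, one_mul, hee, sub_self]), smul_zero]

/-- A flat local algebra with this property and with domains as local rings of the generic fibre is a domain. -/
theorem isDomain_of_generic {A T : Type u} [CommRing A] [IsDomain A] [CommRing T] [IsLocalRing T]
    [IsNoetherianRing T] [_root_.IsReduced T] [Algebra A T] [Module.Flat A T]
    (hidem : ∀ a : A, a ≠ 0 → ∀ t : T, t * t = algebraMap A T a * t → t = 0 ∨ t = algebraMap A T a)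
    (hloc : ∀ (Q : Ideal T) [Q.IsPrime], Q.comap (algebraMap A T) = ⊥ → IsDomain (Localization.AtPrime Q)) :
    IsDomain T := by
  classical
  let M := Algebra.algebraMapSubmonoid T (nonZeroDivisors A)
  let S := Localization M
  have hM : ∀ s ∈ M, s ∈ nonZeroDivisors T := by
    rintro _ ⟨a, ha, rfl⟩
    rw [mem_nonZeroDivisors_iff_right]
    intro z hz
    exact GrothLib.LocAcyc.smul_eq_zero_of_flat (nonZeroDivisors.ne_zero ha)
      (by rw [Algebra.smul_def, mul_comm]; exact hz)
  have hinj : Function.Injective (algebraMap T S) := IsLocalization.injective S hM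
  haveI : Nontrivial S := hinj.nontrivial
  haveI : IsNoetherianRing S := IsLocalization.isNoetherianRing M S inferInstance
  have hidS : ∀ e : S, e * e = e → e = 0 ∨ e = 1 := by
    intro e he
    obtain ⟨t, s, rfl⟩ := IsLocalization.exists_mk'_eq M e
    obtain ⟨a, ha, has⟩ := s.2
    have ht : t * t = algebraMap A T a * t := hinj (by
      rw [map_mul, map_mul, show algebraMap A T a = (s : T) from has, ← IsLocalization.mk'_spec' S t s,
        mul_mul_mul_comm, he]
      ring)
    rcases hidem a (nonZeroDivisors.ne_zero ha) t ht with rfl | rfl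
    · exact Or.inl (IsLocalization.mk'_zero _)
    · refine Or.inr ?_
      rw [IsLocalization.mk'_eq_iff_eq_mul, one_mul]
      exact congrArg _ has
  have hcop : ∀ p ∈ minimalPrimes S, ∀ p' ∈ minimalPrimes S, p ≠ p' → p ⊔ p' = ⊤ := by
    intro p hp p' hp' hne
    by_contra htop
    obtain ⟨N, hN, hle⟩ := Ideal.exists_le_maximal _ htop
    haveI := hN.isPrime
    haveI := hp.1.1
    haveI := hp'.1.1
    let Q := N.comap (algebraMap T S)
    have hQ := (IsLocalization.isPrime_iff_isPrime_disjoint M S N).mp inferInstance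
    haveI : Q.IsPrime := hQ.1
    haveI := hloc Q (by
      rw [eq_bot_iff]
      intro a ha
      by_contra ha0
      exact Set.disjoint_left.mp hQ.2 ⟨a, mem_nonZeroDivisors_of_ne_zero ha0, rfl⟩ ha)
    let L := Localization.AtPrime Q
    have key : ∀ P ∈ minimalPrimes S, P ≤ N → P.comap (algebraMap T S) = (⊥ : Ideal L).comap (algebraMap T L) := by
      intro P hP hPN
      haveI := hP.1.1
      haveI : ((⊥ : Ideal L).comap (algebraMap T L)).IsPrime := Ideal.comap_isPrime _ _
      have hle' : (⊥ : Ideal L).comap (algebraMap T L) ≤ P.comap (algebraMap T S) := fun z hz => by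
        obtain ⟨⟨s, hs⟩, hsz⟩ := (IsLocalization.map_eq_zero_iff Q.primeCompl L z).mp hz
        exact ((Ideal.comap_isPrime (algebraMap T S) P).mem_or_mem
          (show s * z ∈ P.comap (algebraMap T S) from hsz.symm ▸ zero_mem _)).resolve_left fun h => hs (hPN h)
      refine le_antisymm ?_ hle'
      have hdis : Disjoint (M : Set T) ((⊥ : Ideal L).comap (algebraMap T L)) :=
        ((IsLocalization.isPrime_iff_isPrime_disjoint M S P).mp inferInstance).2.mono_right hle'
      have hP' := hP.2 ⟨IsLocalization.isPrime_of_isPrime_disjoint M S _ inferInstance hdis, bot_le⟩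
        ((Ideal.map_mono hle').trans Ideal.map_comap_le)
      refine (Ideal.comap_mono hP').trans (IsLocalization.comap_map_of_isPrime_disjoint M S inferInstance hdis).le
    exact hne (by
      rw [← IsLocalization.map_comap M S p, ← IsLocalization.map_comap M S p',
        Ideal.under_def, Ideal.under_def, key p hp (le_sup_left.trans hle), key p' hp' (le_sup_right.trans hle)])
  suffices hs : (minimalPrimes S).Subsingleton by
    obtain ⟨N, hN⟩ := Ideal.exists_maximal S
    haveI := hN.isPrime
    obtain ⟨p, hp, -⟩ := Ideal.exists_minimalPrimes_le (I := (⊥ : Ideal S)) (J := N) bot_le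
    haveI := hp.1.1
    have hp0 : p = ⊥ := by
      rw [eq_bot_iff]
      intro z hz
      rw [← show nilradical S = ⊥ from nilradical_eq_zero S, nilradical, ← Ideal.sInf_minimalPrimes]
      exact Submodule.mem_sInf.mpr fun q hq => (hs hq hp) ▸ hz
    haveI : IsDomain S := by
      subst hp0
      exact MulEquiv.isDomain _ (RingEquiv.quotientBot S).symm.toMulEquiv
    exact hinj.isDomain (algebraMap T S)
  intro p hp p' hp'
  by_contra hne
  have hfin : (minimalPrimes S).Finite := minimalPrimes.finite_of_isNoetherianRing S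
  let q : Ideal S := ⨅ i ∈ hfin.toFinset.erase p, i
  have hpq : p ⊔ q = ⊤ := by
    refine Ideal.sup_iInf_eq_top fun i hi => ?_
    rw [Finset.mem_erase, Set.Finite.mem_toFinset] at hi
    exact hcop p hp i hi.2 hi.1.symm
  obtain ⟨x, hx, y, hy, hxy⟩ := Submodule.mem_sup.mp (hpq.ge (Submodule.mem_top (x := (1 : S))))
  have hxy0 : x * y = 0 := by
    have hm : x * y ∈ nilradical S := by
      rw [nilradical, ← Ideal.sInf_minimalPrimes]
      refine Submodule.mem_sInf.mpr fun i hi => ?_
      by_cases hip : i = p
      · exact hip.symm ▸ p.mul_mem_right y hx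
      · refine Ideal.mul_mem_left i x ?_
        exact (Ideal.mem_iInf.mp (Ideal.mem_iInf.mp hy i)) (Finset.mem_erase.mpr ⟨hip, hfin.mem_toFinset.mpr hi⟩)
    rwa [nilradical_eq_zero] at hm
  rcases hidS x (by linear_combination x * hxy - hxy0) with rfl | rfl
  · rw [zero_add] at hxy
    subst hxy
    exact hp'.1.1.ne_top ((Ideal.eq_top_iff_one _).mpr
      ((Ideal.mem_iInf.mp (Ideal.mem_iInf.mp hy p')) (Finset.mem_erase.mpr ⟨fun h => hne h.symm, hfin.mem_toFinset.mpr hp'⟩)))
  · exact hp.1.1.ne_top ((Ideal.eq_top_iff_one _).mpr hx)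

/-- A flat local algebra over a geometrically unibranch domain with reduced fibres and domains as local rings
of the generic fibre is a domain. -/
theorem isDomain_of_geomUnibranch {A T : Type u} [CommRing A] [IsDomain A] [IsLocalRing A] [IsNoetherianRing A]
    (hA : CAlg2.IsGeomUnibranch A) [CommRing T] [IsLocalRing T] [IsNoetherianRing T] [_root_.IsReduced T]
    [Algebra A T] [IsLocalHom (algebraMap A T)] [Module.Flat A T]
    (hred : ∀ (K : Type u) [Field K] [Algebra A K], _root_.IsReduced (K ⊗[A] T))
    (hloc : ∀ (Q : Ideal T) [Q.IsPrime], Q.comap (algebraMap A T) = ⊥ → IsDomain (Localization.AtPrime Q)) :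
    IsDomain T := by
  let A' := integralClosure A (FractionRing A)
  haveI : IsIntegrallyClosed A' := integralClosure.isIntegrallyClosedOfFiniteExtension (FractionRing A)
  have hinj : Function.Injective (algebraMap A A') := fun x y h =>
    IsFractionRing.injective A (FractionRing A) (congrArg Subtype.val h)
  have hbir : ∀ t : A', ∃ a b, algebraMap A A' b ≠ 0 ∧ t * algebraMap A A' b = algebraMap A A' a := fun t => by
    obtain ⟨⟨a, b, hb⟩, h⟩ := IsLocalization.surj (nonZeroDivisors A) (t : FractionRing A)
    exact ⟨a, b, fun h0 => nonZeroDivisors.ne_zero hb (hinj (h0.trans (map_zero _).symm)), Subtype.ext h⟩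
  obtain ⟨hloc', hins⟩ := (GrothLib.GeomUnib.isGeomUnibranch_iff_of_normal (algebraMap A A')
    (by rw [(RingHom.injective_iff_ker_eq_bot _).mp hinj, nilradical_eq_zero]; rfl)
    (algebraMap_isIntegral_iff.mpr inferInstance) hbir).mp hA
  haveI := hloc'
  obtain ⟨ι, ⟨F⟩⟩ := GrothLib.MoriNagata.nonempty_family (A := A)
  exact isDomain_of_generic (fun a ha t ht => eq_zero_or_eq_of_mul_self hinj F hred (hins _) ha ht) hloc

end Algebra

variable {X Y : Scheme.{u}}

theorem flat_of_isField {R S : Type u} [CommRing R] [CommRing S] (h : IsField R) (φ : R →+* S) : φ.Flat := by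
  letI := φ.toAlgebra
  letI := h.toField
  exact Module.Flat.of_free

theorem isDomain_stalk_of_openImmersion {A B : Scheme.{u}} (k : A ⟶ B) [IsOpenImmersion k] (z : A)
    [IsDomain (B.presheaf.stalk (k z))] : IsDomain (A.presheaf.stalk z) :=
  MulEquiv.isDomain _ (asIso (k.stalkMap z)).commRingCatIsoToRingEquiv.symm.toMulEquiv

/-- Base changes to fields of a scheme geometrically pointwise integral at a point have domains as local rings
over it. -/
theorem isDomain_stalk_of_geomPtIntegralAt (f : X ⟶ Y) {K : Type u} [Field K]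
    (t : Spec (CommRingCat.of K) ⟶ Y) (w : ↥(pullback f t)) {x : X} (hw : pullback.fst f t w = x)
    (h : FBase.IsGeomPtIntegralAt (f.fiberToSpecResidueField (f x)) (f.asFiber x)) :
    IsDomain ((pullback f t).presheaf.stalk w) := by
  subst hw
  have hpt : GeomRed6.pt t = f (pullback.fst f t w) := by
    rw [← Scheme.Hom.comp_apply, pullback.condition, Scheme.Hom.comp_apply]
    haveI : Subsingleton (Spec (CommRingCat.of K)) := inferInstanceAs (Subsingleton (PrimeSpectrum K))
    exact congrArg t (Subsingleton.elim _ _)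
  obtain ⟨σ', π, hπ, hπι⟩ : ∃ (σ' : Spec (CommRingCat.of K) ⟶ Spec (Y.residueField (f (pullback.fst f t w))))
      (π : pullback f t ⟶ f.fiber (f (pullback.fst f t w))),
      IsPullback π (pullback.snd f t) (f.fiberToSpecResidueField _) σ' ∧ π ≫ f.fiberι _ = pullback.fst f t := by
    obtain ⟨σ', hσ'⟩ : ∃ σ', σ' ≫ Y.fromSpecResidueField (f (pullback.fst f t w)) = t := by
      rw [← hpt]; exact GeomRed6.exists_factor t
    let π : pullback f t ⟶ f.fiber (f (pullback.fst f t w)) :=
      pullback.lift (pullback.fst f t) (pullback.snd f t ≫ σ')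
        (by rw [Category.assoc, hσ', pullback.condition])
    refine ⟨σ', π, IsPullback.of_right ?_ (pullback.lift_snd _ _ _) (IsPullback.of_hasPullback _ _), pullback.lift_fst _ _ _⟩
    rw [show π ≫ pullback.fst f (Y.fromSpecResidueField _) = pullback.fst f t from pullback.lift_fst _ _ _, hσ']
    exact IsPullback.of_hasPullback f t
  obtain ⟨φ, rfl⟩ := Spec.map_surjective σ'
  letI : Algebra (IsLocalRing.ResidueField (Y.presheaf.stalk (f (pullback.fst f t w)))) K := φ.hom.toAlgebra
  let k := (hπ.isoPullback).hom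
  have hπw : π w = f.asFiber (pullback.fst f t w) := (f.fiberι _).isEmbedding.injective (by
    rw [← Scheme.Hom.comp_apply, hπι, Scheme.Hom.fiberι_asFiber])
  haveI : IsDomain ((pullback (f.fiberToSpecResidueField (f (pullback.fst f t w))) (Spec.map φ)).presheaf.stalk (k w)) :=
    h K (k w) ((congrArg (fun q : pullback f t ⟶ _ => q w) hπ.isoPullback_hom_fst).trans hπw)
  exact isDomain_stalk_of_openImmersion k w

/-- For a flat morphism, generizations over maximal points with field stalks of a point with geometrically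
pointwise integral fibre have domains as local rings. -/
theorem isDomain_stalk_generization (f : X ⟶ Y) [Flat f] [LocallyOfFinitePresentation f] (x : X)
    (hbc : ∀ (K : Type u) [Field K] (t : Spec (CommRingCat.of K) ⟶ Y) (w : ↥(pullback f t)),
      pullback.fst f t w = x → IsDomain ((pullback f t).presheaf.stalk w))
    {z : X} (hz : z ⤳ x) (hfield : IsField (Y.presheaf.stalk (f z))) :
    IsDomain (X.presheaf.stalk z) := by
  obtain ⟨W, _, _, u, hu₁, hu₀⟩ := GrothLib.HTop.exists_valuationRing_map hz
  let b := u ≫ f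
  let f' : pullback f b ⟶ Spec (CommRingCat.of W) := pullback.snd f b
  haveI : Flat f' := MorphismProperty.pullback_snd f b ‹_›
  haveI : LocallyOfFinitePresentation f' := MorphismProperty.pullback_snd f b ‹_›
  let σ : Spec W ⟶ pullback f b := pullback.lift u (𝟙 _) (by rw [Category.id_comp])
  have hσ : σ ≫ f' = 𝟙 _ := pullback.lift_snd _ _ _
  have hσu : σ ≫ pullback.fst f b = u := pullback.lift_fst _ _ _
  let c : Spec W := GrothLib.HTop.closed W
  let η : Spec W := GrothLib.HTop.gen W
  let a := σ c
  have hfa : f' a = c := congrArg (fun m : Spec W ⟶ Spec W => m c) hσ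
  have hae : pullback.fst f b a = x := (congrArg (fun m : Spec W ⟶ X => m c) hσu).trans hu₀
  haveI hdom : IsDomain ((f'.fiber (f' a)).presheaf.stalk (f'.asFiber a)) := by
    let t : Spec (CommRingCat.of ((Spec (CommRingCat.of W)).residueField (f' a))) ⟶ Y :=
      (Spec (CommRingCat.of W)).fromSpecResidueField (f' a) ≫ b
    have sq : IsPullback (f'.fiberι (f' a) ≫ pullback.fst f b) (f'.fiberToSpecResidueField (f' a)) f t :=
      (IsPullback.of_hasPullback f' _).paste_horiz (IsPullback.of_hasPullback f b)
    haveI := hbc ((Spec (CommRingCat.of W)).residueField (f' a)) t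
      (sq.isoPullback.hom (f'.asFiber a)) (by
        rw [← Scheme.Hom.comp_apply, sq.isoPullback_hom_fst, Scheme.Hom.comp_apply, f'.fiberι_asFiber, hae])
    exact isDomain_stalk_of_openImmersion sq.isoPullback.hom _
  haveI : UniversallyOpen f' := inferInstance
  haveI : IsDomain ((pullback f b).presheaf.stalk a) := by
    let w₀ := (f'.fiber (f' a)).fromSpecStalk (f'.asFiber a)
      (⟨⊥, Ideal.isPrime_bot⟩ : PrimeSpectrum ((f'.fiber (f' a)).presheaf.stalk (f'.asFiber a)))
    refine (flat_and_isDomain_of_valuation (V := W) f' a hfa w₀ (fun v hv => ?_)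
      ((Scheme.range_fromSpecStalk (x := f'.asFiber a)).le ⟨_, rfl⟩) (fun U hU => ?_) inferInstance).1
    · obtain ⟨Q, rfl⟩ := (Scheme.range_fromSpecStalk (x := f'.asFiber a)).ge hv
      exact ((PrimeSpectrum.le_iff_specializes (⟨⊥, Ideal.isPrime_bot⟩ : PrimeSpectrum _) Q).mp
        (show (⊥ : Ideal _) ≤ Q.asIdeal from bot_le)).map ((f'.fiber (f' a)).fromSpecStalk _).continuous
    · exact f'.isOpenMap.image_mem_nhds hU
  have hsp : σ η ⤳ a := (IsLocalRing.specializes_closedPoint (R := W) _ : η ⤳ c).map σ.continuous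
  haveI : IsDomain ((pullback f b).presheaf.stalk (σ η)) := by
    letI := ((pullback f b).presheaf.stalkSpecializes hsp).hom.toAlgebra
    haveI := GrothLib.CycDiv.isLocalization_stalkSpecializes hsp
    exact IsLocalization.isDomain_of_atPrime _ (GrothLib.CycDiv.primeOf hsp)
  have hze : pullback.fst f b (σ η) = z := (congrArg (fun m : Spec W ⟶ X => m η) hσu).trans hu₁
  subst hze
  refine Function.Injective.isDomain ((pullback.fst f b).stalkMap (σ η)).hom ?_
  have hflat : ((pullback.fst f b).stalkMap (σ η)).hom.Flat := by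
    refine GrothLib.CMMor6.flat_stalkMap_baseChange (IsPullback.of_hasPullback f b).flip (σ η) ?_
    have hcond : f (pullback.fst f b (σ η)) = b (f' (σ η)) :=
      congrArg (fun m : pullback f b ⟶ Y => m (σ η)) pullback.condition
    rw [hcond] at hfield
    exact flat_of_isField hfield _
  letI := ((pullback.fst f b).stalkMap (σ η)).hom.toAlgebra
  haveI : Module.Flat _ _ := hflat
  haveI : IsLocalHom (algebraMap (X.presheaf.stalk (pullback.fst f b (σ η))) ((pullback f b).presheaf.stalk (σ η))) :=
    inferInstanceAs (IsLocalHom ((pullback.fst f b).stalkMap (σ η)).hom)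
  haveI := Module.FaithfullyFlat.of_flat_of_isLocalHom (A := X.presheaf.stalk (pullback.fst f b (σ η)))
    (B := (pullback f b).presheaf.stalk (σ η))
  exact FaithfulSMul.algebraMap_injective _ _

end GrothLib.Chev28
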