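import Groth.Agent.Lib.Chev28.ConnOpen
import Groth.Agent.Lib.NoethTop.Spectral

/-!
EGA IV 12.1.1 (viii): openness of the locus of geometric pointwise integrality of the fibres of a flat morphism.
-/

universe u

open CategoryTheory CategoryTheory.Limits AlgebraicGeometry TopologicalSpace Topology IsLocalRing

noncomputable section

namespace GrothLib.Chev28

variable {X Y : Scheme.{u}}

/-- Geometric pointwise integrality in the fibre is local on source and target. -/
theorem isGeomPtIntegralAt_fiber_openImmersion_iff {U V : Scheme.{u}} (g : U ⟶ V) (f : X ⟶ Y) (j : U ⟶ X) (i : V ⟶ Y)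
    [IsOpenImmersion j] [IsOpenImmersion i] (e : g ≫ i = j ≫ f) (u : U) :
    FBase.IsGeomPtIntegralAt (g.fiberToSpecResidueField (g u)) (g.asFiber u) ↔
      FBase.IsGeomPtIntegralAt (f.fiberToSpecResidueField (f (j u))) (f.asFiber (j u)) := by
  let κ := IsLocalRing.ResidueField (V.presheaf.stalk (g u))
  let K := AlgebraicClosure κ
  let t : Spec (CommRingCat.of K) ⟶ V :=
    Spec.map (CommRingCat.ofHom (algebraMap κ K)) ≫ V.fromSpecResidueField (g u)
  obtain ⟨w, hw, -⟩ := Scheme.Pullback.exists_preimage_pullback (f := g) (g := t) u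
    (IsLocalRing.closedPoint K) (V.fromSpecResidueField_apply (g u) _).symm
  let k := pullback.map g t f (t ≫ i) j (𝟙 _) i e (by rw [Category.id_comp])
  have hk : pullback.fst f (t ≫ i) (k w) = j u := by
    rw [← Scheme.Hom.comp_apply, show k ≫ pullback.fst f (t ≫ i) = pullback.fst g t ≫ j from pullback.lift_fst _ _ _,
      Scheme.Hom.comp_apply, hw]
  constructor <;> intro h
  · haveI := isDomain_stalk_of_geomPtIntegralAt g t w hw h
    exact isGeomPtIntegralAt_of_isDomain_pullback f (t ≫ i) (k w)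
      (MulEquiv.isDomain _ (asIso (k.stalkMap w)).commRingCatIsoToRingEquiv.toMulEquiv) hk
  · haveI := isDomain_stalk_of_geomPtIntegralAt f (t ≫ i) (k w) hk h
    exact isGeomPtIntegralAt_of_isDomain_pullback g t w (isDomain_stalk_of_openImmersion k w) hw

theorem isOpen_setOf_isGeomPtIntegralAt_fiber_of_isAffine [IsAffine X] [IsAffine Y] (f : X ⟶ Y) [Flat f]
    [LocallyOfFinitePresentation f] :
    IsOpen {x : X | FBase.IsGeomPtIntegralAt (f.fiberToSpecResidueField (f x)) (f.asFiber x)} := by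
  let P : ∀ y, ↥(f.fiber y) → Prop := fun y x => FBase.IsGeomPtIntegralAt (f.fiberToSpecResidueField y) x
  let E : Set X := {x | P (f x) (f.asFiber x)}
  haveI : SpectralSpace X := {}
  refine GrothLib.SpecSp.isOpen_of_stableUnderGeneralization (E := E) ?_
    fun x x' hx h => isGeomPtIntegralAt_generization f hx h
  refine (@isOpen_iff_forall_mem_open X (constructibleTopology X) E).mpr fun z hz => ?_
  have hO : IsOpen {w : ↥(f.fiber (f z)) | P (f z) w} :=
    @GrothLib.FBase7.isOpen_isGeomPtIntegralAt (IsLocalRing.ResidueField (Y.presheaf.stalk (f z))) _ _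
      (f.fiberToSpecResidueField (f z)) (MorphismProperty.pullback_snd f _ inferInstance)
  obtain ⟨O', hO', hOO⟩ := (f.fiberι (f z)).isEmbedding.isInducing.isOpen_iff.mp hO
  have hzO : z ∈ O' := by
    rw [← f.fiberι_asFiber z]
    exact hOO.ge hz
  obtain ⟨_, ⟨(U : X.Opens), hU, rfl⟩, hzU, hUO⟩ := X.isBasis_affineOpens.exists_subset_of_mem_open hzO hO'
  haveI : IsAffine U := hU
  let g := U.ι ≫ f
  haveI : QuasiCompact g := inferInstance
  haveI : QuasiSeparated g := inferInstance
  let C := {y | ∀ w : ↥(g.fiber y), FBase.IsGeomPtIntegralAt (g.fiberToSpecResidueField y) w}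
  have key : ∀ u : U, FBase.IsGeomPtIntegralAt (g.fiberToSpecResidueField (g u)) (g.asFiber u) ↔ U.ι u ∈ E :=
    fun u => isGeomPtIntegralAt_fiber_openImmersion_iff g f U.ι (𝟙 Y) (Category.comp_id _) u
  have hzC : f z ∈ C := by
    intro w
    rw [← GrothLib.FibPd.asFiber_iff g (fun y w => FBase.IsGeomPtIntegralAt (g.fiberToSpecResidueField y) w) (f z) w,
      key]
    obtain ⟨w', hw'⟩ : U.ι (g.fiberι (f z) w) ∈ Set.range (f.fiberι (f z)) := by
      rw [f.range_fiberι]
      exact GrothLib.FibreFlat.fiberι_comp_apply g (f z) w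
    rw [← hw']
    show P _ (f.asFiber (f.fiberι (f z) w'))
    rw [GrothLib.FibPd.asFiber_iff f P]
    refine hOO.le ?_
    show f.fiberι (f z) w' ∈ O'
    rw [hw']
    exact hUO (g.fiberι (f z) w).2
  refine ⟨(U : Set X) ∩ f ⁻¹' C, fun x ⟨hxU, hxC⟩ => ?_, ?_, hzU, hzC⟩
  · exact (key ⟨x, hxU⟩).mp (hxC (g.asFiber ⟨x, hxU⟩))
  · exact (GrothLib.Constr.isOpen_constructibleTopology_of_isConstructible
      ((hU.isCompact.isConstructible U.2).inter
        (f.isConstructible_preimage (isLocallyConstructible_forall_isGeomPtIntegralAt g).isConstructible))).1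

/-- EGA IV 12.1.1 (viii). -/
theorem isOpen_setOf_isGeomPtIntegralAt_fiber (f : X ⟶ Y) [Flat f] [LocallyOfFinitePresentation f] :
    IsOpen {x : X | FBase.IsGeomPtIntegralAt (f.fiberToSpecResidueField (f x)) (f.asFiber x)} := by
  refine isOpen_iff_mem_nhds.mpr fun x hx => ?_
  obtain ⟨_, ⟨(V : Y.Opens), hV, rfl⟩, hxV, -⟩ :=
    Y.isBasis_affineOpens.exists_subset_of_mem_open (Set.mem_univ (f x)) isOpen_univ
  obtain ⟨_, ⟨(U : X.Opens), hU, rfl⟩, hxU, hUV⟩ :=
    X.isBasis_affineOpens.exists_subset_of_mem_open (show x ∈ f ⁻¹ᵁ V from hxV) (f ⁻¹ᵁ V).2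
  haveI : IsAffine U := hU
  haveI : IsAffine V := hV
  let g := f.resLE V U hUV
  haveI : Flat g := IsZariskiLocalAtSource.resLE _ inferInstance
  haveI : LocallyOfFinitePresentation g := IsZariskiLocalAtSource.resLE _ inferInstance
  have h := isOpen_setOf_isGeomPtIntegralAt_fiber_of_isAffine g
  have key : ∀ u : U, FBase.IsGeomPtIntegralAt (g.fiberToSpecResidueField (g u)) (g.asFiber u) ↔
      FBase.IsGeomPtIntegralAt (f.fiberToSpecResidueField (f (U.ι u))) (f.asFiber (U.ι u)) :=
    fun u => isGeomPtIntegralAt_fiber_openImmersion_iff g f U.ι V.ι (Scheme.Hom.resLE_comp_ι _ _) u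
  refine Filter.mem_of_superset (U.ι.isOpenEmbedding.isOpenMap.image_mem_nhds (h.mem_nhds ((key ⟨x, hxU⟩).mpr hx))) ?_
  rintro _ ⟨u, hu, rfl⟩
  exact (key u).mp hu

end GrothLib.Chev28
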