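import Groth.Agent.S5994
import Groth.Agent.Lib.RatSecUnib.Basic

universe u

open CategoryTheory AlgebraicGeometry

namespace GrothLib.Chev28

variable {X Y : Scheme.{u}} [IsReduced Y]

theorem isClopen_range_section
    (hcomp : LocallyFinite (fun Z : ↥(irreducibleComponents ↥Y) => (Z : Set ↥Y)))
    (f : X ⟶ Y) [IsSeparated f] [LocallyOfFiniteType f] [FormallyUnramified f]
    (U : Y.Opens) (hU : Dense (U : Set ↥Y)) (u : (U : Scheme.{u}) ⟶ X) (hu : u ≫ f = U.ι)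
    (hY : ∀ y : Y, CAlg2.IsGeomUnibranch (Y.presheaf.stalk y))
    (hmax : ∀ (V : Y.Opens) (v : (V : Scheme.{u}) ⟶ X), v ≫ f = V.ι →
      Y.homOfLE (inf_le_left : U ⊓ V ≤ U) ≫ u = Y.homOfLE (inf_le_right : U ⊓ V ≤ V) ≫ v → V ≤ U) :
    IsOpen (Set.range u) ∧ IsClosed (Set.range u) := by
  have hfu : ∀ t, f (u t) = t.1 := fun t => by
    rw [← Scheme.Hom.comp_apply, hu]; rfl
  let u' : (U : Scheme.{u}) ⟶ (f ⁻¹ᵁ U : Scheme.{u}) := IsOpenImmersion.lift (f ⁻¹ᵁ U).ι u (by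
    rintro _ ⟨t, rfl⟩
    rw [Scheme.Opens.range_ι]
    show f (u t) ∈ U
    rw [hfu]; exact t.2)
  have hu' : u' ≫ (f ⁻¹ᵁ U).ι = u := IsOpenImmersion.lift_fac _ _ _
  have hsec : u' ≫ f ∣_ U = 𝟙 _ := by
    rw [← cancel_mono U.ι, Category.assoc, morphismRestrict_ι, ← Category.assoc, hu', hu, Category.id_comp]
  haveI : LocallyOfFiniteType (f ∣_ U) := inferInstance
  haveI : FormallyUnramified (f ∣_ U) := by
    haveI : FormallyUnramified ((f ∣_ U) ≫ U.ι) := by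
      rw [morphismRestrict_ι]; exact GrothLib.Unibranch.formallyUnramified_comp_openImmersion _ _
    exact FormallyUnramified.of_comp (f ∣_ U) U.ι
  haveI : IsOpenImmersion u' := GrothLib.KerDiag14.isOpenImmersion_section (f ∣_ U) u' hsec
  haveI : IsOpenImmersion u := by rw [← hu']; infer_instance
  haveI : IsClosedImmersion (u' ≫ f ∣_ U) := by rw [hsec]; infer_instance
  haveI : IsClosedImmersion u' := IsClosedImmersion.of_comp u' (f ∣_ U)
  refine ⟨u.isOpenEmbedding.isOpen_range, ?_⟩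
  rw [← closure_subset_iff_isClosed]
  intro x hx
  obtain ⟨V, v, hyV, hv, hagree⟩ := Groth.Agent.S5994.result hcomp f U hU u hu (f x) (hY _) ⟨x, hx, rfl⟩
  have hxU : x ∈ f ⁻¹ᵁ U := hmax V v hv hagree hyV
  have hcl : (⟨x, hxU⟩ : (f ⁻¹ᵁ U : X.Opens)) ∈ Set.range u' := by
    rw [← u'.isClosedEmbedding.isClosed_range.closure_eq]
    have h1 : Set.range u = (f ⁻¹ᵁ U).ι '' Set.range u' := by
      rw [← Set.range_comp]
      exact congrArg (fun φ => Set.range φ) (funext fun t => (congrArg (fun φ => φ.base t) hu').symm)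
    rw [h1] at hx
    exact ((f ⁻¹ᵁ U).ι.isOpenEmbedding.isInducing.closure_eq_preimage_closure_image _).ge hx
  obtain ⟨t, ht⟩ := hcl
  exact ⟨t, by rw [← hu', Scheme.Hom.comp_apply, ht]; rfl⟩

theorem exists_section_nhd_of_image_closed
    (hcomp : LocallyFinite (fun Z : ↥(irreducibleComponents ↥Y) => (Z : Set ↥Y)))
    (f : X ⟶ Y) [IsSeparated f] [LocallyOfFiniteType f] [FormallyUnramified f]
    (U : Y.Opens) (hU : Dense (U : Set ↥Y)) (u : (U : Scheme.{u}) ⟶ X) (hu : u ≫ f = U.ι)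
    (hcl : ∀ T : Set ↥X, IsClosed T → IsIrreducible T → IsClosed (f '' T))
    (y : Y) (hy : CAlg2.IsGeomUnibranch (Y.presheaf.stalk y)) :
    ∃ (V : Y.Opens) (v : (V : Scheme.{u}) ⟶ X), y ∈ V ∧ v ≫ f = V.ι ∧
      Y.homOfLE (inf_le_left : U ⊓ V ≤ U) ≫ u = Y.homOfLE (inf_le_right : U ⊓ V ≤ V) ≫ v := by
  obtain ⟨V, hyV, hVint⟩ := GrothLib.RatSecUnib.exists_integral_nhd hcomp y hy
  let η := V.ι (genericPoint (V : Scheme.{u}))
  let y' : ↥(V : Scheme.{u}) := ⟨y, hyV⟩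
  have hηy : η ⤳ y := (genericPoint_specializes (α := ↥(V : Scheme.{u})) y').map V.ι.continuous
  have hηU : η ∈ U := by
    obtain ⟨z, hzV, hzU⟩ := hU.inter_open_nonempty (V : Set Y) V.2 ⟨y, hyV⟩
    let z' : ↥(V : Scheme.{u}) := ⟨z, hzV⟩
    exact ((genericPoint_specializes (α := ↥(V : Scheme.{u})) z').map V.ι.continuous).mem_open U.2 hzU
  refine Groth.Agent.S5994.result hcomp f U hU u hu y hy ?_
  let T : Set X := closure {u ⟨η, hηU⟩}
  have h1 : IsClosed (f '' T) := hcl T isClosed_closure isIrreducible_singleton.closure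
  have h2 : η ∈ f '' T := ⟨_, subset_closure rfl, by rw [← Scheme.Hom.comp_apply, hu]; rfl⟩
  obtain ⟨x, hx, hxy⟩ := hηy.mem_closed h1 h2
  exact ⟨x, closure_mono (t := Set.range u) (Set.singleton_subset_iff.mpr (Set.mem_range_self _)) hx, hxy⟩

end GrothLib.Chev28
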