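import Groth.Agent.Lib.NagataFP.PD
import Groth.Agent.Lib.CycDiv.Flat
import Groth.Agent.Lib.CMMor6.Mor
import Mathlib.AlgebraicGeometry.Morphisms.Proper
import Mathlib.AlgebraicGeometry.Morphisms.Flat

/-!
Reduced fibres of proper flat schemes over valuation rings.
-/

universe u

open CategoryTheory AlgebraicGeometry IsLocalRing

noncomputable section

namespace GrothLib.Chev28

/-- A flat local algebra essentially of finite type over a valuation ring, with reduced closed fibre, is
reduced. -/
theorem isReduced_of_valuation {W T : Type u} [CommRing W] [IsDomain W] [ValuationRing W] [CommRing T]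
    [IsLocalRing T] [Algebra W T] [Algebra.EssFiniteType W T]
    (htf : ∀ (a : W) (t : T), a ≠ 0 → algebraMap W T a * t = 0 → t = 0)
    (hm : (maximalIdeal W).map (algebraMap W T) ≤ maximalIdeal T)
    (hrad : ((maximalIdeal W).map (algebraMap W T)).IsRadical) : _root_.IsReduced T := by
  let N := nilradical T
  have hmem : ∀ (a : W) (t : T), a ≠ 0 → algebraMap W T a * t ∈ N → t ∈ N := by
    rintro a t ha ⟨n, hn⟩
    refine ⟨n, htf (a ^ n) _ (pow_ne_zero n ha) ?_⟩
    rw [map_pow, ← mul_pow]
    exact hn
  have hfg : N.FG := by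
    haveI : Module.IsTorsionFree W (T ⧸ N) := Module.IsTorsionFree.of_smul_eq_zero fun a m h => by
      obtain ⟨t, rfl⟩ := Ideal.Quotient.mk_surjective m
      rw [Algebra.smul_def, IsScalarTower.algebraMap_apply W T (T ⧸ N), Ideal.Quotient.algebraMap_eq,
        ← map_mul, Ideal.Quotient.eq_zero_iff_mem] at h
      by_cases ha : a = 0
      · exact Or.inl ha
      · exact Or.inr (Ideal.Quotient.eq_zero_iff_mem.mpr (hmem a t ha h))
    haveI : Module.FinitePresentation T (T ⧸ N) :=
      GrothLib.NagataFP.finitePresentation_essFiniteType (A := W)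
    have h := Module.FinitePresentation.fg_ker (Submodule.mkQ N) (Submodule.mkQ_surjective N)
    rwa [Submodule.ker_mkQ] at h
  have hsplit : ∀ t ∈ (maximalIdeal W).map (algebraMap W T),
      ∃ π ∈ maximalIdeal W, ∃ s : T, t = algebraMap W T π * s := by
    intro t ht
    induction ht using Submodule.span_induction with
    | mem x hx => obtain ⟨π, hπ, rfl⟩ := hx; exact ⟨π, hπ, 1, (mul_one _).symm⟩
    | zero => exact ⟨0, zero_mem _, 0, by simp⟩
    | add x y _ _ hx hy =>
      obtain ⟨a, ha, s, rfl⟩ := hx
      obtain ⟨b, hb, r, rfl⟩ := hy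
      rcases ValuationRing.dvd_total a b with ⟨c, rfl⟩ | ⟨c, rfl⟩
      · exact ⟨a, ha, s + algebraMap W T c * r, by rw [map_mul]; ring⟩
      · exact ⟨b, hb, algebraMap W T c * s + r, by rw [map_mul]; ring⟩
    | smul c x _ hx =>
      obtain ⟨a, ha, s, rfl⟩ := hx
      exact ⟨a, ha, c * s, by rw [smul_eq_mul]; ring⟩
  have hbot : N = ⊥ := by
    refine Submodule.eq_bot_of_le_smul_of_le_jacobson_bot ((maximalIdeal W).map (algebraMap W T)) N hfg
      (fun t ht => ?_) (hm.trans (IsLocalRing.jacobson_eq_maximalIdeal ⊥ bot_ne_top).ge)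
    have ht' : t ∈ (maximalIdeal W).map (algebraMap W T) := by
      obtain ⟨n, hn⟩ := (ht : IsNilpotent t)
      exact hrad ⟨n, by rw [hn]; exact zero_mem _⟩
    obtain ⟨π, hπ, s, rfl⟩ := hsplit t ht'
    by_cases h0 : π = 0
    · subst h0
      rw [map_zero, zero_mul]
      exact zero_mem _
    · exact Submodule.smul_mem_smul (Ideal.mem_map_of_mem _ hπ) (hmem π s h0 ht)
  exact ⟨fun t ht => (Submodule.mem_bot T).mp (hbot ▸ (show t ∈ N from ht))⟩

/-- The fibres over all primes of a flat local algebra essentially of finite type over a valuation ring with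
reduced closed fibre are reduced. -/
theorem isRadical_map_of_valuation {V T : Type u} [CommRing V] [IsDomain V] [ValuationRing V] [CommRing T]
    [IsLocalRing T] [Algebra V T] [Algebra.EssFiniteType V T]
    (htf : ∀ (a : V) (t : T), a ≠ 0 → algebraMap V T a * t = 0 → t = 0)
    (hm : (maximalIdeal V).map (algebraMap V T) ≤ maximalIdeal T)
    (hrad : ((maximalIdeal V).map (algebraMap V T)).IsRadical) (q : Ideal V) [q.IsPrime] :
    (q.map (algebraMap V T)).IsRadical := by
  let I := q.map (algebraMap V T)
  have hIm : I ≤ (maximalIdeal V).map (algebraMap V T) :=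
    Ideal.map_mono (le_maximalIdeal (‹q.IsPrime›.ne_top))
  haveI : Nontrivial (T ⧸ I) :=
    Ideal.Quotient.nontrivial_iff.mpr fun h => (maximalIdeal.isMaximal T).ne_top (top_le_iff.mp (h ▸ hIm.trans hm))
  haveI : IsLocalRing (T ⧸ I) := IsLocalRing.of_surjective' (Ideal.Quotient.mk I) Ideal.Quotient.mk_surjective
  haveI : ValuationRing (V ⧸ q) := Function.Surjective.valuationRing (Ideal.Quotient.mk q) Ideal.Quotient.mk_surjective
  haveI : Algebra.EssFiniteType V (T ⧸ I) := Algebra.EssFiniteType.comp V T (T ⧸ I)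
  haveI : Algebra.EssFiniteType (V ⧸ q) (T ⧸ I) := Algebra.EssFiniteType.of_comp V (V ⧸ q) (T ⧸ I)
  have hsplit : ∀ t ∈ I, ∃ π ∈ q, ∃ s : T, t = algebraMap V T π * s := by
    intro t ht
    induction ht using Submodule.span_induction with
    | mem x hx => obtain ⟨π, hπ, rfl⟩ := hx; exact ⟨π, hπ, 1, (mul_one _).symm⟩
    | zero => exact ⟨0, zero_mem _, 0, by simp⟩
    | add x y _ _ hx hy =>
      obtain ⟨a, ha, s, rfl⟩ := hx
      obtain ⟨b, hb, r, rfl⟩ := hy
      rcases ValuationRing.dvd_total a b with ⟨c, rfl⟩ | ⟨c, rfl⟩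
      · exact ⟨a, ha, s + algebraMap V T c * r, by rw [map_mul]; ring⟩
      · exact ⟨b, hb, algebraMap V T c * s + r, by rw [map_mul]; ring⟩
    | smul c x _ hx =>
      obtain ⟨a, ha, s, rfl⟩ := hx
      exact ⟨a, ha, c * s, by rw [smul_eq_mul]; ring⟩
  have hmk : ∀ a : V, algebraMap (V ⧸ q) (T ⧸ I) (Ideal.Quotient.mk q a) = Ideal.Quotient.mk I (algebraMap V T a) :=
    fun a => rfl
  have hmap : (maximalIdeal (V ⧸ q)).map (algebraMap (V ⧸ q) (T ⧸ I)) =
      ((maximalIdeal V).map (algebraMap V T)).map (Ideal.Quotient.mk I) := by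
    rw [← IsLocalRing.map_maximalIdeal_of_surjective (Ideal.Quotient.mk q) Ideal.Quotient.mk_surjective,
      Ideal.map_map, Ideal.map_map]
    rfl
  have hred : _root_.IsReduced (T ⧸ I) := by
    refine isReduced_of_valuation (W := V ⧸ q) ?_ ?_ ?_
    · intro a t ha h
      obtain ⟨a, rfl⟩ := Ideal.Quotient.mk_surjective a
      obtain ⟨t, rfl⟩ := Ideal.Quotient.mk_surjective t
      have haq : a ∉ q := fun h' => ha (Ideal.Quotient.eq_zero_iff_mem.mpr h')
      rw [hmk, ← map_mul, Ideal.Quotient.eq_zero_iff_mem] at h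
      obtain ⟨π, hπ, s, hs⟩ := hsplit _ h
      rw [Ideal.Quotient.eq_zero_iff_mem]
      rcases ValuationRing.dvd_total a π with ⟨c, rfl⟩ | ⟨c, rfl⟩
      · have hc : c ∈ q := (‹q.IsPrime›.mem_or_mem hπ).resolve_left haq
        have ht : algebraMap V T a * (t - algebraMap V T c * s) = 0 := by
          rw [mul_sub, hs, map_mul]; ring
        have ha0 : a ≠ 0 := fun h' => haq (h' ▸ zero_mem q)
        rw [sub_eq_zero.mp (htf a _ ha0 ht)]
        exact Ideal.mul_mem_right _ _ (Ideal.mem_map_of_mem _ hc)
      · exact absurd (q.mul_mem_right c hπ) haq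
    · rw [hmap, ← IsLocalRing.map_maximalIdeal_of_surjective (Ideal.Quotient.mk I) Ideal.Quotient.mk_surjective]
      exact Ideal.map_mono hm
    · rw [hmap]
      intro x hx
      obtain ⟨x, rfl⟩ := Ideal.Quotient.mk_surjective x
      obtain ⟨n, hn⟩ := hx
      rw [← map_pow, Ideal.mem_quotient_iff_mem hIm] at hn
      exact Ideal.mem_map_of_mem _ (hrad ⟨n, hn⟩)
  exact (Ideal.isRadical_iff_quotient_reduced I).mpr hred

variable {R : Type u} [CommRing R] [IsDomain R] [ValuationRing R] {X : Scheme.{u}}

/-- Along a flat morphism to a valuation ring, the points generizing a point of the closed fibre with reduced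
fibre germ lie in reduced fibres, and their local rings are reduced. -/
theorem isReduced_of_specializes_closedFibre (f : X ⟶ Spec (CommRingCat.of R)) [LocallyOfFiniteType f] [Flat f]
    {a x : X} (hc : f a = IsLocalRing.closedPoint R) (hxa : x ⤳ a)
    (hred : _root_.IsReduced ((f.fiber (f a)).presheaf.stalk (f.asFiber a))) :
    _root_.IsReduced (X.presheaf.stalk x) ∧
      _root_.IsReduced ((f.fiber (f x)).presheaf.stalk (f.asFiber x)) := by
  let T := X.presheaf.stalk a
  let p : PrimeSpectrum R := f a
  have hp : p.asIdeal = maximalIdeal R := congrArg PrimeSpectrum.asIdeal hc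
  let S := (Spec (CommRingCat.of R)).presheaf.stalk (f a)
  haveI : IsLocalRing ((Spec.structureSheaf R).presheaf.stalk p) :=
    IsLocalization.AtPrime.isLocalRing _ p.asIdeal
  let θ : R →+* S := algebraMap R ((Spec.structureSheaf R).presheaf.stalk p)
  have hmS : (maximalIdeal R).map θ = maximalIdeal S := by
    rw [← hp]
    exact IsLocalization.AtPrime.map_eq_maximalIdeal p.asIdeal ((Spec.structureSheaf R).presheaf.stalk p)
  have hθ : Function.Bijective θ := by
    have hunit : ∀ x ∈ p.asIdeal.primeCompl, IsUnit x := fun x hx => by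
      by_contra hn
      exact hx (hp ▸ (IsLocalRing.mem_maximalIdeal x).mpr hn)
    exact (IsLocalization.atUnits R p.asIdeal.primeCompl hunit
      (S := (Spec.structureSheaf R).presheaf.stalk p)).bijective
  letI : Algebra R T := ((f.stalkMap a).hom.comp θ).toAlgebra
  have hess : ((f.stalkMap a).hom.comp θ).EssFiniteType :=
    RingHom.EssFiniteType.stableUnderComposition _ _
      (RingHom.FiniteType.of_surjective _ hθ.2).essFiniteType (LocallyOfFiniteType.stalkMap f a)
  haveI : Algebra.EssFiniteType R T := hess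
  haveI : Module.Flat R T := RingHom.Flat.comp (RingHom.Flat.of_bijective hθ) (Flat.stalkMap f a)
  have htf : ∀ (b : R) (t : T), b ≠ 0 → algebraMap R T b * t = 0 → t = 0 := by
    intro b t hb h
    have h0 : b • t = 0 := by rw [Algebra.smul_def]; exact h
    exact (smul_eq_zero.mp h0).resolve_left hb
  have hmap : (maximalIdeal R).map (algebraMap R T) = (maximalIdeal S).map (f.stalkMap a).hom := by
    rw [← hmS, Ideal.map_map]
    rfl
  have hm : (maximalIdeal R).map (algebraMap R T) ≤ maximalIdeal T := by
    rw [hmap]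
    exact ((IsLocalRing.local_hom_TFAE (f.stalkMap a).hom).out 0 2 rfl rfl).mp
      (inferInstance : IsLocalHom (f.stalkMap a).hom)
  have hrad : ((maximalIdeal R).map (algebraMap R T)).IsRadical := by
    rw [hmap, Ideal.isRadical_iff_quotient_reduced]
    obtain ⟨e⟩ := GrothLib.CMMor6.nonempty_fibQuot_equiv f a
    exact isReduced_of_injective e.toRingHom e.injective
  letI := (X.presheaf.stalkSpecializes hxa).hom.toAlgebra
  haveI := GrothLib.CycDiv.isLocalization_stalkSpecializes hxa
  constructor
  · haveI : _root_.IsReduced T := Ideal.isRadical_bot_iff.mp (by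
      simpa using isRadical_map_of_valuation htf hm hrad (⊥ : Ideal R))
    have : ((⊥ : Ideal T).map (algebraMap T (X.presheaf.stalk x))).IsRadical := by
      rw [Ideal.IsRadical, ← IsLocalization.map_radical (GrothLib.CycDiv.primeOf hxa).primeCompl,
        (Ideal.isRadical_bot : (⊥ : Ideal T).IsRadical).radical]
    rw [Ideal.map_bot, Ideal.isRadical_bot_iff] at this
    exact this
  · letI := ((Spec (CommRingCat.of R)).presheaf.stalkSpecializes (hxa.map f.continuous)).hom.toAlgebra
    haveI := GrothLib.CycDiv.isLocalization_stalkSpecializes (hxa.map f.continuous)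
    let P := GrothLib.CycDiv.primeOf (hxa.map f.continuous)
    have h1 : (algebraMap T (X.presheaf.stalk x)).comp (f.stalkMap a).hom =
        (f.stalkMap x).hom.comp (algebraMap S ((Spec (CommRingCat.of R)).presheaf.stalk (f x))) :=
      congrArg CommRingCat.Hom.hom (f.stalkSpecializes_stalkMap x a hxa).symm
    have hq : (P.map (f.stalkMap a).hom).IsRadical := by
      rw [← Ideal.map_comap_of_surjective θ hθ.2 P, Ideal.map_map]
      exact isRadical_map_of_valuation htf hm hrad (P.comap θ)
    have hx : ((maximalIdeal ((Spec (CommRingCat.of R)).presheaf.stalk (f x))).map (f.stalkMap x).hom).IsRadical := by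
      rw [← IsLocalization.AtPrime.map_eq_maximalIdeal P, Ideal.map_map, ← h1, ← Ideal.map_map, Ideal.IsRadical,
        ← IsLocalization.map_radical (GrothLib.CycDiv.primeOf hxa).primeCompl, hq.radical]
    rw [Ideal.isRadical_iff_quotient_reduced] at hx
    obtain ⟨e⟩ := GrothLib.CMMor6.nonempty_fibQuot_equiv f x
    exact isReduced_of_injective e.symm.toRingHom e.symm.injective

/-- A proper flat scheme over a valuation ring with reduced closed fibre is reduced, as are all its fibres. -/
theorem isReduced_of_proper_flat (f : X ⟶ Spec (CommRingCat.of R)) [IsProper f] [Flat f]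
    (hred : IsReduced (f.fiber (IsLocalRing.closedPoint R))) :
    IsReduced X ∧ ∀ s : ↑(Spec (CommRingCat.of R)), IsReduced (f.fiber s) := by
  haveI := hred
  have key : ∀ x : X, _root_.IsReduced (X.presheaf.stalk x) ∧
      _root_.IsReduced ((f.fiber (f x)).presheaf.stalk (f.asFiber x)) := by
    intro x
    have hclosed : IsClosed (f '' closure {x}) := f.isClosedMap _ isClosed_closure
    obtain ⟨a, ha, hfa⟩ := (IsLocalRing.specializes_closedPoint (R := R) (f x)).mem_closed hclosed
      ⟨x, subset_closure rfl, rfl⟩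
    refine isReduced_of_specializes_closedFibre f hfa (specializes_iff_mem_closure.mpr ha) ?_
    haveI : IsReduced (f.fiber (f a)) := by rw [hfa]; exact hred
    infer_instance
  have hfib : ∀ (x : X) (s : ↑(Spec (CommRingCat.of R))), f x = s → ∀ w : f.fiber s, f.fiberι s w = x →
      _root_.IsReduced ((f.fiber s).presheaf.stalk w) := by
    intro x s hs w hw
    subst hs
    obtain rfl : w = f.asFiber x :=
      (f.fiberι _).isEmbedding.injective (hw.trans (f.fiberι_asFiber x).symm)
    exact (key x).2
  haveI : ∀ x, _root_.IsReduced (X.presheaf.stalk x) := fun x => (key x).1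
  refine ⟨isReduced_of_isReduced_stalk X, fun s => ?_⟩
  haveI : ∀ w, _root_.IsReduced ((f.fiber s).presheaf.stalk w) := fun w =>
    hfib _ s ((f.range_fiberι s).le ⟨w, rfl⟩) w rfl
  exact isReduced_of_isReduced_stalk _

end GrothLib.Chev28
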