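import Groth.Agent.Lib.Chev28.Open
import Groth.Agent.Lib.QSec28.Scheme
import Groth.Agent.Lib.GeomUnib.Affine
import Groth.Agent.Lib.OpenAt.Basic

/-!
Chevalley's criterion of universal openness (EGA IV 14.4.1, 14.4.4).
-/

universe u

open CategoryTheory CategoryTheory.Limits AlgebraicGeometry TopologicalSpace Topology
open TensorProduct MvPolynomial

noncomputable section

namespace GrothLib.Chev28

variable {X Y : Scheme.{u}}

/-- Universal openness is inherited by the image under a morphism over the base. -/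
theorem isUnivOpenAt_of_comp {Z : Scheme.{u}} (c : Z ⟶ X) (f : X ⟶ Y) (z : Z)
    (h : EGA43.IsUnivOpenAt (c ≫ f) z) : EGA43.IsUnivOpenAt f (c z) := by
  intro Y' g x' hx'
  have sqX := IsPullback.of_hasPullback f g
  let c' : pullback (c ≫ f) g ⟶ pullback f g :=
    pullback.map (c ≫ f) g f g c (𝟙 _) (𝟙 _) (Category.comp_id _) ((Category.comp_id _).trans (Category.id_comp _).symm)
  have h2 : c' ≫ pullback.snd f g = pullback.snd (c ≫ f) g := (pullback.lift_snd _ _ _).trans (Category.comp_id _)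
  have h1 : c' ≫ pullback.fst f g = pullback.fst (c ≫ f) g ≫ c := pullback.lift_fst _ _ _
  have hsq : IsPullback c' (pullback.fst (c ≫ f) g) (pullback.fst f g) c := by
    refine IsPullback.of_right ?_ h1 sqX.flip
    rw [h2]
    exact (IsPullback.of_hasPullback (c ≫ f) g).flip
  obtain ⟨z', hz'1, hz'2⟩ := Scheme.exists_preimage_of_isPullback hsq x' z hx'
  have ho := GrothLib.OpenAt.isOpenAt_of_isPullback h (IsPullback.of_hasPullback (c ≫ f) g) z' hz'2
  subst hz'1
  refine GrothLib.OpenAt.of_comp c'.continuous ?_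
  have : (pullback.snd f g).base ∘ c'.base = (pullback.snd (c ≫ f) g).base := by
    rw [← h2]; rfl
  rw [this]
  exact ho

theorem universallyOpen_of_forall_isUnivOpenAt (f : X ⟶ Y) (h : ∀ x, EGA43.IsUnivOpenAt f x) :
    UniversallyOpen f := by
  refine ⟨fun X' Y' i₁ i₂ f' sq => ?_⟩
  intro U hU
  rw [isOpen_iff_mem_nhds]
  rintro _ ⟨p, hp, rfl⟩
  exact GrothLib.OpenAt.isOpenAt_of_isPullback (h (i₁ p)) sq.flip p rfl U (hU.mem_nhds hp)

/-- Universal openness from an independent cut on an affine chart. -/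
theorem isUnivOpenAt_of_chart [IsLocallyNoetherian Y] (f : X ⟶ Y) [LocallyOfFiniteType f]
    {V : Y.Opens} {U : X.Opens} (hV : IsAffineOpen V) (hU : IsAffineOpen U) (e : U ≤ f ⁻¹ᵁ V)
    (x : X) (hx : x ∈ U) (hy : CAlg2.IsGeomUnibranch (Y.presheaf.stalk (f x)))
    [Algebra Γ(Y, V) Γ(X, U)] (halg : algebraMap Γ(Y, V) Γ(X, U) = (f.appLE V U e).hom)
    (hcut : HasIndepCut Γ(Y, V) (hU.primeIdealOf ⟨x, hx⟩).asIdeal) :
    EGA43.IsUnivOpenAt f x := by
  intro Y' g x' hx'
  haveI : IsNoetherianRing Γ(Y, V) := IsLocallyNoetherian.component_noetherian ⟨V, hV⟩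
  haveI : Algebra.FiniteType Γ(Y, V) Γ(X, U) := by
    have := f.finiteType_appLE hV hU e
    rwa [← halg, RingHom.finiteType_algebraMap] at this
  have sq : hU.fromSpec ≫ f = Spec.map (CommRingCat.ofHom (algebraMap Γ(Y, V) Γ(X, U))) ≫ hV.fromSpec := by
    rw [halg]
    exact (hV.SpecMap_appLE_fromSpec f hU e).symm
  obtain ⟨qx, hqx⟩ : ∃ qx : PrimeSpectrum Γ(X, U), hU.fromSpec qx = x := hU.range_fromSpec.ge hx
  have hQ : (hU.primeIdealOf ⟨x, hx⟩).asIdeal = qx.asIdeal :=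
    congrArg PrimeSpectrum.asIdeal (hU.fromSpec.isOpenEmbedding.injective ((hU.fromSpec_primeIdealOf _).trans hqx.symm))
  have hyloc : CAlg2.IsGeomUnibranch (Localization.AtPrime (qx.asIdeal.comap (algebraMap Γ(Y, V) Γ(X, U)))) := by
    rw [← hqx, ← Scheme.Hom.comp_apply, sq, Scheme.Hom.comp_apply,
      GrothLib.GeomUnib.isGeomUnibranch_stalk_openImmersion_iff,
      GrothLib.GeomUnib.isGeomUnibranch_stalk_spec_iff] at hy
    exact hy
  have hy'V : g ((pullback.snd f g) x') ∈ V := by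
    rw [← Scheme.Hom.comp_apply, ← pullback.condition, Scheme.Hom.comp_apply, hx']
    exact e hx
  obtain ⟨W, hW, hWx, hWV⟩ := exists_isAffineOpen_mem_and_subset
    (x := (pullback.snd f g) x') (U := g ⁻¹ᵁ V) hy'V
  let R : Type u := Γ(Y', W)
  letI : Algebra Γ(Y, V) R := (g.appLE V W hWV).hom.toAlgebra
  have sqW : hW.fromSpec ≫ g = Spec.map (CommRingCat.ofHom (algebraMap Γ(Y, V) R)) ≫ hV.fromSpec :=
    (hV.SpecMap_appLE_fromSpec g hW hWV).symm
  let e₁ := (pullbackSpecIso Γ(Y, V) R Γ(X, U)).symm ≪≫ pullbackSymmetry _ _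
  let m₀ := pullback.map (Spec.map (CommRingCat.ofHom (algebraMap Γ(Y, V) Γ(X, U))))
    (Spec.map (CommRingCat.ofHom (algebraMap Γ(Y, V) R))) f g hU.fromSpec hW.fromSpec hV.fromSpec sq.symm sqW.symm
  let m : Spec (CommRingCat.of (R ⊗[Γ(Y, V)] Γ(X, U))) ⟶ pullback f g := e₁.hom ≫ m₀
  have hm1 : m ≫ pullback.fst f g =
      Spec.map (CommRingCat.ofHom Algebra.TensorProduct.includeRight.toRingHom) ≫ hU.fromSpec := by
    simp only [m, m₀, e₁, Iso.trans_hom, Iso.symm_hom, Category.assoc, pullback.lift_fst]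
    erw [pullbackSymmetry_hom_comp_fst_assoc]
    exact congrArg (· ≫ hU.fromSpec) (pullbackSpecIso_inv_snd Γ(Y, V) R Γ(X, U))
  have hm2 : m ≫ pullback.snd f g =
      Spec.map (CommRingCat.ofHom (algebraMap R (R ⊗[Γ(Y, V)] Γ(X, U)))) ≫ hW.fromSpec := by
    simp only [m, m₀, e₁, Iso.trans_hom, Iso.symm_hom, Category.assoc, pullback.lift_snd]
    erw [pullbackSymmetry_hom_comp_snd_assoc]
    exact congrArg (· ≫ hW.fromSpec) (pullbackSpecIso_inv_fst' Γ(Y, V) R Γ(X, U))
  obtain ⟨w₀, hw₀⟩ : x' ∈ Set.range m₀ := by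
    rw [Scheme.Pullback.range_map, hU.range_fromSpec, hW.range_fromSpec]
    exact ⟨by rw [Set.mem_preimage, hx']; exact hx, hWx⟩
  let Qr : PrimeSpectrum (R ⊗[Γ(Y, V)] Γ(X, U)) := e₁.inv w₀
  have hQr : m Qr = x' := by
    rw [show m Qr = (e₁.inv ≫ m) w₀ from (Scheme.Hom.comp_apply _ _ _).symm]
    simp only [m, Iso.inv_hom_id_assoc]
    exact hw₀
  have hQrB : Qr.asIdeal.comap (Algebra.TensorProduct.includeRight :
      Γ(X, U) →ₐ[Γ(Y, V)] R ⊗[Γ(Y, V)] Γ(X, U)).toRingHom = qx.asIdeal := by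
    refine congrArg PrimeSpectrum.asIdeal (hU.fromSpec.isOpenEmbedding.injective ?_ :
      PrimeSpectrum.comap _ Qr = qx)
    refine Eq.trans ?_ hqx.symm
    rw [← hx', ← hQr, ← Scheme.Hom.comp_apply m, hm1]
    rfl
  intro O hO
  have hcut' : HasIndepCut Γ(Y, V) qx.asIdeal := by
    simp only [hQ] at hcut
    exact hcut
  have key := isOpenAt_comap_baseChange qx.asIdeal hyloc hcut' R Qr hQrB (m ⁻¹' O)
    (m.continuous.continuousAt.preimage_mem_nhds (hQr ▸ hO))
  have h3 := hW.fromSpec.isOpenEmbedding.isOpenMap.image_mem_nhds key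
  have hpt : hW.fromSpec (PrimeSpectrum.comap (algebraMap R (R ⊗[Γ(Y, V)] Γ(X, U))) Qr) = (pullback.snd f g) x' := by
    rw [← hQr, ← Scheme.Hom.comp_apply m, hm2]
    rfl
  rw [hpt] at h3
  refine Filter.mem_of_superset h3 ?_
  rintro _ ⟨_, ⟨q, hq, rfl⟩, rfl⟩
  refine ⟨m q, hq, ?_⟩
  rw [← Scheme.Hom.comp_apply, hm2]
  rfl

/-- An independent cut from a bound of the number of cutting functions by the transcendence degree. -/
theorem hasIndepCut_of_trdeg {A B : Type u} [CommRing A] [CommRing B] [Algebra A B] [Algebra.FiniteType A B]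
    (Q P₀ : Ideal B) [Q.IsPrime] [P₀.IsPrime] (hle : P₀ ≤ Q) (p₀ : Ideal A) [p₀.IsPrime] [P₀.LiesOver p₀]
    (hmin : p₀ ∈ minimalPrimes A) {d : ℕ} (b : Fin d → B)
    (hqf : letI : Algebra (MvPolynomial (Fin d) A) B := (aeval b).toRingHom.toAlgebra
      Algebra.QuasiFiniteAt (MvPolynomial (Fin d) A) Q)
    (htr : (d : Cardinal.{u}) ≤ Algebra.trdeg (A ⧸ p₀) (B ⧸ P₀)) : HasIndepCut A Q := by
  let A' := A ⧸ p₀
  let B' := B ⧸ P₀
  haveI : FaithfulSMul A' B' := (faithfulSMul_iff_algebraMap_injective _ _).mpr <| by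
    refine (injective_iff_map_eq_zero _).mpr fun a ha => ?_
    obtain ⟨r, rfl⟩ := Ideal.Quotient.mk_surjective a
    rw [Ideal.Quotient.eq_zero_iff_mem, Ideal.mem_of_liesOver P₀ p₀ r]
    exact Ideal.Quotient.eq_zero_iff_mem.mp ha
  let mk₀ := Ideal.Quotient.mk P₀
  let b₀ : Fin d → B' := fun i => mk₀ (b i)
  have hst : ∀ P : MvPolynomial (Fin d) A,
      mk₀ (aeval b P) = aeval b₀ (MvPolynomial.map (algebraMap A A') P) := fun P => by
    rw [MvPolynomial.aeval_map_algebraMap]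
    exact comp_aeval_apply b (Ideal.Quotient.mkₐ A P₀) P
  let y₀ : Ideal B' := Q.map mk₀
  haveI : y₀.IsPrime := Ideal.map_isPrime_of_surjective Ideal.Quotient.mk_surjective (by rwa [Ideal.mk_ker])
  have hqf₀ : letI : Algebra (MvPolynomial (Fin d) A') B' := (aeval b₀).toRingHom.toAlgebra
      Algebra.QuasiFiniteAt (MvPolynomial (Fin d) A') y₀ := by
    letI : Algebra (MvPolynomial (Fin d) A) B := (aeval b).toRingHom.toAlgebra
    letI iA : Algebra (MvPolynomial (Fin d) A') B' := (aeval b₀).toRingHom.toAlgebra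
    letI iR : Algebra (MvPolynomial (Fin d) A) B' := (mk₀.comp (aeval b).toRingHom).toAlgebra
    letI iRA : Algebra (MvPolynomial (Fin d) A) (MvPolynomial (Fin d) A') :=
      (MvPolynomial.map (algebraMap A A')).toAlgebra
    haveI := hqf
    let φ : B →ₐ[MvPolynomial (Fin d) A] B' := { mk₀ with commutes' := fun _ => rfl }
    haveI : Algebra.QuasiFiniteAt (MvPolynomial (Fin d) A) y₀ :=
      Algebra.QuasiFiniteAt.of_surjectiveOnStalks Q φ
        (RingHom.surjectiveOnStalks_of_surjective Ideal.Quotient.mk_surjective) y₀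
        (Ideal.ext fun w => (Ideal.mem_quotient_iff_mem hle).symm)
    let L := Localization.AtPrime y₀
    haveI htower : @IsScalarTower (MvPolynomial (Fin d) A) (MvPolynomial (Fin d) A') L iRA.toSMul _ _ := by
      refine @IsScalarTower.of_algebraMap_eq _ _ _ _ _ _ iRA _ _ fun P => ?_
      rw [IsScalarTower.algebraMap_apply (MvPolynomial (Fin d) A) B' L,
        IsScalarTower.algebraMap_apply (MvPolynomial (Fin d) A') B' L]
      exact congrArg (algebraMap B' L) (hst P)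
    exact @Algebra.QuasiFinite.of_restrictScalars (MvPolynomial (Fin d) A) (MvPolynomial (Fin d) A') L
      _ _ _ iRA _ _ htower _
  have hind := GrothLib.QSec28.algebraicIndependent_of_quasiFiniteAt b₀ y₀ hqf₀ htr
  have hp₀ : p₀ = P₀.comap (algebraMap A B) := Ideal.LiesOver.over
  refine ⟨P₀, inferInstance, hle, hp₀ ▸ hmin, d, b, fun P hP m => ?_, hqf⟩
  have h1 : MvPolynomial.map (algebraMap A A') P = 0 := by
    refine (injective_iff_map_eq_zero _).mp hind _ ?_
    rw [← hst]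
    exact Ideal.Quotient.eq_zero_iff_mem.mpr hP
  rw [← hp₀, ← Ideal.Quotient.eq_zero_iff_mem]
  exact (MvPolynomial.coeff_map (algebraMap A A') P m).symm.trans ((congrArg (coeff m) h1).trans (coeff_zero m))

/-- **Chevalley's criterion**: an integral scheme dominating a component, with fibre dimension at
`w` at most the generic one, is universally open at `w` over a geometrically unibranch point. -/
theorem isUnivOpenAt_of_integral [IsLocallyNoetherian Y] {Z : Scheme.{u}} [IsIntegral Z] (h : Z ⟶ Y)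
    [LocallyOfFiniteType h] (w : Z) (hη : ∀ y', y' ⤳ h (genericPoint Z) → y' = h (genericPoint Z))
    (hy : CAlg2.IsGeomUnibranch (Y.presheaf.stalk (h w))) (n : ℕ)
    (hn : Dual3.resTrdeg h (genericPoint Z) = n) (hdim : FlatMor.fibreDimAt h w ≤ n) :
    EGA43.IsUnivOpenAt h w := by
  obtain ⟨V, hV, hwV, -⟩ := exists_isAffineOpen_mem_and_subset (x := h w) (U := ⊤) trivial
  let O : Z.Opens := ⟨_, GrothLib.FibreDimAt6.isOpen_fibreDimAt_le h n⟩
  obtain ⟨U, hU, hwU, hUO⟩ := exists_isAffineOpen_mem_and_subset (x := w) (U := O ⊓ h ⁻¹ᵁ V) ⟨hdim, hwV⟩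
  have hUV : U ≤ h ⁻¹ᵁ V := hUO.trans inf_le_right
  let A : Type u := Γ(Y, V)
  let B : Type u := Γ(Z, U)
  haveI : Nonempty U := ⟨⟨w, hwU⟩⟩
  haveI : IsDomain B := inferInstanceAs (IsDomain Γ(Z, U))
  letI : Algebra A B := (h.appLE V U hUV).hom.toAlgebra
  haveI : Algebra.FiniteType A B := h.finiteType_appLE hV hU hUV
  refine isUnivOpenAt_of_chart h hV hU hUV w hwU hy rfl ?_
  have hmem : ∀ q : PrimeSpectrum B, hU.fromSpec q ∈ U := fun q => hU.range_fromSpec.le ⟨q, rfl⟩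
  have hprime : ∀ q : PrimeSpectrum B, hU.primeIdealOf ⟨hU.fromSpec q, hmem q⟩ = q := fun q =>
    hU.fromSpec.isOpenEmbedding.injective (hU.fromSpec_primeIdealOf _)
  have hgenU : genericPoint Z ∈ U := (genericPoint_specializes w).mem_open U.2 hwU
  let P₀ : Ideal B := (hU.primeIdealOf ⟨genericPoint Z, hgenU⟩).asIdeal
  let p₀ : Ideal A := P₀.comap (algebraMap A B)
  haveI : P₀.LiesOver p₀ := ⟨rfl⟩
  have hp₀ : p₀ = (hV.primeIdealOf ⟨h (genericPoint Z), hUV hgenU⟩).asIdeal :=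
    congrArg PrimeSpectrum.asIdeal (IsAffineOpen.comap_primeIdealOf_appLE V hV U hU hUV hgenU)
  have hmin : p₀ ∈ minimalPrimes A := by
    refine ⟨⟨Ideal.comap_isPrime _ _, bot_le⟩, fun q hq hle => ?_⟩
    have h1 : hV.fromSpec ⟨q, hq.1⟩ = h (genericPoint Z) := by
      refine hη _ ?_
      refine Specializes.trans ?_ (specializes_of_eq (hV.fromSpec_primeIdealOf ⟨h (genericPoint Z), hUV hgenU⟩))
      exact ((PrimeSpectrum.le_iff_specializes (⟨q, hq.1⟩ : PrimeSpectrum A) _).mp (hle.trans hp₀.le)).map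
        hV.fromSpec.continuous
    have h2 := hV.fromSpec.isOpenEmbedding.injective (h1.trans (hV.fromSpec_primeIdealOf ⟨_, hUV hgenU⟩).symm)
    exact (hp₀.trans (congrArg PrimeSpectrum.asIdeal h2).symm).le
  let qw : PrimeSpectrum B := hU.primeIdealOf ⟨w, hwU⟩
  have hP₀ : P₀ ≤ qw.asIdeal := GrothLib.Altitude.primeIdealOf_mono hU (genericPoint_specializes w) hwU
  let pp : PrimeSpectrum A := PrimeSpectrum.comap (algebraMap A B) qw
  let p := pp.asIdeal
  let C := p.Fiber B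
  let ε := PrimeSpectrum.preimageHomeomorphFiber A B pp
  obtain ⟨m, hm, hwm⟩ := (ε ⟨qw, rfl⟩).asIdeal.exists_le_maximal (ε ⟨qw, rfl⟩).isPrime.ne_top
  haveI := hm
  obtain ⟨s, g, hginj, hgfin, -⟩ := GrothLib.SpecDense.exists_normalization_at (k := p.ResidueField) m
  obtain ⟨Qz, _, hQzmin, hCdim⟩ := GrothLib.QSec28.exists_minimalPrime_dim (C := C) (n := s) (by
    algebraize [g.toRingHom]
    haveI : Module.Finite (MvPolynomial (Fin s) p.ResidueField) C := hgfin
    rw [GrothLib.Dim.ringKrullDim_eq_of_isIntegral (R := MvPolynomial (Fin s) p.ResidueField) (S := C) hginj,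
      MvPolynomial.ringKrullDim_of_isNoetherianRing, ringKrullDim_eq_zero_of_field, zero_add, Nat.card_fin])
  obtain ⟨d, b, -, hgen, hqf, -⟩ := GrothLib.QuasiSec.exists_cut p m Qz hCdim
  have hqw : qw.asIdeal ≤ m.comap Algebra.TensorProduct.includeRight.toRingHom := by
    refine le_trans (le_of_eq ?_) (Ideal.comap_mono hwm)
    exact (congrArg (fun v => PrimeSpectrum.asIdeal (Subtype.val v)) (ε.symm_apply_apply ⟨qw, rfl⟩)).symm
  have hqfw : letI : Algebra (MvPolynomial (Fin d) A) B := (aeval b).toRingHom.toAlgebra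
      Algebra.QuasiFiniteAt (MvPolynomial (Fin d) A) qw.asIdeal := by
    letI : Algebra (MvPolynomial (Fin d) A) B := (aeval b).toRingHom.toAlgebra
    haveI := hqf
    exact Algebra.QuasiFiniteAt.of_le hqw
  refine hasIndepCut_of_trdeg qw.asIdeal P₀ hP₀ p₀ hmin b hqfw ?_
  rw [GrothLib.QSec28.trdeg_quotient_eq_resTrdeg h hV hU hUV (genericPoint Z) hgenU rfl p₀ P₀ hp₀ rfl, hn]
  -- `d ≤ n`
  let qz : PrimeSpectrum B := (ε.symm ⟨Qz, inferInstance⟩).1
  haveI hzl : qz.asIdeal.LiesOver p := ⟨(congrArg PrimeSpectrum.asIdeal (ε.symm ⟨Qz, inferInstance⟩).2).symm⟩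
  have hzd : (d : Cardinal.{u}) ≤ Algebra.trdeg (A ⧸ p) (B ⧸ qz.asIdeal) := by
    have hind : AlgebraicIndependent (A ⧸ p) (fun i => Ideal.Quotient.mk qz.asIdeal (b i)) := by
      refine (injective_iff_map_eq_zero _).mpr fun P hP => ?_
      obtain ⟨P', rfl⟩ := MvPolynomial.map_surjective (Ideal.Quotient.mk p) Ideal.Quotient.mk_surjective P
      have h1 : Ideal.Quotient.mk qz.asIdeal (aeval b P') = 0 := by
        rw [← hP, show (Ideal.Quotient.mk p : A →+* A ⧸ p) = algebraMap A (A ⧸ p) from rfl,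
          MvPolynomial.aeval_map_algebraMap]
        exact comp_aeval_apply b (Ideal.Quotient.mkₐ A qz.asIdeal) P'
      have h1' : aeval b P' ∈ qz.asIdeal := Ideal.Quotient.eq_zero_iff_mem.mp h1
      have h2 : (1 : p.ResidueField) ⊗ₜ[A] aeval b P' ∈ Qz := h1'
      rw [GrothLib.QSec28.aeval_one_tmul] at h2
      have h3 := hgen _ h2
      ext k
      rw [MvPolynomial.coeff_map, MvPolynomial.coeff_zero, Ideal.Quotient.eq_zero_iff_mem,
        ← Ideal.algebraMap_residueField_eq_zero, ← MvPolynomial.coeff_map, h3, MvPolynomial.coeff_zero]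
    simpa using hind.lift_cardinalMk_le_trdeg
  have hpp : hV.fromSpec pp = h w := by
    refine (congrArg hV.fromSpec (IsAffineOpen.comap_primeIdealOf_appLE V hV U hU hUV hwU)).trans ?_
    exact hV.fromSpec_primeIdealOf _
  have hsq : ∀ q : PrimeSpectrum B, h (hU.fromSpec q) = hV.fromSpec (PrimeSpectrum.comap (algebraMap A B) q) :=
    fun q => by
      rw [← Scheme.Hom.comp_apply, ← hV.SpecMap_appLE_fromSpec h hU hUV]
      rfl
  have hzmax : ∀ z', h z' = h (hU.fromSpec qz) → z' ⤳ hU.fromSpec qz → z' = hU.fromSpec qz := by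
    intro z' hz' hs
    obtain ⟨q', rfl⟩ : z' ∈ Set.range hU.fromSpec := hU.range_fromSpec.ge (hs.mem_open U.2 (hmem _))
    have hq' : PrimeSpectrum.comap (algebraMap A B) q' = pp := by
      refine hV.fromSpec.isOpenEmbedding.injective ?_
      rw [← hsq, hz', hsq]
      exact congrArg hV.fromSpec (ε.symm ⟨Qz, inferInstance⟩).2
    have hle : q'.asIdeal ≤ qz.asIdeal :=
      (PrimeSpectrum.le_iff_specializes q' qz).mpr (hU.fromSpec.isEmbedding.isInducing.specializes_iff.mp hs)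
    have h2 : (ε ⟨q', hq'⟩).asIdeal ≤ Qz := by
      have h3 : ε ⟨q', hq'⟩ ≤ ε (ε.symm ⟨Qz, inferInstance⟩) :=
        (PrimeSpectrum.preimageOrderIsoFiber A B pp).monotone hle
      rw [Homeomorph.apply_symm_apply] at h3
      exact h3
    have h4 : ε ⟨q', hq'⟩ = ⟨Qz, inferInstance⟩ :=
      PrimeSpectrum.ext (le_antisymm h2 (hQzmin.2 ⟨(ε ⟨q', hq'⟩).isPrime, bot_le⟩ h2))
    refine congrArg hU.fromSpec ?_
    change q' = (ε.symm ⟨Qz, inferInstance⟩).1
    rw [← h4, Homeomorph.symm_apply_apply]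
  obtain ⟨k, hk, hk'⟩ := GrothLib.Equidim6.fibreDimAt_eq_resTrdeg h (hU.fromSpec qz) hzmax
  have h0 : qz.asIdeal = (hU.primeIdealOf ⟨hU.fromSpec qz, hmem qz⟩).asIdeal :=
    congrArg PrimeSpectrum.asIdeal (hprime qz).symm
  have h1 : p = (hV.primeIdealOf ⟨h (hU.fromSpec qz), hUV (hmem qz)⟩).asIdeal := by
    rw [← IsAffineOpen.comap_primeIdealOf_appLE V hV U hU hUV (hmem qz)]
    exact hzl.over.trans (congrArg (Ideal.comap (algebraMap A B)) h0)
  rw [GrothLib.QSec28.trdeg_quotient_eq_resTrdeg h hV hU hUV (hU.fromSpec qz) (hmem qz) rfl p qz.asIdeal h1 h0,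
    hk] at hzd
  have hkn : FlatMor.fibreDimAt h (hU.fromSpec qz) ≤ n := (hUO (hmem qz)).1
  rw [hk'] at hkn
  refine hzd.trans ?_
  exact_mod_cast hkn

end GrothLib.Chev28
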