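import Groth.Agent.Lib.Chev28.SectCompOpen
import Groth.Agent.Lib.SecComp6.Univ.Basic

/-!
Local constancy and semicontinuity of the dimension of section components (EGA IV 15.6).
-/

universe u

open CategoryTheory CategoryTheory.Limits AlgebraicGeometry TopologicalSpace Topology Set

noncomputable section

namespace GrothLib.Chev28

variable {X Y : Scheme.{u}}

theorem upperSemicontinuous_dim_sectComp (f : X ⟶ Y) [LocallyOfFiniteType f] (g : Y ⟶ X) (hg : g ≫ f = 𝟙 Y)
    (hirr : ∀ y : Y, IsIrreducible (connectedComponentIn (f ⁻¹' {y}) (g y))) :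
    UpperSemicontinuous (fun y : Y => topologicalKrullDim ↥(connectedComponentIn (f ⁻¹' {y}) (g y))) := by
  have hfg : ∀ t, f (g t) = t := fun t => congrArg (fun m : Y ⟶ Y => m.base t) hg
  have hF := fun t => fibreDimAt_eq_dim_sectComp f (hfg t) (hirr t)
  intro y c hc
  obtain ⟨ξ, hξ, hC⟩ := sectComp_eq_fibClosure f (hirr y)
  obtain ⟨n, -, hn⟩ := exists_dim_fibClosure f ξ
  rw [hξ, ← hC] at hn
  have hy : y ∈ g ⁻¹' {x | FlatMor.fibreDimAt f x ≤ (n : WithBot ℕ∞)} := ((hF y).trans hn).le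
  refine Filter.mem_of_superset
    (((GrothLib.FibreDimAt6.isOpen_fibreDimAt_le f n).preimage g.continuous).mem_nhds hy) fun t ht => ?_
  have ht' : topologicalKrullDim ↥(connectedComponentIn (f ⁻¹' {t}) (g t)) ≤ (n : WithBot ℕ∞) :=
    (hF t).symm.trans_le ht
  exact lt_of_le_of_lt ht' (hn ▸ hc)

/-- A function invariant under generization is locally constant on a locally noetherian scheme. -/
theorem eventually_eq_of_specializes [IsLocallyNoetherian Y] {α : Type*} (F : Y → α)
    (h : ∀ {y' y : Y}, y' ⤳ y → F y' = F y) (y : Y) : ∀ᶠ z in 𝓝 y, F z = F y := by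
  obtain ⟨O, hyO, hO⟩ := exists_open_components_through y
  refine Filter.mem_of_superset (O.2.mem_nhds hyO) fun z hz => ?_
  obtain ⟨η, hηz, hη⟩ := exists_maximal_generization z
  exact (h hηz).symm.trans (h (hO η (hηz.mem_open O.2 hz) hη))

/-- The dimension of the section component does not drop under generization when the morphism is
universally open and geometrically reduced along it. -/
theorem dim_sectComp_le_of_univOpen [IsLocallyNoetherian Y] (f : X ⟶ Y) [LocallyOfFiniteType f] (g : Y ⟶ X)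
    (hg : g ≫ f = 𝟙 Y) {y y' : Y} (hy : y' ⤳ y)
    (hirr : IsIrreducible (connectedComponentIn (f ⁻¹' {y}) (g y)))
    (hopen : ∀ x ∈ connectedComponentIn (f ⁻¹' {y}) (g y), EGA43.IsOpenAt f.base x)
    (hint : connectedComponentIn (f ⁻¹' {y}) (g y) ⊆ interior (MoreMor.sectionComponents f g)) :
    topologicalKrullDim ↥(connectedComponentIn (f ⁻¹' {y}) (g y)) ≤
      topologicalKrullDim ↥(connectedComponentIn (f ⁻¹' {y'}) (g y')) := by
  have hfg : ∀ t, f (g t) = t := fun t => congrArg (fun m : Y ⟶ Y => m.base t) hg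
  obtain ⟨ξ₀, hξ₀, hC⟩ := sectComp_eq_fibClosure f hirr
  have hξ₀C : ξ₀ ∈ connectedComponentIn (f ⁻¹' {y}) (g y) := hC.ge ⟨subset_closure rfl, hξ₀⟩
  have hgy : g y ∈ closure {ξ₀} := (hC.le (mem_connectedComponentIn (hfg y))).1
  have hmax : ∀ z', f z' = f ξ₀ → z' ⤳ ξ₀ → z' = ξ₀ := by
    intro z' hz' hs
    have h1 : z' ∈ connectedComponentIn (f ⁻¹' {y}) (g y) :=
      fibClosure_subset_connectedComponentIn f (hz'.trans hξ₀) (hfg y)
        (hs.trans (specializes_iff_mem_closure.2 hgy)) ⟨subset_closure rfl, hz'.trans hξ₀⟩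
    exact (hs.antisymm (specializes_iff_mem_closure.2 (hC.le h1).1)).eq
  obtain ⟨n, hn, hn'⟩ := exists_dim_fibClosure f ξ₀
  obtain ⟨ξ, hξsp, hξ, -, hξn⟩ :=
    exists_over_generization f ξ₀ hmax n hn (hopen ξ₀ hξ₀C) (y' := y') (hξ₀.symm ▸ hy)
  have hξX : ξ ∈ MoreMor.sectionComponents f g :=
    interior_subset (hξsp.mem_open isOpen_interior (hint hξ₀C))
  obtain ⟨m, hm, hm'⟩ := exists_dim_fibClosure f ξ
  have hsub : closure {ξ} ∩ f ⁻¹' {f ξ} ⊆ connectedComponentIn (f ⁻¹' {y'}) (g y') := by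
    have h1 : ξ ∈ connectedComponentIn (f ⁻¹' {f ξ}) (g (f ξ)) := hξX
    rw [← hξ, connectedComponentIn_eq h1]
    exact (isIrreducible_fibClosure f ξ).isConnected.isPreconnected.subset_connectedComponentIn
      ⟨subset_closure rfl, rfl⟩ Set.inter_subset_right
  rw [hC, ← hξ₀, hn', show n = m by exact_mod_cast (hξn.symm.trans hm :), ← hm']
  exact dim_le_of_subset hsub

/-- EGA IV 15.6.7. -/
theorem isLocallyConstant_dim_sectComp_iff [IsLocallyNoetherian Y] (f : X ⟶ Y) [LocallyOfFiniteType f] (g : Y ⟶ X)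
    (hg : g ≫ f = 𝟙 Y) (hirr : GeomIrredSectComp f g)
    (hred : ∀ x ∈ MoreMor.sectionComponents f g,
      FBase.IsGeomReducedAt (f.fiberToSpecResidueField (f x)) (f.asFiber x)) :
    (IsLocallyConstant (fun y : Y => topologicalKrullDim ↥(connectedComponentIn (f ⁻¹' {y}) (g y))) ↔
        ∀ x ∈ MoreMor.sectionComponents f g, EGA43.IsUnivOpenAt f x) ∧
      (IsLocallyConstant (fun y : Y => topologicalKrullDim ↥(connectedComponentIn (f ⁻¹' {y}) (g y))) →
        IsOpen (MoreMor.sectionComponents f g)) := by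
  have hfg : ∀ t, f (g t) = t := fun t => congrArg (fun m : Y ⟶ Y => m.base t) hg
  have hmem : ∀ {y : Y} {x : X}, x ∈ connectedComponentIn (f ⁻¹' {y}) (g y) → x ∈ MoreMor.sectionComponents f g := by
    intro y x hx
    have hfx : f x = y := connectedComponentIn_subset (f ⁻¹' {y}) (g y) hx
    show x ∈ connectedComponentIn (f ⁻¹' {f x}) (g (f x))
    rw [hfx]; exact hx
  have huo : IsLocallyConstant (fun y : Y => topologicalKrullDim ↥(connectedComponentIn (f ⁻¹' {y}) (g y))) →
      ∀ x ∈ MoreMor.sectionComponents f g, EGA43.IsUnivOpenAt f x := fun hl x hx =>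
    isUnivOpenAt_of_dim_const f g hg hirr (f x)
      (fun z hz => hz.mem_open (hl.isOpen_fiber _) rfl) x hx
  have hint : (∀ x ∈ MoreMor.sectionComponents f g, EGA43.IsUnivOpenAt f x) →
      ∀ y, connectedComponentIn (f ⁻¹' {y}) (g y) ⊆ interior (MoreMor.sectionComponents f g) := fun h y =>
    GrothLib.SecComp6.sectionComponents_nhd_univ f g hg y fun x hx => ⟨h x (hmem hx), hred x (hmem hx)⟩
  refine ⟨⟨huo, fun h => (IsLocallyConstant.iff_eventually_eq _).2 fun y =>
    eventually_eq_of_specializes _ (fun {y' y} hy => le_antisymm ?_ ?_) y⟩, fun hl => ?_⟩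
  · obtain ⟨ξ, hξ, hC⟩ := sectComp_eq_fibClosure f (isIrreducible_sectComp f g hirr y')
    exact (dim_sectComp_ge f g hg hy hξ
      (specializes_iff_mem_closure.2 (hC.le (mem_connectedComponentIn (hfg y'))).1) (by rw [← hC])).1
  · exact dim_sectComp_le_of_univOpen f g hg hy (isIrreducible_sectComp f g hirr y)
      (fun x hx => isOpenAt_of_isUnivOpenAt (h x (hmem hx))) (hint h y)
  · rw [← subset_interior_iff_isOpen]
    intro x hx
    exact hint (huo hl) (f x) hx

end GrothLib.Chev28
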