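import Groth.Agent.Lib.Chev28.SectCompConst
import Groth.Agent.Lib.Chev28.FlatDVR
import Groth.Agent.Lib.SecComp6.Multi
import Groth.Agent.Lib.SubtrLim.Submersive

/-!
Constancy of the dimension of section components from universal openness at the generic point
(EGA IV 15.6.6).
-/

universe u

open CategoryTheory CategoryTheory.Limits AlgebraicGeometry TopologicalSpace Topology Set IsLocalRing

noncomputable section

namespace GrothLib.Chev28

variable {X Y : Scheme.{u}}

/-- A noetherian local ring with a regular element generating a prime ideal is a domain. -/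
theorem isDomain_of_span_prime {T : Type u} [CommRing T] [IsNoetherianRing T] [IsLocalRing T] (π : T)
    (hm : π ∈ maximalIdeal T) (hprime : (Ideal.span {π}).IsPrime)
    (hreg : ∀ a : T, π * a = 0 → a = 0) : IsDomain T := by
  have hne : Ideal.span {π} ≠ ⊤ := hprime.ne_top
  have hdiv : ∀ a : T, a ≠ 0 → ∃ (n : ℕ) (b : T), b ∉ Ideal.span {π} ∧ a = π ^ n * b := by
    intro a ha
    by_contra! hcon
    refine ha ?_
    have key : ∀ n : ℕ, ∃ b, a = π ^ n * b := by
      intro n
      induction n with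
      | zero => exact ⟨a, by simp⟩
      | succ n ih =>
        obtain ⟨b, hb⟩ := ih
        obtain ⟨c, hc⟩ := Ideal.mem_span_singleton'.mp (show b ∈ Ideal.span {π} from by
          by_contra hbn
          exact hcon n b hbn hb)
        exact ⟨c, by rw [hb, ← hc]; ring⟩
    have hinf : a ∈ ⨅ n, Ideal.span {π} ^ n := Submodule.mem_iInf _ |>.mpr fun n => by
      obtain ⟨b, hb⟩ := key n
      rw [hb, Ideal.span_singleton_pow]
      exact Ideal.mem_span_singleton'.mpr ⟨b, mul_comm _ _⟩
    rw [Ideal.iInf_pow_eq_bot_of_isLocalRing _ hne] at hinf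
    exact hinf
  have hpow : ∀ (n : ℕ) (a : T), π ^ n * a = 0 → a = 0 := by
    intro n
    induction n with
    | zero => intro a ha; simpa using ha
    | succ n ih => intro a ha; exact hreg a (ih _ (by rwa [pow_succ, mul_assoc] at ha))
  haveI : NoZeroDivisors T := ⟨fun {a b} hab => by
    by_contra! h
    obtain ⟨n, a', ha', rfl⟩ := hdiv a h.1
    obtain ⟨m, b', hb', rfl⟩ := hdiv b h.2
    have h0 : a' * b' = 0 := hpow (n + m) _ (by rw [pow_add]; linear_combination hab)
    exact (hprime.mem_or_mem (show a' * b' ∈ Ideal.span {π} by rw [h0]; exact zero_mem _)).elim ha' hb'⟩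
  exact NoZeroDivisors.to_isDomain T

/-- Over a discrete valuation ring, a point with a reduced and irreducible fibre germ at whose generic
point the morphism is open has a single maximal generization. -/
theorem exists_unique_generization {A : Type u} [CommRing A] [IsDomain A] [IsDiscreteValuationRing A]
    (f : X ⟶ Spec (CommRingCat.of A)) [IsLocallyNoetherian X] (a : X) (hc : f a = IsLocalRing.closedPoint A)
    (w₀ : ↥(f.fiber (f a))) (hw₀ : ∀ z, z ⤳ f.asFiber a → w₀ ⤳ z) (hw₀a : w₀ ⤳ f.asFiber a)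
    (hopen : EGA43.IsOpenAt f.base (f.fiberι (f a) w₀))
    (hred : _root_.IsReduced ((f.fiber (f a)).presheaf.stalk (f.asFiber a))) :
    ∃ ξ : X, ξ ⤳ a ∧ ∀ z, z ⤳ a → ξ ⤳ z := by
  let T := X.presheaf.stalk a
  let F := f.fiber (f a)
  let w := f.asFiber a
  haveI := hred
  haveI hF : IsDomain (F.presheaf.stalk w) := by
    obtain ⟨q, hq⟩ := (Scheme.range_fromSpecStalk (x := w)).ge hw₀a
    have hle : ∀ p : PrimeSpectrum (F.presheaf.stalk w), q.asIdeal ≤ p.asIdeal := by
      intro p
      have hp : F.fromSpecStalk w p ⤳ w := (Scheme.range_fromSpecStalk (x := w)).le ⟨p, rfl⟩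
      have h1 := hw₀ _ hp
      rw [← hq, (F.fromSpecStalk w).isEmbedding.isInducing.specializes_iff] at h1
      exact (PrimeSpectrum.le_iff_specializes q p).mpr h1
    have hbot : q.asIdeal = ⊥ := by
      rw [eq_bot_iff]
      intro r hr
      have : r ∈ nilradical (F.presheaf.stalk w) := by
        rw [nilradical_eq_sInf]
        exact Submodule.mem_sInf.mpr fun p hp => hle ⟨p, hp⟩ hr
      rwa [nilradical_eq_zero] at this
    haveI : (⊥ : Ideal (F.presheaf.stalk w)).IsPrime := hbot ▸ q.isPrime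
    exact MulEquiv.isDomain _ (RingEquiv.quotientBot (F.presheaf.stalk w)).symm.toMulEquiv
  obtain ⟨ϖ, hϖ⟩ := IsDiscreteValuationRing.exists_irreducible A
  let p : PrimeSpectrum A := f a
  have hp : p.asIdeal = maximalIdeal A := congrArg PrimeSpectrum.asIdeal hc
  let S := (Spec (CommRingCat.of A)).presheaf.stalk (f a)
  let θ : A →+* S := algebraMap A ((Spec.structureSheaf A).presheaf.stalk p)
  have hmS : maximalIdeal S = Ideal.span {θ ϖ} := by
    haveI : IsLocalRing ((Spec.structureSheaf A).presheaf.stalk p) :=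
      IsLocalization.AtPrime.isLocalRing _ p.asIdeal
    have h1 : (maximalIdeal A).map θ = maximalIdeal S := by
      rw [← hp]
      exact IsLocalization.AtPrime.map_eq_maximalIdeal p.asIdeal ((Spec.structureSheaf A).presheaf.stalk p)
    rw [← h1, hϖ.maximalIdeal_eq, Ideal.map_span, Set.image_singleton]
  obtain ⟨e⟩ := GrothLib.CMMor6.nonempty_fibQuot_equiv f a
  let I : Ideal T := (maximalIdeal S).map (f.stalkMap a).hom
  let π : T := (f.stalkMap a).hom (θ ϖ)
  have hI : I = Ideal.span {π} := by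
    show (maximalIdeal S).map _ = _
    rw [hmS, Ideal.map_span, Set.image_singleton]
  have hprime : I.IsPrime := by
    haveI : IsDomain (T ⧸ I) := MulEquiv.isDomain _ e.toMulEquiv
    exact (Ideal.Quotient.isDomain_iff_prime I).mp inferInstance
  have hm : π ∈ maximalIdeal T :=
    (IsLocalRing.mem_maximalIdeal π).mpr (map_nonunit (f.stalkMap a).hom (θ ϖ)
      (by rw [hmS]; exact Ideal.mem_span_singleton_self _))
  have hreg : ∀ b : T, π * b = 0 → b = 0 := by
    refine isRegular_of_isRadical_span π hm (hI ▸ hprime.isRadical) fun P hP => ?_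
    haveI hb : (⊥ : Ideal S).IsPrime := by
      haveI : IsDomain ((Spec.structureSheaf A).presheaf.stalk p) :=
        IsLocalization.isDomain_of_le_nonZeroDivisors _ (Ideal.primeCompl_le_nonZeroDivisors p.asIdeal)
      exact Ideal.isPrime_bot (α := ((Spec.structureSheaf A).presheaf.stalk p))
    obtain ⟨Q, hQ, hQ'⟩ := exists_le_comap_eq_of_isOpenAt f a (fun z hz hzmax => by
        obtain rfl : w₀ = z := hzmax w₀ (hw₀ z (specializes_iff_mem_closure.2 hz)).mem_closure
        exact hopen)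
      ⟨P, hP.1.1⟩ (show P ∈ I.minimalPrimes by rw [hI]; exact hP) ⟨⊥, hb⟩
    refine ⟨Q.asIdeal, Q.isPrime, hQ, fun hmem => hϖ.ne_zero ?_⟩
    have h' : θ ϖ ∈ (PrimeSpectrum.comap (f.stalkMap a).hom Q).asIdeal := hmem
    rw [hQ'] at h'
    exact (map_eq_zero_iff θ (IsLocalization.injective ((Spec.structureSheaf A).presheaf.stalk p)
      (Ideal.primeCompl_le_nonZeroDivisors p.asIdeal))).mp h'
  haveI : IsDomain T := isDomain_of_span_prime π hm (hI ▸ hprime) hreg
  refine ⟨X.fromSpecStalk a (⟨⊥, Ideal.isPrime_bot⟩ : PrimeSpectrum T),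
    (Scheme.range_fromSpecStalk (x := a)).le ⟨_, rfl⟩, fun z hz => ?_⟩
  obtain ⟨q, rfl⟩ := (Scheme.range_fromSpecStalk (x := a)).ge hz
  exact ((PrimeSpectrum.le_iff_specializes (⟨⊥, Ideal.isPrime_bot⟩ : PrimeSpectrum T) q).mp
    (show (⊥ : Ideal T) ≤ q.asIdeal from bot_le)).map (X.fromSpecStalk a).continuous

/-- The dimension of the section component does not drop along the image of the spectrum of a discrete
valuation ring, when the morphism is universally open at its generic point and geometrically reduced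
on the section. -/
theorem dim_sectComp_le_of_dvr (f : X ⟶ Y) [LocallyOfFiniteType f] (g : Y ⟶ X)
    (hg : g ≫ f = 𝟙 Y) (hirr : GeomIrredSectComp f g) {y y' : Y}
    (D : Type u) [CommRing D] [IsDomain D] [IsDiscreteValuationRing D] (h : Spec (CommRingCat.of D) ⟶ Y)
    (hη₀ : h (GrothLib.HTop.gen (CommRingCat.of D)) = y') (hc₀ : h (GrothLib.HTop.closed (CommRingCat.of D)) = y)
    (hopen : ∀ ξ ∈ connectedComponentIn (f ⁻¹' {y}) (g y),
      connectedComponentIn (f ⁻¹' {y}) (g y) ⊆ closure {ξ} → EGA43.IsUnivOpenAt f ξ)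
    (hred : FBase.IsGeomReducedAt (f.fiberToSpecResidueField (f (g y))) (f.asFiber (g y))) :
    topologicalKrullDim ↥(connectedComponentIn (f ⁻¹' {y}) (g y)) ≤
      topologicalKrullDim ↥(connectedComponentIn (f ⁻¹' {y'}) (g y')) := by
  let f' := pullback.snd f h
  haveI : LocallyOfFiniteType f' := MorphismProperty.pullback_snd f h ‹_›
  haveI : IsLocallyNoetherian (pullback f h) := LocallyOfFiniteType.isLocallyNoetherian f'
  let σ : Spec (CommRingCat.of D) ⟶ pullback f h := pullback.lift (h ≫ g) (𝟙 _)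
    (by rw [Category.assoc, hg, Category.comp_id, Category.id_comp])
  have hσ : σ ≫ f' = 𝟙 _ := pullback.lift_snd _ _ _
  have hσg : σ ≫ pullback.fst f h = h ≫ g := pullback.lift_fst _ _ _
  have hC := isIrreducible_sectComp_baseChange f g hg hirr h σ hσ hσg
  have hσ' : ∀ t, f' (σ t) = t := fun t => by rw [← Scheme.Hom.comp_apply, hσ]; rfl
  have hdim : ∀ t, topologicalKrullDim ↥(connectedComponentIn (f' ⁻¹' {t}) (σ t)) =
      topologicalKrullDim ↥(connectedComponentIn (f ⁻¹' {h t}) (g (h t))) := fun t => by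
    rw [← fibreDimAt_eq_dim_sectComp _ (hσ' t) (hC t).2,
      ← fibreDimAt_eq_dim_sectComp f (show f (g (h t)) = h t by rw [← Scheme.Hom.comp_apply, hg]; rfl)
        (isIrreducible_sectComp f g hirr (h t)),
      GrothLib.AlgSp.fibreDimAt_of_isPullback (IsPullback.of_hasPullback f h), ← Scheme.Hom.comp_apply, hσg]
    rfl
  let η : Spec (CommRingCat.of D) := GrothLib.HTop.gen (CommRingCat.of D)
  let c : Spec (CommRingCat.of D) := GrothLib.HTop.closed (CommRingCat.of D)
  have hηy : h η = y' := hη₀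
  have hcy : h c = y := hc₀
  have hηmax : ∀ t, t ⤳ η → t = η := fun t ht => by
    refine PrimeSpectrum.ext (le_antisymm ((PrimeSpectrum.le_iff_specializes t η).mpr ht) ?_)
    exact (bot_le : (⊥ : Ideal D) ≤ _)
  have hηc : η ⤳ c := (PrimeSpectrum.le_iff_specializes η c).mp (bot_le : (⊥ : Ideal D) ≤ _)
  obtain ⟨ξ₀, hξ₀, hCc⟩ := sectComp_eq_fibClosure f' (hC c).2
  have hξ₀C : ξ₀ ∈ connectedComponentIn (f' ⁻¹' {c}) (σ c) := hCc.ge ⟨subset_closure rfl, hξ₀⟩
  have hmax : ∀ z', f' z' = f' ξ₀ → z' ⤳ ξ₀ → z' = ξ₀ := by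
    intro z' hz' hs
    have hgy : ξ₀ ⤳ σ c := specializes_iff_mem_closure.2 (hCc.le (mem_connectedComponentIn (hσ' c))).1
    have h1 : z' ∈ connectedComponentIn (f' ⁻¹' {c}) (σ c) :=
      fibClosure_subset_connectedComponentIn f' (hz'.trans hξ₀) (hσ' c)
        (hs.trans hgy) ⟨subset_closure rfl, hz'.trans hξ₀⟩
    exact (hs.antisymm (specializes_iff_mem_closure.2 (hCc.le h1).1)).eq
  have himg : pullback.fst f h '' connectedComponentIn (f' ⁻¹' {c}) (σ c) =
      connectedComponentIn (f ⁻¹' {y}) (g y) := by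
    rw [GrothLib.SecComp6.image_fiber_component f f' (pullback.fst f h) h (IsPullback.of_hasPullback f h) c (σ c)
      (hσ' c), hcy, ← Scheme.Hom.comp_apply, hσg, Scheme.Hom.comp_apply, hcy]
  have hopen₀ : EGA43.IsOpenAt f'.base ξ₀ := by
    refine hopen _ (himg.le ⟨ξ₀, hξ₀C, rfl⟩) ?_ _ h ξ₀ rfl
    rw [← himg]
    rintro _ ⟨x, hx, rfl⟩
    exact ((specializes_iff_mem_closure.2 (hCc.le hx).1).map (pullback.fst f h).continuous).mem_closure
  let a := σ c
  have hfa : f' a = c := hσ' c
  have hsp₀ : ξ₀ ⤳ a := specializes_iff_mem_closure.2 (hCc.le (mem_connectedComponentIn (hσ' c))).1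
  obtain ⟨w₀, hw₀⟩ := (f'.range_fiberι (f' a)).ge (show ξ₀ ∈ f' ⁻¹' {f' a} from hξ₀.trans hfa.symm)
  obtain ⟨ξ, hξa, hξ⟩ := exists_unique_generization f' a (hfa.trans rfl) w₀
    (fun z hz => by
      rw [← (f'.fiberι (f' a)).isEmbedding.isInducing.specializes_iff, hw₀]
      have hz2 : f' (f'.fiberι (f' a) z) = c := ((f'.range_fiberι (f' a)).le ⟨z, rfl⟩).trans hfa
      have hz1 : f'.fiberι (f' a) z ⤳ a :=
        (hz.map (f'.fiberι (f' a)).continuous).trans (specializes_of_eq (f'.fiberι_asFiber a))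
      exact specializes_iff_mem_closure.2
        (hCc.le (fibClosure_subset_connectedComponentIn f' hz2 hfa hz1 ⟨subset_closure rfl, hz2⟩)).1)
    (by
      rw [← (f'.fiberι (f' a)).isEmbedding.isInducing.specializes_iff, hw₀, f'.fiberι_asFiber]
      exact hsp₀)
    (by rw [hw₀]; exact hopen₀)
    (by
      let t := (Spec (CommRingCat.of D)).fromSpecResidueField (f' a)
      have sq : IsPullback (f'.fiberι (f' a) ≫ pullback.fst f h) (f'.fiberToSpecResidueField (f' a)) f (t ≫ h) :=
        (IsPullback.of_hasPullback _ _).paste_horiz (IsPullback.of_hasPullback f h)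
      let k := sq.isoPullback.hom
      have hka : pullback.fst f (t ≫ h) (k (f'.asFiber a)) = g y := by
        rw [← Scheme.Hom.comp_apply, sq.isoPullback_hom_fst, Scheme.Hom.comp_apply, f'.fiberι_asFiber,
          ← Scheme.Hom.comp_apply, hσg, Scheme.Hom.comp_apply, hcy]
      exact @GrothLib.SecComp6.isReduced_stalk_of_openImmersion _ _ k _ (f'.asFiber a)
        (GrothLib.SecComp6.isReduced_stalk_of_geomReducedAt f (t ≫ h) (k (f'.asFiber a)) hka hred))
  obtain ⟨n, hn, hn'⟩ := exists_dim_fibClosure f' ξ₀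
  obtain ⟨ξ', hξ'sp, hξ', -, hξ'n⟩ :=
    exists_over_generization f' ξ₀ hmax n hn hopen₀ (y' := η) (hξ₀.symm ▸ hηc)
  have hξξ' : ξ ⤳ ξ' := hξ _ (hξ'sp.trans hsp₀)
  have hfξ : f' ξ = η := hηmax _ (hξ' ▸ hξξ'.map f'.continuous)
  have hση : ξ ⤳ σ η := hξ _ (hηc.map σ.continuous)
  obtain ⟨m, hm, hm'⟩ := exists_dim_fibClosure f' ξ'
  rw [← hcy, ← hηy, ← hdim, ← hdim, hCc, ← hξ₀, hn', show n = m by exact_mod_cast (hξ'n.symm.trans hm :), ← hm']
  refine dim_le_of_subset ((Set.inter_subset_inter_left _ (closure_minimal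
    (Set.singleton_subset_iff.2 hξξ'.mem_closure) isClosed_closure)).trans ?_)
  rw [hξ']
  exact fibClosure_subset_connectedComponentIn f' hfξ (hσ' η) hση

/-- The dimension of the section component does not drop under generization when the morphism is
universally open at its generic point and geometrically reduced on the section. -/
theorem dim_sectComp_le_of_geomReduced [IsLocallyNoetherian Y] (f : X ⟶ Y) [LocallyOfFiniteType f] (g : Y ⟶ X)
    (hg : g ≫ f = 𝟙 Y) (hirr : GeomIrredSectComp f g) {y y' : Y} (hy : y' ⤳ y)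
    (hopen : ∀ ξ ∈ connectedComponentIn (f ⁻¹' {y}) (g y),
      connectedComponentIn (f ⁻¹' {y}) (g y) ⊆ closure {ξ} → EGA43.IsUnivOpenAt f ξ)
    (hred : FBase.IsGeomReducedAt (f.fiberToSpecResidueField (f (g y))) (f.asFiber (g y))) :
    topologicalKrullDim ↥(connectedComponentIn (f ⁻¹' {y}) (g y)) ≤
      topologicalKrullDim ↥(connectedComponentIn (f ⁻¹' {y'}) (g y')) := by
  obtain ⟨D, _, _, _, h, hη₀, hc₀⟩ := GrothLib.SubtrLim.exists_dvr_map hy
  exact dim_sectComp_le_of_dvr f g hg hirr D h hη₀ hc₀ hopen hred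

/-- EGA IV 15.6.6 (ii) over a locally noetherian base. -/
theorem dim_sectComp_eventually_eq [IsLocallyNoetherian Y] (f : X ⟶ Y) [LocallyOfFiniteType f] (g : Y ⟶ X)
    (hg : g ≫ f = 𝟙 Y) (hirr : GeomIrredSectComp f g) (y₀ : Y)
    (hge : ∀ η, η ⤳ y₀ → (∀ y', y' ⤳ η → y' = η) →
      topologicalKrullDim ↥(connectedComponentIn (f ⁻¹' {y₀}) (g y₀)) ≤
        topologicalKrullDim ↥(connectedComponentIn (f ⁻¹' {η}) (g η))) :
    ∃ V ∈ 𝓝 y₀, ∀ z ∈ V, topologicalKrullDim ↥(connectedComponentIn (f ⁻¹' {z}) (g z)) =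
      topologicalKrullDim ↥(connectedComponentIn (f ⁻¹' {y₀}) (g y₀)) := by
  have hfg : ∀ t, f (g t) = t := fun t => congrArg (fun m : Y ⟶ Y => m.base t) hg
  have hirr' := fun t => isIrreducible_sectComp f g hirr t
  have hF := fun t => fibreDimAt_eq_dim_sectComp f (hfg t) (hirr' t)
  obtain ⟨ξ₀, hξ₀, hC⟩ := sectComp_eq_fibClosure f (hirr' y₀)
  obtain ⟨n, -, hn⟩ := exists_dim_fibClosure f ξ₀
  rw [hξ₀, ← hC] at hn
  obtain ⟨O, hyO, hO⟩ := exists_open_components_through y₀
  have hy : y₀ ∈ g ⁻¹' {x | FlatMor.fibreDimAt f x ≤ (n : WithBot ℕ∞)} := ((hF y₀).trans hn).le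
  refine ⟨_, Filter.inter_mem (O.2.mem_nhds hyO)
    (((GrothLib.FibreDimAt6.isOpen_fibreDimAt_le f n).preimage g.continuous).mem_nhds hy),
    fun z hz => le_antisymm (((hF z).symm.trans_le hz.2).trans hn.ge) ?_⟩
  obtain ⟨η, hηz, hη⟩ := exists_maximal_generization z
  obtain ⟨ξ, hξ, hCη⟩ := sectComp_eq_fibClosure f (hirr' η)
  exact (hge η (hO η (hηz.mem_open O.2 hz.1) hη) hη).trans (dim_sectComp_ge f g hg hηz hξ
    (specializes_iff_mem_closure.2 (hCη.le (mem_connectedComponentIn (hfg η))).1) (by rw [← hCη])).1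

end GrothLib.Chev28
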