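import Groth.Agent.Lib.Chev28.SectComp
import Groth.Agent.Lib.SecComp6.BaseChange
import Groth.Agent.Lib.AlgSp.FibreDimBC
import Groth.Agent.Lib.UnivOpenAt6.Local
import Groth.Prelude.Def_FDesc

/-!
Universal openness along section components of constant dimension (EGA IV 15.6.3).
-/

universe u

open CategoryTheory CategoryTheory.Limits AlgebraicGeometry TopologicalSpace Topology Set

noncomputable section

namespace GrothLib.Chev28

variable {X Y : Scheme.{u}}

/-- All section components are geometrically irreducible. -/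
def GeomIrredSectComp (f : X ⟶ Y) (g : Y ⟶ X) : Prop :=
  ∀ (y : Y) (K : Type u) [Field K] [Algebra (IsLocalRing.ResidueField (Y.presheaf.stalk y)) K],
    IsIrreducible ((FBase.bcπ (f.fiberToSpecResidueField y) K ≫ f.fiberι y).base ⁻¹'
      connectedComponentIn (f.base ⁻¹' {y}) (g.base y))

theorem isIrreducible_sectComp (f : X ⟶ Y) (g : Y ⟶ X) (hirr : GeomIrredSectComp f g) (y : Y) :
    IsIrreducible (connectedComponentIn (f ⁻¹' {y}) (g y)) := by
  let K := IsLocalRing.ResidueField (Y.presheaf.stalk y)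
  have h := (hirr y K).image _ (FBase.bcπ (f.fiberToSpecResidueField y) K ≫ f.fiberι y).continuous.continuousOn
  have hφ : Spec.map (CommRingCat.ofHom (algebraMap K K)) = 𝟙 _ := by
    rw [Algebra.algebraMap_self]; exact Spec.map_id _
  haveI : IsIso (FBase.bcπ (f.fiberToSpecResidueField y) K) := by
    haveI : IsIso (Spec.map (CommRingCat.ofHom (algebraMap K K))) := by rw [hφ]; infer_instance
    exact inferInstanceAs (IsIso (pullback.fst _ (Spec.map (CommRingCat.ofHom (algebraMap K K)))))
  rwa [Set.image_preimage_eq_of_subset] at h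
  intro x hx
  obtain ⟨w, hw⟩ := (f.range_fiberι y).ge (connectedComponentIn_subset _ _ hx)
  obtain ⟨v, rfl⟩ := (FBase.bcπ (f.fiberToSpecResidueField y) K).surjective w
  exact ⟨v, hw⟩

theorem isIrreducible_sectComp_baseChange (f : X ⟶ Y) (g : Y ⟶ X) (hg : g ≫ f = 𝟙 Y)
    (hirr : GeomIrredSectComp f g) {Y' : Scheme.{u}} (h : Y' ⟶ Y) (σ : Y' ⟶ pullback f h)
    (hσ : σ ≫ pullback.snd f h = 𝟙 Y') (hσg : σ ≫ pullback.fst f h = h ≫ g) (y' : Y') :
    connectedComponentIn ((pullback.snd f h) ⁻¹' {y'}) (σ y') =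
        (pullback.snd f h) ⁻¹' {y'} ∩ (pullback.fst f h) ⁻¹' connectedComponentIn (f ⁻¹' {h y'}) (g (h y')) ∧
      IsIrreducible (connectedComponentIn ((pullback.snd f h) ⁻¹' {y'}) (σ y')) := by
  have hbc := GrothLib.SecComp6.sectionComponents_baseChange f g hg (pullback.snd f h) (pullback.fst f h) h
    (IsPullback.of_hasPullback f h) σ hσ hσg
  have heq : connectedComponentIn ((pullback.snd f h) ⁻¹' {y'}) (σ y') =
      (pullback.snd f h) ⁻¹' {y'} ∩ (pullback.fst f h) ⁻¹' connectedComponentIn (f ⁻¹' {h y'}) (g (h y')) := by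
    ext x
    have hfx : pullback.snd f h x = y' → f (pullback.fst f h x) = h y' := fun hx => by
      rw [← hx]
      exact congrArg (fun φ : pullback f h ⟶ Y => φ x) pullback.condition
    constructor
    · intro hx
      have hx' : pullback.snd f h x = y' := connectedComponentIn_subset ((pullback.snd f h) ⁻¹' {y'}) (σ y') hx
      refine ⟨hx', ?_⟩
      have h1 : x ∈ MoreMor.sectionComponents (pullback.snd f h) σ := by
        show x ∈ connectedComponentIn _ (σ (pullback.snd f h x))
        rw [hx']; exact hx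
      rw [hbc] at h1
      have h2 : pullback.fst f h x ∈ connectedComponentIn _ (g (f (pullback.fst f h x))) := h1
      rwa [hfx hx'] at h2
    · rintro ⟨hx', hx⟩
      have h1 : pullback.fst f h x ∈ MoreMor.sectionComponents f g := by
        show pullback.fst f h x ∈ connectedComponentIn _ (g (f (pullback.fst f h x)))
        rw [hfx hx']; exact hx
      have h2 : x ∈ MoreMor.sectionComponents (pullback.snd f h) σ := hbc.ge h1
      have h3 : x ∈ connectedComponentIn _ (σ (pullback.snd f h x)) := h2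
      rwa [show pullback.snd f h x = y' from hx'] at h3
  refine ⟨heq, ?_⟩
  letI : Algebra (IsLocalRing.ResidueField (Y.presheaf.stalk (h y'))) (Y'.residueField y') :=
    (h.residueFieldMap y').hom.toAlgebra
  let ff := f.fiberToSpecResidueField (h y')
  let ψ := Spec.map (CommRingCat.ofHom
    (algebraMap (IsLocalRing.ResidueField (Y.presheaf.stalk (h y'))) (Y'.residueField y')))
  have hψ : ψ ≫ Y.fromSpecResidueField (h y') = Y'.fromSpecResidueField y' ≫ h :=
    Scheme.Hom.SpecMap_residueFieldMap_fromSpecResidueField h y'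
  have sq₁ : IsPullback ((pullback.snd f h).fiberι y' ≫ pullback.fst f h)
      ((pullback.snd f h).fiberToSpecResidueField y') f (Y'.fromSpecResidueField y' ≫ h) :=
    (IsPullback.of_hasPullback _ _).paste_horiz (IsPullback.of_hasPullback f h)
  have sq₂ : IsPullback (pullback.fst ff ψ ≫ f.fiberι (h y')) (pullback.snd ff ψ) f
      (Y'.fromSpecResidueField y' ≫ h) := by
    rw [← hψ]
    exact (IsPullback.of_hasPullback _ _).paste_horiz (IsPullback.of_hasPullback _ _)
  let e := sq₁.isoIsPullback _ _ sq₂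
  let θ : FBase.bc ff (Y'.residueField y') ⟶ pullback f h := e.inv ≫ (pullback.snd f h).fiberι y'
  have hθ : θ ≫ pullback.fst f h = FBase.bcπ ff (Y'.residueField y') ≫ f.fiberι (h y') :=
    (Category.assoc _ _ _).trans (IsPullback.isoIsPullback_inv_fst _ _ sq₁ sq₂)
  have himg : connectedComponentIn ((pullback.snd f h) ⁻¹' {y'}) (σ y') =
      θ '' ((FBase.bcπ ff (Y'.residueField y') ≫ f.fiberι (h y')).base ⁻¹'
        connectedComponentIn (f.base ⁻¹' {h y'}) (g.base (h y'))) := by
    rw [heq]
    ext x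
    constructor
    · rintro ⟨hx', hx⟩
      obtain ⟨b, rfl⟩ := ((pullback.snd f h).range_fiberι y').ge hx'
      have hb : θ (e.hom b) = (pullback.snd f h).fiberι y' b := by
        show (e.hom ≫ e.inv ≫ (pullback.snd f h).fiberι y') b = _
        rw [Iso.hom_inv_id_assoc]
      refine ⟨e.hom b, ?_, hb⟩
      rw [Set.mem_preimage, ← hθ, Scheme.Hom.comp_apply, hb]
      exact hx
    · rintro ⟨b, hb, rfl⟩
      refine ⟨((pullback.snd f h).range_fiberι y').le ⟨e.inv b, rfl⟩, ?_⟩
      rw [Set.mem_preimage, ← Scheme.Hom.comp_apply θ, hθ]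
      exact hb
  rw [himg]
  exact (hirr (h y') (Y'.residueField y')).image _ θ.continuous.continuousOn

/-- EGA IV 15.6.3, for a morphism locally of finite presentation over any base. -/
theorem isUnivOpenAt_of_dim_const (f : X ⟶ Y) [LocallyOfFinitePresentation f] (g : Y ⟶ X)
    (hg : g ≫ f = 𝟙 Y) (hirr : GeomIrredSectComp f g) (y : Y)
    (hc : ∀ z, z ⤳ y → topologicalKrullDim ↥(connectedComponentIn (f ⁻¹' {z}) (g z)) =
      topologicalKrullDim ↥(connectedComponentIn (f ⁻¹' {y}) (g y)))
    (x : X) (hx : x ∈ connectedComponentIn (f ⁻¹' {y}) (g y)) : EGA43.IsUnivOpenAt f x := by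
  have hfx : f x = y := connectedComponentIn_subset (f ⁻¹' {y}) (g y) hx
  intro Y' h x' hx'x
  let σ : Y' ⟶ pullback f h := pullback.lift (h ≫ g) (𝟙 _)
    (by rw [Category.assoc, hg, Category.comp_id, Category.id_comp])
  have hσ : σ ≫ pullback.snd f h = 𝟙 _ := pullback.lift_snd _ _ _
  have hσg : σ ≫ pullback.fst f h = h ≫ g := pullback.lift_fst _ _ _
  have hC := isIrreducible_sectComp_baseChange f g hg hirr h σ hσ hσg
  have hσ' : ∀ t, pullback.snd f h (σ t) = t := fun t => by rw [← Scheme.Hom.comp_apply, hσ]; rfl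
  have hdim : ∀ t, topologicalKrullDim ↥(connectedComponentIn ((pullback.snd f h) ⁻¹' {t}) (σ t)) =
      topologicalKrullDim ↥(connectedComponentIn (f ⁻¹' {h t}) (g (h t))) := fun t => by
    rw [← fibreDimAt_eq_dim_sectComp _ (hσ' t) (hC t).2,
      ← fibreDimAt_eq_dim_sectComp f (show f (g (h t)) = h t by rw [← Scheme.Hom.comp_apply, hg]; rfl)
        (isIrreducible_sectComp f g hirr (h t)),
      GrothLib.AlgSp.fibreDimAt_of_isPullback (IsPullback.of_hasPullback f h), ← Scheme.Hom.comp_apply, hσg]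
    rfl
  haveI : LocallyOfFinitePresentation (pullback.snd f h) := MorphismProperty.pullback_snd f h ‹_›
  refine GrothLib.UnivOpenAt6.isOpenAt_of_generizations (pullback.snd f h) x' fun U hU hxU η hη => ?_
  let c := pullback.snd f h x'
  have hhc : h c = y := by
    rw [← hfx, ← hx'x]
    exact (congrArg (fun φ : pullback f h ⟶ Y => φ x') pullback.condition).symm
  obtain ⟨ξ, hξ, hCξ⟩ := sectComp_eq_fibClosure (pullback.snd f h) (hC η).2
  have hgξ : σ η ∈ closure {ξ} := ((Set.ext_iff.1 hCξ _).1 (mem_connectedComponentIn (hσ' η))).1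
  have key := (dim_sectComp_ge (pullback.snd f h) σ hσ hη hξ (specializes_iff_mem_closure.2 hgξ)
    (by rw [← hCξ])).2 (hC c).2 (by
      rw [hdim, hdim, hhc, hc (h η) ((hη.map h.continuous).trans (specializes_of_eq hhc))])
  have hx'mem : x' ∈ connectedComponentIn ((pullback.snd f h) ⁻¹' {c}) (σ c) := by
    rw [(hC c).1]
    refine ⟨rfl, ?_⟩
    rw [Set.mem_preimage, hhc]
    exact hx'x.symm ▸ hx
  have hsp : ξ ⤳ x' := specializes_iff_mem_closure.2 (closure_minimal (by
    rw [hCξ]
    exact Set.inter_subset_left) isClosed_closure (key hx'mem))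
  exact ⟨ξ, hsp.mem_open hU hxU, hξ⟩

end GrothLib.Chev28
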