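import Groth.Agent.Lib.Chev28.SectCompGen
import Groth.Agent.Lib.SecDim14.Basic
import Groth.Agent.Lib.Equidim6.Retro
import Mathlib.AlgebraicGeometry.Morphisms.QuasiSeparated

/-!
Constancy of the dimension of section components over an arbitrary base (EGA IV 15.6.6).
-/

universe u

open CategoryTheory CategoryTheory.Limits AlgebraicGeometry TopologicalSpace Topology Set

noncomputable section

namespace GrothLib.Chev28

variable {X Y : Scheme.{u}}

/-- The dimension of the fibre over a generization bounds the dimension of a closed subset of the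
fibre at whose generic point the morphism is universally open, over any base. -/
theorem dim_sectComp_le_fiber (f : X ⟶ Y) [LocallyOfFiniteType f] (g : Y ⟶ X)
    (hg : g ≫ f = 𝟙 Y) (hirr : GeomIrredSectComp f g) {y y' : Y} (hy : y' ⤳ y)
    (hopen : ∀ ξ ∈ connectedComponentIn (f ⁻¹' {y}) (g y),
      connectedComponentIn (f ⁻¹' {y}) (g y) ⊆ closure {ξ} → EGA43.IsUnivOpenAt f ξ) :
    topologicalKrullDim ↥(connectedComponentIn (f ⁻¹' {y}) (g y)) ≤ topologicalKrullDim ↥(f.fiber y') := by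
  obtain ⟨W, _, _, b, hη, h0⟩ := GrothLib.HTop.exists_valuationRing_map hy
  let f' := pullback.snd f b
  let p := pullback.fst f b
  haveI : LocallyOfFiniteType f' := MorphismProperty.pullback_snd f b ‹_›
  let c : Spec W := GrothLib.HTop.closed W
  let σ : Spec W ⟶ pullback f b := pullback.lift (b ≫ g) (𝟙 _)
    (by rw [Category.assoc, hg, Category.comp_id, Category.id_comp])
  have hσ : σ ≫ f' = 𝟙 _ := pullback.lift_snd _ _ _
  have hσg : σ ≫ p = b ≫ g := pullback.lift_fst _ _ _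
  have hC := isIrreducible_sectComp_baseChange f g hg hirr b σ hσ hσg
  have hσ' : ∀ t, f' (σ t) = t := fun t => by rw [← Scheme.Hom.comp_apply, hσ]; rfl
  obtain ⟨ξ₀, hξ₀, hCc⟩ := sectComp_eq_fibClosure f' (hC c).2
  have hξ₀C : ξ₀ ∈ connectedComponentIn (f' ⁻¹' {c}) (σ c) := hCc.ge ⟨subset_closure rfl, hξ₀⟩
  have himg : p '' connectedComponentIn (f' ⁻¹' {c}) (σ c) = connectedComponentIn (f ⁻¹' {y}) (g y) := by
    rw [GrothLib.SecComp6.image_fiber_component f f' p b (IsPullback.of_hasPullback f b) c (σ c) (hσ' c), h0,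
      ← Scheme.Hom.comp_apply, hσg, Scheme.Hom.comp_apply, h0]
  have hopen₀ : EGA43.IsOpenAt f'.base ξ₀ := by
    refine hopen _ (himg.le ⟨ξ₀, hξ₀C, rfl⟩) ?_ _ b ξ₀ rfl
    rw [← himg]
    rintro _ ⟨x, hx, rfl⟩
    exact ((specializes_iff_mem_closure.2 (hCc.le hx).1).map p.continuous).mem_closure
  let E : Closeds ↥(pullback f b) := ⟨closure (f' ⁻¹' {GrothLib.HTop.gen W}), isClosed_closure⟩
  haveI : IsReduced (SecDim14.red E) := GrothLib.RedSub.isReduced_subscheme_vanishingIdeal E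
  have hdense : Dense ((SecDim14.redι E ≫ f') ⁻¹' {GrothLib.HTop.gen W}) := by
    intro z
    rw [(SecDim14.redι E).isClosedEmbedding.isEmbedding.isInducing.closure_eq_preimage_closure_image]
    have hz : SecDim14.redι E z ∈ (E : Set ↥(pullback f b)) := SecDim14.range_redι E ▸ ⟨z, rfl⟩
    refine closure_mono ?_ hz
    rintro t ht
    obtain ⟨w, rfl⟩ : t ∈ Set.range (SecDim14.redι E) := by
      rw [SecDim14.range_redι]; exact subset_closure ht
    exact ⟨w, ht, rfl⟩
  have key := SecDim14.dim_special_le_generic_of_dense (SecDim14.redι E ≫ f') hdense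
  rw [SecDim14.dim_fiber_comp_isClosedImmersion, SecDim14.dim_fiber_comp_isClosedImmersion,
    SecDim14.range_redι] at key
  have hsp : GrothLib.HTop.gen W ⤳ c := IsLocalRing.specializes_closedPoint (R := W) _
  have hξ₀E : ξ₀ ∈ (E : Set ↥(pullback f b)) := mem_closure_of_isOpenAt hopen₀ (hξ₀.symm ▸ hsp)
  have hsub : connectedComponentIn (f' ⁻¹' {c}) (σ c) ⊆ f' ⁻¹' {c} ∩ (E : Set ↥(pullback f b)) := by
    rw [hCc]
    exact fun t ht => ⟨ht.2, closure_minimal (Set.singleton_subset_iff.2 hξ₀E) E.2 ht.1⟩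
  have hdimc : topologicalKrullDim ↥(connectedComponentIn (f' ⁻¹' {c}) (σ c)) =
      topologicalKrullDim ↥(connectedComponentIn (f ⁻¹' {y}) (g y)) := by
    rw [← fibreDimAt_eq_dim_sectComp _ (hσ' c) (hC c).2,
      ← fibreDimAt_eq_dim_sectComp f (show f (g y) = y by rw [← Scheme.Hom.comp_apply, hg]; rfl)
        (isIrreducible_sectComp f g hirr y),
      GrothLib.AlgSp.fibreDimAt_of_isPullback (IsPullback.of_hasPullback f b), ← Scheme.Hom.comp_apply, hσg,
      Scheme.Hom.comp_apply, h0]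
  calc topologicalKrullDim ↥(connectedComponentIn (f ⁻¹' {y}) (g y))
      ≤ topologicalKrullDim ↥(f' ⁻¹' {c} ∩ (E : Set ↥(pullback f b))) := hdimc ▸ SecDim14.dim_mono hsub
    _ ≤ topologicalKrullDim ↥(f' ⁻¹' {GrothLib.HTop.gen W} ∩ (E : Set ↥(pullback f b))) := key
    _ ≤ topologicalKrullDim ↥(f' ⁻¹' {GrothLib.HTop.gen W} ∩ p ⁻¹' ((⊤ : Closeds X) : Set X)) :=
        SecDim14.dim_mono fun t ht => ⟨ht.1, trivial⟩
    _ = topologicalKrullDim ↥(f.fiber y') := by
        rw [SecDim14.dim_preimage_inter_fiber (IsPullback.of_hasPullback f b), hη, Closeds.coe_top,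
          Set.inter_univ, GrothLib.AffDom.topologicalKrullDim_fiber]

/-- Over any base, a lower bound at all generizations of a point holds on a neighbourhood. -/
theorem dim_sectComp_eventually_eq_fp (f : X ⟶ Y) [LocallyOfFinitePresentation f] [QuasiCompact f]
    [QuasiSeparated f] (g : Y ⟶ X) (hg : g ≫ f = 𝟙 Y) (hirr : GeomIrredSectComp f g) (y₀ : Y)
    (hge : ∀ y', y' ⤳ y₀ → topologicalKrullDim ↥(connectedComponentIn (f ⁻¹' {y₀}) (g y₀)) ≤
      topologicalKrullDim ↥(connectedComponentIn (f ⁻¹' {y'}) (g y'))) :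
    ∃ V ∈ 𝓝 y₀, ∀ z ∈ V, topologicalKrullDim ↥(connectedComponentIn (f ⁻¹' {z}) (g z)) =
      topologicalKrullDim ↥(connectedComponentIn (f ⁻¹' {y₀}) (g y₀)) := by
  have hfg : ∀ t, f (g t) = t := fun t => congrArg (fun m : Y ⟶ Y => m.base t) hg
  have hirr' := fun t => isIrreducible_sectComp f g hirr t
  have hF := fun t => fibreDimAt_eq_dim_sectComp f (hfg t) (hirr' t)
  have hnat : ∀ t, ∃ m : ℕ, topologicalKrullDim ↥(connectedComponentIn (f ⁻¹' {t}) (g t)) = (m : WithBot ℕ∞) := by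
    intro t
    obtain ⟨ξ, hξ, hC⟩ := sectComp_eq_fibClosure f (hirr' t)
    obtain ⟨n, -, hn⟩ := exists_dim_fibClosure f ξ
    rw [hξ, ← hC] at hn
    exact ⟨n, hn⟩
  obtain ⟨n, hn⟩ := hnat y₀
  have hy : y₀ ∈ g ⁻¹' {x | FlatMor.fibreDimAt f x ≤ (n : WithBot ℕ∞)} := ((hF y₀).trans hn).le
  have hle := ((GrothLib.FibreDimAt6.isOpen_fibreDimAt_le f n).preimage g.continuous).mem_nhds hy
  suffices hlow : {z | (n : WithBot ℕ∞) ≤ topologicalKrullDim ↥(connectedComponentIn (f ⁻¹' {z}) (g z))} ∈ 𝓝 y₀ from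
    ⟨_, Filter.inter_mem hlow hle, fun z hz =>
      le_antisymm (((hF z).symm.trans_le hz.2).trans hn.ge) (hn.le.trans hz.1)⟩
  rcases n with _ | k
  · refine Filter.univ_mem' fun z => ?_
    obtain ⟨m, hm⟩ := hnat z
    rw [Set.mem_setOf_eq, hm]
    exact_mod_cast Nat.zero_le m
  haveI : QuasiCompact g := by
    haveI : QuasiCompact (g ≫ f) := by rw [hg]; infer_instance
    exact QuasiCompact.of_comp g f
  let T : X.Opens := ⟨{x | FlatMor.fibreDimAt f x ≤ (k : WithBot ℕ∞)}, GrothLib.FibreDimAt6.isOpen_fibreDimAt_le f k⟩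
  let S : Y.Opens := g ⁻¹ᵁ T
  haveI : QuasiCompact S.ι := by
    refine (quasiCompact_iff _).mpr fun K hKo hKc => ?_
    rw [S.ι.isOpenEmbedding.isInducing.isCompact_iff, Set.image_preimage_eq_inter_range, Scheme.Opens.range_ι]
    have h1 : IsCompact ((T : Set X) ∩ f ⁻¹' K) :=
      GrothLib.Equidim6.isRetrocompact_fibreDimAt_le f k (f.isCompact_preimage (U := ⟨K, hKo⟩) hKc) (hKo.preimage f.continuous)
    have h2 := g.isCompact_preimage (U := ⟨_, T.2.inter (hKo.preimage f.continuous)⟩) h1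
    convert h2 using 1
    ext z
    exact ⟨fun hz => ⟨hz.2, show f (g z) ∈ K by rw [hfg]; exact hz.1⟩,
      fun hz => ⟨hfg z ▸ hz.2, hz.1⟩⟩
  have hncl : y₀ ∉ closure (Set.range S.ι) := by
    intro hcl
    obtain ⟨u, hu⟩ := GrothLib.DVRDom.exists_specializes_of_mem_closure S.ι y₀ hcl
    have h1 : FlatMor.fibreDimAt f (g u.1) ≤ (k : WithBot ℕ∞) := u.2
    have h2 := hge _ hu
    rw [← hF, ← hF, hF y₀, hn] at h2
    have h3 : ((k + 1 : ℕ) : WithBot ℕ∞) ≤ (k : WithBot ℕ∞) := h2.trans h1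
    exact absurd (show k + 1 ≤ k by exact_mod_cast h3) (by omega)
  refine Filter.mem_of_superset (isClosed_closure.isOpen_compl.mem_nhds hncl) fun z hz => ?_
  obtain ⟨m, hm⟩ := hnat z
  rw [Set.mem_setOf_eq, hm]
  by_contra hlt
  refine hz (subset_closure (Scheme.Opens.range_ι S ▸ ?_))
  show FlatMor.fibreDimAt f (g z) ≤ (k : WithBot ℕ∞)
  rw [hF, hm]
  have : ¬ (k + 1 ≤ m) := fun h => hlt (by exact_mod_cast h)
  exact_mod_cast (show m ≤ k by omega)

end GrothLib.Chev28
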