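import Groth.Agent.Lib.JacLocus.Basic
import Groth.Agent.Lib.Fitting.Local
import Groth.Agent.Lib.RedSmooth.Basic
import Mathlib.RingTheory.Smooth.Basic
import Mathlib.RingTheory.Etale.Kaehler
import Mathlib.RingTheory.EssentialFiniteness

/-!
Near a smooth generic point of a fibre an algebra is a quotient of a smooth algebra with the same fibre there.
-/

universe u

open IsLocalRing TensorProduct KaehlerDifferential

noncomputable section

namespace GrothLib.Chev28

variable {A B : Type u} [CommRing A] [CommRing B] [Algebra A B]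

/-- Jacobian criterion: an `A`-algebra `C` with `Ω` locally of the same fibre rank as the quotient has
no new derivations into the residue field. -/
theorem derivation_apply_eq_zero_of_surjective {C Bh K : Type u} [CommRing C] [CommRing Bh] [Field K]
    [Algebra A C] [Algebra A Bh] [Algebra C Bh] [Algebra A K] [Algebra C K] [Algebra Bh K] [Algebra B K] [Algebra B Bh]
    [IsScalarTower A C Bh] [IsScalarTower A C K] [IsScalarTower C Bh K] [IsScalarTower A B Bh]
    [IsScalarTower B Bh K] [IsScalarTower A Bh K] (h : B) [IsLocalization.Away h Bh]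
    [Module.Free C Ω[C⁄A]] [Module.Finite C Ω[C⁄A]]
    (hsurj : Function.Surjective (algebraMap C Bh))
    (hd : Module.finrank C Ω[C⁄A] = Module.finrank K (K ⊗[B] Ω[B⁄A]))
    (D₀ : Derivation A C K) (c : C)
    (hc : (1 : K) ⊗ₜ[Bh] KaehlerDifferential.D A Bh (algebraMap C Bh c) = 0) : D₀ c = 0 := by
  haveI : Nontrivial C := (algebraMap C K).domain_nontrivial
  let g : K ⊗[C] Ω[C⁄A] →ₗ[K] K ⊗[Bh] Ω[Bh⁄A] :=
    LinearMap.liftBaseChange K
      (((TensorProduct.mk Bh K Ω[Bh⁄A] 1).restrictScalars C).comp (KaehlerDifferential.map A A C Bh))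
  have hg : Function.Surjective g := by
    intro y
    induction y using TensorProduct.induction_on with
    | zero => exact ⟨0, map_zero g⟩
    | add p q hp hq =>
      obtain ⟨p', rfl⟩ := hp
      obtain ⟨q', rfl⟩ := hq
      exact ⟨p' + q', map_add g p' q'⟩
    | tmul k ω =>
      obtain ⟨ω', rfl⟩ := KaehlerDifferential.map_surjective_of_surjective A A C Bh hsurj ω
      refine ⟨k ⊗ₜ ω', ?_⟩
      simp [g, TensorProduct.smul_tmul']
  have hbc : IsBaseChange Bh (KaehlerDifferential.map A A B Bh) := by
    haveI := KaehlerDifferential.isLocalizedModule_map A B Bh (Submonoid.powers h)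
    exact IsLocalizedModule.isBaseChange (Submonoid.powers h) Bh (KaehlerDifferential.map A A B Bh)
  let e : K ⊗[B] Ω[B⁄A] ≃ₗ[K] K ⊗[Bh] Ω[Bh⁄A] :=
    (AlgebraTensorModule.cancelBaseChange B Bh K K Ω[B⁄A]).symm ≪≫ₗ
      AlgebraTensorModule.congr (LinearEquiv.refl K K) hbc.equiv
  have hfin : Module.finrank K (K ⊗[C] Ω[C⁄A]) = Module.finrank K (K ⊗[Bh] Ω[Bh⁄A]) := by
    rw [Module.finrank_baseChange, hd, e.finrank_eq]
  haveI : Module.Finite K (K ⊗[Bh] Ω[Bh⁄A]) := Module.Finite.of_surjective g hg
  have hinj : Function.Injective g :=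
    (LinearMap.injective_iff_surjective_of_finrank_eq_finrank hfin).mpr hg
  have h0 : (1 : K) ⊗ₜ[C] KaehlerDifferential.D A C c = 0 := by
    apply hinj
    rw [map_zero]
    simpa [g] using hc
  have := congrArg (LinearMap.liftBaseChange K D₀.liftKaehlerDifferential) h0
  simpa using this

/-- Near a prime which is a formally smooth reduced generic point of its fibre, a finite type algebra is a
quotient of a smooth algebra in which the prime is still generic in its fibre. -/
theorem exists_smooth_cover [Algebra.FiniteType A B] (q : Ideal B) [q.IsPrime]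
    (S T : Type u) [CommRing S] [CommRing T] [Algebra A S] [IsLocalization.AtPrime S (q.comap (algebraMap A B))]
    [Algebra B T] [IsLocalization.AtPrime T q] [Algebra S T] [Algebra A T] [IsScalarTower A S T]
    [IsScalarTower A B T] [IsLocalRing S] [IsLocalRing T] [IsLocalHom (algebraMap S T)]
    (hfield : (maximalIdeal S).map (algebraMap S T) = maximalIdeal T)
    [Algebra.FormallySmooth (ResidueField S) (ResidueField T)] :
    ∃ h ∉ q, ∀ (Bh : Type u) [CommRing Bh] [Algebra B Bh] [IsLocalization.Away h Bh],
      ∃ (C : Type u) (_ : CommRing C) (_ : Algebra A C) (ψ : C →+* Bh),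
        Algebra.Smooth A C ∧ Function.Surjective ψ ∧
        ψ.comp (algebraMap A C) = (algebraMap B Bh).comp (algebraMap A B) ∧
        (∀ Q : Ideal C, Q.IsPrime → Q ≤ (q.map (algebraMap B Bh)).comap ψ →
          Q.comap (algebraMap A C) = q.comap (algebraMap A B) → Q = (q.map (algebraMap B Bh)).comap ψ) ∧
        (_root_.IsReduced S → ∀ (c t : C) (n : ℕ), t ∉ (q.map (algebraMap B Bh)).comap ψ → t * c ^ n = 0 →
          ∃ t' ∉ (q.map (algebraMap B Bh)).comap ψ, t' * c = 0) := by
  classical
  let p := q.comap (algebraMap A B)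
  haveI : IsScalarTower A B (ResidueField T) :=
    IsScalarTower.of_algebraMap_eq fun a => congrArg (residue T) (IsScalarTower.algebraMap_apply A B T a)
  have hker : RingHom.ker (algebraMap B (ResidueField T)) = q := by
    ext b
    show residue T (algebraMap B T b) = 0 ↔ b ∈ q
    rw [residue_eq_zero_iff]
    exact IsLocalization.AtPrime.to_map_mem_maximal_iff T q b
  haveI : Module.Finite B Ω[B⁄A] := inferInstance
  set d := Module.finrank (ResidueField T) ((ResidueField T) ⊗[B] Ω[B⁄A]) with hd
  have hp : ¬ Fitt.ideal B Ω[B⁄A] d ≤ q := by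
    intro hle
    have h1 := (Ideal.map_eq_bot_iff_le_ker (algebraMap B (ResidueField T))).mpr (hle.trans hker.ge)
    rw [← GrothLib.Fitting.ideal_baseChange (ResidueField T) d,
      GrothLib.Fitting.ideal_of_basis (Module.finBasis (ResidueField T) _) d, if_pos hd.ge] at h1
    exact top_ne_bot h1
  obtain ⟨h, hh, H⟩ := GrothLib.JacLocus.exists_standardSmooth_surjective d q hp
  refine ⟨h, hh, fun Bh _ _ _ => ?_⟩
  obtain ⟨C, _, _, ψ, hC, hψ, hcomp⟩ := H Bh
  letI : Algebra A Bh := ((algebraMap B Bh).comp (algebraMap A B)).toAlgebra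
  haveI : IsScalarTower A B Bh := IsScalarTower.of_algebraMap_eq' rfl
  letI : Algebra C Bh := ψ.toAlgebra
  haveI : IsScalarTower A C Bh := IsScalarTower.of_algebraMap_eq' hcomp.symm
  have hunit : IsUnit (algebraMap B (ResidueField T) h) := isUnit_iff_ne_zero.mpr fun h0 => hh (hker ▸ h0)
  letI : Algebra Bh (ResidueField T) := (IsLocalization.Away.lift h hunit).toAlgebra
  haveI : IsScalarTower B Bh (ResidueField T) := IsScalarTower.of_algebraMap_eq fun b => (IsLocalization.Away.lift_eq h hunit b).symm
  haveI : IsScalarTower A Bh (ResidueField T) := IsScalarTower.of_algebraMap_eq fun a => by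
    rw [IsScalarTower.algebraMap_apply A B (ResidueField T), IsScalarTower.algebraMap_apply A B Bh, ← IsScalarTower.algebraMap_apply B Bh (ResidueField T)]
  letI : Algebra C (ResidueField T) := ((algebraMap Bh (ResidueField T)).comp ψ).toAlgebra
  haveI : IsScalarTower C Bh (ResidueField T) := IsScalarTower.of_algebraMap_eq' rfl
  haveI : IsScalarTower A C (ResidueField T) := IsScalarTower.of_algebraMap_eq fun a => by
    show algebraMap A (ResidueField T) a = algebraMap Bh (ResidueField T) (ψ (algebraMap A C a))
    rw [show ψ (algebraMap A C a) = algebraMap A Bh a from RingHom.congr_fun hcomp a, ← IsScalarTower.algebraMap_apply]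
  haveI : Nontrivial C := (algebraMap C (ResidueField T)).domain_nontrivial
  haveI := Algebra.IsStandardSmoothOfRelativeDimension.isStandardSmooth d (R := A) (S := C)
  have hr := Algebra.IsStandardSmoothOfRelativeDimension.rank_kaehlerDifferential (R := A) (S := C) d
  haveI : Module.Finite C Ω[C⁄A] := Module.finite_of_rank_eq_nat hr
  have hkerBh : RingHom.ker (algebraMap Bh (ResidueField T)) = q.map (algebraMap B Bh) := by
    refine (IsLocalization.map_comap (Submonoid.powers h) Bh (RingHom.ker (algebraMap Bh (ResidueField T)))).symm.trans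
      (congrArg (Ideal.map (algebraMap B Bh)) ?_)
    show (RingHom.ker (algebraMap Bh (ResidueField T))).comap (algebraMap B Bh) = q
    rw [RingHom.comap_ker, ← IsScalarTower.algebraMap_eq B Bh (ResidueField T), hker]
  set q' := (q.map (algebraMap B Bh)).comap ψ with hq'
  have hq'ker : q' = RingHom.ker (algebraMap C (ResidueField T)) := by
    rw [hq', ← hkerBh, RingHom.comap_ker]
    rfl
  haveI : q'.IsPrime := hq'ker ▸ RingHom.ker_isPrime _
  -- derivations into the residue field kill the prime
  have hDq : ∀ (D₀ : Derivation A C (ResidueField T)) (c : C), c ∈ q' → D₀ c = 0 := by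
    intro D₀ c hc
    refine derivation_apply_eq_zero_of_surjective (B := B) (Bh := Bh) h hψ (Module.finrank_eq_of_rank_eq hr) D₀ c ?_
    have hb : ∀ b ∈ q, (1 : (ResidueField T)) ⊗ₜ[Bh] KaehlerDifferential.D A Bh (algebraMap B Bh b) = 0 := by
      intro b hb
      have h1 : algebraMap B T b ∈ (p.map (algebraMap A B)).map (algebraMap B T) := by
        rw [Ideal.map_map, ← IsScalarTower.algebraMap_eq, IsScalarTower.algebraMap_eq A S T, ← Ideal.map_map,
          IsLocalization.AtPrime.map_eq_maximalIdeal p S, hfield]
        exact (IsLocalization.AtPrime.to_map_mem_maximal_iff T q b).mpr hb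
      obtain ⟨⟨⟨z, hz⟩, ⟨s, hs⟩⟩, hzs⟩ := (IsLocalization.mem_map_algebraMap_iff q.primeCompl T).mp h1
      rw [← map_mul] at hzs
      obtain ⟨⟨s', hs'⟩, hzs'⟩ := (IsLocalization.eq_iff_exists q.primeCompl T).mp hzs
      let φ : Ω[Bh⁄A] →ₗ[Bh] (ResidueField T) ⊗[Bh] Ω[Bh⁄A] := TensorProduct.mk Bh (ResidueField T) Ω[Bh⁄A] 1
      have hsmul : ∀ (r : Bh) (ω : Ω[Bh⁄A]), φ (r • ω) = algebraMap Bh (ResidueField T) r • φ ω := fun r ω => by
        rw [map_smul, algebraMap_smul]
      have h2 : φ (KaehlerDifferential.D A Bh (algebraMap B Bh ((s' * s) * b))) = 0 := by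
        rw [show (s' * s) * b = s' * (b * s) by ring, hzs', map_mul, Derivation.leibniz, map_add, hsmul, hsmul]
        have hDz : φ (KaehlerDifferential.D A Bh (algebraMap B Bh z)) = 0 := by
          clear hzs hzs'
          induction hz using Submodule.span_induction with
          | mem y hy =>
            obtain ⟨a, -, rfl⟩ := hy
            rw [← IsScalarTower.algebraMap_apply, Derivation.map_algebraMap, map_zero]
          | zero => simp
          | add u v _ _ hu hv => rw [map_add, map_add, map_add, hu, hv, add_zero]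
          | smul r y hy hD =>
            have hy0 : algebraMap Bh (ResidueField T) (algebraMap B Bh y) = 0 := by
              rw [← IsScalarTower.algebraMap_apply, ← RingHom.mem_ker, hker]
              exact Ideal.map_le_iff_le_comap.mpr le_rfl hy
            rw [smul_eq_mul, map_mul, Derivation.leibniz, map_add, hsmul, hsmul, hD, hy0, smul_zero, zero_smul,
              add_zero]
        have hz0 : algebraMap Bh (ResidueField T) (algebraMap B Bh z) = 0 := by
          rw [← IsScalarTower.algebraMap_apply, ← RingHom.mem_ker, hker]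
          exact Ideal.map_le_iff_le_comap.mpr le_rfl hz
        rw [hDz, hz0, smul_zero, zero_smul, add_zero]
      rw [map_mul, Derivation.leibniz, map_add, hsmul, hsmul] at h2
      rw [show algebraMap Bh (ResidueField T) (algebraMap B Bh b) = 0 by
        rw [← IsScalarTower.algebraMap_apply, ← RingHom.mem_ker, hker]; exact hb, zero_smul, add_zero] at h2
      refine (smul_eq_zero.mp h2).resolve_left fun h0 => ?_
      rw [← IsScalarTower.algebraMap_apply, ← RingHom.mem_ker, hker] at h0
      exact (‹q.IsPrime›.mem_or_mem h0).elim hs' hs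
    change ψ c ∈ q.map (algebraMap B Bh) at hc
    show (1 : (ResidueField T)) ⊗ₜ[Bh] KaehlerDifferential.D A Bh (ψ c) = 0
    generalize ψ c = x at hc ⊢
    induction hc using Submodule.span_induction with
    | mem y hy => obtain ⟨b, hb', rfl⟩ := hy; exact hb b hb'
    | zero => simp
    | add u v _ _ hu hv => rw [map_add, tmul_add, hu, hv, add_zero]
    | smul r y hy hD =>
      have hy0 : algebraMap Bh (ResidueField T) y = 0 := by rw [← RingHom.mem_ker, hkerBh]; exact hy
      rw [smul_eq_mul, Derivation.leibniz, tmul_add, tmul_smul, hD, smul_zero, zero_add, tmul_smul,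
        ← algebraMap_smul (ResidueField T) y, hy0, zero_smul]
  -- the local ring of the smooth algebra
  let L := Localization.AtPrime q'
  have hAp : ∀ a : p.primeCompl, IsUnit ((algebraMap A L) a) := fun a => by
    rw [IsScalarTower.algebraMap_apply A C L]
    refine IsLocalization.map_units (M := q'.primeCompl) L ⟨algebraMap A C a, fun ha => a.2 ?_⟩
    change algebraMap A C a ∈ q' at ha
    rw [hq'ker, RingHom.mem_ker, ← IsScalarTower.algebraMap_apply, IsScalarTower.algebraMap_apply A B (ResidueField T),
      ← RingHom.mem_ker, hker] at ha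
    exact ha
  letI : Algebra S L := (IsLocalization.lift (M := p.primeCompl) hAp).toAlgebra
  haveI : IsScalarTower A S L := IsScalarTower.of_algebraMap_eq fun a => (IsLocalization.lift_eq hAp a).symm
  let J : Ideal L := (maximalIdeal S).map (algebraMap S L)
  let n : Ideal L := maximalIdeal L
  have hτunit : ∀ y : q'.primeCompl, IsUnit (algebraMap C (ResidueField T) y) := fun y =>
    isUnit_iff_ne_zero.mpr fun h0 => y.2 (hq'ker.ge h0)
  let πL : L →+* (ResidueField T) := IsLocalization.lift hτunit
  have hπC : ∀ c, πL (algebraMap C L c) = algebraMap C (ResidueField T) c := fun c => IsLocalization.lift_eq hτunit c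
  have hπS : ∀ s, πL (algebraMap S L s) = residue T (algebraMap S T s) := by
    refine RingHom.congr_fun (IsLocalization.ringHom_ext p.primeCompl
      (j := πL.comp (algebraMap S L)) (k := (residue T).comp (algebraMap S T)) (RingHom.ext fun a => ?_))
    show πL (algebraMap S L (algebraMap A S a)) = residue T (algebraMap S T (algebraMap A S a))
    rw [← IsScalarTower.algebraMap_apply, ← IsScalarTower.algebraMap_apply, IsScalarTower.algebraMap_apply A C L, hπC,
      ← IsScalarTower.algebraMap_apply]
    rfl
  have hkerπ : RingHom.ker πL = n := by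
    ext x
    obtain ⟨⟨c, y⟩, hy⟩ := IsLocalization.surj q'.primeCompl x
    have hu := IsLocalization.map_units L y
    have h1 : x ∈ RingHom.ker πL ↔ algebraMap C L c ∈ RingHom.ker πL := by
      rw [← hy]
      exact ((RingHom.ker πL).mul_unit_mem_iff_mem hu).symm
    have h2 : x ∈ n ↔ algebraMap C L c ∈ n := by
      rw [← hy]
      exact (n.mul_unit_mem_iff_mem hu).symm
    rw [h1, h2, RingHom.mem_ker, hπC, IsLocalization.AtPrime.to_map_mem_maximal_iff L q', hq'ker, RingHom.mem_ker]
  have hJn : J ≤ n := by
    rw [← hkerπ, Ideal.map_le_iff_le_comap]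
    intro s hs
    rw [Ideal.mem_comap, RingHom.mem_ker, hπS, residue_eq_zero_iff, ← hfield]
    exact Ideal.mem_map_of_mem _ hs
  have hπsurj : Function.Surjective πL := by
    intro y
    obtain ⟨t, rfl⟩ := residue_surjective y
    obtain ⟨⟨b, s⟩, hbs⟩ := IsLocalization.surj q.primeCompl t
    obtain ⟨c, hc⟩ := hψ (algebraMap B Bh b)
    obtain ⟨c', hc'⟩ := hψ (algebraMap B Bh s)
    have hc'q : c' ∉ q' := fun h0 => s.2 (by
      rw [hq'ker] at h0
      have h1 : algebraMap Bh (ResidueField T) (ψ c') = 0 := h0
      rw [hc', ← IsScalarTower.algebraMap_apply] at h1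
      exact hker.le h1)
    refine ⟨IsLocalization.mk' L c (⟨c', hc'q⟩ : q'.primeCompl), ?_⟩
    rw [IsLocalization.lift_mk'_spec]
    show algebraMap Bh (ResidueField T) (ψ c) = algebraMap Bh (ResidueField T) (ψ c') * residue T t
    rw [hc, hc', ← IsScalarTower.algebraMap_apply, ← IsScalarTower.algebraMap_apply]
    show residue T (algebraMap B T b) = residue T (algebraMap B T s) * residue T t
    rw [← map_mul, mul_comm, hbs]
  -- `n = J + n²`
  have hsq : n ≤ J ⊔ n * n := by
    let I₀ : Ideal L := J ⊔ n * n
    let mk : L →+* (L ⧸ I₀) := Ideal.Quotient.mk I₀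
    letI : Algebra (ResidueField S) (L ⧸ I₀) := (Ideal.Quotient.lift (maximalIdeal S) (mk.comp (algebraMap S L)) fun s hs =>
      Ideal.Quotient.eq_zero_iff_mem.mpr (Ideal.mem_sup_left (Ideal.mem_map_of_mem _ hs))).toAlgebra
    let σ : (L ⧸ I₀) →+* (ResidueField T) := Ideal.Quotient.lift I₀ πL (fun x hx => by
      have : I₀ ≤ RingHom.ker πL := sup_le (hJn.trans hkerπ.ge) (Ideal.mul_le_right.trans hkerπ.ge)
      exact this hx)
    let σ' : (L ⧸ I₀) →ₐ[(ResidueField S)] (ResidueField T) := AlgHom.mk σ (fun r => by
      obtain ⟨s, rfl⟩ := residue_surjective r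
      exact hπS s)
    have hσsurj : Function.Surjective σ' := fun y => ⟨mk (hπsurj y).choose, (hπsurj y).choose_spec⟩
    have hI : IsNilpotent (RingHom.ker σ') := by
      refine ⟨2, eq_bot_iff.mpr ?_⟩
      have hle : RingHom.ker σ' ≤ n.map mk := fun r hr => by
        obtain ⟨x, rfl⟩ := Ideal.Quotient.mk_surjective r
        exact Ideal.mem_map_of_mem _ (hkerπ.le hr)
      refine (Ideal.pow_right_mono hle 2).trans ?_
      rw [← Ideal.map_pow, sq, Ideal.map_le_iff_le_comap]
      exact fun x hx => Ideal.Quotient.eq_zero_iff_mem.mpr (Ideal.mem_sup_right hx)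
    obtain ⟨s, hs⟩ := Algebra.FormallySmooth.exists_lift (R := (ResidueField S)) (A := (ResidueField T)) (B := (L ⧸ I₀)) (RingHom.ker σ') hI
      (Ideal.quotientKerAlgEquivOfSurjective hσsurj).symm.toAlgHom
    have hσs : ∀ y, σ' (s y) = y := fun y => by
      have h1 := congrArg (Ideal.quotientKerAlgEquivOfSurjective hσsurj) (AlgHom.congr_fun hs y)
      simpa using h1
    letI : Algebra (ResidueField T) (L ⧸ I₀) := s.toRingHom.toAlgebra
    have hmkA : ∀ a : A, mk (algebraMap C L (algebraMap A C a)) = s (algebraMap A (ResidueField T) a) := fun a => by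
      have h1 : algebraMap A (ResidueField T) a = algebraMap (ResidueField S) (ResidueField T) (residue S (algebraMap A S a)) := by
        show residue T (algebraMap A T a) = residue T (algebraMap S T (algebraMap A S a))
        rw [← IsScalarTower.algebraMap_apply]
      rw [h1, AlgHom.commutes, ← IsScalarTower.algebraMap_apply, IsScalarTower.algebraMap_apply A S L]
      rfl
    let δ : C → (L ⧸ I₀) := fun c => mk (algebraMap C L c) - s (algebraMap C (ResidueField T) c)
    have hδker : ∀ c, σ' (δ c) = 0 := fun c => by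
      rw [map_sub, hσs, sub_eq_zero]
      exact hπC c
    have hmul : ∀ r r', σ' r = 0 → σ' r' = 0 → r * r' = 0 := fun r r' hr hr' => by
      have h1 : RingHom.ker σ' * RingHom.ker σ' ≤ ⊥ := by
        have hle : RingHom.ker σ' ≤ n.map mk := fun r hr => by
          obtain ⟨x, rfl⟩ := Ideal.Quotient.mk_surjective r
          exact Ideal.mem_map_of_mem _ (hkerπ.le hr)
        refine (Ideal.mul_mono hle hle).trans ?_
        rw [← Ideal.map_mul, Ideal.map_le_iff_le_comap]
        exact fun x hx => Ideal.Quotient.eq_zero_iff_mem.mpr (Ideal.mem_sup_right hx)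
      exact h1 (Ideal.mul_mem_mul hr hr')
    have hzero : ∀ c ∈ q', δ c = 0 := by
      intro c hc
      refine (Module.forall_dual_apply_eq_zero_iff (ResidueField T) (δ c)).mp fun φ => ?_
      let D₀ : Derivation A C (ResidueField T) := Derivation.mk'
        { toFun := fun c => φ (δ c)
          map_add' := fun a b => by
            have h1 : δ (a + b) = δ a + δ b := by simp only [δ, map_add]; abel
            rw [h1, map_add]
          map_smul' := fun a c => by
            show φ (δ (a • c)) = a • φ (δ c)
            have h1 : δ (a • c) = algebraMap A (ResidueField T) a • δ c := by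
              simp only [δ, Algebra.smul_def, map_mul, hmkA, ← IsScalarTower.algebraMap_apply A C (ResidueField T), mul_sub]
              rfl
            rw [h1, map_smul, smul_eq_mul, Algebra.smul_def] }
        fun a b => by
          show φ (δ (a * b)) = a • φ (δ b) + b • φ (δ a)
          have h1 : δ (a * b) = algebraMap C (ResidueField T) a • δ b + algebraMap C (ResidueField T) b • δ a := by
            have h2 := hmul _ _ (hδker a) (hδker b)
            simp only [δ, map_mul, Algebra.smul_def] at h2 ⊢
            change _ = s (algebraMap C (ResidueField T) a) * _ + s (algebraMap C (ResidueField T) b) * _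
            linear_combination h2
          rw [h1, map_add, map_smul, map_smul]
          rfl
      exact hDq D₀ c hc
    intro x hx
    obtain ⟨⟨c, y⟩, hy⟩ := IsLocalization.surj q'.primeCompl x
    have hu := IsLocalization.map_units L y
    have hc : algebraMap C L c ∈ n := hy ▸ n.mul_mem_right _ hx
    have hcq := (IsLocalization.AtPrime.to_map_mem_maximal_iff L q' c).mp hc
    have h1 : algebraMap C L c ∈ I₀ := by
      refine Ideal.Quotient.eq_zero_iff_mem.mp ?_
      have h2 := hzero c hcq
      rw [show δ c = mk (algebraMap C L c) - s (algebraMap C (ResidueField T) c) from rfl,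
        show algebraMap C (ResidueField T) c = 0 from hq'ker.le hcq, map_zero, sub_zero] at h2
      exact h2
    rw [← hy] at h1
    exact (I₀.mul_unit_mem_iff_mem hu).mp h1
  have hn : n = J := by
    refine le_antisymm ?_ hJn
    letI : Algebra (ResidueField S) (L ⧸ J) := (Ideal.Quotient.lift (maximalIdeal S) ((Ideal.Quotient.mk J).comp (algebraMap S L))
      fun s hs => Ideal.Quotient.eq_zero_iff_mem.mpr (Ideal.mem_map_of_mem _ hs)).toAlgebra
    haveI : IsScalarTower A (ResidueField S) (L ⧸ J) := IsScalarTower.of_algebraMap_eq fun a => by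
      show Ideal.Quotient.mk J (algebraMap A L a) = Ideal.Quotient.mk J (algebraMap S L (algebraMap A S a))
      rw [← IsScalarTower.algebraMap_apply]
    haveI : Algebra.EssFiniteType C L := Algebra.EssFiniteType.of_isLocalization L q'.primeCompl
    haveI : Algebra.EssFiniteType A L := Algebra.EssFiniteType.comp A C L
    haveI : Algebra.EssFiniteType A (L ⧸ J) := Algebra.EssFiniteType.comp A L (L ⧸ J)
    haveI : Algebra.EssFiniteType (ResidueField S) (L ⧸ J) := Algebra.EssFiniteType.of_comp A (ResidueField S) (L ⧸ J)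
    haveI : IsNoetherianRing (L ⧸ J) := Algebra.EssFiniteType.isNoetherianRing (ResidueField S) (L ⧸ J)
    let n₀ := n.map (Ideal.Quotient.mk J)
    have hle : n₀ ≤ n₀ * n₀ := by
      rw [← Ideal.map_mul]
      refine (Ideal.map_mono hsq).trans ?_
      rw [Ideal.map_sup, Ideal.map_quotient_self, bot_sup_eq]
    haveI : Nontrivial (L ⧸ J) :=
      Ideal.Quotient.nontrivial_iff.mpr (ne_top_of_le_ne_top (maximalIdeal.isMaximal L).ne_top hJn)
    haveI : IsLocalRing (L ⧸ J) := IsLocalRing.of_surjective' (Ideal.Quotient.mk J) Ideal.Quotient.mk_surjective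
    have hbot : n₀ = ⊥ := by
      refine Submodule.eq_bot_of_le_smul_of_le_jacobson_bot n₀ n₀ (IsNoetherian.noetherian n₀) hle ?_
      rw [IsLocalRing.jacobson_eq_maximalIdeal ⊥ bot_ne_top]
      refine le_maximalIdeal fun htop => ?_
      have h1 := congrArg (Ideal.comap (Ideal.Quotient.mk J)) htop
      rw [Ideal.comap_map_of_surjective _ Ideal.Quotient.mk_surjective, ← RingHom.ker_eq_comap_bot, Ideal.mk_ker,
        Ideal.comap_top, sup_eq_left.mpr hJn] at h1
      exact (maximalIdeal.isMaximal L).ne_top h1
    rw [Ideal.map_eq_bot_iff_le_ker, Ideal.mk_ker] at hbot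
    exact hbot
  haveI : Algebra.Smooth A C := inferInstance
  refine ⟨C, inferInstance, inferInstance, ψ, inferInstance, hψ, hcomp, fun Q hQ hQle hQp => ?_, ?_⟩
  · refine le_antisymm hQle fun c hc => ?_
    have h1 : algebraMap C L c ∈ J := hn ▸ (IsLocalization.AtPrime.to_map_mem_maximal_iff L q' c).mpr hc
    have h2 : J ≤ Q.map (algebraMap C L) := by
      show (maximalIdeal S).map (algebraMap S L) ≤ _
      rw [← IsLocalization.AtPrime.map_eq_maximalIdeal p S, Ideal.map_map, ← IsScalarTower.algebraMap_eq,
        IsScalarTower.algebraMap_eq A C L, ← Ideal.map_map]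
      exact Ideal.map_mono (Ideal.map_le_iff_le_comap.mpr hQp.ge)
    have hdisj : Disjoint (q'.primeCompl : Set C) Q := Set.disjoint_left.mpr fun x hx hxQ => hx (hQle hxQ)
    exact (IsLocalization.comap_map_of_isPrime_disjoint q'.primeCompl L hQ hdisj).le (h2 h1)
  · intro hS c t j ht htc
    haveI : _root_.IsReduced (S ⊗[A] C) :=
      GrothLib.RedSmooth.isReduced_of_isStandardSmooth (R := S) (f := algebraMap S (S ⊗[A] C))
        (RingHom.isStandardSmooth_algebraMap.2 inferInstance)
    have h0 : IsNilpotent ((1 : S) ⊗ₜ[A] (t * c)) := ⟨j + 1, by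
      rw [Algebra.TensorProduct.tmul_pow, one_pow, mul_pow, pow_succ t j, pow_succ c j,
        show t ^ j * t * (c ^ j * c) = t ^ j * c * (t * c ^ j) by ring, htc, mul_zero, tmul_zero]⟩
    have h1 : (1 : S) ⊗ₜ[A] (t * c) = 0 := h0.eq_zero
    haveI : IsLocalizedModule p.primeCompl (TensorProduct.mk A S C 1) :=
      (isLocalizedModule_iff_isBaseChange p.primeCompl S _).mpr (TensorProduct.isBaseChange A C S)
    obtain ⟨a, ha⟩ := (IsLocalizedModule.eq_zero_iff p.primeCompl (TensorProduct.mk A S C 1)).mp h1
    refine ⟨algebraMap A C a * t, fun hmem => ?_, by rw [mul_assoc, ← Algebra.smul_def]; exact ha⟩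
    rcases (inferInstance : q'.IsPrime).mem_or_mem hmem with h2 | h2
    · rw [hq'ker, RingHom.mem_ker, ← IsScalarTower.algebraMap_apply, IsScalarTower.algebraMap_apply A B (ResidueField T),
        ← RingHom.mem_ker, hker] at h2
      exact a.2 h2
    · exact ht h2

end GrothLib.Chev28
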