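import Groth.Agent.Lib.SepPts.SmoothDense
import Mathlib

universe u

open CategoryTheory Limits AlgebraicGeometry

namespace GrothLib.Chev28

theorem bijective_stalkMap_of_isField {A B : Scheme.{u}} (j : A ⟶ B) [IsPreimmersion j] (a : A)
    (h : IsField (B.presheaf.stalk (j a))) : Function.Bijective (j.stalkMap a) := by
  letI := h.toField
  exact ⟨(j.stalkMap a).hom.injective, j.stalkMap_surjective a⟩

theorem formallySmooth_of_sq {A B C D : Scheme.{u}} (ι : A ⟶ B) (f : B ⟶ C) (q : A ⟶ D) (j : D ⟶ C)
    (hsq : ι ≫ f = q ≫ j) (a : A) (hι : Function.Bijective (ι.stalkMap a))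
    (hj : Function.Bijective (j.stalkMap (q a))) (hq : (q.stalkMap a).hom.FormallySmooth) :
    (f.stalkMap (ι a)).hom.FormallySmooth := by
  have h1 : ((ι ≫ f).stalkMap a).hom.FormallySmooth := by
    rw [hsq, show ((q ≫ j).stalkMap a) = j.stalkMap (q a) ≫ q.stalkMap a from Scheme.Hom.stalkMap_comp q j a]
    exact (RingHom.FormallySmooth.of_bijective hj).comp hq
  let e := RingEquiv.ofBijective (ι.stalkMap a).hom hι
  have h2 : ((ι.stalkMap a).hom.comp (f.stalkMap (ι a)).hom).FormallySmooth := by
    rw [show (ι ≫ f).stalkMap a = f.stalkMap (ι a) ≫ ι.stalkMap a from Scheme.Hom.stalkMap_comp ι f a] at h1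
    exact h1
  have h3 := h2.comp (RingHom.FormallySmooth.of_bijective (f := e.symm.toRingHom) e.symm.bijective)
  convert h3 using 1
  ext x
  exact (e.symm_apply_apply _).symm

theorem dense_smoothLocus_of_geomReduced {X Y : Scheme.{u}} [IsIntegral X] [IsIntegral Y]
    (f : X ⟶ Y) [IsDominant f] [LocallyOfFinitePresentation f]
    (hsep : GeometricallyReduced (f.fiberToSpecResidueField (f.base (genericPoint X)))) :
    Dense (f.smoothLocus : Set X) := by
  set η := genericPoint X
  have hmem : η ∈ f.smoothLocus := by
    let z := f.asFiber η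
    have hpre : IsPreimmersion (Y.fromSpecResidueField (f η)) := inferInstance
    let q : f.fiber (f η) ⟶ Spec (CommRingCat.of (IsLocalRing.ResidueField (Y.presheaf.stalk (f η)))) :=
      f.fiberToSpecResidueField (f η)
    haveI : GeometricallyReduced q := hsep
    haveI : LocallyOfFinitePresentation q := MorphismProperty.pullback_snd (P := @LocallyOfFinitePresentation) f _ inferInstance
    have hzmax : ∀ w, w ⤳ z → w = z := fun w hw => by
      apply (f.fiberι (f η)).isEmbedding.injective
      have h := hw.map (f.fiberι (f η)).continuous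
      rw [Scheme.Hom.fiberι_asFiber] at h ⊢
      exact (h.antisymm (genericPoint_specializes _)).eq
    have hq : (q.stalkMap z).hom.FormallySmooth :=
      GrothLib.SepPts.mem_smoothLocus_of_maximal (k := IsLocalRing.ResidueField (Y.presheaf.stalk (f η))) q hzmax
    have hfη : f η = genericPoint Y := by
      apply IsGenericPoint.eq _ (genericPoint_spec Y)
      rw [isGenericPoint_def, ← Set.image_singleton, ← closure_image_closure f.continuous,
        genericPoint_closure, Set.image_univ]
      exact f.denseRange.closure_range
    have hjX : IsField (X.presheaf.stalk (f.fiberι (f η) z)) := by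
      rw [Scheme.Hom.fiberι_asFiber]
      exact Field.toIsField X.functionField
    have hjY : IsField (Y.presheaf.stalk (Y.fromSpecResidueField (f η) (q z))) := by
      rw [Scheme.fromSpecResidueField_apply, hfη]
      exact Field.toIsField Y.functionField
    have h := formallySmooth_of_sq (f.fiberι (f η)) f q (Y.fromSpecResidueField (f η)) pullback.condition z
      (bijective_stalkMap_of_isField _ _ hjX) (@bijective_stalkMap_of_isField _ _ _ hpre _ hjY) hq
    rw [Scheme.Hom.fiberι_asFiber] at h
    exact h
  intro x
  exact closure_mono (Set.singleton_subset_iff.mpr hmem) (genericPoint_specializes x).mem_closure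

end GrothLib.Chev28
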