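import Groth.Agent.Lib.Chev28.Jacobson
import Groth.Agent.Lib.AffDom.PointDim

/-!
Local dimensions of closed subsets of Jacobson universally catenary schemes with equidimensional components.
-/

universe u

open CategoryTheory CategoryTheory.Limits AlgebraicGeometry TopologicalSpace Topology

noncomputable section

namespace GrothLib.Chev28

variable {S : Scheme.{u}}

theorem dim_specializing_closure_eq [IsLocallyNoetherian S] {σ x : S} (h : σ ⤳ x) :
    ∃ k : ℕ, ringKrullDim (Cyc.LocQuot x σ h) = k ∧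
      topologicalKrullDim ↥{t : S | t ∈ closure ({σ} : Set S) ∧ t ⤳ x} = (k : WithBot ℕ∞) := by
  obtain ⟨Ss, j, _, _, hrange, hgen⟩ := exists_integral_closure σ
  haveI := LocallyOfFiniteType.isLocallyNoetherian j
  obtain ⟨v, hv⟩ := hrange.ge h.mem_closure
  obtain ⟨k, hk, -⟩ := exists_nat_dim_stalk (Y := Ss) v
  have h1 := dim_locQuot_closedImmersion j v hv hgen h
  refine ⟨k, h1.trans hk, ?_⟩
  rw [← hk, ← PrimeSpectrum.topologicalKrullDim_eq_ringKrullDim (Ss.presheaf.stalk v)]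
  symm
  refine GrothLib.Dim.IsEmbedding.topologicalKrullDim_eq (f := fun q => j (Ss.fromSpecStalk v q))
    (j.isEmbedding.comp (Ss.fromSpecStalk v).isEmbedding) ?_
  ext t
  constructor
  · rintro ⟨q, rfl⟩
    exact ⟨hrange.le ⟨_, rfl⟩, hv ▸
      (show Ss.fromSpecStalk v q ⤳ v from (Scheme.range_fromSpecStalk (x := v)).le ⟨q, rfl⟩).map j.continuous⟩
  · rintro ⟨ht, hts⟩
    obtain ⟨t', rfl⟩ := hrange.ge ht
    obtain ⟨q, hq⟩ := (Scheme.range_fromSpecStalk (x := v)).ge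
      (show t' ∈ {y | y ⤳ v} from j.isEmbedding.isInducing.specializes_iff.mp (by rw [hv]; exact hts))
    exact ⟨q, congrArg j hq⟩

section

variable [IsLocallyNoetherian S] [JacobsonSpace S]
  (hcat : ∀ s : S, CAlg.IsUniversallyCatenary (S.presheaf.stalk s))
  (h3 : ∀ S' ∈ irreducibleComponents (S : Type u), ∀ s ∈ S', IsClosed ({s} : Set S) →
    topologicalKrullDim (↥S' : Type u) = topologicalKrullDim ↥{t : S | t ∈ S' ∧ t ⤳ s})

include hcat h3

/-- The dimension of an irreducible closed subset is that at any of its closed points. -/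
theorem dim_closure_eq {σ s : S} (h : σ ⤳ s) (hs : IsClosed ({s} : Set S)) :
    topologicalKrullDim ↥(closure ({σ} : Set S)) = ringKrullDim (Cyc.LocQuot s σ h) := by
  obtain ⟨Ss, j, _, _, hrange, hgen⟩ := exists_integral_closure σ
  obtain ⟨b, hb, -⟩ := dim_specializing_closure_eq h
  haveI : IrreducibleSpace Ss := inferInstance
  obtain ⟨t, ht, hdim⟩ := dim_eq_of_irreducible hcat j b fun s' h' hs' => by
    have h'' : σ ⤳ s' := hgen ▸ h'
    rw [show ringKrullDim (Cyc.LocQuot s' (j (genericPoint Ss)) h') = ringKrullDim (Cyc.LocQuot s' σ h'') by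
      subst hgen; rfl, dim_locQuot_const hcat h3 h'' h hs' hs, hb]
  obtain ⟨t', ht', htd⟩ := GrothLib.Altitude.exists_trdeg_eq_dim_closure j (genericPoint Ss)
  have hsub : Subsingleton ↥(j.fiber (j (genericPoint Ss))) := ⟨fun a b =>
    (j.fiberι _).isEmbedding.injective (j.isEmbedding.injective
      (((j.range_fiberι _).le ⟨a, rfl⟩ : j _ = _).trans ((j.range_fiberι _).le ⟨b, rfl⟩ : j _ = _).symm))⟩
  have ht0 : t = 0 := by
    have htt : t' = t := by exact_mod_cast (ht'.symm.trans ht :)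
    have h0 : topologicalKrullDim ↥(closure ({j.asFiber (genericPoint Ss)} : Set (j.fiber (j (genericPoint Ss))))) ≤ 0 :=
      topologicalKrullDim_zero_of_discreteTopology _
    rw [htd, htt] at h0
    exact Nat.le_zero.mp (by exact_mod_cast h0)
  rw [hb, GrothLib.Dim.IsEmbedding.topologicalKrullDim_eq j.isEmbedding hrange] at *
  rw [ht0, add_zero] at hdim
  exact hdim

theorem exists_nat_dim_closure (x : S) : ∃ d : ℕ, topologicalKrullDim ↥(closure ({x} : Set S)) = (d : WithBot ℕ∞) := by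
  obtain ⟨s, hxs, hs⟩ := exists_closed_specialization x
  obtain ⟨k, hk, -⟩ := dim_specializing_closure_eq hxs
  exact ⟨k, (dim_closure_eq hcat h3 hxs hs).trans hk⟩

theorem dim_closure_eq_add {σ x : S} (h : σ ⤳ x) :
    topologicalKrullDim ↥(closure ({σ} : Set S)) =
      topologicalKrullDim ↥(closure ({x} : Set S)) + ringKrullDim (Cyc.LocQuot x σ h) := by
  obtain ⟨s, hxs, hs⟩ := exists_closed_specialization x
  rw [dim_closure_eq hcat h3 (h.trans hxs) hs, dim_closure_eq hcat h3 hxs hs]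
  obtain ⟨Ss, j, _, _, hrange, hgen⟩ := exists_integral_closure σ
  haveI := LocallyOfFiniteType.isLocallyNoetherian j
  obtain ⟨w, hw⟩ := hrange.ge h.mem_closure
  obtain ⟨v, hv⟩ := hrange.ge (h.trans hxs).mem_closure
  have hwv : w ⤳ v := j.isEmbedding.isInducing.specializes_iff.mp (by rw [hw, hv]; exact hxs)
  rw [dim_locQuot_closedImmersion j w hw hgen h, dim_locQuot_closedImmersion j v hv hgen (h.trans hxs),
    dim_locQuot_image j hwv hv hw hxs, add_comm]
  exact dim_stalk_eq_add hwv (GrothLib.Altitude.isUniversallyCatenary_of_surjective (j.stalkMap v).hom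
    (j.stalkMap_surjective v) (hcat _))

/-- An open subset meeting an irreducible closed subset meets it in the full dimension. -/
theorem dim_closure_le_of_mem_open {σ : S} {Y U : Set S} (hY : IsClosed Y) (hσY : σ ∈ Y) (hU : IsOpen U)
    (hσ : σ ∈ U) : topologicalKrullDim ↥(closure ({σ} : Set S)) ≤ topologicalKrullDim ↥(U ∩ Y) := by
  obtain ⟨s, ⟨hsσ, hsU⟩, hsc⟩ := nonempty_inter_closedPoints (X := S) (Z := closure {σ} ∩ U)
    ⟨σ, subset_closure rfl, hσ⟩ (isClosed_closure.isLocallyClosed.inter hU.isLocallyClosed)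
  obtain ⟨k, hk, hk'⟩ := dim_specializing_closure_eq (specializes_iff_mem_closure.mpr hsσ)
  rw [dim_closure_eq hcat h3 (specializes_iff_mem_closure.mpr hsσ) hsc, hk, ← hk']
  exact (Topology.IsEmbedding.inclusion (t := U ∩ Y) (fun t ht => ⟨(ht.2 : t ⤳ s).mem_open hU hsU,
    closure_minimal (Set.singleton_subset_iff.mpr hσY) hY ht.1⟩)).isInducing.topologicalKrullDim_le

/-- The local dimension of a closed subset, and the neighbourhoods where it is attained. -/
theorem localDim_closed (Y : Set S) (hY : IsClosed Y) (x : S) (hx : x ∈ Y) :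
    ∃ σ ∈ Y, σ ⤳ x ∧
      (∀ τ ∈ Y, τ ⤳ x → topologicalKrullDim ↥(closure ({τ} : Set S)) ≤ topologicalKrullDim ↥(closure ({σ} : Set S))) ∧
      FlatMor.localDim ↥Y ⟨x, hx⟩ = topologicalKrullDim ↥(closure ({σ} : Set S)) ∧
      topologicalKrullDim ↥(closure ({σ} : Set S)) =
        topologicalKrullDim ↥(closure ({x} : Set S)) + topologicalKrullDim ↥{t : S | t ∈ Y ∧ t ⤳ x} ∧
      ∀ U : Set S, IsOpen U → x ∈ U → (∀ τ ∈ Y ∩ U, ∃ τ' ∈ Y, τ' ⤳ τ ∧ τ' ⤳ x) →
        topologicalKrullDim ↥(U ∩ Y) = topologicalKrullDim ↥(closure ({σ} : Set S)) := by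
  obtain ⟨c, hc, -⟩ := exists_nat_dim_stalk (Y := S) x
  let K : Set ℕ := {k | ∃ (σ : S) (h : σ ⤳ x), σ ∈ Y ∧ ringKrullDim (Cyc.LocQuot x σ h) = k}
  have hKne : K.Nonempty := by
    obtain ⟨k, hk, -⟩ := dim_specializing_closure_eq (specializes_rfl (x := x))
    exact ⟨k, x, specializes_rfl, hx, hk⟩
  have hKb : BddAbove K := ⟨c, by
    rintro k ⟨σ, h, -, hk⟩
    exact (dim_locQuot_le_stalk h k c hk hc).1⟩
  obtain ⟨σ, hσx, hσY, hσ⟩ := Nat.sSup_mem hKne hKb
  obtain ⟨d, hd⟩ := exists_nat_dim_closure hcat h3 x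
  have hmax : ∀ τ ∈ Y, τ ⤳ x →
      topologicalKrullDim ↥(closure ({τ} : Set S)) ≤ topologicalKrullDim ↥(closure ({σ} : Set S)) := by
    intro τ hτ hτx
    obtain ⟨k, hk, -⟩ := dim_specializing_closure_eq hτx
    rw [dim_closure_eq_add hcat h3 hτx, dim_closure_eq_add hcat h3 hσx, hk, hσ]
    exact add_le_add le_rfl (by exact_mod_cast le_csSup hKb ⟨τ, hτx, hτ, hk⟩)
  let T : Set (Spec (S.presheaf.stalk x)) := S.fromSpecStalk x ⁻¹' Y
  have hTc : IsClosed T := hY.preimage (S.fromSpecStalk x).continuous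
  haveI : QuasiSober ↥T := hTc.isClosedEmbedding_subtypeVal.quasiSober
  have hgen : topologicalKrullDim ↥{t : S | t ∈ Y ∧ t ⤳ x} = ringKrullDim (Cyc.LocQuot x σ hσx) := by
    rw [hσ]
    refine le_antisymm ?_ ?_
    · rw [← GrothLib.Dim.IsEmbedding.topologicalKrullDim_eq (f := fun q : ↥T => S.fromSpecStalk x q.1)
        ((S.fromSpecStalk x).isEmbedding.comp IsEmbedding.subtypeVal) (S := {t : S | t ∈ Y ∧ t ⤳ x}) ?_,
        GrothLib.AffDom.topologicalKrullDim_eq_iSup ↥T]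
      · refine iSup_le fun q => ?_
        have hqx : S.fromSpecStalk x q.1 ⤳ x := (Scheme.range_fromSpecStalk (x := x)).le ⟨_, rfl⟩
        obtain ⟨k, hk, hk'⟩ := dim_specializing_closure_eq hqx
        refine le_trans ?_ ((hk'.le).trans (by exact_mod_cast le_csSup hKb ⟨_, hqx, q.2, hk⟩))
        refine (IsEmbedding.codRestrict (((S.fromSpecStalk x).isEmbedding.comp
          IsEmbedding.subtypeVal).comp (IsEmbedding.subtypeVal (p := (· ∈ closure ({q} : Set ↥T)))))
          {t : S | t ∈ closure ({S.fromSpecStalk x q.1} : Set S) ∧ t ⤳ x}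
            fun p => ⟨?_, (Scheme.range_fromSpecStalk (x := x)).le ⟨_, rfl⟩⟩).isInducing.topologicalKrullDim_le
        exact (((specializes_iff_mem_closure.mpr p.2).map continuous_subtype_val).map
          (S.fromSpecStalk x).continuous).mem_closure
      · ext t
        constructor
        · rintro ⟨q, rfl⟩
          exact ⟨q.2, (Scheme.range_fromSpecStalk (x := x)).le ⟨_, rfl⟩⟩
        · rintro ⟨ht, htx⟩
          obtain ⟨q, rfl⟩ := (Scheme.range_fromSpecStalk (x := x)).ge (show t ∈ {y | y ⤳ x} from htx)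
          exact ⟨⟨q, ht⟩, rfl⟩
    · obtain ⟨k, hk, hk'⟩ := dim_specializing_closure_eq hσx
      rw [← hσ, hk, ← hk']
      exact (Topology.IsEmbedding.inclusion (t := {t : S | t ∈ Y ∧ t ⤳ x}) (fun t ht =>
        ⟨closure_minimal (Set.singleton_subset_iff.mpr hσY) hY ht.1, ht.2⟩)).isInducing.topologicalKrullDim_le
  have hU : ∀ U : Set S, IsOpen U → x ∈ U → (∀ τ ∈ Y ∩ U, ∃ τ' ∈ Y, τ' ⤳ τ ∧ τ' ⤳ x) →
      topologicalKrullDim ↥(U ∩ Y) = topologicalKrullDim ↥(closure ({σ} : Set S)) := by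
    intro U hU hxU hcomp
    refine le_antisymm ?_ (dim_closure_le_of_mem_open hcat h3 hY hσY hU (hσx.mem_open hU hxU))
    haveI : QuasiSober ↥U := hU.isOpenEmbedding_subtypeVal.quasiSober
    haveI : QuasiSober ↥(Subtype.val ⁻¹' Y : Set ↥U) :=
      (hY.preimage continuous_subtype_val).isClosedEmbedding_subtypeVal.quasiSober
    rw [← GrothLib.Dim.IsEmbedding.topologicalKrullDim_eq (f := fun q : ↥(Subtype.val ⁻¹' Y : Set ↥U) => q.1.1)
      (IsEmbedding.subtypeVal.comp IsEmbedding.subtypeVal) (S := U ∩ Y) ?_,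
      GrothLib.AffDom.topologicalKrullDim_eq_iSup]
    · refine iSup_le fun q => ?_
      obtain ⟨τ', hτ', hq, hτx⟩ := hcomp q.1.1 ⟨q.2, q.1.2⟩
      refine le_trans ?_ (hmax τ' hτ' hτx)
      refine (IsEmbedding.codRestrict ((IsEmbedding.subtypeVal.comp IsEmbedding.subtypeVal).comp
        (IsEmbedding.subtypeVal (p := (· ∈ closure ({q} : Set ↥(Subtype.val ⁻¹' Y : Set ↥U)))))) _
          fun p => ?_).isInducing.topologicalKrullDim_le
      exact (hq.trans (((specializes_iff_mem_closure.mpr p.2).map continuous_subtype_val).map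
        continuous_subtype_val)).mem_closure
    · ext t
      constructor
      · rintro ⟨q, rfl⟩
        exact ⟨q.1.2, q.2⟩
      · rintro ⟨htU, htY⟩
        exact ⟨⟨⟨t, htU⟩, htY⟩, rfl⟩
  refine ⟨σ, hσY, hσx, hmax, ?_, by rw [hgen]; exact dim_closure_eq_add hcat h3 hσx, hU⟩
  let C : Closeds S := ⟨Y, hY⟩
  let ι := (Scheme.IdealSheafData.vanishingIdeal C).subschemeι
  have hrange : Set.range ι = Y := GrothLib.RedSub.range_subschemeι_vanishingIdeal C
  haveI := LocallyOfFiniteType.isLocallyNoetherian ι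
  obtain ⟨w, hw⟩ := hrange.ge hx
  obtain ⟨O, hwO, hO⟩ := exists_open_components_through w
  obtain ⟨U₀, hU₀, hUO⟩ := ι.isEmbedding.isInducing.isOpen_iff.mp O.2
  have hxU₀ : x ∈ U₀ := by rw [← hw]; exact (Set.ext_iff.mp hUO w).mpr hwO
  have hcomp : ∀ τ ∈ Y ∩ U₀, ∃ τ' ∈ Y, τ' ⤳ τ ∧ τ' ⤳ x := by
    rintro τ ⟨hτY, hτU⟩
    obtain ⟨t, rfl⟩ := hrange.ge hτY
    obtain ⟨ξ, hξ, hmax'⟩ := GrothLib.AffDom.exists_maximal_point t
    exact ⟨ι ξ, hrange.le ⟨_, rfl⟩, hξ.map ι.continuous,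
      hw ▸ (hO ξ (hξ.mem_open O.2 ((Set.ext_iff.mp hUO t).mp hτU)) hmax').map ι.continuous⟩
  have key : ∀ W : Opens ↥Y, ∃ V : Set S, IsOpen V ∧ Subtype.val ⁻¹' V = (W : Set ↥Y) ∧
      topologicalKrullDim ↥(W : Set ↥Y) = topologicalKrullDim ↥(V ∩ Y) := fun W => by
    obtain ⟨V, hV, hVW⟩ := isOpen_induced_iff.mp W.2
    refine ⟨V, hV, hVW, GrothLib.Dim.IsEmbedding.topologicalKrullDim_eq (f := fun q : ↥(W : Set ↥Y) => q.1.1)
      (IsEmbedding.subtypeVal.comp IsEmbedding.subtypeVal) ?_⟩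
    ext t
    constructor
    · rintro ⟨q, rfl⟩
      exact ⟨(Set.ext_iff.mp hVW q.1).mpr q.2, q.1.2⟩
    · rintro ⟨htV, htY⟩
      exact ⟨⟨⟨t, htY⟩, (Set.ext_iff.mp hVW ⟨t, htY⟩).mp htV⟩, rfl⟩
  refine le_antisymm ?_ (le_iInf fun ⟨W, hxW⟩ => ?_)
  · let W : Opens ↥Y := ⟨Subtype.val ⁻¹' U₀, hU₀.preimage continuous_subtype_val⟩
    refine iInf_le_of_le ⟨W, hxU₀⟩ (le_of_eq ?_)
    rw [← hU U₀ hU₀ hxU₀ hcomp]
    exact GrothLib.Dim.IsEmbedding.topologicalKrullDim_eq (f := fun q : ↥(W : Set ↥Y) => q.1.1)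
      (IsEmbedding.subtypeVal.comp IsEmbedding.subtypeVal) (by
        ext t
        constructor
        · rintro ⟨q, rfl⟩
          exact ⟨q.2, q.1.2⟩
        · rintro ⟨htV, htY⟩
          exact ⟨⟨⟨t, htY⟩, htV⟩, rfl⟩)
  · obtain ⟨V, hV, hVW, hdim⟩ := key W
    show _ ≤ topologicalKrullDim ↥(W : Set ↥Y)
    rw [hdim]
    exact dim_closure_le_of_mem_open hcat h3 hY hσY hV (hσx.mem_open hV ((Set.ext_iff.mp hVW ⟨x, hx⟩).mpr hxW))

end

end GrothLib.Chev28
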