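import Groth.Agent.Lib.Chev28.SpecDim
import Groth.Agent.Lib.MaxSupp.Basic
import Groth.Agent.Lib.FlatFP.Sheaf
import Groth.Agent.Lib.QCoh.SupportExact
import Groth.Agent.Lib.CatBasics.Basic

/-!
Support dimensions on schemes of finite type over Jacobson universally catenary bases.
-/

universe u

open CategoryTheory CategoryTheory.Limits AlgebraicGeometry TopologicalSpace Topology

noncomputable section

namespace GrothLib.Chev28

variable {X S : Scheme.{u}}

open GrothLib.WeakAss (primeAt notMem_primeAt_iff)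

theorem mem_support_stalk_iff [IsLocallyNoetherian X] (F : X.Modules) (hF : Coh.IsCoh F) (x : X)
    (q : PrimeSpectrum (X.presheaf.stalk x)) :
    q ∈ Module.support (X.presheaf.stalk x) (F.presheaf.stalk x) ↔ X.fromSpecStalk x q ∈ CohB1.support F := by
  have : F.IsQuasicoherent := hF.1
  obtain ⟨V, hV, hxV, -⟩ := exists_isAffineOpen_mem_and_subset (show x ∈ (⊤ : X.Opens) from trivial)
  have hpoint : X.fromSpecStalk x q ∈ CohB1.support F ↔
      ⟨q.asIdeal.comap (X.presheaf.germ V x hxV).hom, inferInstance⟩ ∈ Module.support Γ(X, V) Γ(F, V) := by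
    rw [← hV.fromSpecStalk_eq_fromSpecStalk hxV, IsAffineOpen.fromSpecStalk, Scheme.Hom.comp_apply]
    rw [GrothLib.QCoh.mem_support_iff_primeAt F hV (WeakAss.fromSpec_mem hV _)]
    rw [show (⟨primeAt _ (WeakAss.fromSpec_mem hV ((Spec.map (X.presheaf.germ V x hxV)) q)), inferInstance⟩ :
      PrimeSpectrum Γ(X, V)) = ⟨q.asIdeal.comap (X.presheaf.germ V x hxV).hom, inferInstance⟩ from
        PrimeSpectrum.ext (WeakAss.primeAt_fromSpec hV _ _)]
  rw [hpoint, Module.mem_support_iff', Module.mem_support_iff']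
  constructor
  · rintro ⟨v, hv⟩
    obtain ⟨c, m, hc, hm⟩ := WeakAss.exists_smul_eq_germ hV hxV v
    refine ⟨m, fun r hr h0 => ?_⟩
    have hc' : IsUnit (X.presheaf.germ V x hxV c) :=
      (Scheme.mem_basicOpen _ c x hxV).mp (notMem_primeAt_iff.mp hc)
    refine hv (X.presheaf.germ V x hxV r * X.presheaf.germ V x hxV c)
      (q.isPrime.mul_notMem hr (fun h => q.isPrime.ne_top (Ideal.eq_top_of_isUnit_mem _ h hc'))) ?_
    rw [mul_smul, hm, ← WeakAss.germ_smul hxV, h0, map_zero]
  · rintro ⟨m, hm⟩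
    refine ⟨F.presheaf.germ V x hxV m, fun r' hr' h0 => ?_⟩
    obtain ⟨d, b, hd, hb⟩ := FlatFP.exists_common_denominator hV hxV (κ := PUnit.{u + 1}) (fun _ => r')
    have hd' : IsUnit (X.presheaf.germ V x hxV d) :=
      (Scheme.mem_basicOpen _ d x hxV).mp (notMem_primeAt_iff.mp hd)
    have h1 : F.presheaf.germ V x hxV (b PUnit.unit • m) = 0 := by
      rw [WeakAss.germ_smul hxV, hb, mul_smul, h0, smul_zero]
    obtain ⟨c, hc, h2⟩ := (WeakAss.germ_eq_zero_iff hV hxV _).1 h1
    rw [← mul_smul] at h2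
    refine hm _ ?_ h2
    have hc' : IsUnit (X.presheaf.germ V x hxV c) :=
      (Scheme.mem_basicOpen _ c x hxV).mp (notMem_primeAt_iff.mp hc)
    show X.presheaf.germ V x hxV (c * b PUnit.unit) ∉ q.asIdeal
    rw [map_mul, hb]
    exact q.isPrime.mul_notMem (fun h => q.isPrime.ne_top (Ideal.eq_top_of_isUnit_mem _ h hc'))
      (q.isPrime.mul_notMem (fun h => q.isPrime.ne_top (Ideal.eq_top_of_isUnit_mem _ h hd')) hr')

theorem supportDim_eq_dim [IsLocallyNoetherian X] (F : X.Modules) (hF : Coh.IsCoh F) (x : X) :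
    Module.supportDim (X.presheaf.stalk x) (F.presheaf.stalk x) =
      topologicalKrullDim ↥{t : X | t ∈ CohB1.support F ∧ t ⤳ x} := by
  haveI : F.IsQuasicoherent := hF.1
  haveI : Module.Finite (X.presheaf.stalk x) (F.presheaf.stalk x) := QuasiFlat.finite_stalk F hF x
  let π := Ideal.Quotient.mk (Module.annihilator (X.presheaf.stalk x) (F.presheaf.stalk x))
  have hrange : Set.range (PrimeSpectrum.comap π) = Module.support (X.presheaf.stalk x) (F.presheaf.stalk x) := by
    rw [Module.support_eq_zeroLocus, range_comap_of_surjective _ π Ideal.Quotient.mk_surjective,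
      Ideal.mk_ker]
  rw [Module.supportDim_eq_ringKrullDim_quotient_annihilator, ← PrimeSpectrum.topologicalKrullDim_eq_ringKrullDim]
  refine GrothLib.Dim.IsEmbedding.topologicalKrullDim_eq
    (f := fun q => X.fromSpecStalk x (PrimeSpectrum.comap π q))
    ((X.fromSpecStalk x).isEmbedding.comp
      (PrimeSpectrum.isClosedEmbedding_comap_of_surjective _ π Ideal.Quotient.mk_surjective).isEmbedding) ?_
  ext t
  constructor
  · rintro ⟨q, rfl⟩
    exact ⟨(mem_support_stalk_iff F hF x _).mp (hrange.le ⟨q, rfl⟩),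
      (Scheme.range_fromSpecStalk (x := x)).le ⟨_, rfl⟩⟩
  · rintro ⟨ht, htx⟩
    obtain ⟨q, rfl⟩ := (Scheme.range_fromSpecStalk (x := x)).ge (show t ∈ {y | y ⤳ x} from htx)
    obtain ⟨q', hq'⟩ := hrange.ge ((mem_support_stalk_iff F hF x q).mpr ht)
    exact ⟨q', congrArg (X.fromSpecStalk x) hq'⟩

theorem resTrdeg_eq_zero_of_isClosed (p : X ⟶ S) [LocallyOfFiniteType p] {x : X} (hx : IsClosed ({x} : Set X)) :
    Dual3.resTrdeg p x = (0 : ℕ) := by
  obtain ⟨s, hs, hsd⟩ := GrothLib.Altitude.exists_trdeg_eq_dim_closure p x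
  have hc : IsClosed ({p.asFiber x} : Set (p.fiber (p x))) := by
    have := hx.preimage (p.fiberι (p x)).continuous
    convert this using 1
    ext a
    exact ⟨fun h => by rw [Set.mem_singleton_iff.mp h]; exact p.fiberι_asFiber x,
      fun h => (p.fiberι (p x)).isEmbedding.injective
        ((Set.mem_singleton_iff.mp h).trans (p.fiberι_asFiber x).symm)⟩
  rw [hc.closure_eq] at hsd
  have h0 : topologicalKrullDim ↥({p.asFiber x} : Set (p.fiber (p x))) ≤ 0 :=
    topologicalKrullDim_zero_of_discreteTopology _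
  rw [hsd] at h0
  rw [show (0 : ℕ) = s from (Nat.le_zero.mp (by exact_mod_cast h0)).symm]
  exact hs

/-- Schemes of finite type over such a base are again such. -/
theorem good_of_locallyOfFiniteType [IsLocallyNoetherian S] [JacobsonSpace S]
    (hcat : ∀ s : S, CAlg.IsUniversallyCatenary (S.presheaf.stalk s))
    (h3 : ∀ S' ∈ irreducibleComponents (S : Type u), ∀ s ∈ S', IsClosed ({s} : Set S) →
      topologicalKrullDim (↥S' : Type u) = topologicalKrullDim ↥{t : S | t ∈ S' ∧ t ⤳ s})
    (g : X ⟶ S) [LocallyOfFiniteType g] :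
    (∀ x : X, CAlg.IsUniversallyCatenary (X.presheaf.stalk x)) ∧
      ∀ X' ∈ irreducibleComponents (X : Type u), ∀ x ∈ X', IsClosed ({x} : Set X) →
        topologicalKrullDim (↥X' : Type u) = topologicalKrullDim ↥{t : X | t ∈ X' ∧ t ⤳ x} := by
  haveI := LocallyOfFiniteType.isLocallyNoetherian g
  refine ⟨fun x => ?_, fun X' hX' x hx hxc => ?_⟩
  · letI := (g.stalkMap x).hom.toAlgebra
    haveI : Algebra.EssFiniteType (S.presheaf.stalk (g x)) (X.presheaf.stalk x) := LocallyOfFiniteType.stalkMap g x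
    exact GrothLib.CatBasics.isUniversallyCatenary_of_essFiniteType (A := S.presheaf.stalk (g x)) (hcat _)
  · obtain ⟨ξ, rfl⟩ : ∃ ξ : X, closure {ξ} = X' :=
      ⟨_, (hX'.1.isGenericPoint_genericPoint (isClosed_of_mem_irreducibleComponents _ hX')).def⟩
    have hξx : ξ ⤳ x := specializes_iff_mem_closure.mpr hx
    obtain ⟨Ss, j, _, _, hrange, hgen⟩ := exists_integral_closure ξ
    obtain ⟨k, hk, hk'⟩ := dim_specializing_closure_eq hξx
    rw [hk']
    obtain ⟨t, s, a, b, ht, hs, ha, hb, -, heq⟩ := GrothLib.Altitude.dim_locQuot_add_trdeg g hξx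
    have hak : a = k := by exact_mod_cast ha.symm.trans hk
    have hs0 : s = 0 := by exact_mod_cast (hs.symm.trans (resTrdeg_eq_zero_of_isClosed g hxc) :)
    have hgx : IsClosed ({g x} : Set S) := g.closePoints_subset_preimage_closedPoints hxc
    haveI : LocallyOfFiniteType (j ≫ g) := inferInstance
    obtain ⟨t', ht', hdim⟩ := dim_eq_of_irreducible hcat (j ≫ g) b fun s' h' hs' => by
      have hgen' : (j ≫ g) (genericPoint Ss) = g ξ := by rw [Scheme.Hom.comp_apply, hgen]
      have h'' : g ξ ⤳ s' := hgen' ▸ h'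
      rw [show ringKrullDim (Cyc.LocQuot s' ((j ≫ g) (genericPoint Ss)) h') =
          ringKrullDim (Cyc.LocQuot s' (g ξ) h'') by subst hgen; rfl,
        dim_locQuot_const hcat h3 h'' (hξx.map g.continuous) hs' hgx, hb]
    have htt : t' = t := by
      rw [GrothLib.AlgSp.resTrdeg_comp j g, GrothLib.AlgSp.resTrdeg_eq_zero_of_lqf j, add_zero, hgen] at ht'
      exact_mod_cast (ht'.symm.trans ht :)
    rw [← GrothLib.Dim.IsEmbedding.topologicalKrullDim_eq j.isEmbedding hrange, hdim]
    have := heq (hcat _)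
    rw [show b + t' = k by omega]

end GrothLib.Chev28
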