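import Groth.Agent.Lib.Chev28.UnibrConn
import Groth.Agent.Lib.FEt21.Spread
import Groth.Agent.Lib.GrpdQuot.InvariantOpen
import Mathlib.AlgebraicGeometry.Morphisms.Flat
import Mathlib.AlgebraicGeometry.Noetherian

/-!
Connectedness of complements for flat morphisms with geometrically reduced fibres to geometrically unibranch
schemes.
-/

universe u

open CategoryTheory CategoryTheory.Limits AlgebraicGeometry TopologicalSpace Topology IsLocalRing

noncomputable section

namespace GrothLib.Chev28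

variable {X Y : Scheme.{u}}

/-- The morphisms of local schemes of a geometrically reduced morphism are geometrically reduced. -/
theorem geometricallyReduced_specStalk (f : X ⟶ Y) [GeometricallyReduced f] (x : X) :
    GeometricallyReduced (Spec.map (f.stalkMap x)) := by
  refine ⟨fun K _ y Z fst snd h => ?_⟩
  let ι := X.fromSpecStalk x
  let m := y ≫ Y.fromSpecStalk (f x)
  have h1 : IsPullback fst snd (ι ≫ f) m := by
    have := GrothLib.FEt21.isPullback_comp_mono h (Y.fromSpecStalk (f x))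
    rwa [Scheme.SpecMap_stalkMap_fromSpecStalk] at this
  haveI : IsReduced (pullback f m) :=
    GeometricallyReduced.geometrically_isReduced _ _ _ (IsPullback.of_hasPullback f m)
  let j : Z ⟶ pullback f m := pullback.lift (fst ≫ ι) snd (by rw [Category.assoc]; exact h1.w)
  have hj₁ : j ≫ pullback.fst f m = fst ≫ ι := pullback.lift_fst _ _ _
  have hj₂ : j ≫ pullback.snd f m = snd := pullback.lift_snd _ _ _
  have h2 : IsPullback fst j ι (pullback.fst f m) :=
    IsPullback.of_bot (hj₂.symm ▸ h1) hj₁.symm (IsPullback.of_hasPullback f m)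
  haveI : Flat ι := GrothLib.FEt21.flat_fromSpecStalk x
  haveI : Flat j := MorphismProperty.of_isPullback h2 ‹Flat ι›
  haveI : IsPreimmersion j := MorphismProperty.of_isPullback h2 (inferInstance : IsPreimmersion ι)
  haveI : ∀ z, _root_.IsReduced (Z.presheaf.stalk z) := fun z => by
    letI := (j.stalkMap z).hom.toAlgebra
    haveI : Module.Flat _ _ := Flat.stalkMap j z
    haveI : IsLocalHom (algebraMap ((pullback f m).presheaf.stalk (j z)) (Z.presheaf.stalk z)) :=
      inferInstanceAs (IsLocalHom (j.stalkMap z).hom)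
    haveI := Module.FaithfullyFlat.of_flat_of_isLocalHom (A := (pullback f m).presheaf.stalk (j z))
      (B := Z.presheaf.stalk z)
    let e := RingEquiv.ofBijective (algebraMap ((pullback f m).presheaf.stalk (j z)) (Z.presheaf.stalk z))
      ⟨FaithfulSMul.algebraMap_injective _ _, j.stalkMap_surjective z⟩
    exact isReduced_of_injective e.symm.toRingHom e.symm.injective
  exact isReduced_of_isReduced_stalk Z

/-- A maximal point of a locally Noetherian scheme lies on no nowhere dense closed subset. -/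
theorem notMem_of_maximal [IsLocallyNoetherian Y] {ξ : Y} (hξ : ∀ z, z ⤳ ξ → z = ξ) {C : Set Y}
    (hC : IsClosed C) (hC' : interior C = ∅) : ξ ∉ C := by
  intro hξC
  let U : Y.Opens := ⟨Cᶜ, hC.isOpen_compl⟩
  have h : ξ ∈ closure (U.ι '' Set.univ) := by
    rw [Set.image_univ, Scheme.Opens.range_ι, show (U : Set Y) = Cᶜ from rfl, closure_compl, hC',
      Set.compl_empty]
    trivial
  obtain ⟨z, -, hz⟩ := GrothLib.GrpdQuot.exists_specializes_of_mem_closure U.ι Set.univ isClosed_univ ξ h
  exact z.2 (show U.ι z ∈ C from (hξ _ hz).symm ▸ hξC)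

/-- If every local scheme of a connected locally Noetherian scheme stays connected on removing a closed set,
so does the scheme. -/
theorem isConnected_compl_of_local [IsLocallyNoetherian X] [ConnectedSpace ↥X] {T : Set X} (hT : IsClosed T)
    (h : ∀ x : X, _root_.IsConnected ((X.fromSpecStalk x) ⁻¹' T)ᶜ) : _root_.IsConnected Tᶜ := by
  have hgen : ∀ x : X, ∃ z ∈ Tᶜ, z ⤳ x := fun x => by
    obtain ⟨q, hq⟩ := (h x).nonempty
    exact ⟨X.fromSpecStalk x q, hq, (Scheme.range_fromSpecStalk (x := x)).le ⟨q, rfl⟩⟩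
  obtain ⟨x₀⟩ := (inferInstance : Nonempty ↥X)
  obtain ⟨z₀, hz₀, -⟩ := hgen x₀
  refine ⟨⟨z₀, hz₀⟩, isPreconnected_iff_subset_of_disjoint.mpr fun u v hu hv hsub hdisj => ?_⟩
  by_contra hne
  simp only [not_or, Set.not_subset] at hne
  obtain ⟨⟨p, hp, hpu⟩, ⟨p', hp', hp'v⟩⟩ := hne
  let U : X.Opens := ⟨Tᶜ ∩ u, hT.isOpen_compl.inter hu⟩
  let V : X.Opens := ⟨Tᶜ ∩ v, hT.isOpen_compl.inter hv⟩
  have hU : p' ∈ U := ⟨hp', (hsub hp').resolve_right hp'v⟩
  have hV : p ∈ V := ⟨hp, (hsub hp).resolve_left hpu⟩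
  have hcov : closure (U : Set X) ∪ closure (V : Set X) = Set.univ := Set.eq_univ_of_forall fun x => by
    obtain ⟨z, hz, hzx⟩ := hgen x
    rcases hsub hz with hzu | hzv
    · exact Or.inl (closure_mono (Set.singleton_subset_iff.mpr (show z ∈ (U : Set X) from ⟨hz, hzu⟩)) hzx.mem_closure)
    · exact Or.inr (closure_mono (Set.singleton_subset_iff.mpr (show z ∈ (V : Set X) from ⟨hz, hzv⟩)) hzx.mem_closure)
  obtain ⟨x, -, hxU, hxV⟩ := isPreconnected_closed_iff.mp isPreconnected_univ _ _ isClosed_closure isClosed_closure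
    hcov.ge ⟨p', trivial, subset_closure hU⟩ ⟨p, trivial, subset_closure hV⟩
  have key : ∀ (W : X.Opens), x ∈ closure (W : Set X) → ∃ q, X.fromSpecStalk x q ∈ W := by
    intro W hW
    obtain ⟨z, -, hz⟩ := GrothLib.GrpdQuot.exists_specializes_of_mem_closure W.ι Set.univ isClosed_univ x
      (by rwa [Set.image_univ, Scheme.Opens.range_ι])
    obtain ⟨q, hq⟩ := (Scheme.range_fromSpecStalk (x := x)).ge hz
    exact ⟨q, hq.symm ▸ z.2⟩
  obtain ⟨q₁, hq₁⟩ := key U hxU
  obtain ⟨q₂, hq₂⟩ := key V hxV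
  have himg := (h x).isPreconnected.image _ (X.fromSpecStalk x).continuous.continuousOn
  have himgsub : X.fromSpecStalk x '' ((X.fromSpecStalk x) ⁻¹' T)ᶜ ⊆ Tᶜ := by
    rintro _ ⟨q, hq, rfl⟩
    exact hq
  obtain ⟨w, hw, hwu, hwv⟩ := himg u v hu hv (himgsub.trans hsub) ⟨_, ⟨q₁, hq₁.1, rfl⟩, hq₁.2⟩
    ⟨_, ⟨q₂, hq₂.1, rfl⟩, hq₂.2⟩
  exact Set.eq_empty_iff_forall_notMem.mp hdisj w ⟨himgsub hw, hwu, hwv⟩

/-- EGA IV 18.9: complements of closed sets with nowhere dense image, globally. -/
theorem isConnected_compl_of_geomUnibranch_global [IsLocallyNoetherian X]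
    [IsLocallyNoetherian Y] [ConnectedSpace ↥X] (hY : ∀ y : Y, CAlg2.IsGeomUnibranch (Y.presheaf.stalk y))
    (f : X ⟶ Y) [Flat f] [GeometricallyReduced f]
    (T : Set ↥X) (hT : IsClosed T) (hT' : interior (closure (f.base '' T)) = ∅) :
    _root_.IsConnected Tᶜ := by
  refine isConnected_compl_of_local hT fun x => ?_
  let A := Y.presheaf.stalk (f x)
  let B := X.presheaf.stalk x
  letI : Algebra A B := (f.stalkMap x).hom.toAlgebra
  haveI : IsLocalHom (algebraMap A B) := inferInstanceAs (IsLocalHom (f.stalkMap x).hom)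
  haveI : Module.Flat A B := Flat.stalkMap f x
  haveI : GeometricallyReduced (Spec.map (CommRingCat.ofHom (algebraMap A B))) :=
    geometricallyReduced_specStalk f x
  haveI hn : (nilradical A).IsPrime := by
    haveI : IsDomain (A ⧸ nilradical A) := (hY (f x)).1.1
    exact (Ideal.Quotient.isDomain_iff_prime _).mp inferInstance
  let η : PrimeSpectrum A := ⟨nilradical A, hn⟩
  let m := Y.fromSpecStalk (f x)
  have hη : ∀ q : PrimeSpectrum A, η ⤳ q := fun q =>
    (PrimeSpectrum.le_iff_specializes η q).mp (nilradical_le_prime q.asIdeal)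
  have hmax : ∀ z, z ⤳ m η → z = m η := by
    intro z hz
    obtain ⟨q, rfl⟩ := (Scheme.range_fromSpecStalk (x := f x)).ge
      (hz.trans ((Scheme.range_fromSpecStalk (x := f x)).le ⟨η, rfl⟩))
    have h1 : q ⤳ η := m.isEmbedding.isInducing.specializes_iff.mp hz
    exact congrArg m (h1.antisymm (hη q)).eq
  refine GrothLib.Chev28.isConnected_compl_of_geomUnibranch A B (hY (f x)) _ ?_
  by_contra hne
  obtain ⟨p, hp⟩ := Set.nonempty_iff_ne_empty.mpr hne
  refine notMem_of_maximal hmax isClosed_closure hT' ?_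
  have h1 : η ∈ interior (closure (PrimeSpectrum.comap (algebraMap A B) '' ((X.fromSpecStalk x) ⁻¹' T))) :=
    (hη p).mem_open isOpen_interior hp
  refine closure_mono ?_ (map_mem_closure m.continuous (interior_subset h1) (t := m '' _) (fun a ha => ⟨a, ha, rfl⟩))
  rintro _ ⟨_, ⟨q, hq, rfl⟩, rfl⟩
  refine ⟨_, hq, ?_⟩
  exact (congrArg (fun g : Spec (X.presheaf.stalk x) ⟶ Y => g q)
    (Scheme.SpecMap_stalkMap_fromSpecStalk f (x := x))).symm

end GrothLib.Chev28
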