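import Groth.Agent.Lib.Chev28.Unibranch
import Groth.Agent.Lib.Chev28.NormalOpen
import Mathlib.FieldTheory.Minpoly.IsIntegrallyClosed
import Mathlib.RingTheory.Finiteness.ModuleFinitePresentation
import Mathlib.AlgebraicGeometry.Morphisms.QuasiFinite

/-!
Openness over unibranch points (EGA IV 14.4.1.3, SGA 3 X 1.3.1).
-/

universe u

open CategoryTheory CategoryTheory.Limits AlgebraicGeometry TopologicalSpace Topology IsLocalRing

noncomputable section

namespace GrothLib.Chev28

/-- Over a unibranch point there is one prime of the normalization. -/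
theorem eq_of_comap_eq_of_isUnibranch {A : Type u} [CommRing A] [(nilradical A).IsPrime] (p : Ideal A) [p.IsPrime]
    (hu : CAlg2.IsUnibranch (Localization.AtPrime p))
    (q₁ q₂ : Ideal (integralClosure A (FractionRing (A ⧸ nilradical A)))) [q₁.IsPrime] [q₂.IsPrime]
    (h₁ : q₁.comap (algebraMap A _) = p) (h₂ : q₂.comap (algebraMap A _) = p) : q₁ = q₂ := by
  classical
  let A₁ := A ⧸ nilradical A
  let K := FractionRing A₁
  let Ap := Localization.AtPrime p
  let D := CAlg2.red Ap
  haveI : IsDomain D := hu.1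
  haveI : IsLocalRing (CAlg2.normRed Ap) := hu.2
  let π : A →+* D := (Ideal.Quotient.mk (nilradical Ap)).comp (algebraMap A Ap)
  have hπ : ∀ a : A, π a = 0 → a ∈ nilradical A := by
    intro a ha
    obtain ⟨n, hn'⟩ := (Ideal.Quotient.eq_zero_iff_mem.mp ha : algebraMap A Ap a ∈ nilradical Ap)
    have hn : algebraMap A Ap a ^ n = 0 := hn'
    rw [← map_pow, IsLocalization.map_eq_zero_iff p.primeCompl] at hn
    obtain ⟨⟨s, hs⟩, hsn⟩ := hn
    refine (‹(nilradical A).IsPrime›).mem_of_pow_mem n
      (((‹(nilradical A).IsPrime›).mem_or_mem (hsn.symm ▸ zero_mem _ : s * a ^ n ∈ nilradical A)).resolve_left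
        fun h => hs (nilradical_le_prime p h))
  let π₁ : A₁ →+* D := Ideal.Quotient.lift (nilradical A) π fun a ha => by
    obtain ⟨n, hn⟩ := ha
    exact IsNilpotent.eq_zero (⟨n, by rw [← map_pow, hn, map_zero]⟩ : IsNilpotent (π a))
  have hπ₁ : Function.Injective π₁ := RingHom.lift_injective_of_ker_le_ideal _ _ hπ
  let K' := FractionRing D
  let ρ : K →+* K' := IsFractionRing.lift (g := (algebraMap D K').comp π₁)
    ((IsFractionRing.injective D K').comp hπ₁)
  have hρA : ∀ a : A, ρ (algebraMap A K a) = algebraMap D K' (π a) := fun a => by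
    rw [IsScalarTower.algebraMap_apply A A₁ K, IsFractionRing.lift_algebraMap]
    rfl
  let N := integralClosure A K
  let ψ : N →+* CAlg2.normRed Ap :=
    RingHom.codRestrict (ρ.comp N.val.toRingHom) _ fun x =>
      IsIntegral.map_of_comp_eq π ρ (RingHom.ext fun a => (hρA a).symm) x.2
  let q₀ := (maximalIdeal (CAlg2.normRed Ap)).comap ψ
  haveI : q₀.IsPrime := Ideal.comap_isPrime _ _
  have hq₀ : q₀.comap (algebraMap A N) ≤ p := by
    intro a ha
    by_contra hap
    have h1 : IsUnit (algebraMap D (CAlg2.normRed Ap) (π a)) :=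
      ((IsLocalization.map_units Ap (⟨a, hap⟩ : p.primeCompl)).map (Ideal.Quotient.mk (nilradical Ap))).map _
    have h2 : ψ (algebraMap A N a) = algebraMap D (CAlg2.normRed Ap) (π a) := Subtype.ext (hρA a)
    exact (IsLocalRing.mem_maximalIdeal _).mp (h2 ▸ ha : _ ∈ maximalIdeal (CAlg2.normRed Ap)) h1
  have key : ∀ q : Ideal N, q.IsPrime → q.comap (algebraMap A N) = p → q = q₀ := by
    intro q hq hqp
    have hle : q ≤ q₀ := by
      intro n hn
      refine (IsLocalRing.mem_maximalIdeal _).mpr fun hu' => ?_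
      obtain ⟨z, hz⟩ := hu'.exists_right_inv
      have hn0 : (n : K) ≠ 0 := fun h0 => by
        have : ψ n = 0 := Subtype.ext (show ρ (n : K) = 0 by rw [h0, map_zero])
        rw [this, zero_mul] at hz
        exact zero_ne_one hz
      have hz' : (z : K') = ρ ((n : K)⁻¹) := by
        have h1 : ρ (n : K) * (z : K') = 1 := congrArg Subtype.val hz
        rw [map_inv₀]
        exact eq_inv_of_mul_eq_one_right h1
      have hzint : IsIntegral Ap (z : K') := by
        obtain ⟨P, hP, hPz⟩ := z.2
        obtain ⟨P', hP', -, hP'm⟩ := Polynomial.lifts_and_degree_eq_and_monic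
          (f := Ideal.Quotient.mk (nilradical Ap)) (p := P)
          ((Polynomial.lifts_iff_coeff_lifts P).mpr fun k => Ideal.Quotient.mk_surjective _) hP
        refine ⟨P', hP'm, ?_⟩
        rw [← hP', Polynomial.eval₂_map] at hPz
        exact hPz
      obtain ⟨⟨s, hs⟩, hsz⟩ := IsIntegral.exists_multiple_integral_of_isLocalization p.primeCompl _ hzint
      let ρ' : K →ₐ[A] K' := { ρ with commutes' := hρA }
      have hw : IsIntegral A (algebraMap A K s * (n : K)⁻¹) := by
        refine (isIntegral_algHom_iff ρ' ρ'.toRingHom.injective).mp ?_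
        have h1 : ρ' (algebraMap A K s * (n : K)⁻¹) = s • (z : K') := by
          rw [Algebra.smul_def, hz', map_mul, ρ'.commutes]
          rfl
        rw [h1]
        exact hsz
      refine hs ?_
      show s ∈ p
      rw [← hqp, Ideal.mem_comap, show algebraMap A N s = n * ⟨_, hw⟩ from Subtype.ext (by
        show algebraMap A K s = (n : K) * (algebraMap A K s * (n : K)⁻¹)
        rw [mul_comm (algebraMap A K s), ← mul_assoc, mul_inv_cancel₀ hn0, one_mul])]
      exact q.mul_mem_right _ hn
    by_contra hne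
    haveI := hq
    haveI : Algebra.IsIntegral A N := inferInstance
    exact absurd (le_antisymm (Ideal.comap_mono hle) (hqp ▸ hq₀))
      (Ideal.IsIntegral.comap_lt_comap (R := A) (lt_of_le_of_ne hle hne)).ne
  exact (key q₁ inferInstance h₁).trans (key q₂ inferInstance h₂).symm

/-- An integral map of irreducible spectra is open at points over unibranch points. -/
theorem isOpenAt_comap_of_isIntegral {A B : Type u} [CommRing A] [CommRing B] [IsDomain B] [Algebra A B]
    [Algebra.IsIntegral A B] (hker : RingHom.ker (algebraMap A B) = nilradical A) (Q : PrimeSpectrum B)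
    (hu : CAlg2.IsUnibranch (Localization.AtPrime (Q.asIdeal.comap (algebraMap A B)))) :
    EGA43.IsOpenAt (PrimeSpectrum.comap (algebraMap A B)) Q := by
  haveI : (nilradical A).IsPrime := hker ▸ RingHom.ker_isPrime (algebraMap A B)
  let A₁ := A ⧸ nilradical A
  let K := FractionRing A₁
  let L := FractionRing B
  let θ : A₁ →+* L := Ideal.Quotient.lift (nilradical A) (algebraMap A L) fun a ha => by
    rw [← hker, RingHom.mem_ker] at ha
    rw [IsScalarTower.algebraMap_apply A B L, ha, map_zero]
  have hθ : Function.Injective θ := RingHom.lift_injective_of_ker_le_ideal _ _ fun a ha => by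
    rw [RingHom.mem_ker, IsScalarTower.algebraMap_apply A B L] at ha
    rw [← hker, RingHom.mem_ker]
    exact IsFractionRing.injective B L (ha.trans (map_zero _).symm)
  let ρ : K →+* L := IsFractionRing.lift hθ
  have hρA : ∀ a, ρ (algebraMap A K a) = algebraMap A L a := fun a => by
    rw [IsScalarTower.algebraMap_apply A A₁ K, IsFractionRing.lift_algebraMap]
    rfl
  let N := integralClosure A K
  haveI : IsIntegrallyClosed N := by
    haveI : IsFractionRing N K := by
      refine IsFractionRing.of_field N K fun z => ?_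
      obtain ⟨⟨a, b, hb⟩, h⟩ := IsLocalization.surj (nonZeroDivisors A₁) z
      obtain ⟨a, rfl⟩ := Ideal.Quotient.mk_surjective a
      obtain ⟨b, rfl⟩ := Ideal.Quotient.mk_surjective b
      refine ⟨algebraMap A N a, algebraMap A N b, ?_⟩
      have hb0 : algebraMap A K b ≠ 0 := fun h0 =>
        nonZeroDivisors.ne_zero hb (IsFractionRing.injective A₁ K (h0.trans (map_zero _).symm))
      show z = algebraMap A K a / algebraMap A K b
      rw [eq_div_iff hb0]
      exact h
    exact (isIntegrallyClosed_iff K).mpr fun {x} hx => ⟨⟨x, isIntegral_trans x hx⟩, rfl⟩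
  let C := integralClosure A L
  let hNC : N →+* C := RingHom.codRestrict (ρ.comp N.val.toRingHom) _
    fun x => x.2.map ({ ρ with commutes' := hρA } : K →ₐ[A] L)
  have hBC : ∀ b : B, algebraMap B L b ∈ C := fun b =>
    (Algebra.IsIntegral.isIntegral (R := A) b).map (IsScalarTower.toAlgHom A B L)
  let gC : B →+* C := RingHom.codRestrict (algebraMap B L) _ hBC
  letI : Algebra N C := hNC.toAlgebra
  haveI : IsScalarTower A N C := IsScalarTower.of_algebraMap_eq fun a => Subtype.ext (hρA a).symm
  haveI : Algebra.IsIntegral N C := Algebra.IsIntegral.tower_top (R := A)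
  haveI : Module.IsTorsionFree N C := Module.IsTorsionFree.of_smul_eq_zero fun n c h => by
    rw [Algebra.smul_def, mul_eq_zero] at h
    exact h.imp_left fun h0 => Subtype.ext (ρ.injective ((congrArg Subtype.val h0).trans (map_zero _).symm))
  have hgCA : gC.comp (algebraMap A B) = algebraMap A C :=
    RingHom.ext fun a => Subtype.ext (IsScalarTower.algebraMap_apply A B L a).symm
  have hgCi : Function.Injective gC := fun a c he => IsFractionRing.injective B L (congrArg Subtype.val he)
  have hgC : gC.IsIntegral := RingHom.IsIntegral.tower_top (algebraMap A B) gC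
    (by rw [hgCA]; exact algebraMap_isIntegral_iff.mpr inferInstance)
  intro U hU
  obtain ⟨V, hVU, hVo, hQV⟩ := mem_nhds_iff.mp hU
  obtain ⟨_, ⟨g, rfl⟩, hgQ, hgV⟩ :=
    PrimeSpectrum.isTopologicalBasis_basic_opens.exists_subset_of_mem_open hQV hVo
  refine Filter.mem_of_superset ?_ (Set.image_mono (hgV.trans hVU))
  let h : C := gC g
  obtain ⟨S, hhS, ⟨e⟩⟩ : ∃ S : Subalgebra N C, h ∈ S ∧ Nonempty (AdjoinRoot (minpoly N h) ≃ₐ[N] S) :=
    ⟨Algebra.adjoin N ({h} : Set C), Algebra.subset_adjoin rfl,
      ⟨minpoly.equivAdjoin (R := N) (Algebra.IsIntegral.isIntegral h)⟩⟩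
  haveI : Module.Free N (AdjoinRoot (minpoly N h)) :=
    (minpoly.monic (Algebra.IsIntegral.isIntegral h)).free_adjoinRoot
  haveI : Module.Finite N (AdjoinRoot (minpoly N h)) :=
    (minpoly.monic (Algebra.IsIntegral.isIntegral h)).finite_adjoinRoot
  haveI : Module.Free N S := Module.Free.of_equiv e.toLinearEquiv
  haveI : Module.Finite N S := Module.Finite.equiv e.toLinearEquiv
  haveI : Module.FinitePresentation N S := Module.finitePresentation_of_projective N S
  haveI : Algebra.FinitePresentation N S := Algebra.FinitePresentation.of_finitePresentation N S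
  haveI : Algebra.HasGoingDown N S := Algebra.HasGoingDown.of_flat
  let hS : S := ⟨h, hhS⟩
  let W : Set (PrimeSpectrum N) :=
    PrimeSpectrum.comap (algebraMap N S) '' (PrimeSpectrum.basicOpen hS : Set (PrimeSpectrum S))
  have hWo : IsOpen W :=
    (PrimeSpectrum.isOpenMap_comap_of_hasGoingDown_of_finitePresentation (R := N) (S := S)) _
      (PrimeSpectrum.basicOpen hS).2
  have hBS : ∀ P : PrimeSpectrum S, hS ∉ P.asIdeal → ∃ P' : PrimeSpectrum B, g ∉ P'.asIdeal ∧
      PrimeSpectrum.comap (algebraMap A B) P' =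
        PrimeSpectrum.comap (algebraMap A N) (PrimeSpectrum.comap (algebraMap N S) P) := by
    intro P hP
    have hNCi : (algebraMap N C).IsIntegral := algebraMap_isIntegral_iff.mpr inferInstance
    haveI : Algebra.IsIntegral S C := Algebra.IsIntegral.tower_top (R := N)
    haveI : FaithfulSMul S C := (faithfulSMul_iff_algebraMap_injective _ _).mpr Subtype.val_injective
    obtain ⟨M, hM⟩ := (Algebra.IsIntegral.comap_surjective (R := ↥S) (S := ↥C)) P
    refine ⟨PrimeSpectrum.comap gC M, fun hgM => hP ?_, ?_⟩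
    · rw [← hM]
      exact hgM
    · rw [← hM, ← PrimeSpectrum.comap_comp_apply, ← PrimeSpectrum.comap_comp_apply, ← PrimeSpectrum.comap_comp_apply,
        hgCA, IsScalarTower.algebraMap_eq A N C]
      rfl
  -- the prime of the normalization over the point lies in `W`
  obtain ⟨MQ, hMQ⟩ := hgC.comap_surjective hgCi Q
  let q' : PrimeSpectrum N := PrimeSpectrum.comap (algebraMap N C) MQ
  have hq'W : q' ∈ W := by
    refine ⟨PrimeSpectrum.comap (algebraMap S C) MQ, fun hh => hgQ ?_, rfl⟩
    rw [← hMQ]
    exact hh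
  let p := PrimeSpectrum.comap (algebraMap A B) Q
  have hq'p : PrimeSpectrum.comap (algebraMap A N) q' = p := by
    show PrimeSpectrum.comap (algebraMap A N) (PrimeSpectrum.comap (algebraMap N C) MQ) =
      PrimeSpectrum.comap (algebraMap A B) Q
    rw [← hMQ, ← PrimeSpectrum.comap_comp_apply, ← PrimeSpectrum.comap_comp_apply, hgCA,
      ← IsScalarTower.algebraMap_eq]
  have hAN : (algebraMap A N).IsIntegral := algebraMap_isIntegral_iff.mpr inferInstance
  let Z := PrimeSpectrum.comap (algebraMap A N) '' Wᶜ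
  have hZ : IsClosed Z := PrimeSpectrum.isClosedMap_comap_of_isIntegral _ hAN _ hWo.isClosed_compl
  have hpZ : p ∉ Z := by
    rintro ⟨q, hq, hqp⟩
    refine hq ?_
    rw [show q = q' from PrimeSpectrum.ext (eq_of_comap_eq_of_isUnibranch p.asIdeal hu q.asIdeal q'.asIdeal
      (congrArg PrimeSpectrum.asIdeal hqp) (congrArg PrimeSpectrum.asIdeal hq'p))]
    exact hq'W
  refine Filter.mem_of_superset (hZ.isOpen_compl.mem_nhds hpZ) fun x hx => ?_
  obtain ⟨q, rfl⟩ : x ∈ Set.range (PrimeSpectrum.comap (algebraMap A N)) := by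
    have hcl := (PrimeSpectrum.isClosedMap_comap_of_isIntegral _ hAN).isClosed_range
    have hd : DenseRange (PrimeSpectrum.comap (algebraMap A N)) := by
      rw [PrimeSpectrum.denseRange_comap_iff_ker_le_nilRadical]
      intro a ha
      have h0 : algebraMap A K a = 0 := congrArg Subtype.val (RingHom.mem_ker.mp ha)
      exact Ideal.Quotient.eq_zero_iff_mem.mp (IsFractionRing.injective A₁ K (h0.trans (map_zero _).symm))
    exact hcl.closure_eq ▸ hd x
  have hqW : q ∈ W := by
    by_contra hqW
    exact hx ⟨q, hqW, rfl⟩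
  obtain ⟨P, hP, rfl⟩ := hqW
  obtain ⟨P', hgP', hP'⟩ := hBS P hP
  exact ⟨P', hgP', hP'⟩

/-- The spectrum map of a domain of finite type is open at quasi-finite points over unibranch points. -/
theorem isOpenAt_comap_of_quasiFiniteAt_of_isUnibranch {T B : Type u} [CommRing T] [CommRing B] [IsDomain B]
    [Algebra T B] [Algebra.FiniteType T B] (hker : RingHom.ker (algebraMap T B) = nilradical T)
    (Q : PrimeSpectrum B) [Algebra.QuasiFiniteAt T Q.asIdeal]
    (hu : CAlg2.IsUnibranch (Localization.AtPrime (Q.asIdeal.comap (algebraMap T B)))) :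
    EGA43.IsOpenAt (PrimeSpectrum.comap (algebraMap T B)) Q := by
  obtain ⟨S, hS, r, hr, hbij⟩ :=
    Algebra.QuasiFiniteAt.exists_fg_and_exists_notMem_and_awayMap_bijective (R := T) Q.asIdeal
  haveI : Module.Finite T S := Module.Finite.iff_fg.mpr hS
  haveI : Algebra.IsIntegral T S := Algebra.IsIntegral.of_finite T S
  have hkerS : RingHom.ker (algebraMap T S) = nilradical T := by
    rw [← hker]
    ext t
    simp only [RingHom.mem_ker]
    exact Subtype.ext_iff
  let val : S →+* B := S.val.toRingHom
  let ψ := Localization.awayMap val r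
  let e := RingEquiv.ofBijective ψ hbij
  have hsq : ∀ c : S, ψ (algebraMap S _ c) = algebraMap B _ (c : B) := fun c => by
    exact IsLocalization.map_eq _ c
  have hopen := isOpenAt_comap_of_isIntegral hkerS (PrimeSpectrum.comap val Q) (by
    have he : ∀ p₁ p₂ : PrimeSpectrum T, p₁ = p₂ → CAlg2.IsUnibranch (Localization.AtPrime p₁.asIdeal) →
        CAlg2.IsUnibranch (Localization.AtPrime p₂.asIdeal) := fun p₁ p₂ h hh => h ▸ hh
    exact he (PrimeSpectrum.comap (algebraMap T B) Q)
      (PrimeSpectrum.comap (algebraMap T S) (PrimeSpectrum.comap val Q)) rfl hu)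
  intro U hU
  obtain ⟨V, hVU, hVo, hQV⟩ := mem_nhds_iff.mp hU
  obtain ⟨_, ⟨g, rfl⟩, hgQ, hgV⟩ :=
    PrimeSpectrum.isTopologicalBasis_basic_opens.exists_subset_of_mem_open hQV hVo
  refine Filter.mem_of_superset ?_ (Set.image_mono (hgV.trans hVU))
  obtain ⟨c, ⟨_, k, rfl⟩, hc⟩ := IsLocalization.exists_mk'_eq (Submonoid.powers r)
    (e.symm (algebraMap B (Localization.Away (val r)) g))
  have hgc : g * (r : B) ^ k = (c : B) := by
    have hr0 : val r ≠ 0 := fun h => hr (show (r : B) ∈ Q.asIdeal by
      rw [show (r : B) = 0 from h]; exact zero_mem _)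
    refine IsLocalization.injective (Localization.Away (val r))
      (powers_le_nonZeroDivisors_of_noZeroDivisors hr0) ?_
    rw [← hsq c, map_mul, ← e.apply_symm_apply (algebraMap B (Localization.Away (val r)) g), ← hc,
      map_pow, ← hsq r, ← map_pow]
    change ψ _ * _ = _
    rw [← map_mul]
    congr 1
    rw [← map_pow]
    exact IsLocalization.mk'_spec _ c (⟨r ^ k, pow_mem (Submonoid.mem_powers r) k⟩ : Submonoid.powers r)
  have hsub : PrimeSpectrum.comap (algebraMap T S) '' (PrimeSpectrum.basicOpen (c * r) : Set (PrimeSpectrum S)) ⊆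
      PrimeSpectrum.comap (algebraMap T B) '' (PrimeSpectrum.basicOpen g : Set (PrimeSpectrum B)) := by
    rintro _ ⟨P, hP, rfl⟩
    have hcr : c * r ∉ P.asIdeal := hP
    have hrP : r ∉ P.asIdeal := fun h => hcr (P.asIdeal.mul_mem_left _ h)
    have hdisj : Disjoint (Submonoid.powers r : Set S) (P.asIdeal : Set S) :=
      Set.disjoint_left.mpr fun _ ⟨n, hn⟩ hz => hrP (P.isPrime.mem_of_pow_mem n (show r ^ n ∈ P.asIdeal by rw [show r ^ n = _ from hn]; exact hz))
    haveI := IsLocalization.isPrime_of_isPrime_disjoint (Submonoid.powers r) (Localization.Away r) P.asIdeal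
      P.isPrime hdisj
    let Pr := P.asIdeal.map (algebraMap S (Localization.Away r))
    haveI : (Pr.comap e.symm.toRingHom).IsPrime := Ideal.comap_isPrime _ _
    let PB : PrimeSpectrum B :=
      PrimeSpectrum.comap (algebraMap B (Localization.Away (val r))) ⟨Pr.comap e.symm.toRingHom, inferInstance⟩
    have hPB : PrimeSpectrum.comap val PB = P := by
      refine PrimeSpectrum.ext (Ideal.ext fun a => ?_)
      change e.symm (algebraMap B _ (a : B)) ∈ Pr ↔ a ∈ P.asIdeal
      rw [← hsq, show e.symm (ψ (algebraMap S _ a)) = algebraMap S _ a from e.symm_apply_apply _,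
        ← Ideal.mem_comap]
      rw [show Pr.comap (algebraMap S (Localization.Away r)) = P.asIdeal from
        IsLocalization.under_map_of_isPrime_disjoint (Submonoid.powers r) (Localization.Away r) P.isPrime hdisj]
    refine ⟨PB, fun hg => hcr (P.asIdeal.mul_mem_right _ ?_), ?_⟩
    · rw [← hPB]
      change (c : B) ∈ PB.asIdeal
      rw [← hgc]
      exact PB.asIdeal.mul_mem_right _ hg
    · rw [← hPB, ← PrimeSpectrum.comap_comp_apply]
      rfl
  refine Filter.mem_of_superset ?_ hsub
  rw [show PrimeSpectrum.comap (algebraMap T B) Q =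
    PrimeSpectrum.comap (algebraMap T S) (PrimeSpectrum.comap val Q) from rfl]
  refine hopen _ ((PrimeSpectrum.basicOpen (c * r)).2.mem_nhds ?_)
  change ((c * r : S) : B) ∉ Q.asIdeal
  intro h
  rcases Q.isPrime.mem_or_mem h with h | h
  · rw [← hgc] at h
    rcases Q.isPrime.mem_or_mem h with h | h
    · exact hgQ h
    · exact hr (Q.isPrime.mem_of_pow_mem k h)
  · exact hr h

/-- A dominant morphism of irreducible schemes is open at isolated points of fibres over unibranch points. -/
theorem isOpenAt_of_isolated_of_isUnibranch {X Y : Scheme.{u}} [IrreducibleSpace X] [IrreducibleSpace Y]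
    (f : X ⟶ Y) [LocallyOfFiniteType f] (hf : DenseRange f.base) (x : X)
    (hx : (nhdsWithin x (f.base ⁻¹' {f.base x})) = pure x)
    (hy : CAlg2.IsUnibranch (Y.presheaf.stalk (f x))) : EGA43.IsOpenAt f.base x := by
  have hqf : f.QuasiFiniteAt x := by
    rw [Scheme.Hom.quasiFiniteAt_iff_isOpen_singleton_asFiber]
    have h1 : IsOpen ({⟨x, rfl⟩} : Set (f ⁻¹' {f x})) := by
      rw [isOpen_singleton_iff_nhds_eq_pure, nhds_subtype_eq_comap_nhdsWithin, hx, Filter.comap_pure]
      exact (Filter.principal_singleton _).symm ▸ congrArg Filter.principal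
        (Set.ext fun z => ⟨fun h => Subtype.ext h, fun h => congrArg Subtype.val h⟩)
    have h2 := (f.fiberHomeo (f x)).symm.isOpen_image.mpr h1
    rwa [Set.image_singleton] at h2
  obtain ⟨V, hV, hxV, -⟩ := exists_isAffineOpen_mem_and_subset (x := f x) (U := ⊤) trivial
  obtain ⟨U, hU, hxU, hUV⟩ := exists_isAffineOpen_mem_and_subset (x := x) (U := f ⁻¹ᵁ V) hxV
  let A : Type u := Γ(Y, V)
  let B : Type u := Γ(X, U)
  letI : Algebra A B := (f.appLE V U hUV).hom.toAlgebra
  have sq : hU.fromSpec ≫ f = Spec.map (CommRingCat.ofHom (algebraMap A B)) ≫ hV.fromSpec :=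
    (hV.SpecMap_appLE_fromSpec f hU hUV).symm
  haveI : Algebra.FiniteType A B := f.finiteType_appLE hV hU hUV
  have hsq : ∀ q : PrimeSpectrum B, f (hU.fromSpec q) = hV.fromSpec (PrimeSpectrum.comap (algebraMap A B) q) :=
    fun q => by rw [← Scheme.Hom.comp_apply, sq]; rfl
  let qx : PrimeSpectrum B := hU.primeIdealOf ⟨x, hxU⟩
  have hqx : hU.fromSpec qx = x := hU.fromSpec_primeIdealOf _
  haveI : Algebra.QuasiFiniteAt A qx.asIdeal := hqf.quasiFiniteAt hU hV hUV hxU
  have hgenU : genericPoint X ∈ U := (genericPoint_specializes x).mem_open U.2 hxU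
  let qg : PrimeSpectrum B := hU.primeIdealOf ⟨genericPoint X, hgenU⟩
  have hqg : hU.fromSpec qg = genericPoint X := hU.fromSpec_primeIdealOf _
  have hle : ∀ q : PrimeSpectrum B, qg.asIdeal ≤ q.asIdeal := fun q =>
    (PrimeSpectrum.le_iff_specializes qg q).mpr (hU.fromSpec.isEmbedding.isInducing.specializes_iff.mp
      (by rw [hqg]; exact genericPoint_specializes _))
  have hη : f (genericPoint X) = genericPoint Y := by
    have hg : IsGenericPoint (f (genericPoint X)) Set.univ := by
      have h := (genericPoint_spec X).image f.continuous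
      rwa [Set.image_univ, hf.closure_eq] at h
    exact hg.eq (genericPoint_spec Y)
  have hnilA : qg.asIdeal.comap (algebraMap A B) = nilradical A := by
    refine le_antisymm ?_ (nilradical_le_prime _)
    rw [nilradical_eq_sInf]
    refine le_sInf fun I hI => ?_
    refine (PrimeSpectrum.le_iff_specializes (PrimeSpectrum.comap (algebraMap A B) qg) ⟨I, hI⟩).mpr
      (hV.fromSpec.isEmbedding.isInducing.specializes_iff.mp ?_)
    rw [← hsq, hqg, hη]
    exact genericPoint_specializes _
  let B₁ := B ⧸ qg.asIdeal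
  have hmk := Ideal.Quotient.mk_surjective (I := qg.asIdeal)
  obtain ⟨Q, hQ⟩ : qx ∈ Set.range (PrimeSpectrum.comap (Ideal.Quotient.mk qg.asIdeal)) := by
    rw [range_comap_of_surjective _ _ hmk, Ideal.mk_ker, PrimeSpectrum.mem_zeroLocus]
    exact hle qx
  haveI : Algebra.QuasiFiniteAt A Q.asIdeal :=
    Algebra.QuasiFiniteAt.of_surjectiveOnStalks qx.asIdeal (Ideal.Quotient.mkₐ A qg.asIdeal)
      (RingHom.surjectiveOnStalks_of_surjective hmk) Q.asIdeal (congrArg PrimeSpectrum.asIdeal hQ).symm
  have hu : CAlg2.IsUnibranch (Localization.AtPrime (qx.asIdeal.comap (algebraMap A B))) := by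
    have key : ∀ (y : Y) (q : PrimeSpectrum A), hV.fromSpec q = y → CAlg2.IsUnibranch (Y.presheaf.stalk y) →
        CAlg2.IsUnibranch (Localization.AtPrime q.asIdeal) := by
      rintro _ q rfl h
      exact isUnibranch_of_ringEquiv ((asIso (hV.fromSpec.stalkMap q)).commRingCatIsoToRingEquiv.trans
        (StructureSheaf.stalkIso (CommRingCat.of A) q).toRingEquiv.symm) h
    exact key _ (PrimeSpectrum.comap (algebraMap A B) qx) (by rw [← hsq, hqx]) hy
  have hcomp : ∀ R : PrimeSpectrum B₁, PrimeSpectrum.comap (algebraMap A B₁) R =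
      PrimeSpectrum.comap (algebraMap A B) (PrimeSpectrum.comap (Ideal.Quotient.mk qg.asIdeal) R) := fun R => rfl
  have ho := isOpenAt_comap_of_quasiFiniteAt_of_isUnibranch (T := A) (B := B₁)
    (by
      rw [← hnilA]
      ext a
      rw [RingHom.mem_ker, IsScalarTower.algebraMap_apply A B B₁, Ideal.Quotient.algebraMap_eq,
        Ideal.Quotient.eq_zero_iff_mem]
      rfl) Q (by
      have he : ∀ p₁ p₂ : PrimeSpectrum A, p₁ = p₂ → CAlg2.IsUnibranch (Localization.AtPrime p₁.asIdeal) →
          CAlg2.IsUnibranch (Localization.AtPrime p₂.asIdeal) := fun p₁ p₂ h hh => h ▸ hh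
      exact he (PrimeSpectrum.comap (algebraMap A B) qx) (PrimeSpectrum.comap (algebraMap A B₁) Q)
        (by rw [hcomp, hQ]) hu)
  intro O hO
  have h2 := ho _ ((PrimeSpectrum.continuous_comap (Ideal.Quotient.mk qg.asIdeal)).continuousAt.preimage_mem_nhds
    (hU.fromSpec.continuous.continuousAt.preimage_mem_nhds (by rw [hQ, hqx]; exact hO)))
  have h3 := hV.fromSpec.isOpenEmbedding.isOpenMap.image_mem_nhds h2
  rw [hcomp, hQ, ← hsq, hqx] at h3
  refine Filter.mem_of_superset h3 ?_
  rintro _ ⟨_, ⟨R, hR, rfl⟩, rfl⟩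
  exact ⟨_, hR, by rw [hcomp, ← hsq]⟩

end GrothLib.Chev28
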