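import Groth.Agent.Lib.Chev28.UnibrConnGlobal
import Mathlib.RingTheory.Flat.EquationalCriterion

/-!
Connectedness of punctured flat local schemes over geometrically unibranch local domains of dimension at least two.
-/

universe u

open CategoryTheory CategoryTheory.Limits AlgebraicGeometry TopologicalSpace Topology IsLocalRing
open TensorProduct

noncomputable section

namespace GrothLib.Chev28

/-- In an integral extension with a Krull family of a local domain of dimension at least two, some pair of
elements of the maximal ideal is regular, together with its powers. -/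
theorem exists_regular_pair {A A' : Type u} [CommRing A] [IsDomain A] [IsLocalRing A] [CommRing A'] [IsDomain A']
    [IsLocalRing A'] [Algebra A A'] [Algebra.IsIntegral A A'] (hinj : Function.Injective (algebraMap A A'))
    {ι : Type u} (F : GrothLib.Krull.Family A' ι) (hdim : 2 ≤ ringKrullDim A) :
    ∃ a ∈ maximalIdeal A, ∃ b ∈ maximalIdeal A, a ≠ 0 ∧ b ≠ 0 ∧
      ∀ (n : ℕ) (t : A'), algebraMap A A' a ^ n ∣ algebraMap A A' b ^ n * t → algebraMap A A' a ^ n ∣ t := by
  classical
  have hheight : ∀ P : Ideal A', P.IsPrime → P.height = 1 → P.comap (algebraMap A A') ≠ maximalIdeal A := by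
    intro P hP hP1 hc
    haveI : (P.comap (algebraMap A A')).IsMaximal := hc ▸ maximalIdeal.isMaximal A
    have hPm : P = maximalIdeal A' :=
      IsLocalRing.eq_maximalIdeal (Ideal.isMaximal_of_isIntegral_of_isMaximal_comap (R := A) P inferInstance)
    have hle : Ring.KrullDimLE 1 A := by
      refine Ring.krullDimLE_one_iff.mpr fun q hq => ?_
      by_cases hq0 : q = ⊥
      · exact Or.inl (by rw [hq0, IsDomain.minimalPrimes_eq_singleton_bot]; rfl)
      right
      haveI : Algebra.IsIntegral A A' := inferInstance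
      obtain ⟨P', hP', hP'q⟩ : ∃ P' : Ideal A', P'.IsPrime ∧ P'.comap (algebraMap A A') = q := by
        obtain ⟨⟨P', hP'⟩, h⟩ := RingHom.IsIntegral.comap_surjective
          (algebraMap_isIntegral_iff.mpr (inferInstance : Algebra.IsIntegral A A')) hinj ⟨q, hq⟩
        exact ⟨P', hP', congrArg PrimeSpectrum.asIdeal h⟩
      haveI := hP'
      have hP'0 : P' ≠ ⊥ := fun h => hq0 (by
        rw [← hP'q, h, ← RingHom.ker_eq_comap_bot, (RingHom.injective_iff_ker_eq_bot _).mp hinj])
      rcases (hPm ▸ le_maximalIdeal hP'.ne_top : P' ≤ P).eq_or_lt with h | h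
      · rw [← hP'q, h, hc]
        exact maximalIdeal.isMaximal A
      · have h1 := Ideal.height_add_one_le_of_lt_of_isPrime h
        have h2 := Ideal.height_add_one_le_of_lt_of_isPrime (bot_lt_iff_ne_bot.2 hP'0)
        rw [hP1] at h1
        exact absurd ((add_le_add_left (h2.trans' le_add_self) 1).trans h1) (by decide)
    have h1 : ringKrullDim A ≤ 1 := Ring.krullDimLE_iff.mp hle
    exact absurd (hdim.trans h1) (by decide)
  obtain ⟨a, ha, ha0⟩ : ∃ a ∈ maximalIdeal A, a ≠ 0 := by
    refine Submodule.exists_mem_ne_zero_of_ne_bot fun h => ?_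
    have : IsField A := IsLocalRing.isField_iff_maximalIdeal_eq.mpr h
    rw [ringKrullDim_eq_zero_of_isField this] at hdim
    exact absurd hdim (by decide)
  have ha0' : algebraMap A A' a ≠ 0 := fun h => ha0 (hinj (h.trans (map_zero _).symm))
  let S : Set (Ideal A') := {P | P.IsPrime ∧ P.height = 1 ∧ algebraMap A A' a ∈ P}
  have hS : S.Finite := by
    refine Set.Finite.subset (((F.finite _ ha0').image fun i =>
      if h : ∃ P : Ideal A', ∀ r, r ∈ P ↔ F.val i r ≠ 0 then h.choose else ⊥)) ?_
    rintro P ⟨hP, hP1, haP⟩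
    haveI := hP
    obtain ⟨c, i, -, hi, hPi⟩ := F.exists_centre_of_height_one P hP1 haP ha0'
    refine ⟨i, hi, ?_⟩
    have hex : ∃ P : Ideal A', ∀ r, r ∈ P ↔ F.val i r ≠ 0 := ⟨P, hPi⟩
    simp only [dif_pos hex]
    exact Ideal.ext fun r => (hex.choose_spec r).trans (hPi r).symm
  let s : Finset (Ideal A) := insert ⊥ (hS.toFinset.image (Ideal.comap (algebraMap A A')))
  have hsP : ∀ q ∈ s, q.IsPrime ∧ q ≠ maximalIdeal A := by
    intro q hq
    rcases Finset.mem_insert.mp hq with rfl | hq
    · refine ⟨Ideal.isPrime_bot, fun h => ha0 ?_⟩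
      rw [← h] at ha
      exact ha
    · obtain ⟨P, hP, rfl⟩ := Finset.mem_image.mp hq
      obtain ⟨hP, hP1, -⟩ := hS.mem_toFinset.mp hP
      haveI := hP
      exact ⟨Ideal.comap_isPrime _ P, hheight P hP hP1⟩
  obtain ⟨b, hb, hbs⟩ : ∃ b ∈ maximalIdeal A, ∀ q ∈ s, b ∉ q := by
    by_contra! h
    obtain ⟨q, hq, hle⟩ := (Ideal.subset_union_prime (f := fun q : Ideal A => q) ⊥ ⊥ fun q hq _ _ => (hsP q hq).1).mp
      (show ((maximalIdeal A : Ideal A) : Set A) ⊆ ⋃ q ∈ (s : Set (Ideal A)), (q : Set A) from fun x hx => by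
        obtain ⟨q, hq, hxq⟩ := h x hx
        exact Set.mem_biUnion hq hxq)
    exact (hsP q hq).2 (((maximalIdeal.isMaximal A).eq_of_le (hsP q hq).1.ne_top hle).symm)
  refine ⟨a, ha, b, hb, ha0, fun h => hbs ⊥ (Finset.mem_insert_self _ _) (h ▸ zero_mem _), fun n t hdvd => ?_⟩
  refine F.dvd_of_forall_height_one (pow_ne_zero n ha0') fun P hP hP1 => ?_
  haveI := hP
  by_cases hbP : algebraMap A A' b ∈ P
  · refine ⟨algebraMap A A' a ^ n, fun h => ?_, dvd_mul_right _ _⟩
    exact hbs _ (Finset.mem_insert_of_mem (Finset.mem_image.mpr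
      ⟨P, hS.mem_toFinset.mpr ⟨hP, hP1, hP.mem_of_pow_mem n h⟩, rfl⟩)) hbP
  · exact ⟨algebraMap A A' b ^ n, fun h => hbP (hP.mem_of_pow_mem n h), hdvd⟩

/-- Regularity of a pair passes to flat algebras. -/
theorem dvd_of_flat_of_pair {R E : Type u} [CommRing R] [IsDomain R] [CommRing E] [Algebra R E] [Module.Flat R E]
    {a b : R} (hab : ∀ t, a ∣ b * t → a ∣ t) {x z : E} (h : algebraMap R E b * z = algebraMap R E a * x) :
    algebraMap R E a ∣ z := by
  obtain ⟨k, c, y, hy, hc⟩ := Module.Flat.isTrivialRelation_of_sum_smul_eq_zero (R := R) (M := E)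
    (f := ![b, -a]) (x := ![z, x]) (by simp [Fin.sum_univ_two, Algebra.smul_def, h])
  have hd : ∀ j, a ∣ c 0 j := fun j => hab _ ⟨c 1 j, by
    have := hc j
    rw [Fin.sum_univ_two] at this
    simp at this
    linear_combination this⟩
  rw [show z = ∑ j, c 0 j • y j from hy 0]
  exact Finset.dvd_sum fun j _ => by
    rw [Algebra.smul_def]
    exact ((map_dvd (algebraMap R E) (hd j)).mul_right _)

/-- On the punctured spectrum of a ring with connected spectrum cut out by a regular pair, no nontrivial open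
decomposition exists. -/
theorem isPreconnected_basicOpen_union {E : Type u} [CommRing E] {α β : E}
    (hid : ∀ z : E, z * z = z → z = 0 ∨ z = 1) (hα : α ∈ nonZeroDivisors E) (hβ : β ∈ nonZeroDivisors E)
    (hreg : ∀ (n : ℕ) (x z : E), β ^ n * z = α ^ n * x → α ^ n ∣ z) :
    _root_.IsPreconnected ((PrimeSpectrum.basicOpen α : Set (PrimeSpectrum E)) ∪ PrimeSpectrum.basicOpen β) := by
  refine isPreconnected_iff_subset_of_disjoint.mpr fun u v hu hv hsub hdisj => ?_
  have key : ∀ γ : E, γ ∈ nonZeroDivisors E →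
      (PrimeSpectrum.basicOpen γ : Set (PrimeSpectrum E)) ⊆ u ∪ v →
      (PrimeSpectrum.basicOpen γ : Set (PrimeSpectrum E)) ∩ (u ∩ v) = ∅ →
      ∃ n : ℕ, ∀ m, n ≤ m → ∃ x : E, x * x = γ ^ m * x ∧
        ∀ P ∈ PrimeSpectrum.basicOpen γ, (P ∈ u ↔ x ∉ P.asIdeal) := by
    intro γ hγ hsubγ hdisjγ
    let L := Localization.Away γ
    let c := PrimeSpectrum.comap (algebraMap E L)
    have hcmem : ∀ Q, c Q ∈ (PrimeSpectrum.basicOpen γ : Set (PrimeSpectrum E)) := fun Q => by
      rw [← PrimeSpectrum.localization_away_comap_range L γ]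
      exact ⟨Q, rfl⟩
    have hcl : IsClopen (c ⁻¹' u) := by
      refine ⟨⟨?_⟩, hu.preimage (PrimeSpectrum.continuous_comap _)⟩
      have : (c ⁻¹' u)ᶜ = c ⁻¹' v := by
        ext Q
        constructor
        · exact fun h => (hsubγ (hcmem Q)).resolve_left h
        · exact fun h h' => Set.eq_empty_iff_forall_notMem.mp hdisjγ _ ⟨hcmem Q, h', h⟩
      rw [this]
      exact hv.preimage (PrimeSpectrum.continuous_comap _)
    obtain ⟨e, he, hcu⟩ := PrimeSpectrum.isClopen_iff.mp hcl
    obtain ⟨⟨x, ⟨_, n, rfl⟩⟩, hx⟩ := IsLocalization.surj (Submonoid.powers γ) e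
    simp only at hx
    refine ⟨n, fun m hm => ?_⟩
    obtain ⟨k, rfl⟩ := Nat.exists_eq_add_of_le hm
    have hinj : Function.Injective (algebraMap E L) :=
      IsLocalization.injective L (Submonoid.powers_le.mpr hγ : Submonoid.powers γ ≤ nonZeroDivisors E)
    refine ⟨x * γ ^ k, hinj ?_, fun P hP => ?_⟩
    · simp only [map_mul, map_pow] at hx ⊢
      rw [← hx, pow_add]
      linear_combination (algebraMap E L γ ^ n * algebraMap E L γ ^ k) ^ 2 * he.eq
    · obtain ⟨Q, rfl⟩ := (PrimeSpectrum.localization_away_comap_range L γ).ge hP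
      show Q ∈ c ⁻¹' u ↔ _
      rw [hcu]
      show e ∉ Q.asIdeal ↔ algebraMap E L (x * γ ^ k) ∉ Q.asIdeal
      have hu' : IsUnit (algebraMap E L (γ ^ n) * algebraMap E L (γ ^ k)) := by
        rw [← map_mul, ← pow_add]
        exact IsLocalization.map_units L (⟨γ ^ (n + k), n + k, rfl⟩ : Submonoid.powers γ)
      rw [map_mul, ← hx, mul_assoc, Ideal.mul_unit_mem_iff_mem _ hu']
  obtain ⟨n₁, hn₁⟩ := key α hα (Set.subset_union_left.trans hsub) (Set.subset_empty_iff.mp
    ((Set.inter_subset_inter_left _ Set.subset_union_left).trans hdisj.le))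
  obtain ⟨n₂, hn₂⟩ := key β hβ (Set.subset_union_right.trans hsub) (Set.subset_empty_iff.mp
    ((Set.inter_subset_inter_left _ Set.subset_union_right).trans hdisj.le))
  obtain ⟨x, hx, hxu⟩ := hn₁ (n₁ + n₂) le_self_add
  obtain ⟨y, hy, hyu⟩ := hn₂ (n₁ + n₂) le_add_self
  generalize n₁ + n₂ = m at hx hy
  have hd : x * β ^ m - y * α ^ m = 0 := by
    set d := x * β ^ m - y * α ^ m
    let γ := α ^ m * β ^ m
    have hcube : d ^ 3 = γ ^ 2 * d := by
      linear_combination (x * β ^ (3 * m) + α ^ m * β ^ (3 * m) - 3 * y * α ^ m * β ^ (2 * m)) * hx +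
        (3 * x * α ^ (2 * m) * β ^ m - y * α ^ (3 * m) - α ^ (3 * m) * β ^ m) * hy
    have hnil : IsNilpotent (α * β * d) := by
      refine nilpotent_iff_mem_prime.mpr fun P hP => ?_
      by_cases hαP : α ∈ P
      · exact P.mul_mem_right _ (P.mul_mem_right _ hαP)
      by_cases hβP : β ∈ P
      · exact P.mul_mem_right _ (P.mul_mem_left _ hβP)
      refine P.mul_mem_left _ ?_
      have h1 := hxu ⟨P, hP⟩ hαP
      have h2 := hyu ⟨P, hP⟩ hβP
      have hx' : x * (x - α ^ m) ∈ P := by rw [show x * (x - α ^ m) = 0 by linear_combination hx]; exact zero_mem P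
      have hy' : y * (y - β ^ m) ∈ P := by rw [show y * (y - β ^ m) = 0 by linear_combination hy]; exact zero_mem P
      by_cases hP' : (⟨P, hP⟩ : PrimeSpectrum E) ∈ u
      · have h3 := (hP.mem_or_mem hx').resolve_left (h1.mp hP')
        have h4 := (hP.mem_or_mem hy').resolve_left (h2.mp hP')
        rw [show d = (x - α ^ m) * β ^ m - (y - β ^ m) * α ^ m by ring]
        exact P.sub_mem (P.mul_mem_right _ h3) (P.mul_mem_right _ h4)
      · exact P.sub_mem (P.mul_mem_right _ (not_not.mp (mt h1.mpr hP'))) (P.mul_mem_right _ (not_not.mp (mt h2.mpr hP')))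
    obtain ⟨k, hk⟩ := hnil
    have hodd : ∀ k : ℕ, d ^ (2 * k + 1) = (γ ^ 2) ^ k * d := by
      intro k
      induction k with
      | zero => simp
      | succ k ih =>
        rw [show 2 * (k + 1) + 1 = 2 * k + 1 + 2 by omega, pow_add, ih, mul_assoc, ← pow_succ', hcube, pow_succ]
        ring
    have h0 : (α * β) ^ (2 * k + 1) * ((γ ^ 2) ^ k * d) = 0 := by
      rw [← hodd, ← mul_pow]
      exact pow_eq_zero_of_le (by omega) hk
    have hγ : γ ∈ nonZeroDivisors E := mul_mem (pow_mem hα m) (pow_mem hβ m)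
    exact (mem_nonZeroDivisors_iff_left.mp (pow_mem (pow_mem hγ 2) k)) d
      (mem_nonZeroDivisors_iff_left.mp (pow_mem (mul_mem hα hβ) _) _ h0)
  obtain ⟨z, hz⟩ := hreg m y x (by linear_combination hd)
  have hcan : ∀ {c d : E}, c ∈ nonZeroDivisors E → c * d = 0 → d = 0 := fun hc h =>
    mem_nonZeroDivisors_iff_left.mp hc _ h
  have hzz : z * z = z := sub_eq_zero.mp (hcan (pow_mem (pow_mem hα m) 2) (by
    rw [hz] at hx
    linear_combination hx))
  rcases hid z hzz with rfl | rfl
  · have hy0 : y = 0 := hcan (pow_mem hα m) (by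
      rw [hz] at hd
      linear_combination -hd)
    right
    rintro P hP
    refine (hsub hP).resolve_left fun hPu => ?_
    rcases hP with h | h
    · exact (hxu P h).mp hPu (by rw [hz, mul_zero]; exact zero_mem _)
    · exact (hyu P h).mp hPu (by rw [hy0]; exact zero_mem _)
  · have hy1 : y = β ^ m := sub_eq_zero.mp (hcan (pow_mem hα m) (by
      rw [hz] at hd
      linear_combination -hd))
    left
    rintro P (h | h)
    · refine (hxu P h).mpr fun hm => h (P.isPrime.mem_of_pow_mem m ?_)
      rwa [hz, mul_one] at hm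
    · refine (hyu P h).mpr fun hm => h (P.isPrime.mem_of_pow_mem m ?_)
      rwa [hy1] at hm

/-- Removing a closed set over the closed point of a local domain of dimension at least two with local
normalization and purely inseparable residue extension keeps a flat local scheme connected. -/
theorem isConnected_compl_of_dim_two_aux {A A' B : Type u} [CommRing A] [IsDomain A] [IsLocalRing A]
    [CommRing A'] [IsDomain A'] [IsLocalRing A'] [Algebra A A'] [Algebra.IsIntegral A A']
    (hinj : Function.Injective (algebraMap A A')) {ι : Type u} (F : GrothLib.Krull.Family A' ι)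
    (hins : ∀ c : A' ⧸ maximalIdeal A', ∃ n : ℕ, c ^ ringExpChar (A' ⧸ maximalIdeal A') ^ n ∈
      ((Ideal.Quotient.mk (maximalIdeal A')).comp (algebraMap A A')).range)
    [CommRing B] [IsLocalRing B] [Algebra A B] [IsLocalHom (algebraMap A B)] [Module.Flat A B]
    (hdim : 2 ≤ ringKrullDim A) (T : Set (PrimeSpectrum B))
    (hT : ∀ Q ∈ T, (maximalIdeal A) ≤ Q.asIdeal.comap (algebraMap A B)) :
    _root_.IsConnected Tᶜ := by
  obtain ⟨a, ha, b, hb, ha0, hb0, hreg⟩ := exists_regular_pair hinj F hdim
  let E := A' ⊗[A] B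
  let j : B →ₐ[A] E := Algebra.TensorProduct.includeRight
  have hj : Function.Injective j := Algebra.TensorProduct.includeRight_injective hinj
  haveI : Nontrivial E := hj.nontrivial
  haveI := isLocalRing_tensor_of_purelyInseparable (T := B) hins
  have hnz : ∀ c : A, c ≠ 0 → algebraMap A' E (algebraMap A A' c) ∈ nonZeroDivisors E := fun c hc => by
    rw [mem_nonZeroDivisors_iff_left]
    intro z hz
    exact GrothLib.LocAcyc.smul_eq_zero_of_flat (fun h0 => hc (hinj (h0.trans (map_zero _).symm)))
      (show algebraMap A A' c • z = 0 by rw [Algebra.smul_def]; exact hz)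
  have hpre := isPreconnected_basicOpen_union (α := algebraMap A' E (algebraMap A A' a))
    (β := algebraMap A' E (algebraMap A A' b))
    (fun z hz => by
      rcases IsLocalRing.isUnit_or_isUnit_one_sub_self z with hu | hu
      · exact Or.inr (hu.mul_left_cancel (hz.trans (mul_one z).symm))
      · exact Or.inl (hu.mul_right_eq_zero.mp (by linear_combination -hz)))
    (hnz a ha0) (hnz b hb0) (fun n x z h => by
      simp only [← map_pow (algebraMap A' E)] at h ⊢
      exact dvd_of_flat_of_pair (fun t => hreg n t) h)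
  have hja : ∀ c : A, j (algebraMap A B c) = algebraMap A' E (algebraMap A A' c) := fun c =>
    (j.commutes c).trans (IsScalarTower.algebraMap_apply A A' E c)
  letI : Algebra B E := Algebra.TensorProduct.rightAlgebra
  haveI : Algebra.IsIntegral B E := Algebra.IsIntegral.of_surjective (R := B) (A := B ⊗[A] A')
    ({ (Algebra.TensorProduct.comm A B A').toRingEquiv.toRingHom with
       commutes' := fun t => rfl } : B ⊗[A] A' →ₐ[B] E) (Algebra.TensorProduct.comm A B A').surjective
  have hcsurj : Function.Surjective (PrimeSpectrum.comap j.toRingHom) :=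
    RingHom.IsIntegral.comap_surjective (f := j.toRingHom)
      (algebraMap_isIntegral_iff.mpr (inferInstance : Algebra.IsIntegral B E) :) hj
  let W : Set (PrimeSpectrum B) :=
    (PrimeSpectrum.basicOpen (algebraMap A B a) : Set (PrimeSpectrum B)) ∪ PrimeSpectrum.basicOpen (algebraMap A B b)
  have hW : _root_.IsPreconnected W := by
    have h := hpre.image _ (PrimeSpectrum.continuous_comap j.toRingHom).continuousOn
    rw [← hja, ← hja] at h
    have himg : PrimeSpectrum.comap j.toRingHom ''
        ((PrimeSpectrum.basicOpen (j (algebraMap A B a)) : Set (PrimeSpectrum E)) ∪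
          PrimeSpectrum.basicOpen (j (algebraMap A B b))) = W :=
      Set.image_preimage_eq (f := PrimeSpectrum.comap j.toRingHom) W hcsurj
    rwa [himg] at h
  have hWT : W ⊆ Tᶜ := fun Q hQ hQT => by
    rcases hQ with h | h
    · exact h (hT Q hQT ha)
    · exact h (hT Q hQT hb)
  have hdense : ∀ Q : PrimeSpectrum B, ∃ Q' ∈ W, Q' ⤳ Q := fun Q => by
    haveI : Algebra.HasGoingDown A B := Algebra.HasGoingDown.of_flat
    haveI : Q.asIdeal.LiesOver (Q.asIdeal.under A) := ⟨rfl⟩
    haveI : (⊥ : Ideal A).IsPrime := Ideal.isPrime_bot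
    obtain ⟨P, hle, hP, hover⟩ := Ideal.exists_ideal_le_liesOver_of_le (p := (⊥ : Ideal A))
      (q := Q.asIdeal.under A) Q.asIdeal bot_le
    refine ⟨⟨P, hP⟩, Or.inl fun h => ha0 ?_, (PrimeSpectrum.le_iff_specializes ⟨P, hP⟩ Q).mp hle⟩
    have h' : a ∈ P.under A := h
    rwa [← hover.over, Ideal.mem_bot] at h'
  obtain ⟨Q₀, hQ₀, -⟩ := hdense (IsLocalRing.closedPoint B)
  refine ⟨⟨Q₀, hWT hQ₀⟩, IsPreconnected.subset_closure hW hWT fun Q _ => ?_⟩
  obtain ⟨Q', hQ', hs⟩ := hdense Q
  exact closure_mono (Set.singleton_subset_iff.mpr hQ') hs.mem_closure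

/-- Over a geometrically unibranch Noetherian local domain of dimension at least two, removing a closed set
over the closed point from a flat local scheme keeps it connected. -/
theorem isConnected_compl_of_dim_two (A B : Type u) [CommRing A] [IsDomain A] [IsLocalRing A] [IsNoetherianRing A]
    [CommRing B] [IsLocalRing B] [Algebra A B] [IsLocalHom (algebraMap A B)] [Module.Flat A B]
    (hA : CAlg2.IsGeomUnibranch A) (hdim : 2 ≤ ringKrullDim A) (T : Set (PrimeSpectrum B))
    (hT : ∀ Q ∈ T, (maximalIdeal A) ≤ Q.asIdeal.comap (algebraMap A B)) :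
    _root_.IsConnected Tᶜ := by
  let A' := integralClosure A (FractionRing A)
  haveI : IsIntegrallyClosed A' := integralClosure.isIntegrallyClosedOfFiniteExtension (FractionRing A)
  have hinj : Function.Injective (algebraMap A A') := fun x y h =>
    IsFractionRing.injective A (FractionRing A) (congrArg Subtype.val h)
  have hbir : ∀ t : A', ∃ a b, algebraMap A A' b ≠ 0 ∧ t * algebraMap A A' b = algebraMap A A' a := fun t => by
    obtain ⟨⟨a, b, hb⟩, h⟩ := IsLocalization.surj (nonZeroDivisors A) (t : FractionRing A)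
    exact ⟨a, b, fun h0 => nonZeroDivisors.ne_zero hb (hinj (h0.trans (map_zero _).symm)), Subtype.ext h⟩
  have hn : RingHom.ker (algebraMap A A') = nilradical A := by
    rw [nilradical_eq_zero]
    exact (RingHom.injective_iff_ker_eq_bot _).mp hinj
  obtain ⟨hloc', hins⟩ := (GrothLib.GeomUnib.isGeomUnibranch_iff_of_normal (algebraMap A A') hn
    (algebraMap_isIntegral_iff.mpr inferInstance) hbir).mp hA
  haveI := hloc'
  obtain ⟨ι, ⟨F⟩⟩ := GrothLib.MoriNagata.nonempty_family (A := A)
  exact isConnected_compl_of_dim_two_aux hinj F (hins (maximalIdeal A')) hdim T hT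

/-- The global form. -/
theorem isConnected_compl_of_dim_two_global {A : Type u} [CommRing A] [IsNoetherianRing A] [IsLocalRing A]
    [IsDomain A] (hA : CAlg2.IsGeomUnibranch A) (hdim : 2 ≤ ringKrullDim A) {X : Scheme.{u}} [IsLocallyNoetherian X]
    [ConnectedSpace ↥X] (f : X ⟶ Spec (CommRingCat.of A)) [Flat f]
    (T : Set ↥X) (hT : IsClosed T) (hTy : ∀ x ∈ T, f.base x = IsLocalRing.closedPoint A) :
    _root_.IsConnected Tᶜ := by
  refine isConnected_compl_of_local hT fun x => ?_
  let B := X.presheaf.stalk x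
  by_cases hx : f x = IsLocalRing.closedPoint A
  · let g := X.fromSpecStalk x ≫ f
    let φ : CommRingCat.of A ⟶ X.presheaf.stalk x := Spec.preimage g
    have hφ : Spec.map φ = g := Spec.map_preimage g
    letI : Algebra A B := φ.hom.toAlgebra
    haveI : Flat g := by
      haveI := GrothLib.FEt21.flat_fromSpecStalk x
      infer_instance
    haveI : Module.Flat A B := by
      have h : Flat (Spec.map φ) := hφ.symm ▸ ‹Flat g›
      exact (HasRingHomProperty.Spec_iff (P := @Flat)).mp h
    haveI : IsLocalHom (algebraMap A B) := by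
      refine ((local_hom_TFAE (algebraMap A B)).out 0 4 rfl rfl).2 ?_
      have h1 : Spec.map φ (IsLocalRing.closedPoint B) = f x := by
        rw [hφ]
        exact congrArg f Scheme.fromSpecStalk_closedPoint
      exact congrArg PrimeSpectrum.asIdeal (h1.trans hx)
    refine isConnected_compl_of_dim_two A B hA hdim _ fun Q hQ => ?_
    have h1 : Spec.map φ Q = IsLocalRing.closedPoint A := by
      rw [hφ]
      exact hTy _ hQ
    exact (congrArg PrimeSpectrum.asIdeal h1).ge
  · have hempty : (X.fromSpecStalk x) ⁻¹' T = ∅ := Set.eq_empty_iff_forall_notMem.mpr fun q hq => by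
      have h1 : X.fromSpecStalk x q ⤳ x := (Scheme.range_fromSpecStalk (x := x)).le ⟨q, rfl⟩
      have h2 := h1.map f.continuous
      rw [show f (X.fromSpecStalk x q) = IsLocalRing.closedPoint A from hTy _ hq] at h2
      exact hx (h2.antisymm (IsLocalRing.specializes_closedPoint (R := A) _)).eq.symm
    rw [hempty, Set.compl_empty]
    haveI : Nonempty (PrimeSpectrum B) := ⟨IsLocalRing.closedPoint B⟩
    refine ⟨Set.univ_nonempty, isPreconnected_of_forall (IsLocalRing.closedPoint B) fun q _ =>
      ⟨closure {q}, Set.subset_univ _, (IsLocalRing.specializes_closedPoint q).mem_closure, subset_closure rfl,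
        isPreirreducible_singleton.closure.isPreconnected⟩⟩

end GrothLib.Chev28
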