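import Groth.Agent.Lib.Chev28.Scheme
import Mathlib.RingTheory.IntegralClosure.GoingDown
import Mathlib.AlgebraicGeometry.Morphisms.QuasiFinite

/-!
Going down over unibranch local rings (EGA IV 14.4.1.3, 14.4.4.1).
-/

universe u

open CategoryTheory CategoryTheory.Limits AlgebraicGeometry TopologicalSpace Topology
open MvPolynomial IsLocalRing

noncomputable section

namespace GrothLib.Chev28

/-- Going down for integral extensions of a local domain with local normalization. -/
theorem exists_prime_le_of_isIntegral {A' B : Type u} [CommRing A'] [IsDomain A'] [IsLocalRing A']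
    (hloc : IsLocalRing (integralClosure A' (FractionRing A'))) [CommRing B] [IsDomain B] [Algebra A' B]
    [FaithfulSMul A' B] [Algebra.IsIntegral A' B] (n : Ideal B) [n.IsPrime]
    (hn : n.comap (algebraMap A' B) = maximalIdeal A') (p : Ideal A') [p.IsPrime] :
    ∃ q : Ideal B, q.IsPrime ∧ q ≤ n ∧ q.comap (algebraMap A' B) = p := by
  let K := FractionRing A'
  let L := FractionRing B
  haveI : FaithfulSMul A' L := (faithfulSMul_iff_algebraMap_injective _ _).mpr <| by
    rw [IsScalarTower.algebraMap_eq A' B L]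
    exact (IsFractionRing.injective B L).comp (FaithfulSMul.algebraMap_injective A' B)
  letI : Algebra K L := FractionRing.liftAlgebra A' L
  haveI : IsScalarTower A' K L := FractionRing.isScalarTower_liftAlgebra A' L
  let N := integralClosure A' K
  haveI : IsLocalRing N := hloc
  haveI : IsFractionRing N K := integralClosure.isFractionRing_of_finite_extension K K
  haveI : IsIntegrallyClosed N :=
    (isIntegrallyClosed_iff K).mpr fun {x} hx => ⟨⟨x, isIntegral_trans x hx⟩, rfl⟩
  haveI : FaithfulSMul A' N :=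
    (faithfulSMul_iff_algebraMap_injective _ _).mpr fun a c h =>
      IsFractionRing.injective A' K (congrArg Subtype.val h :)
  let C := integralClosure A' L
  let g : B →+* C := (algebraMap B L).codRestrict C.toSubsemiring
    fun b => (Algebra.IsIntegral.isIntegral (R := A') b).map (IsScalarTower.toAlgHom A' B L)
  let h : N →+* C := ((algebraMap K L).comp N.val.toRingHom).codRestrict C.toSubsemiring
    fun v => v.2.map (IsScalarTower.toAlgHom A' K L)
  letI : Algebra N C := h.toAlgebra
  haveI : IsScalarTower A' N C := IsScalarTower.of_algebraMap_eq fun a =>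
    Subtype.ext (IsScalarTower.algebraMap_apply A' K L a)
  haveI : Algebra.IsIntegral N C := Algebra.IsIntegral.tower_top (R := A')
  haveI : FaithfulSMul N C := (faithfulSMul_iff_algebraMap_injective _ _).mpr fun a c he =>
    Subtype.ext ((algebraMap K L).injective (congrArg Subtype.val he :))
  have hgA : g.comp (algebraMap A' B) = algebraMap A' C :=
    RingHom.ext fun a => Subtype.ext (IsScalarTower.algebraMap_apply A' B L a).symm
  have hgi : Function.Injective g := fun a c he => IsFractionRing.injective B L (congrArg Subtype.val he :)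
  have hg : g.IsIntegral := RingHom.IsIntegral.tower_top (algebraMap A' B) g
    (by rw [hgA]; exact algebraMap_isIntegral_iff.mpr inferInstance)
  obtain ⟨nC, hnC⟩ := hg.comap_surjective hgi ⟨n, inferInstance⟩
  have hnC' : nC.asIdeal.comap g = n := congrArg PrimeSpectrum.asIdeal hnC
  have hnA : (nC.asIdeal.comap (algebraMap N C)).comap (algebraMap A' N) = maximalIdeal A' := by
    rw [← hn, ← hnC', Ideal.comap_comap, Ideal.comap_comap, hgA, ← IsScalarTower.algebraMap_eq]
  have hnN : nC.asIdeal.comap (algebraMap N C) = maximalIdeal N := by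
    haveI := Ideal.comap_isPrime (algebraMap N C) nC.asIdeal
    haveI : (nC.asIdeal.comap (algebraMap N C)).IsMaximal :=
      Ideal.isMaximal_of_isIntegral_of_isMaximal_comap _ (hnA ▸ IsLocalRing.maximalIdeal.isMaximal A')
    exact IsLocalRing.eq_maximalIdeal inferInstance
  obtain ⟨p', hp'⟩ : ∃ p' : PrimeSpectrum N, PrimeSpectrum.comap (algebraMap A' N) p' = ⟨p, inferInstance⟩ :=
    (algebraMap_isIntegral_iff.mpr inferInstance : (algebraMap A' N).IsIntegral).comap_surjective
      (FaithfulSMul.algebraMap_injective A' N) ⟨p, inferInstance⟩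
  haveI := nC.isPrime
  haveI : nC.asIdeal.LiesOver (maximalIdeal N) := ⟨hnN.symm⟩
  obtain ⟨Q, hQle, hQp, hQo⟩ := Ideal.exists_ideal_le_liesOver_of_le (p := p'.asIdeal) (q := maximalIdeal N)
    nC.asIdeal (IsLocalRing.le_maximalIdeal p'.isPrime.ne_top)
  haveI := hQp
  refine ⟨Q.comap g, Ideal.comap_isPrime _ _, hnC' ▸ Ideal.comap_mono hQle, ?_⟩
  rw [Ideal.comap_comap, hgA, IsScalarTower.algebraMap_eq A' N C, ← Ideal.comap_comap,
    show Q.comap (algebraMap N C) = p'.asIdeal from hQo.over.symm]
  exact congrArg PrimeSpectrum.asIdeal hp'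

theorem surjective_comap_localization_of_isUnibranch {A B : Type u} [CommRing A] [IsDomain A] [IsLocalRing A]
    (hA : CAlg2.IsUnibranch A) [CommRing B] [IsDomain B] [Algebra A B]
    (hinj : Function.Injective (algebraMap A B)) [Algebra.IsIntegral A B] (n : Ideal B) [n.IsPrime]
    (hn : n.comap (algebraMap A B) = maximalIdeal A) (p : Ideal A) [p.IsPrime] :
    ∃ q : Ideal B, q.IsPrime ∧ q ≤ n ∧ q.comap (algebraMap A B) = p := by
  have hnil : nilradical A = ⊥ := nilradical_eq_zero A
  let A' := CAlg2.red A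
  haveI : IsDomain A' := hA.1
  haveI : IsLocalRing A' := IsLocalRing.of_surjective' (Ideal.Quotient.mk _) Ideal.Quotient.mk_surjective
  letI : Algebra A' B := (Ideal.Quotient.lift (nilradical A) (algebraMap A B) fun a ha => by
    rw [hnil, Ideal.mem_bot] at ha
    rw [ha, map_zero]).toAlgebra
  haveI : IsScalarTower A A' B := IsScalarTower.of_algebraMap_eq fun a => rfl
  haveI : Algebra.IsIntegral A' B := Algebra.IsIntegral.tower_top (R := A)
  haveI : FaithfulSMul A' B := (faithfulSMul_iff_algebraMap_injective _ _).mpr <| by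
    refine (injective_iff_map_eq_zero _).mpr fun a ha => ?_
    obtain ⟨r, rfl⟩ := Ideal.Quotient.mk_surjective a
    rw [hinj (ha.trans (map_zero _).symm), map_zero]
  have hcomp : (algebraMap A' B).comp (Ideal.Quotient.mk (nilradical A)) = algebraMap A B := rfl
  have hn' : n.comap (algebraMap A' B) = maximalIdeal A' := by
    refine Ideal.comap_injective_of_surjective (Ideal.Quotient.mk (nilradical A)) Ideal.Quotient.mk_surjective ?_
    rw [Ideal.comap_comap, hcomp, hn]
    exact (IsLocalRing.eq_maximalIdeal (Ideal.comap_isMaximal_of_surjective _ Ideal.Quotient.mk_surjective)).symm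
  haveI : (p.map (Ideal.Quotient.mk (nilradical A))).IsPrime :=
    Ideal.map_isPrime_of_surjective Ideal.Quotient.mk_surjective (by rw [Ideal.mk_ker]; exact nilradical_le_prime p)
  obtain ⟨q, hq, hqn, hqp⟩ := exists_prime_le_of_isIntegral hA.2 n hn' (p.map (Ideal.Quotient.mk (nilradical A)))
  refine ⟨q, hq, hqn, ?_⟩
  rw [← hcomp, ← Ideal.comap_comap, hqp, Ideal.comap_map_of_surjective _ Ideal.Quotient.mk_surjective,
    ← RingHom.ker_eq_comap_bot, Ideal.mk_ker, sup_eq_left.mpr (nilradical_le_prime p)]

theorem isOpenAt_comap_of_finitePresentation {A B : Type u} [CommRing A] [CommRing B] [Algebra A B]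
    [Algebra.FinitePresentation A B] (Q : PrimeSpectrum B)
    (h : ∀ p' : Ideal A, p'.IsPrime → p' ≤ Q.asIdeal.comap (algebraMap A B) →
      ∃ Q' : Ideal B, Q'.IsPrime ∧ Q' ≤ Q.asIdeal ∧ Q'.comap (algebraMap A B) = p') :
    EGA43.IsOpenAt (PrimeSpectrum.comap (algebraMap A B)) Q := by
  intro U hU
  obtain ⟨V, hVU, hVo, hQV⟩ := mem_nhds_iff.mp hU
  obtain ⟨_, ⟨g, rfl⟩, hgQ, hgV⟩ :=
    PrimeSpectrum.isTopologicalBasis_basic_opens.exists_subset_of_mem_open hQV hVo
  refine Filter.mem_of_superset ?_ (Set.image_mono (hgV.trans hVU))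
  have hc : IsConstructible (PrimeSpectrum.comap (algebraMap A B) '' (PrimeSpectrum.basicOpen g : Set (PrimeSpectrum B))) :=
    PrimeSpectrum.isConstructible_comap_image (RingHom.finitePresentation_algebraMap.mpr inferInstance)
      PrimeSpectrum.isConstructible_basicOpen
  refine GrothLib.QuasiSec.mem_nhds_of_isConstructible hc _ fun q hq => ?_
  obtain ⟨Q', hQ', hle, heq⟩ := h q.asIdeal q.isPrime ((PrimeSpectrum.le_iff_specializes _ _).mpr hq)
  exact ⟨⟨Q', hQ'⟩, fun hgQ' => hgQ (hle hgQ'), PrimeSpectrum.ext heq⟩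

/-- Unibranch is invariant under ring isomorphisms. -/
theorem isUnibranch_of_ringEquiv {A B : Type u} [CommRing A] [IsLocalRing A] [CommRing B] [IsLocalRing B]
    (e : A ≃+* B) (h : CAlg2.IsUnibranch A) : CAlg2.IsUnibranch B := by
  haveI := h.1
  haveI : IsLocalRing (CAlg2.normRed A) := h.2
  have hn : nilradical B = (nilradical A).map (e : A →+* B) := by
    ext b
    rw [mem_nilradical, Ideal.mem_map_iff_of_surjective (e : A →+* B) e.surjective]
    constructor
    · exact fun hb => ⟨e.symm b, mem_nilradical.mpr (hb.map e.symm), e.apply_symm_apply b⟩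
    · rintro ⟨a, ha, rfl⟩
      exact (mem_nilradical.mp ha).map e
  let e₀ : CAlg2.red A ≃+* CAlg2.red B := Ideal.quotientEquiv (nilradical A) (nilradical B) e hn
  haveI hdB : IsDomain (CAlg2.red B) := e₀.symm.injective.isDomain e₀.symm.toRingHom
  refine ⟨hdB, ?_⟩
  let g : FractionRing (CAlg2.red A) ≃+* FractionRing (CAlg2.red B) := IsFractionRing.ringEquivOfRingEquiv e₀
  have hg : ∀ r, g (algebraMap (CAlg2.red A) _ r) = algebraMap (CAlg2.red B) _ (e₀ r) :=
    fun r => IsFractionRing.ringEquivOfRingEquiv_algebraMap e₀ r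
  have hc : (algebraMap (CAlg2.red B) (FractionRing (CAlg2.red B))).comp (e₀ : CAlg2.red A →+* CAlg2.red B) =
      g.toRingHom.comp (algebraMap (CAlg2.red A) _) := RingHom.ext fun a => (hg a).symm
  have hc' : (algebraMap (CAlg2.red A) (FractionRing (CAlg2.red A))).comp (e₀.symm : CAlg2.red B →+* CAlg2.red A) =
      g.symm.toRingHom.comp (algebraMap (CAlg2.red B) _) := by
    apply RingHom.ext; intro a
    show algebraMap _ _ (e₀.symm a) = g.symm (algebraMap _ _ a)
    rw [RingEquiv.eq_symm_apply, hg, e₀.apply_symm_apply]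
  let ψ : CAlg2.normRed A →+* CAlg2.normRed B :=
    RingHom.codRestrict (g.toRingHom.comp (integralClosure (CAlg2.red A) _).val.toRingHom) _
      fun x => IsIntegral.map_of_comp_eq (e₀ : CAlg2.red A →+* CAlg2.red B) g.toRingHom hc x.2
  haveI : Nontrivial (CAlg2.normRed B) := inferInstance
  refine IsLocalRing.of_surjective' ψ fun y => ?_
  refine ⟨⟨g.symm y.1, IsIntegral.map_of_comp_eq (e₀.symm : CAlg2.red B →+* CAlg2.red A) g.symm.toRingHom hc' y.2⟩, ?_⟩
  exact Subtype.ext (g.apply_symm_apply _)

theorem isOpenAt_of_lqf_dominant_of_isUnibranch {X Y : Scheme.{u}} [IrreducibleSpace X] [IrreducibleSpace Y]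
    (f : X ⟶ Y) [LocallyOfFinitePresentation f] [LocallyQuasiFinite f] [IsDominant f] (x : X)
    (hy : CAlg2.IsUnibranch (Y.presheaf.stalk (f x))) : EGA43.IsOpenAt f x := by
  obtain ⟨V, hV, hxV, -⟩ := exists_isAffineOpen_mem_and_subset (x := f x) (U := ⊤) trivial
  obtain ⟨U, hU, hxU, hUV⟩ := exists_isAffineOpen_mem_and_subset (x := x) (U := f ⁻¹ᵁ V) hxV
  let A : Type u := Γ(Y, V)
  let B : Type u := Γ(X, U)
  letI : Algebra A B := (f.appLE V U hUV).hom.toAlgebra
  have sq : hU.fromSpec ≫ f = Spec.map (CommRingCat.ofHom (algebraMap A B)) ≫ hV.fromSpec :=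
    (hV.SpecMap_appLE_fromSpec f hU hUV).symm
  haveI : Algebra.FinitePresentation A B :=
    RingHom.finitePresentation_algebraMap.mp (f.finitePresentation_appLE hV hU hUV)
  haveI : Algebra.QuasiFinite A B := by
    have h5 : LocallyQuasiFinite (Spec.map (CommRingCat.ofHom (algebraMap A B)) ≫ hV.fromSpec) := by
      rw [← sq]; infer_instance
    exact (HasRingHomProperty.Spec_iff (P := @LocallyQuasiFinite)).mp (LocallyQuasiFinite.of_comp _ hV.fromSpec)
  have hsq : ∀ q : PrimeSpectrum B, f (hU.fromSpec q) = hV.fromSpec (PrimeSpectrum.comap (algebraMap A B) q) :=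
    fun q => by rw [← Scheme.Hom.comp_apply, sq]; rfl
  let qx : PrimeSpectrum B := hU.primeIdealOf ⟨x, hxU⟩
  have hqx : hU.fromSpec qx = x := hU.fromSpec_primeIdealOf _
  have hgenU : genericPoint X ∈ U := (genericPoint_specializes x).mem_open U.2 hxU
  let qg : PrimeSpectrum B := hU.primeIdealOf ⟨genericPoint X, hgenU⟩
  have hqg : hU.fromSpec qg = genericPoint X := hU.fromSpec_primeIdealOf _
  have hη : f (genericPoint X) = genericPoint Y := by
    have hg : IsGenericPoint (f (genericPoint X)) Set.univ := by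
      have h := (genericPoint_spec X).image f.continuous
      rwa [Set.image_univ, f.denseRange.closure_eq] at h
    exact hg.eq (genericPoint_spec Y)
  have hmin : qg.asIdeal.comap (algebraMap A B) ∈ minimalPrimes A := by
    refine ⟨⟨Ideal.comap_isPrime _ _, bot_le⟩, fun I hI hle => ?_⟩
    have h1 : hV.fromSpec ⟨I, hI.1⟩ ⤳ genericPoint Y := by
      rw [← hη, ← hqg, hsq]
      exact ((PrimeSpectrum.le_iff_specializes (⟨I, hI.1⟩ : PrimeSpectrum A) _).mp hle).map hV.fromSpec.continuous
    have h2 := (h1.antisymm (genericPoint_specializes _)).eq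
    rw [← hη, ← hqg, hsq] at h2
    exact (congrArg PrimeSpectrum.asIdeal (hV.fromSpec.isOpenEmbedding.injective h2)).symm.le
  have hcut : HasIndepCut A qx.asIdeal := by
    refine ⟨qg.asIdeal, qg.isPrime, ?_, hmin, 0, Fin.elim0, fun P hP m => ?_, ?_⟩
    · refine (PrimeSpectrum.le_iff_specializes qg qx).mpr (hU.fromSpec.isEmbedding.isInducing.specializes_iff.mp ?_)
      rw [hqg, hqx]
      exact genericPoint_specializes x
    · rw [MvPolynomial.eq_C_of_isEmpty P, aeval_C] at hP
      rw [Subsingleton.elim m 0]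
      exact hP
    · letI : Algebra (MvPolynomial (Fin 0) A) B := (aeval (Fin.elim0 : Fin 0 → B)).toRingHom.toAlgebra
      haveI : IsScalarTower A (MvPolynomial (Fin 0) A) (Localization.AtPrime qx.asIdeal) :=
        IsScalarTower.of_algebraMap_eq fun P => by
          rw [IsScalarTower.algebraMap_apply A B (Localization.AtPrime qx.asIdeal),
            IsScalarTower.algebraMap_apply (MvPolynomial (Fin 0) A) B (Localization.AtPrime qx.asIdeal)]
          exact congrArg _ ((aeval (Fin.elim0 : Fin 0 → B)).commutes P).symm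
      exact Algebra.QuasiFinite.of_restrictScalars A (MvPolynomial (Fin 0) A) (Localization.AtPrime qx.asIdeal)
  have hu : CAlg2.IsUnibranch (Localization.AtPrime (qx.asIdeal.comap (algebraMap A B))) := by
    have key : ∀ (y : Y) (q : PrimeSpectrum A), hV.fromSpec q = y → CAlg2.IsUnibranch (Y.presheaf.stalk y) →
        CAlg2.IsUnibranch (Localization.AtPrime q.asIdeal) := by
      rintro _ q rfl h
      exact isUnibranch_of_ringEquiv ((asIso (hV.fromSpec.stalkMap q)).commRingCatIsoToRingEquiv.trans
        (StructureSheaf.stalkIso (CommRingCat.of A) q).toRingEquiv.symm) h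
    exact key _ (PrimeSpectrum.comap (algebraMap A B) qx) (by rw [← hsq, hqx]) hy
  have ho := isOpenAt_comap_of_finitePresentation qx fun p' hp' hle =>
    exists_prime_le_of_isUnibranch qx.asIdeal hu hcut p' hle
  intro O hO
  have h2 := ho _ (hU.fromSpec.continuous.continuousAt.preimage_mem_nhds (hqx.symm ▸ hO))
  have h3 := hV.fromSpec.isOpenEmbedding.isOpenMap.image_mem_nhds h2
  rw [← hsq, hqx] at h3
  refine Filter.mem_of_superset h3 ?_
  rintro _ ⟨_, ⟨q, hq, rfl⟩, rfl⟩
  exact ⟨hU.fromSpec q, hq, hsq q⟩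

end GrothLib.Chev28
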