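import Groth.Agent.Lib.Chev28.PropConn
import Groth.Agent.Lib.Chev28.ConnUnibranch
import Groth.Agent.Lib.DVRDom.Exists
import Groth.Agent.Lib.UnivOpenAt6.Complete
import Groth.Agent.Lib.FBase7.Embeds
import Groth.Agent.Lib.FBase7.Irred
import Groth.Agent.Lib.FEt21.Spread
import Groth.Prelude.Def_ega3
import Mathlib.RingTheory.AdicCompletion.Basic
import Mathlib.FieldTheory.PurelyInseparable.PerfectClosure

/-!
EGA III 4.3.? / IV 15.7: universally open proper morphisms with radicial Stein part have geometrically connected
fibres.
-/

universe u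

open CategoryTheory CategoryTheory.Limits AlgebraicGeometry TopologicalSpace Topology IsLocalRing

noncomputable section

namespace GrothLib.Chev28

variable {X Y : Scheme.{u}} [IsIntegral X] [IsIntegral Y]

/-- The generic geometric fibre of a morphism of integral schemes is irreducible when the function field below is
separably closed in the one above. -/
theorem irreducibleSpace_generic_pullback (f : X ⟶ Y)
    (hdom : f.base (genericPoint X) ⤳ genericPoint Y)
    (hrad : ∀ x : X.functionField,
      (∃ q : Polynomial Y.functionField, q ≠ 0 ∧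
        Polynomial.eval₂ (CohIII.stalkToFunctionField f (genericPoint Y) hdom) x q = 0) →
      ∃ e : ℕ, x ^ (ringExpChar X.functionField ^ e) ∈
        Set.range (CohIII.stalkToFunctionField f (genericPoint Y) hdom))
    (K : Type u) [Field K] (i : Y.functionField ⟶ CommRingCat.of K) :
    IrreducibleSpace ↥(pullback f (Spec.map i ≫ Y.fromSpecStalk (genericPoint Y))) := by
  letI algXY : Algebra Y.functionField X.functionField :=
    (CohIII.stalkToFunctionField f (genericPoint Y) hdom).toAlgebra
  have hq : ringExpChar X.functionField = ringExpChar Y.functionField := by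
    haveI : ExpChar X.functionField (ringExpChar Y.functionField) := expChar_of_injective_ringHom
      (algebraMap Y.functionField X.functionField).injective _
    exact ringExpChar.eq _ _
  have hsep : separableClosure Y.functionField X.functionField = ⊥ := by
    refine le_bot_iff.1 fun α hα => ?_
    have hα' : α ∈ separableClosure Y.functionField X.functionField ⊓
        perfectClosure Y.functionField X.functionField := by
      refine ⟨hα, ?_⟩
      obtain ⟨p, hp0, hp⟩ := (mem_separableClosure_iff.1 hα).isIntegral.isAlgebraic
      obtain ⟨e, a, ha⟩ := hrad α ⟨p, hp0, hp⟩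
      exact mem_perfectClosure_iff.2 ⟨e, a, by rw [← hq]; exact ha⟩
    rwa [separableClosure_inf_perfectClosure] at hα'
  haveI hgi := GrothLib.FBase7.geometricallyIrreducible_specMap_of_sepClosedIn Y.functionField X.functionField hsep
  let g := Y.fromSpecStalk (genericPoint Y)
  let a := Spec.map (CommRingCat.ofHom (algebraMap Y.functionField X.functionField))
  let b := Spec.map i
  let j := X.fromSpecStalk (genericPoint X)
  let σ := b ≫ g
  have hj : j ≫ f = a ≫ g := by
    show j ≫ f = Spec.map (Y.presheaf.stalkSpecializes hdom ≫ f.stalkMap (genericPoint X)) ≫ g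
    rw [Spec.map_comp, Category.assoc, Scheme.SpecMap_stalkSpecializes_fromSpecStalk,
      Scheme.SpecMap_stalkMap_fromSpecStalk]
  haveI : IrreducibleSpace ↥(pullback a b) :=
    hgi.geometrically_irreducibleSpace _ _ _ (IsPullback.of_hasPullback a b)
  have sq : IsPullback (pullback.fst a b) (pullback.snd a b) (j ≫ f) σ :=
    hj.symm ▸ GrothLib.FEt21.isPullback_comp_mono (IsPullback.of_hasPullback a b) g
  let P := pullback f σ
  let l : pullback a b ⟶ P := pullback.lift (pullback.fst a b ≫ j) (pullback.snd a b)
    (by rw [Category.assoc]; exact sq.w)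
  have hl₁ : l ≫ pullback.fst f σ = pullback.fst a b ≫ j := pullback.lift_fst _ _ _
  have hl₂ : l ≫ pullback.snd f σ = pullback.snd a b := pullback.lift_snd _ _ _
  have sq₂ : IsPullback (pullback.fst a b) l j (pullback.fst f σ) :=
    IsPullback.of_bot (hl₂.symm ▸ sq) hl₁.symm (IsPullback.of_hasPullback f σ)
  haveI : Flat b := by
    rw [HasRingHomProperty.Spec_iff (P := @Flat)]
    letI := i.hom.toAlgebra
    exact RingHom.flat_algebraMap_iff.2 (inferInstanceAs (Module.Flat Y.functionField K))
  haveI : Flat g := GrothLib.FEt21.flat_fromSpecStalk _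
  haveI : Flat σ := MorphismProperty.comp_mem @Flat b g inferInstance inferInstance
  haveI : Flat (pullback.fst f σ) := MorphismProperty.pullback_fst f σ inferInstance
  haveI : Nonempty ↥P := ⟨l (IrreducibleSpace.toNonempty (X := ↥(pullback a b))).some⟩
  refine GrothLib.FBase7.isIrreducible_of_maximal_subset
    ((IrreducibleSpace.isIrreducible_univ _).image l l.continuous.continuousOn).2 fun t ht => ?_
  obtain ⟨t', ht', hfst⟩ := Flat.generalizingMap (pullback.fst f σ) (genericPoint_specializes (pullback.fst f σ t))
  rw [ht t' ht'] at hfst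
  have hj₀ : j (IsLocalRing.closedPoint _) = genericPoint X := Scheme.fromSpecStalk_closedPoint
  obtain ⟨w, -, hw⟩ := Scheme.exists_preimage_of_isPullback sq₂ (IsLocalRing.closedPoint _) t (hj₀.trans hfst.symm)
  exact ⟨w, trivial, hw⟩

variable [IsLocallyNoetherian Y]

/-- A point of an integral locally Noetherian scheme other than the generic point is the centre of a complete
discrete valuation ring with algebraically closed residue field dominating the scheme. -/
theorem exists_complete_dvr_at (y : Y) (hy : y ≠ genericPoint Y) :
    ∃ (A : Type u) (_ : CommRing A) (_ : IsDomain A) (_ : IsDiscreteValuationRing A) (_ : HenselianLocalRing A)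
      (i : Y.functionField ⟶ CommRingCat.of (FractionRing A)) (χ : Y.presheaf.stalk y ⟶ CommRingCat.of A)
      (Kb : Type u) (_ : Field Kb) (_ : IsAlgClosed Kb) (ψ : A →+* Kb), Function.Surjective ψ ∧ IsLocalHom χ.hom ∧
        Y.presheaf.stalkSpecializes (genericPoint_specializes y) ≫ i =
          χ ≫ CommRingCat.ofHom (algebraMap A (FractionRing A)) := by
  let O := Y.presheaf.stalk y
  let L := Y.functionField
  have hO : ¬ IsField O := fun hf => by
    obtain ⟨q, hq⟩ := (Scheme.range_fromSpecStalk (x := y)).ge (genericPoint_specializes y)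
    have : q = IsLocalRing.closedPoint O := by
      letI := hf.toField
      exact Subsingleton.elim (α := PrimeSpectrum O) _ _
    rw [this, Scheme.fromSpecStalk_closedPoint] at hq
    exact hy hq
  letI : Algebra O L := (Y.presheaf.stalkSpecializes (genericPoint_specializes y)).hom.toAlgebra
  haveI : IsFractionRing O L := inferInstanceAs (IsFractionRing (Y.presheaf.stalk y) Y.functionField)
  obtain ⟨V, hV, hmem, hlt⟩ := GrothLib.DVRDom.exists_dvr_dominating hO (IsFractionRing.injective O L) ∅ (by
    rw [eq_top_iff]
    rintro z -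
    obtain ⟨a, b, -, rfl⟩ := IsFractionRing.div_surjective (A := O) z
    exact div_mem (Subfield.subset_closure (Or.inl ⟨a, rfl⟩)) (Subfield.subset_closure (Or.inl ⟨b, rfl⟩)))
  haveI := hV
  let φ : O →+* V := (algebraMap O L).codRestrict V.toSubring hmem
  haveI hφ : IsLocalHom φ := ((IsLocalRing.local_hom_TFAE φ).out 0 3 rfl rfl).2 
    (fun a ha => (ValuationSubring.valuation_lt_one_iff V (φ a)).2 (hlt a ha))
  obtain ⟨A, _, _, _, hA, φA, ψ, hinj, hloc, hsurj, hψ⟩ := GrothLib.UnivOpenAt6.exists_complete_extension V
    (AlgebraicClosure (ResidueField V)) ((algebraMap (ResidueField V) _).comp (residue V)) (by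
      rw [← RingHom.comap_ker, (RingHom.injective_iff_ker_eq_bot _).mp (algebraMap (ResidueField V) _).injective,
        ← RingHom.ker_eq_comap_bot, IsLocalRing.ker_residue])
  haveI := hA
  haveI := hloc
  haveI : HenselianLocalRing A := GrothLib.Hensel.henselianLocalRing_of_henselianRing inferInstance
  obtain ⟨ρ, h1⟩ : ∃ ρ : L →+* FractionRing A, ∀ v : V, ρ (algebraMap V L v) = algebraMap A (FractionRing A) (φA v) := by
    have hg : Function.Injective ((algebraMap A (FractionRing A)).comp φA) :=
      (IsFractionRing.injective A (FractionRing A)).comp hinj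
    exact ⟨IsFractionRing.lift hg, fun v => IsFractionRing.lift_algebraMap hg v⟩
  haveI : IsLocalHom (φA.comp φ) := RingHom.isLocalHom_comp _ _
  refine ⟨A, inferInstance, inferInstance, inferInstance, inferInstance, CommRingCat.ofHom ρ,
    CommRingCat.ofHom (φA.comp φ), _, inferInstance, inferInstance, ψ, hsurj, ‹IsLocalHom (φA.comp φ)›, ?_⟩
  exact CommRingCat.hom_ext (RingHom.ext fun a => h1 (φ a))

/-- Universally open proper morphisms with radicial Stein part have geometrically connected fibres. -/
theorem geometricallyConnected_of_univOpen (f : X ⟶ Y) [IsProper f]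
    (hdom : f.base (genericPoint X) ⤳ genericPoint Y)
    (hopen : ∀ (Y' : Scheme.{u}) (g : Y' ⟶ Y), IrreducibleSpace ↥Y' → IsLocallyNoetherian Y' →
      IsDominant g → ∀ Z ∈ irreducibleComponents ↥(pullback f g), Dense ((pullback.snd f g).base '' Z))
    (hrad : ∀ x : X.functionField,
      (∃ q : Polynomial Y.functionField, q ≠ 0 ∧
        Polynomial.eval₂ (CohIII.stalkToFunctionField f (genericPoint Y) hdom) x q = 0) →
      ∃ e : ℕ, x ^ (ringExpChar X.functionField ^ e) ∈
        Set.range (CohIII.stalkToFunctionField f (genericPoint Y) hdom))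
    (y : Y) : GeometricallyConnected (f.fiberToSpecResidueField y) := by
  let k : Type u := Y.residueField y
  letI : (f.fiber y).Over (Spec (CommRingCat.of k)) := ⟨f.fiberToSpecResidueField y⟩
  by_cases hy : y = genericPoint Y
  · subst hy
    show GeometricallyConnected (f.fiber (genericPoint Y) ↘ Spec (CommRingCat.of k))
    rw [GrothLib.BaseChange.geometricallyConnected_iff_forall]
    intro K _ _
    haveI := irreducibleSpace_generic_pullback f hdom hrad K
      (Y.residue (genericPoint Y) ≫ CommRingCat.ofHom (algebraMap k K))
    let e : pullback f (Spec.map (Y.residue (genericPoint Y) ≫ CommRingCat.ofHom (algebraMap k K)) ≫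
        Y.fromSpecStalk (genericPoint Y)) ≅ Curv2.bc k (f.fiber (genericPoint Y)) K :=
      pullback.congrHom rfl (by rw [Spec.map_comp, Category.assoc]; rfl) ≪≫
        (pullbackLeftPullbackSndIso f (Y.fromSpecResidueField (genericPoint Y))
          (Spec.map (CommRingCat.ofHom (algebraMap k K)))).symm
    exact e.hom.homeomorph.surjective.connectedSpace e.hom.homeomorph.continuous
  obtain ⟨A, _, _, _, _, i, χ, Kb, _, _, ψ, hψ, hχ, hcomm⟩ := exists_complete_dvr_at y hy
  haveI := hχ
  let T := Spec (CommRingCat.of A)
  let ι : Spec (CommRingCat.of (FractionRing A)) ⟶ T := Spec.map (CommRingCat.ofHom (algebraMap A (FractionRing A)))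
  let v : T ⟶ Y := Spec.map χ ≫ Y.fromSpecStalk y
  let c : T := IsLocalRing.closedPoint A
  let η : T := genericPoint T
  have hιv : ι ≫ v = Spec.map i ≫ Y.fromSpecStalk (genericPoint Y) := by
    rw [← Category.assoc, ← Spec.map_comp, ← hcomm, Spec.map_comp, Category.assoc,
      Scheme.SpecMap_stalkSpecializes_fromSpecStalk]
  have hι : ∀ w, ι w = η := fun w => by
    obtain rfl := Subsingleton.elim w (IsLocalRing.closedPoint (FractionRing A))
    exact GrothLib.DvrPts6.pt_fractionRing A (FractionRing A)
  haveI : IsNoetherian T := inferInstance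
  haveI : IsDominant v := by
    refine ⟨fun z => closure_mono ?_ (genericPoint_specializes z).mem_closure⟩
    have h1 : (ι ≫ v) (IsLocalRing.closedPoint (FractionRing A)) = genericPoint Y := by
      rw [hιv, Scheme.Hom.comp_apply]
      have h2 := (Scheme.range_fromSpecStalk (x := genericPoint Y)).le
        ⟨Spec.map i (IsLocalRing.closedPoint (FractionRing A)), rfl⟩
      exact (h2.antisymm (genericPoint_specializes _)).eq
    rintro _ rfl
    exact ⟨_, h1⟩
  let P := pullback f v
  let g := pullback.snd f v
  haveI : IsProper g := MorphismProperty.pullback_snd f v ‹_›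
  -- the generic fibre is irreducible
  haveI := irreducibleSpace_generic_pullback f hdom hrad (FractionRing A) i
  let e₀ : pullback f (Spec.map i ≫ Y.fromSpecStalk (genericPoint Y)) ≅ pullback g ι :=
    pullback.congrHom rfl hιv.symm ≪≫ (pullbackLeftPullbackSndIso f v ι).symm
  haveI : IrreducibleSpace ↥(pullback g ι) :=
    e₀.hom.homeomorph.surjective.irreducibleSpace e₀.hom.homeomorph.continuous
  let S := Set.range (pullback.fst g ι)
  have hS : _root_.IsPreconnected S := isPreconnected_range (pullback.fst g ι).continuous
  have hSdense : closure S = Set.univ := by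
    refine Set.eq_univ_of_forall fun z => ?_
    obtain ⟨z', hz', hmax⟩ := exists_maximal_generization z
    have hd := hopen T v inferInstance inferInstance inferInstance _ (GrothLib.Equidim6.closure_mem_components hmax)
    have hgz' : g z' = η := by
      have h1 : g '' closure {z'} ⊆ closure {g z'} :=
        (image_closure_subset_closure_image g.continuous).trans (by rw [Set.image_singleton])
      have h2 := closure_mono h1
      rw [hd.closure_eq, closure_closure] at h2
      exact ((specializes_iff_mem_closure.mpr (h2 (Set.mem_univ η))).antisymm (genericPoint_specializes _)).eq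
    obtain ⟨w, hw, -⟩ := Scheme.Pullback.exists_preimage_pullback (f := g) (g := ι) z'
      (IsLocalRing.closedPoint (FractionRing A)) (hgz'.trans (hι _).symm)
    exact hz'.mem_closed isClosed_closure (subset_closure ⟨w, hw⟩)
  have hfib := isPreconnected_closure_inter_closedFibre g hS
  rw [hSdense, Set.univ_inter] at hfib
  have hne : (g ⁻¹' {c}).Nonempty := by
    obtain ⟨w⟩ : Nonempty ↥(pullback g ι) := inferInstance
    obtain ⟨z, hz⟩ := (IsLocalRing.specializes_closedPoint (R := A) (g (pullback.fst g ι w))).mem_closed
      g.isClosedMap.isClosed_range ⟨_, rfl⟩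
    exact ⟨z, hz⟩
  -- the geometric fibre
  let χ' : Y.presheaf.stalk y →+* Kb := ψ.comp χ.hom
  have hker : maximalIdeal (Y.presheaf.stalk y) ≤ RingHom.ker χ' := fun a ha => by
    have h1 : χ.hom a ∈ maximalIdeal A := map_nonunit χ.hom a ha
    rw [RingHom.mem_ker, RingHom.comp_apply, ← RingHom.mem_ker,
      IsLocalRing.eq_maximalIdeal (RingHom.ker_isMaximal_of_surjective ψ hψ)]
    exact h1
  let r : k →+* Kb := Ideal.Quotient.lift _ χ' fun a ha => hker ha
  letI : Algebra k Kb := r.toAlgebra
  let p := Spec.map (CommRingCat.ofHom ψ)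
  haveI : IsClosedImmersion p := IsClosedImmersion.spec_of_surjective _ hψ
  have hp : p ≫ v = Spec.map (CommRingCat.ofHom (algebraMap k Kb)) ≫ Y.fromSpecResidueField y := by
    show p ≫ Spec.map χ ≫ _ = _ ≫ Spec.map _ ≫ _
    rw [← Category.assoc, ← Category.assoc, ← Spec.map_comp, ← Spec.map_comp]
    rfl
  let e₁ : pullback g p ≅ Curv2.bc k (f.fiber y) Kb :=
    pullbackLeftPullbackSndIso f v p ≪≫ pullback.congrHom rfl hp ≪≫
      (pullbackLeftPullbackSndIso f (Y.fromSpecResidueField y) (Spec.map (CommRingCat.ofHom (algebraMap k Kb)))).symm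
  have hrange : Set.range (pullback.fst g p) = g ⁻¹' {c} := by
    rw [Scheme.Pullback.range_fst]
    congr 1
    ext t
    simp only [Set.mem_range, Set.mem_singleton_iff]
    have hpc : p (IsLocalRing.closedPoint Kb) = c := by
      refine PrimeSpectrum.ext ?_
      show (maximalIdeal Kb).comap ψ = maximalIdeal A
      rw [IsLocalRing.maximalIdeal_eq_bot, ← RingHom.ker_eq_comap_bot]
      exact IsLocalRing.eq_maximalIdeal (RingHom.ker_isMaximal_of_surjective ψ hψ)
    constructor
    · rintro ⟨w, rfl⟩
      rw [Subsingleton.elim w (IsLocalRing.closedPoint Kb), hpc]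
    · rintro rfl
      exact ⟨_, hpc⟩
  haveI : ConnectedSpace ↥(Curv2.bc k (f.fiber y) Kb) := by
    have hc : _root_.IsConnected (Set.univ : Set ↥(pullback g p)) := by
      rw [← Set.image_univ] at hrange
      obtain ⟨z, hz⟩ := hne
      obtain ⟨w, -, rfl⟩ := hrange.ge hz
      exact ⟨⟨w, trivial⟩, (pullback.fst g p).isEmbedding.isInducing.isPreconnected_image.mp (hrange ▸ hfib)⟩
    haveI := connectedSpace_iff_univ.mpr hc
    exact e₁.hom.homeomorph.surjective.connectedSpace e₁.hom.homeomorph.continuous
  exact GrothLib.BaseChange.geometricallyConnected_of_connected_bc k (f.fiber y) Kb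

end GrothLib.Chev28
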