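import Groth.Agent.Lib.Chev28.TFAE
import Groth.Agent.Lib.Neutral.DimClosure

/-!
The fibres of an irreducible scheme over a valuation ring.
-/

universe u

open CategoryTheory CategoryTheory.Limits AlgebraicGeometry TopologicalSpace Topology

noncomputable section

namespace GrothLib.Chev28

variable {X : Scheme.{u}}

/-- Over a valuation ring the closed and generic fibres of an irreducible dominant scheme of finite type
have the same dimension. -/
theorem dim_closedFibre_eq_generic {V : CommRingCat.{u}} [IsDomain V] [ValuationRing V] [IrreducibleSpace X]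
    (f : X ⟶ Spec V) [LocallyOfFiniteType f] [IsDominant f]
    (h0 : Nonempty ↥(f.fiber (IsLocalRing.closedPoint V : Spec V))) :
    topologicalKrullDim ↥(f.fiber (IsLocalRing.closedPoint V : Spec V)) =
      topologicalKrullDim ↥(f.fiber (genericPoint (Spec V))) := by
  let η : Spec V := ((⟨⊥, Ideal.isPrime_bot⟩ : PrimeSpectrum V) : Spec V)
  let cl : Spec V := IsLocalRing.closedPoint V
  have hη : genericPoint (Spec V) = η := by
    refine (genericPoint_spec (Spec V)).eq ?_
    show IsGenericPoint (⟨⊥, Ideal.isPrime_bot⟩ : PrimeSpectrum V) Set.univ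
    rw [IsGenericPoint, PrimeSpectrum.closure_singleton]
    simp
  rw [hη]
  set ξ := genericPoint X with hξdef
  have huniv : closure ({ξ} : Set X) = Set.univ := genericPoint_spec X
  have hξ : f ξ = η := by
    have hd : closure ({f ξ} : Set ↥(Spec V)) = Set.univ := by
      rw [← closure_image_closure_singleton f.continuous ξ, huniv, Set.image_univ]
      exact f.denseRange.closure_range
    rw [← hη]
    exact (show IsGenericPoint (f ξ) Set.univ from hd).eq (genericPoint_spec (Spec V))
  have hfib : ∀ t : Spec V, topologicalKrullDim ↥(f.fiber t) = topologicalKrullDim ↥(f ⁻¹' {t}) := fun t => by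
    refine GrothLib.Dim.IsEmbedding.topologicalKrullDim_eq (f := f.fiberι t) (f.fiberι t).isEmbedding ?_
    exact f.range_fiberι t
  obtain ⟨m, hm, hd⟩ := exists_dim_closure_inter_fibre f ξ
  rw [huniv, Set.univ_inter, hξ] at hd
  obtain ⟨m', hm', hm''⟩ := GrothLib.Equidim6.resTrdeg_eq_fibreDimAt_of_maximal f ξ
    fun z hz => (hz.antisymm (genericPoint_specializes z)).eq
  have hmm : m' = m := by exact_mod_cast (hm'.symm.trans hm :)
  subst hmm
  have key : ∀ (W : X.Opens) (_ : IsAffineOpen W) (e : X), e ∈ W → f e = cl →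
      topologicalKrullDim ↥((W : Set X) ∩ f ⁻¹' {cl}) = (m' : WithBot ℕ∞) := by
    intro W hW e he hec
    have hξW : ξ ∈ W := (genericPoint_specializes e).mem_open W.2 he
    have h := GrothLib.Neutral.dim_closure_fibres f hW hξ he (genericPoint_specializes e) hec
    rw [huniv, Set.univ_inter] at h
    refine h.trans (le_antisymm ?_ ?_)
    · exact ((IsEmbedding.inclusion Set.inter_subset_right).isInducing.topologicalKrullDim_le).trans hd.le
    · rw [← hm'']
      have h2 := GrothLib.FibreDimAt6.fibreDimAt_le_of_open f ξ W hξW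
      rwa [hξ] at h2
  rw [hfib η, hd]
  refine le_antisymm ?_ ?_
  · haveI : LocallyOfFiniteType (f.fiberToSpecResidueField cl) := MorphismProperty.pullback_snd f _ inferInstance
    rw [GrothLib.AffDom.topologicalKrullDim_eq_iSup_ptDim]
    refine iSup_le fun v => ?_
    have hv : f (f.fiberι cl v) = cl := (f.range_fiberι cl).le ⟨v, rfl⟩
    obtain ⟨W, hW, hvW, -⟩ := exists_isAffineOpen_mem_and_subset (x := f.fiberι cl v) (U := ⊤) trivial
    have h2 := GrothLib.FibreDimAt6.fibreDimAt_le_of_open f (f.fiberι cl v) W hvW
    rw [hv, key W hW _ hvW hv, ← GrothLib.Equidim6.localDim_asFiber f cl v,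
      GrothLib.AffDom.localDim_eq (K := (Spec V).residueField cl) (f.fiberToSpecResidueField cl) v] at h2
    refine le_trans ?_ h2
    exact le_add_of_nonneg_right ringKrullDim_nonneg_of_nontrivial
  · obtain ⟨v⟩ := h0
    obtain ⟨W, hW, hvW, -⟩ := exists_isAffineOpen_mem_and_subset (x := f.fiberι cl v) (U := ⊤) trivial
    have hv : f (f.fiberι cl v) = cl := (f.range_fiberι cl).le ⟨v, rfl⟩
    rw [hfib, ← key W hW _ hvW hv]
    exact (IsEmbedding.inclusion Set.inter_subset_right).isInducing.topologicalKrullDim_le

end GrothLib.Chev28
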